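import Mathlib.RingTheory.Flat.Equalizer
import Mathlib.RingTheory.Flat.Basic
import Mathlib.LinearAlgebra.TensorProduct.Prod

set_option autoImplicit false
universe u

open TensorProduct

namespace Groth.Agent.H8Props

/-- The kernel of a surjection between flat modules is flat. -/
theorem flat_of_exact {R : Type u} [CommRing R] {P M Q : Type u} [AddCommGroup P] [AddCommGroup M]
    [AddCommGroup Q] [Module R P] [Module R M] [Module R Q] [Module.Flat R M] [Module.Flat R Q]
    (g : P →ₗ[R] M) (f : M →ₗ[R] Q) (hg : Function.Injective g) (H : Function.Exact g f)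
    (hf : Function.Surjective f) : Module.Flat R P := by
  rw [Module.Flat.iff_rTensor_preserves_injective_linearMap]
  intro N N' _ _ _ _ φ hφ
  refine Function.Injective.of_comp (f := LinearMap.lTensor N' g) ?_
  rw [← LinearMap.coe_comp, LinearMap.lTensor_comp_rTensor, ← LinearMap.rTensor_comp_lTensor,
    LinearMap.coe_comp]
  exact (Module.Flat.rTensor_preserves_injective_linearMap φ hφ).comp
    (LinearMap.lTensor_injective_of_exact_of_flat f hf g hg H N)

instance flat_prod {R : Type u} [CommRing R] {M Q : Type u} [AddCommGroup M] [AddCommGroup Q]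
    [Module R M] [Module R Q] [Module.Flat R M] [Module.Flat R Q] : Module.Flat R (M × Q) := by
  rw [Module.Flat.iff_rTensor_preserves_injective_linearMap]
  intro N N' _ _ _ _ φ hφ
  have hsq : ∀ z, TensorProduct.prodRight R R N' M Q (φ.rTensor (M × Q) z) =
      ((φ.rTensor M).prodMap (φ.rTensor Q)) (TensorProduct.prodRight R R N M Q z) := fun z ↦ by
    induction z using TensorProduct.induction_on with
    | zero => simp only [map_zero]
    | tmul x y => obtain ⟨a, b⟩ := y; simp
    | add a b ha hb => simp [ha, hb]
  intro a b hab
  apply (TensorProduct.prodRight R R N M Q).injective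
  have h := congrArg (TensorProduct.prodRight R R N' M Q) hab
  rw [hsq, hsq, LinearMap.prodMap_apply, LinearMap.prodMap_apply, Prod.mk.injEq] at h
  exact Prod.ext (Module.Flat.rTensor_preserves_injective_linearMap φ hφ h.1)
    (Module.Flat.rTensor_preserves_injective_linearMap φ hφ h.2)

end Groth.Agent.H8Props
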