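import Mathlib.AlgebraicGeometry.Morphisms.Preimmersion
import Mathlib.AlgebraicGeometry.Morphisms.Flat
import Mathlib.AlgebraicGeometry.Properties
import Mathlib.AlgebraicGeometry.Stalk
import Mathlib.RingTheory.RingHom.Flat
import Mathlib.RingTheory.RingHom.FaithfullyFlat
import Mathlib.AlgebraicGeometry.Morphisms.ClosedImmersion
import Mathlib.AlgebraicGeometry.ResidueField
import Mathlib.AlgebraicGeometry.Fiber
import Mathlib.AlgebraicGeometry.IdealSheaf.Subscheme
import Mathlib.RingTheory.Ideal.Quotient.Nilpotent
import Mathlib.AlgebraicGeometry.PullbackCarrier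

set_option autoImplicit false
universe u

open AlgebraicGeometry CategoryTheory

namespace Groth.Agent.H8Props

theorem injective_of_flat_of_isLocalHom {R S : Type u} [CommRing R] [CommRing S] [IsLocalRing R]
    [IsLocalRing S] (φ : R →+* S) [IsLocalHom φ] (h : φ.Flat) : Function.Injective φ := by
  algebraize [φ]
  have : Module.FaithfullyFlat R S := Module.FaithfullyFlat.of_flat_of_isLocalHom
  exact FaithfulSMul.algebraMap_injective R S

theorem bijective_stalkMap_of_flat {X Y : Scheme.{u}} (f : X ⟶ Y) [IsPreimmersion f] (x : X)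
    (h : (f.stalkMap x).hom.Flat) : Function.Bijective (f.stalkMap x).hom :=
  ⟨injective_of_flat_of_isLocalHom (f.stalkMap x).hom h, f.stalkMap_surjective x⟩

theorem isReduced_of_flat_isPreimmersion {X Y : Scheme.{u}} (f : X ⟶ Y) [IsPreimmersion f] [Flat f]
    [IsReduced Y] : IsReduced X := by
  have (x : X) : _root_.IsReduced (X.presheaf.stalk x) :=
    let e := RingEquiv.ofBijective _ (bijective_stalkMap_of_flat f x (Flat.stalkMap f x))
    isReduced_of_injective e.symm.toRingHom e.symm.injective
  exact isReduced_of_isReduced_stalk X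

instance flat_fromSpecStalk (X : Scheme.{u}) (x : X) : Flat (X.fromSpecStalk x) := by
  obtain ⟨U, hU, hxU, -⟩ : ∃ U : X.Opens, IsAffineOpen U ∧ x ∈ U ∧ U ≤ ⊤ :=
    TopologicalSpace.Opens.isBasis_iff_nbhd.mp X.isBasis_affineOpens (U := ⊤) trivial
  rw [← hU.fromSpecStalk_eq_fromSpecStalk hxU, IsAffineOpen.fromSpecStalk]
  have : Flat (Spec.map (X.presheaf.germ U x hxU)) := by
    rw [HasRingHomProperty.Spec_iff (P := @Flat)]
    algebraize [(X.presheaf.germ U x hxU).hom]
    have := hU.isLocalization_stalk ⟨x, hxU⟩
    exact IsLocalization.flat _ (hU.primeIdealOf ⟨x, hxU⟩).asIdeal.primeCompl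
  infer_instance

theorem isReduced_pullback_fromSpecStalk {X Y : Scheme.{u}} (f : X ⟶ Y) [IsReduced X] (y : Y) :
    IsReduced (Limits.pullback f (Y.fromSpecStalk y)) := by
  have : IsPreimmersion (Limits.pullback.fst f (Y.fromSpecStalk y)) :=
    inferInstance
  exact isReduced_of_flat_isPreimmersion (Limits.pullback.fst f (Y.fromSpecStalk y))

theorem isReduced_fiber_of_isGenericPoint {X Y : Scheme.{u}} (f : X ⟶ Y) [IsReduced X] (η : Y)
    (hη : ∀ y : Y, y ⤳ η → y = η) : IsReduced (f.fiber η) := by
  have := isReduced_pullback_fromSpecStalk f η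
  let Q := Limits.pullback f (Y.fromSpecStalk η)
  let a : Q ⟶ Spec (Y.presheaf.stalk η) := Limits.pullback.snd _ _
  let i : Spec (Y.residueField η) ⟶ Spec (Y.presheaf.stalk η) := Spec.map (Y.residue η)
  have : IsClosedImmersion i := IsClosedImmersion.spec_of_surjective _
    IsLocalRing.residue_surjective
  have : Surjective i := ⟨fun p ↦ by
    refine ⟨IsLocalRing.closedPoint _, (Y.fromSpecStalk η).isEmbedding.injective ?_⟩
    have h1 : Y.fromSpecStalk η p ⤳ η := by
      have : Y.fromSpecStalk η p ∈ Set.range (Y.fromSpecStalk η) := ⟨p, rfl⟩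
      rwa [Scheme.range_fromSpecStalk] at this
    rw [hη _ h1]
    show (i ≫ Y.fromSpecStalk η) _ = η
    exact Scheme.fromSpecResidueField_apply η _⟩
  let p := Limits.pullback.fst a i
  have : IsClosedImmersion p := inferInstance
  have : Surjective p := inferInstance
  have : IsReduced Q := isReduced_pullback_fromSpecStalk f η
  have : IsIso p := isIso_of_isClosedImmersion_of_surjective p
  have : IsReduced (Limits.pullback a i) := isReduced_of_isOpenImmersion p
  let e : f.fiber η ⟶ Limits.pullback a i :=
    (Limits.pullbackLeftPullbackSndIso f (Y.fromSpecStalk η) i).inv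
  have : IsIso e := (Limits.pullbackLeftPullbackSndIso f (Y.fromSpecStalk η) i).isIso_inv
  exact isReduced_of_isOpenImmersion e

end Groth.Agent.H8Props

namespace Groth.Agent.H8Props

theorem isReduced_subscheme_of_isRadical {X : Scheme.{u}} (I : X.IdealSheafData)
    (hI : ∀ U, (I.ideal U).IsRadical) : IsReduced I.subscheme := by
  have (U : X.affineOpens) : IsReduced (I.subschemeCover.openCover.X U) := by
    have : _root_.IsReduced (Γ(X, U.1) ⧸ I.ideal U) :=
      (Ideal.isRadical_iff_quotient_reduced _).mp (hI U)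
    show IsReduced (Spec (CommRingCat.of (Γ(X, U.1) ⧸ I.ideal U)))
    infer_instance
  exact IsReduced.of_openCover I.subscheme I.subschemeCover.openCover

theorem isReduced_nilradical_subscheme (X : Scheme.{u}) : IsReduced X.nilradical.subscheme :=
  isReduced_subscheme_of_isRadical _ fun _ ↦ Ideal.radical_isRadical _

end Groth.Agent.H8Props
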