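import Mathlib.AlgebraicGeometry.Fiber
import Mathlib.AlgebraicGeometry.Stalk
import Mathlib.AlgebraicGeometry.Morphisms.Preimmersion

/-!
# The local ring of a fibre

For `f : X ⟶ Y` and a point `z` of the fibre lying over `x : X`, the natural map
`𝒪_{X,x} ⟶ 𝒪_{f⁻¹(f x), z}` is surjective with kernel `𝔪_{f x} 𝒪_{X,x}`.
-/

set_option autoImplicit false

universe u

open AlgebraicGeometry CategoryTheory Limits IsLocalRing TopologicalSpace

namespace Groth.Agent.H8Props.FibreStalk

variable {X Y : Scheme.{u}} (f : X ⟶ Y)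

/-- The local ring of the spectrum of a field at any point is a field. -/
theorem isField_stalk_Spec (K : CommRingCat.{u}) [IsLocalRing K] (hK : IsField K)
    (p : Spec K) : IsField ((Spec K).presheaf.stalk p) := by
  letI := hK.toField
  have : Subsingleton (Spec K) := inferInstanceAs (Subsingleton (PrimeSpectrum K))
  obtain rfl : p = closedPoint K := Subsingleton.elim _ _
  exact (stalkClosedPointIso K).commRingCatIsoToRingEquiv.toMulEquiv.isField hK

/-- A map killing the maximal ideal descends to the residue field. -/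
noncomputable def residueDesc {A B : Type u} [CommRing A] [IsLocalRing A] [CommRing B] (φ : A →+* B)
    (h : ∀ a ∈ maximalIdeal A, φ a = 0) : ResidueField A →+* B :=
  Ideal.Quotient.lift (maximalIdeal A) φ h

theorem residueDesc_residue {A B : Type u} [CommRing A] [IsLocalRing A] [CommRing B] (φ : A →+* B)
    (h : ∀ a ∈ maximalIdeal A, φ a = 0) : (residueDesc φ h).comp (residue A) = φ :=
  RingHom.ext fun _ => rfl

/-- The map from the local ring at `x` to that of the fibre at a point `z` over `x`. -/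
noncomputable def toFibre (x : X) (y : Y) (z : f.fiber y) (hz : f.fiberι y z = x) :
    X.presheaf.stalk x ⟶ (f.fiber y).presheaf.stalk z :=
  (X.presheaf.stalkCongr (.of_eq hz.symm)).hom ≫ (f.fiberι y).stalkMap z

theorem toFibre_surjective (x : X) (y : Y) (z : f.fiber y) (hz : f.fiberι y z = x) :
    Function.Surjective (toFibre f x y z hz).hom :=
  ((f.fiberι y).stalkMap_surjective z).comp
    (ConcreteCategory.bijective_of_isIso (X.presheaf.stalkCongr (.of_eq hz.symm)).hom).2

theorem germ_toFibre (x : X) (y : Y) (z : f.fiber y) (hz : f.fiberι y z = x) (U : X.Opens)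
    (hxU : x ∈ U) (s : Γ(X, U)) :
    (toFibre f x y z hz).hom (X.presheaf.germ U x hxU s) =
      (f.fiber y).presheaf.germ (f.fiberι y ⁻¹ᵁ U) z (show f.fiberι y z ∈ U from hz ▸ hxU)
        ((f.fiberι y).app U s) := by
  subst hz
  simp [toFibre, TopCat.Presheaf.stalkCongr, Scheme.Hom.germ_stalkMap_apply]

theorem stalkClosedPointTo_comp_germ {R : CommRingCat.{u}} [IsLocalRing R] {X Y : Scheme.{u}}
    (t : Spec R ⟶ X) (g : X ⟶ Y) (U : Y.Opens) (hU : g (t (closedPoint R)) ∈ U)
    (s : Γ(Y, U)) :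
    Scheme.stalkClosedPointTo (t ≫ g) (Y.presheaf.germ U _ hU s) =
      Scheme.stalkClosedPointTo t (X.presheaf.germ (g ⁻¹ᵁ U) _ hU (g.app U s)) := by
  rw [Scheme.stalkClosedPointTo_comp]
  exact congrArg (Scheme.stalkClosedPointTo t) (Scheme.Hom.germ_stalkMap_apply g U _ hU s)

theorem mem_of_germ_toFibre_eq_zero (x : X) (z : f.fiber (f x)) (hz : f.fiberι _ z = x)
    (U : X.Opens) (hxU : x ∈ U) (s : Γ(X, U)) (hzU : f.fiberι (f x) z ∈ U)
    (h : (f.fiber (f x)).presheaf.germ (f.fiberι (f x) ⁻¹ᵁ U) z hzU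
      ((f.fiberι (f x)).app U s) = 0) :
    X.presheaf.germ U x hxU s ∈
      (maximalIdeal (Y.presheaf.stalk (f x))).map (f.stalkMap x).hom := by
  set J := (maximalIdeal (Y.presheaf.stalk (f x))).map (f.stalkMap x).hom with hJ
  have hJne : J ≠ ⊤ := ne_top_of_le_ne_top (maximalIdeal.isMaximal _).ne_top
    (map_maximalIdeal_le (f.stalkMap x).hom)
  have : Nontrivial (X.presheaf.stalk x ⧸ J) := Ideal.Quotient.nontrivial_iff.mpr hJne
  have : IsLocalRing (X.presheaf.stalk x ⧸ J) :=
    .of_surjective' _ Ideal.Quotient.mk_surjective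
  let R := CommRingCat.of (X.presheaf.stalk x ⧸ J)
  let q : X.presheaf.stalk x ⟶ R := CommRingCat.ofHom (Ideal.Quotient.mk J)
  have : IsLocalHom q.hom := .of_surjective _ Ideal.Quotient.mk_surjective
  let g : Spec R ⟶ X := Spec.map q ≫ X.fromSpecStalk x
  let φ : Y.presheaf.stalk (f x) →+* X.presheaf.stalk x ⧸ J :=
    (Ideal.Quotient.mk J).comp (f.stalkMap x).hom
  have hφ : ∀ a ∈ maximalIdeal (Y.presheaf.stalk (f x)), φ a = 0 := fun a ha =>
    Ideal.Quotient.eq_zero_iff_mem.mpr (Ideal.mem_map_of_mem _ ha)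
  let c : Y.residueField (f x) ⟶ R := CommRingCat.ofHom (residueDesc φ hφ)
  have hc : Y.residue (f x) ≫ c = f.stalkMap x ≫ q :=
    CommRingCat.hom_ext (residueDesc_residue φ hφ)
  have hsq : g ≫ f = Spec.map c ≫ Y.fromSpecResidueField (f x) := by
    rw [Scheme.fromSpecResidueField, ← Spec.map_comp_assoc, hc, Spec.map_comp_assoc,
      Scheme.SpecMap_stalkMap_fromSpecStalk, Category.assoc]
  let t : Spec R ⟶ f.fiber (f x) := pullback.lift g (Spec.map c) hsq
  have htg : t ≫ f.fiberι (f x) = g := pullback.lift_fst _ _ _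
  have hgc : g (closedPoint R) = x := by
    show X.fromSpecStalk x (Spec.map q (closedPoint R)) = x
    rw [Spec_closedPoint]
    exact Scheme.fromSpecStalk_closedPoint
  have htz : z = t (closedPoint R) := by
    apply (f.fiberι (f x)).isEmbedding.injective
    refine hz.trans (hgc.symm.trans ?_)
    rw [← htg]
    rfl
  subst htz
  have hU : (t ≫ f.fiberι (f x)) (closedPoint R) ∈ U := by rw [htg, hgc]; exact hxU
  have hU' : g (closedPoint R) ∈ U := by rw [hgc]; exact hxU
  have h1 : Scheme.stalkClosedPointTo (t ≫ f.fiberι (f x))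
      (X.presheaf.germ U _ hU s) = 0 := by
    exact (stalkClosedPointTo_comp_germ t (f.fiberι (f x)) U hzU s).trans
      ((congrArg (Scheme.stalkClosedPointTo t) h).trans (map_zero _))
  have h2 : Scheme.stalkClosedPointTo g (X.presheaf.germ U _ hU' s) = 0 := by
    have key : ∀ (g₁ g₂ : Spec R ⟶ X) (e : g₁ = g₂) (h₁ : g₁ (closedPoint R) ∈ U),
        Scheme.stalkClosedPointTo g₁ (X.presheaf.germ U _ h₁ s) =
          Scheme.stalkClosedPointTo g₂ (X.presheaf.germ U _ (e ▸ h₁) s) := by
      rintro g₁ _ rfl h₁; rfl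
    rw [← h1]
    exact (key _ _ htg.symm hU').trans rfl
  have h3 := congr($(Scheme.germ_stalkClosedPointTo_Spec_fromSpecStalk q U hU') s)
  simp only [CommRingCat.comp_apply] at h3
  erw [h2] at h3
  exact Ideal.Quotient.eq_zero_iff_mem.mp h3.symm

theorem stalkMap_fibreι_eq_zero (y : Y) (z : f.fiber y)
    (r : Y.presheaf.stalk (f (f.fiberι y z))) (hr : r ∈ maximalIdeal _) :
    (f.fiberι y).stalkMap z (f.stalkMap (f.fiberι y z) r) = 0 := by
  have hfac : f.fiberι y ≫ f = f.fiberToSpecResidueField y ≫ Y.fromSpecResidueField y :=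
    f.fiber_fac _
  have h1 : (f.fiberι y).stalkMap z (f.stalkMap (f.fiberι y z) r) =
      (f.fiberι y ≫ f).stalkMap z r := by
    rw [Scheme.Hom.stalkMap_comp]; rfl
  rw [h1, Scheme.Hom.stalkMap_congr_hom _ _ hfac z, Scheme.Hom.stalkMap_comp]
  show (f.fiberToSpecResidueField y).stalkMap z ((Y.fromSpecResidueField y).stalkMap _
    ((Y.presheaf.stalkCongr _).hom r)) = 0
  have hm := (IsLocalRing.mem_maximalIdeal _).mpr (map_nonunit
    ((Y.fromSpecResidueField y).stalkMap (f.fiberToSpecResidueField y z)).hom _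
    (map_nonunit (Y.presheaf.stalkCongr
      (.of_eq (show f (f.fiberι y z) =
        (Y.fromSpecResidueField y) (f.fiberToSpecResidueField y z) from
          congr($hfac z)))).hom.hom r ((IsLocalRing.mem_maximalIdeal _).mp hr)))
  rw [IsLocalRing.isField_iff_maximalIdeal_eq.mp
    (isField_stalk_Spec (Y.residueField y) (Field.toIsField _) _), Ideal.mem_bot] at hm
  exact (congrArg _ hm).trans (map_zero _)

theorem maximalIdeal_le_ker_toFibre (x : X) (y : Y) (z : f.fiber y) (hz : f.fiberι y z = x) :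
    (maximalIdeal (Y.presheaf.stalk (f x))).map (f.stalkMap x).hom ≤
      RingHom.ker (toFibre f x y z hz).hom := by
  subst hz
  rw [Ideal.map_le_iff_le_comap]
  intro r hr
  rw [Ideal.mem_comap, RingHom.mem_ker]
  show (f.fiberι y).stalkMap z ((X.presheaf.stalkCongr _).hom
    (f.stalkMap (f.fiberι y z) r)) = 0
  simp only [TopCat.Presheaf.stalkCongr_hom, TopCat.Presheaf.stalkSpecializes_refl]
  exact stalkMap_fibreι_eq_zero f y z r hr

theorem ker_toFibre (x : X) (z : f.fiber (f x)) (hz : f.fiberι _ z = x) :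
    RingHom.ker (toFibre f x _ z hz).hom =
      (maximalIdeal (Y.presheaf.stalk (f x))).map (f.stalkMap x).hom := by
  refine le_antisymm (fun r hr => ?_) (maximalIdeal_le_ker_toFibre f x _ z hz)
  obtain ⟨U, hU, s, rfl⟩ := X.presheaf.exists_germ_eq r
  rw [RingHom.mem_ker] at hr
  exact mem_of_germ_toFibre_eq_zero f x z hz U hU s _ ((germ_toFibre f x _ z hz U hU s).symm.trans hr)

/-- The local ring of the fibre at `x` is `𝒪_{X,x} ⧸ 𝔪_{f x} 𝒪_{X,x}`. -/
noncomputable def asFiberStalkEquiv (x : X) :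
    X.presheaf.stalk x ⧸ (maximalIdeal (Y.presheaf.stalk (f x))).map (f.stalkMap x).hom ≃+*
      (f.fiber (f x)).presheaf.stalk (f.asFiber x) :=
  (Ideal.quotEquivOfEq (ker_toFibre f x _ (f.fiberι_asFiber x)).symm).trans
    (RingHom.quotientKerEquivOfSurjective (toFibre_surjective f x _ _ (f.fiberι_asFiber x)))

end Groth.Agent.H8Props.FibreStalk
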