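import Mathlib.RingTheory.Ideal.KrullsHeightTheorem
import Mathlib.RingTheory.Ideal.GoingDown
import Mathlib.RingTheory.TensorProduct.Quotient
import Mathlib.RingTheory.Flat.TorsionFree
import Groth.Agent.H4Depth.CM
import Groth.Agent.H7Flat.InjectiveModMax

/-!
# Dimension, depth and Cohen–Macaulayness along flat local homomorphisms

For a flat local homomorphism `A → B` of Noetherian local rings with closed fibre `B ⧸ 𝔪_A B`:
`dim B = dim A + dim B/𝔪_A B`, `depth B = depth A + depth B/𝔪_A B`, and `B` is Cohen–Macaulay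
iff both `A` and the closed fibre are.
-/

set_option autoImplicit false

universe u

open IsLocalRing RingTheory.Sequence LocCoh Pointwise TensorProduct

namespace Groth.Agent.H8Props.FlatDepth

/-- Two surjections with the same kernel have isomorphic targets. -/
noncomputable def equivOfKerEq {R M N P : Type*} [CommRing R] [AddCommGroup M] [AddCommGroup N]
    [AddCommGroup P] [Module R M] [Module R N] [Module R P] (f : M →ₗ[R] N) (g : M →ₗ[R] P)
    (hf : Function.Surjective f) (hg : Function.Surjective g)
    (h : LinearMap.ker f = LinearMap.ker g) : N ≃ₗ[R] P :=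
  (f.quotKerEquivOfSurjective hf).symm ≪≫ₗ Submodule.quotEquivOfEq _ _ h ≪≫ₗ
    g.quotKerEquivOfSurjective hg

section ChangeRings

variable {R S : Type u} [CommRing R] [CommRing S] [Algebra R S]
  {M : Type u} [AddCommGroup M] [Module R M] [Module S M] [IsScalarTower R S M]

/-- Depth does not change along a surjection of rings. -/
theorem idealDepth_map_of_surjective (h : Function.Surjective (algebraMap R S)) (I : Ideal R) :
    idealDepth (I.map (algebraMap R S)) M = idealDepth I M := by
  have hsm : I • (⊤ : Submodule R M) =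
      (I.map (algebraMap R S) • (⊤ : Submodule S M)).restrictScalars R := by
    rw [Ideal.smul_restrictScalars, Submodule.restrictScalars_top]
  have htop : I.map (algebraMap R S) • (⊤ : Submodule S M) = ⊤ ↔
      I • (⊤ : Submodule R M) = ⊤ := by
    rw [hsm, ← Submodule.restrictScalars_top R S M]
    exact (Submodule.restrictScalars_injective R S M).eq_iff.symm
  by_cases hI : I • (⊤ : Submodule R M) = ⊤
  · rw [H4Depth.idealDepth_eq_top hI, H4Depth.idealDepth_eq_top (htop.mpr hI)]
  · rw [H4Depth.idealDepth_eq_iSup hI, H4Depth.idealDepth_eq_iSup (mt htop.mp hI)]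
    refine le_antisymm (iSup₂_le fun rs hrs => ?_) (iSup₂_le fun rs hrs => ?_)
    · obtain ⟨rs', hmem, rfl⟩ : ∃ rs' : List R, (∀ r ∈ rs', r ∈ I) ∧
          rs'.map (algebraMap R S) = rs := by
        have key : ∀ l : List S, (∀ s ∈ l, s ∈ I.map (algebraMap R S)) →
            ∃ l' : List R, (∀ r ∈ l', r ∈ I) ∧ l'.map (algebraMap R S) = l := by
          intro l
          induction l with
          | nil => exact fun _ => ⟨[], by simp, rfl⟩
          | cons s l ih =>
            intro hl
            simp only [List.mem_cons, forall_eq_or_imp] at hl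
            obtain ⟨r, hr, rfl⟩ := (Ideal.mem_map_iff_of_surjective _ h).mp hl.1
            obtain ⟨l', hl', rfl⟩ := ih hl.2
            exact ⟨r :: l', fun t ht => (List.mem_cons.mp ht).elim (fun e => e ▸ hr) (hl' t), rfl⟩
        exact key rs hrs.2
      rw [isWeaklyRegular_map_algebraMap_iff] at hrs
      exact le_iSup₂_of_le rs' ⟨hrs.1, hmem⟩ (by simp)
    · refine le_iSup₂_of_le (rs.map (algebraMap R S)) ⟨?_, ?_⟩ (by simp)
      · exact (isWeaklyRegular_map_algebraMap_iff S M rs).mpr hrs.1
      · intro s hs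
        obtain ⟨r, hr, rfl⟩ := List.mem_map.mp hs
        exact Ideal.mem_map_of_mem _ (hrs.2 r hr)

theorem depth_eq_of_surjective [IsLocalRing R] [IsLocalRing S]
    (h : Function.Surjective (algebraMap R S)) : depth S M = depth R M := by
  rw [depth, depth, ← IsLocalRing.map_maximalIdeal_of_surjective _ h]
  exact idealDepth_map_of_surjective h _

end ChangeRings

section Basic

variable (A B : Type u) [CommRing A] [CommRing B] [IsLocalRing A] [IsLocalRing B]
  [IsNoetherianRing A] [IsNoetherianRing B] [Algebra A B] [IsLocalHom (algebraMap A B)]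
  [Module.Flat A B]

omit [IsNoetherianRing A] [IsNoetherianRing B] [Module.Flat A B] in
theorem map_maximalIdeal_ne_top : (maximalIdeal A).map (algebraMap A B) ≠ ⊤ :=
  ne_top_of_le_ne_top (maximalIdeal.isMaximal B).ne_top (map_maximalIdeal_le (algebraMap A B))

instance isLocalRing_fibre : IsLocalRing (B ⧸ (maximalIdeal A).map (algebraMap A B)) :=
  have : Nontrivial (B ⧸ (maximalIdeal A).map (algebraMap A B)) :=
    Ideal.Quotient.nontrivial_iff.mpr (map_maximalIdeal_ne_top A B)
  .of_surjective' _ Ideal.Quotient.mk_surjective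

/-- `dim B = dim A + dim B/𝔪_A B`. -/
theorem ringKrullDim_eq_add :
    ringKrullDim B =
      ringKrullDim A + ringKrullDim (B ⧸ (maximalIdeal A).map (algebraMap A B)) := by
  have : (maximalIdeal B).LiesOver (maximalIdeal A) := ⟨(maximalIdeal_comap _).symm⟩
  have h := Ideal.height_eq_height_add_of_liesOver_of_hasGoingDown (maximalIdeal A) (maximalIdeal B)
  rw [map_maximalIdeal_of_surjective _ Ideal.Quotient.mk_surjective] at h
  rw [← maximalIdeal_height_eq_ringKrullDim, ← maximalIdeal_height_eq_ringKrullDim,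
    ← maximalIdeal_height_eq_ringKrullDim, h, WithBot.coe_add]

/-- Depth zero of the base and of the closed fibre give depth zero. -/
theorem depth_eq_zero (hA : depth A A = 0)
    (hC : depth B (B ⧸ (maximalIdeal A).map (algebraMap A B)) = 0) : depth B B = 0 := by
  have hAne : maximalIdeal A • (⊤ : Submodule A A) ≠ ⊤ := by
    simpa using (maximalIdeal.isMaximal A).ne_top
  have hBne : maximalIdeal B • (⊤ : Submodule B B) ≠ ⊤ := by
    simpa using (maximalIdeal.isMaximal B).ne_top
  set J := (maximalIdeal A).map (algebraMap A B) with hJ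
  have : Nontrivial (B ⧸ J) := Ideal.Quotient.nontrivial_iff.mpr (map_maximalIdeal_ne_top A B)
  have hCne : maximalIdeal B • (⊤ : Submodule B (B ⧸ J)) ≠ ⊤ :=
    (Submodule.top_ne_ideal_smul_of_le_jacobson_annihilator
      (maximalIdeal_le_jacobson _)).symm
  obtain ⟨p, hp, hle⟩ := (H4Depth.idealDepth_eq_zero_iff_exists_associatedPrime hAne).mp hA
  obtain ⟨q, hq, hle'⟩ := (H4Depth.idealDepth_eq_zero_iff_exists_associatedPrime hCne).mp hC
  obtain ⟨hp', a, hpa⟩ := isAssociatedPrime_iff.mp hp
  obtain ⟨hq', c, hqc⟩ := isAssociatedPrime_iff.mp hq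
  obtain rfl : p = maximalIdeal A := le_antisymm (le_maximalIdeal hp'.ne_top) hle
  obtain rfl : q = maximalIdeal B := le_antisymm (le_maximalIdeal hq'.ne_top) hle'
  obtain ⟨b, rfl⟩ := Ideal.Quotient.mk_surjective c
  have hma : ∀ r ∈ maximalIdeal A, r * a = 0 := by
    intro r hr
    rw [hpa, Submodule.mem_colon_singleton] at hr
    simpa using hr
  -- `a • b` is a nonzero element of `B` killed by the maximal ideal
  have hne : algebraMap A B a * b ≠ 0 := by
    intro h0
    have hι : maximalIdeal A ≤ LinearMap.ker (LinearMap.toSpanSingleton A A a) := fun r hr => by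
      simpa using hma r hr
    have hinj : Function.Injective (Submodule.liftQ (maximalIdeal A)
        (LinearMap.toSpanSingleton A A a) hι) := by
      rw [← LinearMap.ker_eq_bot, Submodule.ker_liftQ_eq_bot]
      intro r hr
      simp only [LinearMap.mem_ker, LinearMap.toSpanSingleton_apply] at hr
      rw [hpa, Submodule.mem_colon_singleton]
      simpa using hr
    have h1 := Module.Flat.lTensor_preserves_injective_linearMap (M := B) _ hinj
    have hz : b ⊗ₜ[A] (Ideal.Quotient.mk (maximalIdeal A) (1 : A)) = 0 := by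
      apply h1
      rw [map_zero, LinearMap.lTensor_tmul]
      apply (TensorProduct.rid A B).injective
      rw [map_zero, TensorProduct.rid_tmul]
      change ((1 : A) • a) • b = 0
      rw [one_smul, Algebra.smul_def]
      exact h0
    have hb : b ∈ J := by
      rw [← Ideal.Quotient.eq_zero_iff_mem, ← (Algebra.TensorProduct.quotIdealMapEquivTensorQuot
        B (maximalIdeal A)).map_eq_zero_iff]
      exact hz
    have h2 : (1 : B) ∈ maximalIdeal B := by
      rw [hqc, Submodule.mem_colon_singleton]
      simpa [Ideal.Quotient.eq_zero_iff_mem] using hb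
    exact (maximalIdeal.isMaximal B).ne_top ((Ideal.eq_top_iff_one _).mpr h2)
  refine (H4Depth.idealDepth_eq_zero_iff hBne).mpr fun y hy hreg => hne (hreg ?_)
  simp only [smul_eq_mul, mul_zero]
  rw [hqc, Submodule.mem_colon_singleton, Submodule.mem_bot, ← Ideal.Quotient.mk_eq_mk,
    ← Submodule.Quotient.mk_smul, Ideal.Quotient.mk_eq_mk, Ideal.Quotient.eq_zero_iff_mem] at hy
  rw [mul_left_comm]
  suffices J ≤ LinearMap.ker (LinearMap.mulLeft B (algebraMap A B a)) from this hy
  rw [hJ, Ideal.map_le_iff_le_comap]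
  intro r hr
  rw [Ideal.mem_comap, LinearMap.mem_ker, LinearMap.mulLeft_apply, ← map_mul, mul_comm, hma r hr,
    map_zero]

end Basic

section Induction

theorem depth_ne_top (R : Type u) [CommRing R] [IsLocalRing R] [IsNoetherianRing R]
    (M : Type u) [AddCommGroup M] [Module R M] [Module.Finite R M] [Nontrivial M] :
    depth R M ≠ ⊤ :=
  H4Depth.idealDepth_ne_top
    (Submodule.top_ne_ideal_smul_of_le_jacobson_annihilator (maximalIdeal_le_jacobson _)).symm

theorem depth_self_quotient_add_one (R : Type u) [CommRing R] [IsLocalRing R] [IsNoetherianRing R]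
    {x : R} (hx : x ∈ maximalIdeal R) (hreg : IsSMulRegular R x) (I : Ideal R)
    (hI : I = Ideal.span {x}) [IsLocalRing (R ⧸ I)] :
    depth (R ⧸ I) (R ⧸ I) + 1 = depth R R := by
  rw [depth_eq_of_surjective (R := R) Ideal.Quotient.mk_surjective, depth, depth,
    ← H4Depth.idealDepth_quotSMulTop_add_one hx hreg]
  congr 1
  refine (H4Depth.idealDepth_congr _ (Submodule.quotEquivOfEq _ _ ?_)).symm
  rw [hI, ← Submodule.ideal_span_singleton_smul, smul_eq_mul, Ideal.mul_top]

variable {A B : Type u} [CommRing A] [CommRing B] [IsLocalRing A] [IsLocalRing B]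
  [IsNoetherianRing A] [IsNoetherianRing B] [Algebra A B] [IsLocalHom (algebraMap A B)]
  [Module.Flat A B]

omit [IsLocalRing B] [IsNoetherianRing A] [IsNoetherianRing B] [IsLocalHom (algebraMap A B)]
  [Module.Flat A B] in
theorem injective_lTensor_mulLeft {x : B}
    (hxreg : IsSMulRegular (B ⧸ (maximalIdeal A).map (algebraMap A B)) x) :
    Function.Injective
      (((LinearMap.mulLeft B x).restrictScalars A).lTensor (ResidueField A)) := by
  refine H7Flat.lTensor_residueField_injective _ fun b hb => ?_
  rw [Ideal.smul_top_eq_map, Submodule.restrictScalars_mem] at hb ⊢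
  rw [← Ideal.Quotient.eq_zero_iff_mem] at hb ⊢
  exact hxreg (show x • Ideal.Quotient.mk _ b = x • 0 by rw [smul_zero, ← hb]; rfl)

theorem isSMulRegular_of_fibre {x : B}
    (hxreg : IsSMulRegular (B ⧸ (maximalIdeal A).map (algebraMap A B)) x) :
    IsSMulRegular B x := fun _ _ e =>
  (H7Flat.injective_and_flat_quotient (S := B) _ (injective_lTensor_mulLeft hxreg)).1 e

theorem flat_quotient_of_fibre {x : B}
    (hxreg : IsSMulRegular (B ⧸ (maximalIdeal A).map (algebraMap A B)) x) :
    Module.Flat A (B ⧸ Ideal.span {x}) := by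
  have := (H7Flat.injective_and_flat_quotient (S := B) _ (injective_lTensor_mulLeft hxreg)).2
  have hr : LinearMap.range ((LinearMap.mulLeft B x).restrictScalars A) =
      (Ideal.span {x}).restrictScalars A := by
    ext b
    simp [Ideal.mem_span_singleton', mul_comm x]
  exact Module.Flat.of_linearEquiv
    ((Submodule.quotEquivOfEq _ _ hr).trans
      (Submodule.Quotient.restrictScalarsEquiv A (Ideal.span {x} : Submodule B B))).symm

omit [IsNoetherianRing A] [Module.Flat A B] [IsLocalHom (algebraMap A B)] in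
theorem depth_fibre_quotient {x : B} (hx : x ∈ maximalIdeal B)
    (hxreg : IsSMulRegular (B ⧸ (maximalIdeal A).map (algebraMap A B)) x)
    [IsLocalRing (B ⧸ Ideal.span {x})] :
    depth (B ⧸ Ideal.span {x})
        ((B ⧸ Ideal.span {x}) ⧸ (maximalIdeal A).map (algebraMap A (B ⧸ Ideal.span {x}))) + 1 =
      depth B (B ⧸ (maximalIdeal A).map (algebraMap A B)) := by
  rw [depth_eq_of_surjective (R := B) Ideal.Quotient.mk_surjective, depth, depth,
    ← H4Depth.idealDepth_quotSMulTop_add_one hx hxreg]
  congr 1
  refine H4Depth.idealDepth_congr _ ?_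
  let φ : B →ₐ[B] (B ⧸ Ideal.span {x}) ⧸
      (maximalIdeal A).map (algebraMap A (B ⧸ Ideal.span {x})) :=
    (Ideal.Quotient.mkₐ B _).comp (Ideal.Quotient.mkₐ B (Ideal.span {x}))
  refine equivOfKerEq φ.toLinearMap
    ((Submodule.mkQ (x • ⊤)).comp (Submodule.mkQ ((maximalIdeal A).map (algebraMap A B)))) ?_ ?_ ?_
  · exact Ideal.Quotient.mk_surjective.comp Ideal.Quotient.mk_surjective
  · exact (Submodule.mkQ_surjective _).comp (Submodule.mkQ_surjective _)
  · ext b
    simp only [LinearMap.mem_ker, AlgHom.toLinearMap_apply, φ, AlgHom.comp_apply,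
      Ideal.Quotient.mkₐ_eq_mk, Ideal.Quotient.eq_zero_iff_mem, LinearMap.comp_apply,
      Submodule.mkQ_apply, Submodule.Quotient.mk_eq_zero]
    rw [IsScalarTower.algebraMap_eq A B (B ⧸ Ideal.span {x}), ← Ideal.map_map,
      Ideal.Quotient.algebraMap_eq, Ideal.mem_quotient_iff_mem_sup,
      sup_comm, Submodule.mem_sup, Submodule.mem_smul_pointwise_iff_exists]
    simp only [Submodule.mem_top, true_and]
    constructor
    · rintro ⟨y, hy, z, hz, rfl⟩
      obtain ⟨w, rfl⟩ := Ideal.mem_span_singleton'.mp hy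
      refine ⟨Submodule.Quotient.mk w, ?_⟩
      rw [← Submodule.Quotient.mk_smul, Submodule.Quotient.eq]
      simpa [mul_comm w, smul_eq_mul] using hz
    · rintro ⟨c, hc⟩
      obtain ⟨w, rfl⟩ := Submodule.Quotient.mk_surjective _ c
      rw [← Submodule.Quotient.mk_smul, Submodule.Quotient.eq] at hc
      exact ⟨w * x, Ideal.mem_span_singleton'.mpr ⟨w, rfl⟩, _, neg_mem hc, by
        rw [smul_eq_mul, neg_sub, mul_comm x w]; ring⟩

omit [IsNoetherianRing A] [IsNoetherianRing B] [Module.Flat A B] in
theorem map_maximalIdeal_quotient (I : Ideal A) [IsLocalRing (A ⧸ I)] :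
    (maximalIdeal (A ⧸ I)).map (algebraMap (A ⧸ I) (B ⧸ I.map (algebraMap A B))) =
      ((maximalIdeal A).map (algebraMap A B)).map (Ideal.Quotient.mk (I.map (algebraMap A B))) := by
  rw [← map_maximalIdeal_of_surjective _ (Ideal.Quotient.mk_surjective (I := I)),
    Ideal.map_map, Ideal.map_map]
  rfl

omit [IsNoetherianRing A] [IsNoetherianRing B] [Module.Flat A B] in
theorem isLocalHom_quotient (I : Ideal A) [IsLocalRing (A ⧸ I)]
    [IsLocalRing (B ⧸ I.map (algebraMap A B))] :
    IsLocalHom (algebraMap (A ⧸ I) (B ⧸ I.map (algebraMap A B))) := by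
  refine ((local_hom_TFAE _).out 0 2).mpr ?_
  rw [map_maximalIdeal_quotient, ← map_maximalIdeal_of_surjective _
    (Ideal.Quotient.mk_surjective (I := I.map (algebraMap A B)))]
  exact Ideal.map_mono (map_maximalIdeal_le _)

omit [IsNoetherianRing A] [IsNoetherianRing B] [Module.Flat A B] in
theorem depth_base_quotient (I : Ideal A) (hI : I ≤ maximalIdeal A) [IsLocalRing (A ⧸ I)]
    [IsLocalRing (B ⧸ I.map (algebraMap A B))] :
    depth (B ⧸ I.map (algebraMap A B)) ((B ⧸ I.map (algebraMap A B)) ⧸
        (maximalIdeal (A ⧸ I)).map (algebraMap (A ⧸ I) (B ⧸ I.map (algebraMap A B)))) =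
      depth B (B ⧸ (maximalIdeal A).map (algebraMap A B)) := by
  rw [depth_eq_of_surjective (R := B) Ideal.Quotient.mk_surjective, map_maximalIdeal_quotient]
  exact H4Depth.depth_congr ((DoubleQuot.quotQuotEquivQuotSupₐ B (I.map (algebraMap A B))
    ((maximalIdeal A).map (algebraMap A B))).toLinearEquiv.trans
      (Submodule.quotEquivOfEq _ _ (sup_eq_right.mpr (Ideal.map_mono hI))))

omit [IsLocalRing A] [IsLocalRing B] [IsNoetherianRing A] [IsNoetherianRing B]
  [IsLocalHom (algebraMap A B)] in
theorem flat_base_quotient (I : Ideal A) :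
    Module.Flat (A ⧸ I) (B ⧸ I.map (algebraMap A B)) :=
  Module.Flat.of_linearEquiv
    (Algebra.TensorProduct.quotIdealMapEquivQuotTensor B I).toLinearEquiv

theorem depth_eq_of_nat (n : ℕ) : ∀ (A B : Type u) [CommRing A] [CommRing B] [IsLocalRing A]
    [IsLocalRing B] [IsNoetherianRing A] [IsNoetherianRing B] [Algebra A B]
    [IsLocalHom (algebraMap A B)] [Module.Flat A B],
    depth A A + depth B (B ⧸ (maximalIdeal A).map (algebraMap A B)) = (n : ℕ∞) →
      depth B B = (n : ℕ∞) := by
  induction n with
  | zero =>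
    intro A B _ _ _ _ _ _ _ _ _ h
    rw [Nat.cast_zero, add_eq_zero] at h
    simpa using depth_eq_zero A B h.1 h.2
  | succ n ih =>
    intro A B _ _ _ _ _ _ _ _ _ h
    have : Nontrivial (B ⧸ (maximalIdeal A).map (algebraMap A B)) :=
      Ideal.Quotient.nontrivial_iff.mpr (map_maximalIdeal_ne_top A B)
    have hAne : maximalIdeal A • (⊤ : Submodule A A) ≠ ⊤ := by
      simpa using (maximalIdeal.isMaximal A).ne_top
    have hCne : maximalIdeal B •
        (⊤ : Submodule B (B ⧸ (maximalIdeal A).map (algebraMap A B))) ≠ ⊤ :=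
      (Submodule.top_ne_ideal_smul_of_le_jacobson_annihilator
        (maximalIdeal_le_jacobson _)).symm
    have hcancel : ∀ {a b : ℕ∞}, a + 1 = b + 1 → a = b := fun e =>
      ENat.add_left_injective_of_ne_top (n := (1 : ℕ∞)) (by simp) e
    by_cases h0 : depth A A = 0
    · rw [h0, zero_add] at h
      obtain ⟨x, hx, hxreg⟩ : ∃ x ∈ maximalIdeal B,
          IsSMulRegular (B ⧸ (maximalIdeal A).map (algebraMap A B)) x := by
        refine (H4Depth.one_le_idealDepth_iff hCne).mp ?_
        rw [← depth, h]
        exact_mod_cast Nat.le_add_left 1 n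
      have : Nontrivial (B ⧸ Ideal.span {x}) := Ideal.Quotient.nontrivial_iff.mpr
        (ne_top_of_le_ne_top (maximalIdeal.isMaximal B).ne_top
          ((Ideal.span_singleton_le_iff_mem _).mpr hx))
      have : IsLocalRing (B ⧸ Ideal.span {x}) := .of_surjective' _ Ideal.Quotient.mk_surjective
      have : IsLocalHom (algebraMap A (B ⧸ Ideal.span {x})) := by
        rw [IsScalarTower.algebraMap_eq A B]
        have : IsLocalHom (algebraMap B (B ⧸ Ideal.span {x})) :=
          .of_surjective _ Ideal.Quotient.mk_surjective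
        exact RingHom.isLocalHom_comp _ _
      have := flat_quotient_of_fibre hxreg
      have h1 := depth_fibre_quotient hx hxreg
      rw [h, Nat.cast_succ] at h1
      rw [← depth_self_quotient_add_one B hx (isSMulRegular_of_fibre hxreg) _ rfl,
        ih A (B ⧸ Ideal.span {x}) (by rw [h0, zero_add, hcancel h1]), Nat.cast_succ]
    · obtain ⟨a, ha, hareg⟩ : ∃ a ∈ maximalIdeal A, IsSMulRegular A a := by
        refine (H4Depth.one_le_idealDepth_iff hAne).mp ?_
        exact Order.one_le_iff_ne_zero.mpr h0
      have hI : Ideal.span {a} ≤ maximalIdeal A := (Ideal.span_singleton_le_iff_mem _).mpr ha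
      have hIB : (Ideal.span {a}).map (algebraMap A B) ≤ maximalIdeal B :=
        (Ideal.map_mono hI).trans (map_maximalIdeal_le _)
      have hb : algebraMap A B a ∈ maximalIdeal B :=
        hIB (Ideal.mem_map_of_mem _ (Ideal.mem_span_singleton_self a))
      have : Nontrivial (A ⧸ Ideal.span {a}) := Ideal.Quotient.nontrivial_iff.mpr
        (ne_top_of_le_ne_top (maximalIdeal.isMaximal A).ne_top hI)
      have : Nontrivial (B ⧸ (Ideal.span {a}).map (algebraMap A B)) :=
        Ideal.Quotient.nontrivial_iff.mpr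
          (ne_top_of_le_ne_top (maximalIdeal.isMaximal B).ne_top hIB)
      have : IsLocalRing (A ⧸ Ideal.span {a}) := .of_surjective' _ Ideal.Quotient.mk_surjective
      have : IsLocalRing (B ⧸ (Ideal.span {a}).map (algebraMap A B)) :=
        .of_surjective' _ Ideal.Quotient.mk_surjective
      have := isLocalHom_quotient (B := B) (Ideal.span {a})
      have := flat_base_quotient (B := B) (Ideal.span {a})
      have hA := depth_self_quotient_add_one A ha hareg _ rfl
      have hB := depth_self_quotient_add_one B hb hareg.of_flat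
        ((Ideal.span {a}).map (algebraMap A B)) (by rw [Ideal.map_span, Set.image_singleton])
      rw [← hA, ← depth_base_quotient (B := B) (Ideal.span {a}) hI, add_right_comm,
        Nat.cast_succ] at h
      rw [← hB, ih _ _ (hcancel h), Nat.cast_succ]

variable (A B : Type u) [CommRing A] [CommRing B] [IsLocalRing A] [IsLocalRing B]
  [IsNoetherianRing A] [IsNoetherianRing B] [Algebra A B] [IsLocalHom (algebraMap A B)]
  [Module.Flat A B]

/-- `depth B = depth A + depth B/𝔪_A B`. -/
theorem depth_eq_add :
    depth B B = depth A A + depth (B ⧸ (maximalIdeal A).map (algebraMap A B))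
      (B ⧸ (maximalIdeal A).map (algebraMap A B)) := by
  rw [depth_eq_of_surjective (R := B) Ideal.Quotient.mk_surjective]
  have : Nontrivial (B ⧸ (maximalIdeal A).map (algebraMap A B)) :=
    Ideal.Quotient.nontrivial_iff.mpr (map_maximalIdeal_ne_top A B)
  obtain ⟨n, hn⟩ := ENat.ne_top_iff_exists.mp (WithTop.add_ne_top.mpr
    ⟨depth_ne_top A A, depth_ne_top B (B ⧸ (maximalIdeal A).map (algebraMap A B))⟩)
  exact (depth_eq_of_nat n A B hn.symm).trans hn

theorem depth_le_dim (R : Type u) [CommRing R] [IsLocalRing R] [IsNoetherianRing R] :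
    ((depth R R : ℕ∞) : WithBot ℕ∞) ≤ ringKrullDim R :=
  H4Depth.depth_le_supportDim.trans (Module.supportDim_self_eq_ringKrullDim (R := R)).le

theorem isCM_iff_dim (R : Type u) [CommRing R] [IsLocalRing R] [IsNoetherianRing R] :
    IsCohenMacaulayLocalRing R ↔ ringKrullDim R = ((depth R R : ℕ∞) : WithBot ℕ∞) := by
  rw [← Module.supportDim_self_eq_ringKrullDim (R := R)]
  exact ⟨fun h => h.supportDim_eq_depth, fun h => { supportDim_eq_depth := h }⟩

/-- `B` is Cohen–Macaulay iff `A` and the closed fibre are. -/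
theorem isCohenMacaulayLocalRing_iff :
    IsCohenMacaulayLocalRing B ↔ IsCohenMacaulayLocalRing A ∧
      IsCohenMacaulayLocalRing (B ⧸ (maximalIdeal A).map (algebraMap A B)) := by
  let C := B ⧸ (maximalIdeal A).map (algebraMap A B)
  rw [isCM_iff_dim, isCM_iff_dim, isCM_iff_dim, ringKrullDim_eq_add A B, depth_eq_add A B,
    WithBot.coe_add]
  refine ⟨fun h => ?_, fun h => by rw [h.1, h.2]⟩
  obtain ⟨a, ha⟩ := ENat.ne_top_iff_exists.mp (depth_ne_top A A)
  obtain ⟨c, hc⟩ := ENat.ne_top_iff_exists.mp (depth_ne_top C C)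
  obtain ⟨x, hx⟩ := H4Depth.exists_nat_supportDim_eq (R := A) (M := A)
  obtain ⟨y, hy⟩ := H4Depth.exists_nat_supportDim_eq (R := C) (M := C)
  rw [Module.supportDim_self_eq_ringKrullDim] at hx hy
  have h1 := depth_le_dim A
  have h2 := depth_le_dim C
  rw [hx, ← ha] at h1
  rw [hy, ← hc] at h2
  rw [hx, hy, ← ha, ← hc] at h ⊢
  have e1 : a ≤ x := by exact_mod_cast h1
  have e2 : c ≤ y := by exact_mod_cast h2
  have e3 : x + y = a + c := by exact_mod_cast h
  exact ⟨by exact_mod_cast (by omega : x = a), by exact_mod_cast (by omega : y = c)⟩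

end Induction

end Groth.Agent.H8Props.FlatDepth
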