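import Mathlib
import Groth.Agent.H02CA.Catenary
import Groth.Agent.H28Top.Catenary

/-!
# Catenary schemes versus catenary rings (helper8)
-/

set_option autoImplicit false
set_option linter.style.haveILetI false
universe u v

open TopologicalSpace AlgebraicGeometry CategoryTheory Groth.Agent

namespace Groth.Agent.H8Props.CatenaryBridge

/-- Purely order-theoretic catenarity, in the shape of `CAlg.IsCatenary`. -/
def OrdCat (α : Type u) [PartialOrder α] : Prop :=
  (∀ p q : α, p ≤ q → ∃ n : ℕ, ∀ s : LTSeries α, s.head = p → s.last = q → s.length ≤ n) ∧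
  ∀ s t : LTSeries α, s.head = t.head → s.last = t.last →
    (∀ i : Fin s.length, s (Fin.castSucc i) ⋖ s (Fin.succ i)) →
    (∀ i : Fin t.length, t (Fin.castSucc i) ⋖ t (Fin.succ i)) →
    s.length = t.length

lemma isCatenary_iff_ordCat (R : Type u) [CommRing R] :
    CAlg.IsCatenary R ↔ OrdCat (PrimeSpectrum R) := Iff.rfl

/-- Reversal of a chain. -/
def rev {α : Type u} [PartialOrder α] (s : LTSeries α) : LTSeries αᵒᵈ where
  length := s.length
  toFun i := OrderDual.toDual (s i.rev)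
  step i := by
    show s i.succ.rev < s i.castSucc.rev
    rw [Fin.rev_succ, Fin.rev_castSucc]
    exact s.step i.rev

lemma rev_head {α : Type u} [PartialOrder α] (s : LTSeries α) : (rev s).head = OrderDual.toDual s.last := by
  show OrderDual.toDual (s (0 : Fin (s.length + 1)).rev) = _
  rw [Fin.rev_zero]; rfl

lemma rev_last {α : Type u} [PartialOrder α] (s : LTSeries α) : (rev s).last = OrderDual.toDual s.head := by
  show OrderDual.toDual (s (Fin.last s.length).rev) = _
  rw [Fin.rev_last]; rfl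

lemma OrdCat.of_dual {α : Type u} [PartialOrder α] (h : OrdCat αᵒᵈ) : OrdCat α := by
  refine ⟨fun p q hpq ↦ ?_, fun s t hh hl hs ht ↦ ?_⟩
  · obtain ⟨n, hn⟩ := h.1 (OrderDual.toDual q) (OrderDual.toDual p) hpq
    exact ⟨n, fun s hs hl ↦ hn (rev s) (by rw [rev_head, hl]) (by rw [rev_last, hs])⟩
  · refine h.2 (rev s) (rev t) (by rw [rev_head, rev_head, hl]) (by rw [rev_last, rev_last, hh]) ?_ ?_
    · intro i
      show OrderDual.toDual (s i.castSucc.rev) ⋖ OrderDual.toDual (s i.succ.rev)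
      rw [toDual_covBy_toDual_iff, Fin.rev_succ, Fin.rev_castSucc]
      exact hs i.rev
    · intro i
      show OrderDual.toDual (t i.castSucc.rev) ⋖ OrderDual.toDual (t i.succ.rev)
      rw [toDual_covBy_toDual_iff, Fin.rev_succ, Fin.rev_castSucc]
      exact ht i.rev

lemma OrdCat.of_orderIso {α : Type u} {β : Type v} [PartialOrder α] [PartialOrder β] (e : α ≃o β)
    (h : OrdCat α) : OrdCat β := by
  refine ⟨fun p q hpq ↦ ?_, fun s t hh hl hs ht ↦ ?_⟩
  · obtain ⟨n, hn⟩ := h.1 (e.symm p) (e.symm q) (e.symm.monotone hpq)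
    exact ⟨n, fun s hs hl ↦ hn (s.map e.symm e.symm.strictMono) (by simp [hs]) (by simp [hl])⟩
  · exact h.2 (s.map e.symm e.symm.strictMono) (t.map e.symm e.symm.strictMono) (by simp [hh])
      (by simp [hl]) (fun i ↦ (apply_covBy_apply_iff e.symm).mpr (hs i))
      (fun i ↦ (apply_covBy_apply_iff e.symm).mpr (ht i))

section Space

variable (X : Type u) [TopologicalSpace X]

lemma isCatenarySpace_iff_ordCat :
    PtTop.IsCatenarySpace X ↔ OrdCat (IrreducibleCloseds X) := by
  constructor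
  · intro h
    refine ⟨fun p q hpq ↦ ?_, fun s t hh hl hs ht ↦ ?_⟩
    · obtain ⟨n, hn⟩ := ENat.ne_top_iff_exists.mp (h p q hpq).1
      refine ⟨n, fun s h1 h2 ↦ ?_⟩
      have := H28Top.length_le_codim s (le_of_eq h2)
      rw [h1, ← hn, Nat.cast_le] at this
      exact this
    · have h1 := (h s.head s.last s.head_le_last).2 s rfl rfl hs
      have h2 := (h s.head s.last s.head_le_last).2 t hh.symm hl.symm ht
      exact_mod_cast h1.trans h2.symm
  · intro h T T' hle
    obtain ⟨n, hn⟩ := h.1 T T' hle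
    have hbd : PtTop.codim T (T' : Set X) ≤ (n : ℕ∞) := H28Top.codim_le fun s h1 h2 ↦ by
      rcases h2.eq_or_lt with h' | h'
      · exact_mod_cast hn s h1 (IrreducibleCloseds.ext (congrArg _ h'))
      · have := hn (s.snoc T' h') (by simp [h1]) (by simp)
        rw [RelSeries.snoc_length] at this
        exact_mod_cast (by omega : s.length ≤ n)
    refine ⟨ne_top_of_le_ne_top (ENat.natCast_ne_top n) hbd, fun s h1 h2 hs ↦ ?_⟩
    obtain ⟨m, hm⟩ := ENat.ne_top_iff_exists.mp (ne_top_of_le_ne_top (ENat.natCast_ne_top n) hbd)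
    obtain ⟨t, t1, t2, t3, t4⟩ := H28Top.exists_series_of_codim hle hm.symm
    rw [← hm, h.2 s t (h1.trans t1.symm) (h2.trans t2.symm) hs t4, t3]

variable {X} {Y : Type u} [TopologicalSpace Y]

lemma isCatenarySpace_of_homeomorph (φ : X ≃ₜ Y) (h : PtTop.IsCatenarySpace X) :
    PtTop.IsCatenarySpace Y := by
  let e : IrreducibleCloseds Y ↪o IrreducibleCloseds X :=
    OrderEmbedding.ofMapLEIff
      (fun Z ↦ ⟨φ ⁻¹' (Z : Set Y), by
          rw [← φ.image_symm]; exact Z.isIrreducible.image _ φ.symm.continuous.continuousOn,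
        Z.isClosed.preimage φ.continuous⟩)
      (fun a b ↦ φ.surjective.preimage_subset_preimage_iff)
  refine H28Top.isCatenarySpace_of_orderEmbedding e (fun a b Z _ _ ↦ ?_) h
  refine ⟨⟨φ.symm ⁻¹' (Z : Set X), by
    rw [← Homeomorph.image_symm, Homeomorph.symm_symm]
    exact Z.isIrreducible.image _ φ.continuous.continuousOn,
    Z.isClosed.preimage φ.symm.continuous⟩, IrreducibleCloseds.ext ?_⟩
  show φ ⁻¹' (φ.symm ⁻¹' (Z : Set X)) = _
  ext; simp

end Space

lemma isCatenarySpace_primeSpectrum_iff (R : Type u) [CommRing R] :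
    PtTop.IsCatenarySpace (PrimeSpectrum R) ↔ CAlg.IsCatenary R := by
  rw [isCatenarySpace_iff_ordCat, isCatenary_iff_ordCat]
  exact ⟨fun h ↦ OrdCat.of_dual (h.of_orderIso
    ((OrderIso.dualDual _).trans (PrimeSpectrum.pointsEquivIrreducibleCloseds R).symm.dual)),
    fun h ↦ OrdCat.of_dual (h.of_orderIso (PrimeSpectrum.pointsEquivIrreducibleCloseds R))⟩

/-- The spectrum of a localization at a prime as a convex piece. -/
noncomputable def locEmbedding {R : Type u} [CommRing R] (q : Ideal R) [q.IsPrime] (S : Type u)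
    [CommRing S] [Algebra R S] [IsLocalization.AtPrime S q] :
    PrimeSpectrum S ↪o PrimeSpectrum R :=
  (IsLocalization.AtPrime.primeSpectrumOrderIso S q).toOrderEmbedding.trans
    (OrderEmbedding.subtype _)

lemma mem_range_locEmbedding {R : Type u} [CommRing R] (q : Ideal R) [hq : q.IsPrime] (S : Type u)
    [CommRing S] [Algebra R S] [IsLocalization.AtPrime S q] {p : PrimeSpectrum R} :
    p ∈ Set.range (locEmbedding q S) ↔ p ≤ ⟨q, hq⟩ := by
  constructor
  · rintro ⟨a, rfl⟩
    exact (IsLocalization.AtPrime.primeSpectrumOrderIso S q a).2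
  · intro h
    obtain ⟨a, ha⟩ := (IsLocalization.AtPrime.primeSpectrumOrderIso S q).surjective ⟨p, h⟩
    exact ⟨a, congrArg Subtype.val ha⟩

lemma convex_locEmbedding {R : Type u} [CommRing R] (q : Ideal R) [q.IsPrime] (S : Type u)
    [CommRing S] [Algebra R S] [IsLocalization.AtPrime S q] :
    H02CA.Convex (locEmbedding q S) := fun _ b _ _ hc ↦
  (mem_range_locEmbedding q S).mpr (hc.trans ((mem_range_locEmbedding q S).mp ⟨b, rfl⟩))

lemma isCatenary_of_localizations {R : Type u} [CommRing R]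
    (h : ∀ q : PrimeSpectrum R, ∃ (S : Type u) (_ : CommRing S) (_ : Algebra R S)
      (_ : IsLocalization.AtPrime S q.asIdeal), CAlg.IsCatenary S) : CAlg.IsCatenary R := by
  refine H02CA.catenary_of_cover fun p q hpq ↦ ?_
  obtain ⟨S, _, _, _, hS⟩ := h q
  exact ⟨S, _, locEmbedding q.asIdeal S, convex_locEmbedding _ _,
    (mem_range_locEmbedding _ S).mpr hpq, (mem_range_locEmbedding _ S).mpr le_rfl, hS⟩

lemma isCatenary_atPrime {R : Type u} [CommRing R] (hR : CAlg.IsCatenary R) (q : Ideal R) [q.IsPrime]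
    (S : Type u) [CommRing S] [Algebra R S] [IsLocalization.AtPrime S q] : CAlg.IsCatenary S :=
  H02CA.catenary_transfer (locEmbedding q S) (convex_locEmbedding q S) hR

section Scheme

variable {X : Scheme.{u}}

lemma isCatenarySpace_affineOpen_iff {U : X.Opens} (hU : IsAffineOpen U) :
    PtTop.IsCatenarySpace U ↔ CAlg.IsCatenary Γ(X, U) := by
  rw [← isCatenarySpace_primeSpectrum_iff]
  exact ⟨isCatenarySpace_of_homeomorph hU.isoSpec.hom.homeomorph,
    isCatenarySpace_of_homeomorph hU.isoSpec.hom.homeomorph.symm⟩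

lemma isCatenarySpace_iff_forall_affine :
    PtTop.IsCatenarySpace X ↔ ∀ U : X.affineOpens, CAlg.IsCatenary Γ(X, U) := by
  refine ⟨fun h U ↦ (isCatenarySpace_affineOpen_iff U.2).mp
    (H28Top.isCatenarySpace_subtype U.1.2.isLocallyClosed h), fun h ↦ ?_⟩
  refine H28Top.isCatenarySpace_of_cover fun x ↦ ?_
  obtain ⟨U, hU, hxU, -⟩ := exists_isAffineOpen_mem_and_subset (x := x) (U := ⊤) trivial
  exact ⟨U, hxU, (isCatenarySpace_affineOpen_iff hU).mpr (h ⟨U, hU⟩)⟩

lemma isCatenarySpace_iff_exists_affine :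
    PtTop.IsCatenarySpace X ↔
      ∀ x : X, ∃ U : X.affineOpens, x ∈ (U : X.Opens) ∧ CAlg.IsCatenary Γ(X, U) := by
  refine ⟨fun h x ↦ ?_, fun h ↦ H28Top.isCatenarySpace_of_cover fun x ↦ ?_⟩
  · obtain ⟨U, hU, hxU, -⟩ := exists_isAffineOpen_mem_and_subset (x := x) (U := ⊤) trivial
    exact ⟨⟨U, hU⟩, hxU, isCatenarySpace_iff_forall_affine.mp h ⟨U, hU⟩⟩
  · obtain ⟨U, hxU, hU⟩ := h x
    exact ⟨U.1, hxU, (isCatenarySpace_affineOpen_iff U.2).mpr hU⟩

lemma isCatenarySpace_iff_stalks :
    PtTop.IsCatenarySpace X ↔ ∀ x : X, CAlg.IsCatenary (X.presheaf.stalk x) := by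
  constructor
  · intro h x
    obtain ⟨U, hU, hxU, -⟩ := exists_isAffineOpen_mem_and_subset (x := x) (U := ⊤) trivial
    let _ : Algebra Γ(X, U) (X.presheaf.stalk x) := (X.presheaf.germ U x hxU).hom.toAlgebra
    have : IsLocalization.AtPrime (X.presheaf.stalk x) (hU.primeIdealOf ⟨x, hxU⟩).asIdeal :=
      hU.isLocalization_stalk ⟨x, hxU⟩
    exact isCatenary_atPrime (isCatenarySpace_iff_forall_affine.mp h ⟨U, hU⟩)
      (hU.primeIdealOf ⟨x, hxU⟩).asIdeal _
  · intro h
    refine isCatenarySpace_iff_forall_affine.mpr fun U ↦ isCatenary_of_localizations fun q ↦ ?_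
    have hy : U.2.fromSpec q ∈ U.1 := by
      rw [← SetLike.mem_coe, ← U.2.range_fromSpec]; exact ⟨q, rfl⟩
    exact ⟨X.presheaf.stalk (U.2.fromSpec q), inferInstance,
      (X.presheaf.germ U.1 _ hy).hom.toAlgebra, U.2.isLocalization_stalk' q hy, h _⟩

end Scheme

end Groth.Agent.H8Props.CatenaryBridge
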