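import Mathlib
import Groth.Agent.H8Props.CatenaryBridge

/-!
# Universally catenary schemes (helper8)
-/

set_option autoImplicit false
universe u
open AlgebraicGeometry CategoryTheory Groth.Agent

namespace Groth.Agent.H8Props.UnivCatenary

/-- Spectrum of a localization as a convex piece. -/
noncomputable def submonoidEmbedding {R : Type u} [CommRing R] (M : Submonoid R) (S : Type u)
    [CommRing S] [Algebra R S] [IsLocalization M S] : PrimeSpectrum S ↪o PrimeSpectrum R :=
  OrderEmbedding.ofMapLEIff (PrimeSpectrum.comap (algebraMap R S)) fun a b ↦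
    ⟨fun h ↦ by
      show a.asIdeal ≤ b.asIdeal
      rw [← IsLocalization.map_under M S a.asIdeal, ← IsLocalization.map_under M S b.asIdeal]
      exact Ideal.map_mono h, fun h ↦ Ideal.comap_mono h⟩

lemma mem_range_submonoidEmbedding {R : Type u} [CommRing R] (M : Submonoid R) (S : Type u)
    [CommRing S] [Algebra R S] [IsLocalization M S] {p : PrimeSpectrum R} :
    p ∈ Set.range (submonoidEmbedding M S) ↔ Disjoint (M : Set R) (p.asIdeal : Set R) := by
  show p ∈ Set.range (PrimeSpectrum.comap (algebraMap R S)) ↔ _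
  rw [PrimeSpectrum.localization_comap_range S M]
  exact Iff.rfl

lemma convex_submonoidEmbedding {R : Type u} [CommRing R] (M : Submonoid R) (S : Type u)
    [CommRing S] [Algebra R S] [IsLocalization M S] : H02CA.Convex (submonoidEmbedding M S) :=
  fun _ b _ _ hc ↦ (mem_range_submonoidEmbedding M S).mpr
    (((mem_range_submonoidEmbedding M S).mp ⟨b, rfl⟩).mono_right hc)

lemma isCatenary_of_finiteType {A T : Type u} [CommRing A] [CommRing T] [Algebra A T]
    [Algebra.FiniteType A T] (h : ∀ n : ℕ, CAlg.IsCatenary (MvPolynomial (Fin n) A)) :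
    CAlg.IsCatenary T := by
  obtain ⟨n, f, hf⟩ := Algebra.FiniteType.iff_quotient_mvPolynomial''.mp ‹Algebra.FiniteType A T›
  have hq := H02CA.catenary_transfer (H02CA.quotEmbedding (RingHom.ker f))
    (H02CA.convex_quotEmbedding _) (h n)
  exact CatenaryBridge.OrdCat.of_orderIso
    (PrimeSpectrum.comapEquiv (Ideal.quotientKerAlgEquivOfSurjective hf).toRingEquiv) hq

lemma isCatenary_mvPolynomial_stalk {S : Scheme.{u}}
    (h : ∀ (X : Scheme.{u}) (f : X ⟶ S), LocallyOfFiniteType f → PtTop.IsCatenarySpace X)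
    (s : S) (n : ℕ) : CAlg.IsCatenary (MvPolynomial (Fin n) (S.presheaf.stalk s)) := by
  obtain ⟨V, hV, hsV, -⟩ := exists_isAffineOpen_mem_and_subset (x := s) (U := ⊤) trivial
  let C := MvPolynomial (Fin n) Γ(S, V)
  let f : Spec (CommRingCat.of C) ⟶ S :=
    Spec.map (CommRingCat.ofHom (algebraMap Γ(S, V) C)) ≫ hV.fromSpec
  have hf : LocallyOfFiniteType f := by
    have : LocallyOfFiniteType (Spec.map (CommRingCat.ofHom (algebraMap Γ(S, V) C))) := by
      rw [HasRingHomProperty.Spec_iff (P := @LocallyOfFiniteType)]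
      exact RingHom.finiteType_algebraMap.mpr inferInstance
    infer_instance
  have hC : CAlg.IsCatenary C :=
    (CatenaryBridge.isCatenarySpace_primeSpectrum_iff C).mp (h _ f hf)
  let _ : Algebra Γ(S, V) (S.presheaf.stalk s) := (S.presheaf.germ V s hsV).hom.toAlgebra
  have : IsLocalization.AtPrime (S.presheaf.stalk s) (hV.primeIdealOf ⟨s, hsV⟩).asIdeal :=
    hV.isLocalization_stalk ⟨s, hsV⟩
  let _ : Algebra C (MvPolynomial (Fin n) (S.presheaf.stalk s)) :=
    (MvPolynomial.map (algebraMap Γ(S, V) (S.presheaf.stalk s))).toAlgebra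
  let M := (hV.primeIdealOf ⟨s, hsV⟩).asIdeal.primeCompl.map (MvPolynomial.C (σ := Fin n))
  have : IsLocalization M (MvPolynomial (Fin n) (S.presheaf.stalk s)) :=
    MvPolynomial.isLocalization _ _
  exact H02CA.catenary_transfer (submonoidEmbedding M _) (convex_submonoidEmbedding M _) hC

theorem isUniversallyCatenary_stalk {S : Scheme.{u}} [IsLocallyNoetherian S]
    (h : ∀ (X : Scheme.{u}) (f : X ⟶ S), LocallyOfFiniteType f → PtTop.IsCatenarySpace X) (s : S) :
    CAlg.IsUniversallyCatenary (S.presheaf.stalk s) :=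
  ⟨inferInstance, fun _ _ _ _ ↦ isCatenary_of_finiteType (isCatenary_mvPolynomial_stalk h s)⟩

theorem isCatenarySpace_of_stalks {S : Scheme.{u}}
    (h : ∀ s : S, CAlg.IsUniversallyCatenary (S.presheaf.stalk s))
    (X : Scheme.{u}) (f : X ⟶ S) (hf : LocallyOfFiniteType f) : PtTop.IsCatenarySpace X := by
  refine CatenaryBridge.isCatenarySpace_iff_exists_affine.mpr fun x ↦ ?_
  obtain ⟨V, hV, hxV, -⟩ := exists_isAffineOpen_mem_and_subset (x := f x) (U := ⊤) trivial
  obtain ⟨U, hU, hxU, hUV⟩ := exists_isAffineOpen_mem_and_subset (x := x) (U := f ⁻¹ᵁ V) hxV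
  refine ⟨⟨U, hU⟩, hxU, ?_⟩
  have hft := HasRingHomProperty.appLE @LocallyOfFiniteType f hf ⟨V, hV⟩ ⟨U, hU⟩ hUV
  let _ := (f.appLE V U hUV).hom.toAlgebra
  have : Algebra.FiniteType Γ(S, V) Γ(X, U) := hft
  refine isCatenary_of_finiteType (A := Γ(S, V)) fun n ↦ H02CA.catenary_of_cover fun p q hpq ↦ ?_
  let y : PrimeSpectrum Γ(S, V) := ⟨q.asIdeal.comap MvPolynomial.C, inferInstance⟩
  have hy : hV.fromSpec y ∈ V := by
    rw [← SetLike.mem_coe, ← hV.range_fromSpec]; exact ⟨y, rfl⟩
  let A := S.presheaf.stalk (hV.fromSpec y)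
  let _ : Algebra Γ(S, V) A := (S.presheaf.germ V _ hy).hom.toAlgebra
  have : IsLocalization.AtPrime A y.asIdeal := hV.isLocalization_stalk' y hy
  let _ : Algebra (MvPolynomial (Fin n) Γ(S, V)) (MvPolynomial (Fin n) A) :=
    (MvPolynomial.map (algebraMap Γ(S, V) A)).toAlgebra
  let M := y.asIdeal.primeCompl.map (MvPolynomial.C (σ := Fin n))
  have : IsLocalization M (MvPolynomial (Fin n) A) := MvPolynomial.isLocalization _ _
  have hq : Disjoint (M : Set _) (q.asIdeal : Set (MvPolynomial (Fin n) Γ(S, V))) := by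
    rw [Set.disjoint_left]
    rintro _ ⟨r, hr, rfl⟩ h'
    exact hr h'
  exact ⟨MvPolynomial (Fin n) A, inferInstance, submonoidEmbedding M _,
    convex_submonoidEmbedding M _, (mem_range_submonoidEmbedding M _).mpr (hq.mono_right hpq),
    (mem_range_submonoidEmbedding M _).mpr hq, (h (hV.fromSpec y)).2 (MvPolynomial (Fin n) A) inferInstance⟩

end Groth.Agent.H8Props.UnivCatenary
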