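import Groth.Agent.H8Props.FieldDimFormula
import Mathlib.AlgebraicGeometry.Morphisms.Smooth
import Mathlib.AlgebraicGeometry.Morphisms.Etale
import Mathlib.AlgebraicGeometry.Morphisms.QuasiFinite
import Mathlib.RingTheory.RingHom.StandardSmooth
import Mathlib.RingTheory.Unramified.LocalStructure

/-!
# Fibre dimension of quasi-finite and smooth morphisms
-/

set_option autoImplicit false
set_option linter.style.haveILetI false
universe u

open AlgebraicGeometry CategoryTheory CategoryTheory.Limits TopologicalSpace Topology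

namespace Groth.Agent.H8Props.FieldDim

/-- The fibres of a locally quasi-finite morphism are zero dimensional. -/
theorem fibreDimAt_eq_zero_of_lqf {X Y : Scheme.{u}} (g : X ⟶ Y) [LocallyOfFiniteType g]
    [LocallyQuasiFinite g] (x : X) : FlatMor.fibreDimAt g x = 0 := by
  haveI := locallyOfFiniteType_fiberToSpec g (g x)
  haveI : DiscreteTopology (g.fiber (g x)) := inferInstance
  refine le_antisymm ?_ ?_
  · refine le_trans (H28Top.localDim_le (X := g.fiber (g x)) (g.asFiber x) (U := ⊤) trivial) ?_
    exact topologicalKrullDim_zero_of_discreteTopology _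
  · obtain ⟨t, ht, -⟩ := fibreDimAt_eq g x
    rw [ht]
    haveI : Nontrivial (X.presheaf.stalk x ⧸
        (IsLocalRing.maximalIdeal (Y.presheaf.stalk (g x))).map (g.stalkMap x).hom) :=
      Ideal.Quotient.nontrivial_iff.mpr (ne_top_of_le_ne_top
        (IsLocalRing.maximalIdeal.isMaximal _).ne_top (IsLocalRing.map_maximalIdeal_le (g.stalkMap x).hom))
    exact add_nonneg ringKrullDim_nonneg_of_nontrivial (by exact_mod_cast Nat.zero_le t)

/-- Local dimension computed in a chart. -/
theorem localDim_chart {k : Type u} [Field k] {Z : Scheme.{u}} (f : Z ⟶ Spec (CommRingCat.of k))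
    [LocallyOfFiniteType f] {A : Type u} [CommRing A] (j : Spec (CommRingCat.of A) ⟶ Z)
    [IsOpenImmersion j] (p : PrimeSpectrum A) :
    FlatMor.localDim Z (j p) = (p.asIdeal.height : WithBot ℕ∞) + ringKrullDim (A ⧸ p.asIdeal) := by
  rw [localDim_eq_stalk_add_cdim f, ringKrullDim_stalk_chart j p, cdim_eq_chart f j p]

/-- A scheme with a smooth chart of relative dimension `n` over a field has local dimension `n`. -/
theorem localDim_eq_of_smooth {k : Type u} [Field k] {Z : Scheme.{u}} (f : Z ⟶ Spec (CommRingCat.of k))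
    (n : ℕ) [SmoothOfRelativeDimension n f] (z : Z) : FlatMor.localDim Z z = n := by
  haveI := SmoothOfRelativeDimension.smooth n f
  obtain ⟨U, hU, V, hV, hzV, e, h⟩ :=
    SmoothOfRelativeDimension.exists_isStandardSmoothOfRelativeDimension (n := n) (f := f) z
  have hUtop : U = ⊤ := eq_top_iff.mpr fun y _ =>
    (Subsingleton.elim (α := PrimeSpectrum k) (f z) y) ▸ e hzV
  subst hUtop
  obtain ⟨p, rfl⟩ : z ∈ Set.range hV.fromSpec := by rw [hV.range_fromSpec]; exact hzV
  let φ : CommRingCat.of k ⟶ Γ(Z, V) := (Scheme.ΓSpecIso (CommRingCat.of k)).inv ≫ f.appLE ⊤ V e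
  have hφ : φ.hom.IsStandardSmoothOfRelativeDimension n :=
    RingHom.isStandardSmoothOfRelativeDimension_respectsIso.2 _
      (Scheme.ΓSpecIso (CommRingCat.of k)).symm.commRingCatIsoToRingEquiv h
  have hj : hV.fromSpec ≫ f = Spec.map φ := by
    rw [← IsAffineOpen.SpecMap_appLE_fromSpec f hU hV e, Spec.map_comp]
    congr 1
    rw [IsAffineOpen.fromSpec_top]
    exact (Scheme.isoSpec_Spec_inv _)
  letI := φ.hom.toAlgebra
  have hj' : hV.fromSpec ≫ f = Spec.map (CommRingCat.ofHom (algebraMap k Γ(Z, V))) := hj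
  haveI := finiteType_of_chart f (A := Γ(Z, V)) hV.fromSpec hj'
  haveI : Algebra.IsStandardSmoothOfRelativeDimension n k Γ(Z, V) := hφ
  obtain ⟨g, hg⟩ := Algebra.IsStandardSmoothOfRelativeDimension.exists_etale_mvPolynomial n k Γ(Z, V)
  letI := g.toRingHom.toAlgebra
  let G : Spec (CommRingCat.of Γ(Z, V)) ⟶ Spec (CommRingCat.of (MvPolynomial (Fin n) k)) :=
    Spec.map (CommRingCat.ofHom g.toRingHom)
  haveI : Etale G := (HasRingHomProperty.Spec_iff (P := @Etale)).mpr hg
  haveI : Algebra.Etale (MvPolynomial (Fin n) k) Γ(Z, V) := hg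
  haveI : LocallyQuasiFinite G := (HasRingHomProperty.Spec_iff (P := @LocallyQuasiFinite)).mpr
    (show g.toRingHom.QuasiFinite from
      (inferInstance : Algebra.QuasiFinite (MvPolynomial (Fin n) k) Γ(Z, V)))
  let qP : Spec (CommRingCat.of (MvPolynomial (Fin n) k)) ⟶ Spec (CommRingCat.of k) :=
    Spec.map (CommRingCat.ofHom (algebraMap k (MvPolynomial (Fin n) k)))
  let qA : Spec (CommRingCat.of Γ(Z, V)) ⟶ Spec (CommRingCat.of k) :=
    Spec.map (CommRingCat.ofHom (algebraMap k Γ(Z, V)))
  have hcomp : G ≫ qP = qA := by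
    simp only [G, qP, qA, ← Spec.map_comp]
    congr 1
    exact CommRingCat.hom_ext (g.comp_algebraMap)
  haveI : LocallyOfFiniteType qP := (HasRingHomProperty.Spec_iff (P := @LocallyOfFiniteType)).mpr
    (RingHom.finiteType_algebraMap.mpr inferInstance)
  haveI : LocallyOfFiniteType qA := (HasRingHomProperty.Spec_iff (P := @LocallyOfFiniteType)).mpr
    (RingHom.finiteType_algebraMap.mpr inferInstance)
  have hA := localDim_chart qA (A := Γ(Z, V)) (𝟙 _) p
  erw [localDim_chart f (A := Γ(Z, V)) hV.fromSpec p, ← hA]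
  show FlatMor.localDim (Spec (CommRingCat.of Γ(Z, V))) p = _
  rw [(localDim_le_fibreDimAt_add qA qP G hcomp p).2 (Flat.stalkMap G p), fibreDimAt_eq_zero_of_lqf,
    zero_add]
  generalize G p = w
  have hP := localDim_chart qP (A := MvPolynomial (Fin n) k) (𝟙 _) w
  refine hP.trans ?_
  haveI : w.asIdeal.IsPrime := w.2
  rw [height_add_dim_quotient k, MvPolynomial.ringKrullDim_of_isNoetherianRing,
    ringKrullDim_eq_zero_of_field]
  simp

set_option backward.isDefEq.respectTransparency.types false in
theorem fibreDimAt_of_smoothOfRelativeDimension {X Y : Scheme.{u}} (g : X ⟶ Y) (n : ℕ)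
    [SmoothOfRelativeDimension n g] (x : X) : FlatMor.fibreDimAt g x = n := by
  haveI := smoothOfRelativeDimension_isStableUnderBaseChange (n := n)
  haveI : SmoothOfRelativeDimension n (g.fiberToSpecResidueField (g x)) :=
    MorphismProperty.pullback_snd _ _ ‹_›
  exact localDim_eq_of_smooth (k := Y.residueField (g x)) (g.fiberToSpecResidueField (g x)) n (g.asFiber x)

end Groth.Agent.H8Props.FieldDim
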