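import Groth.Agent.H8Props.FieldDimFormula
import Groth.Agent.H8Props.FieldDimSmooth
import Mathlib.AlgebraicGeometry.ZariskisMainTheorem
import Mathlib.RingTheory.Ideal.KrullsHeightTheorem
import Mathlib.RingTheory.TensorProduct.MvPolynomial

/-!
# Chevalley: the fibre dimension is upper semicontinuous
-/

set_option autoImplicit false
set_option linter.style.haveILetI false
universe u

open AlgebraicGeometry CategoryTheory CategoryTheory.Limits TopologicalSpace Topology
open scoped TensorProduct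

namespace Groth.Agent.H8Props.FieldDim

/-- A closed point of a fibre of height `≤ n` is isolated among the primes of the fibre containing
`≤ n` suitable elements. -/
theorem exists_isolating {R A : Type u} [CommRing R] [CommRing A] [Algebra R A]
    [Algebra.FiniteType R A] (p : PrimeSpectrum R) (m : PrimeSpectrum (p.asIdeal.Fiber A))
    (hm : m.asIdeal.IsMaximal) (n : ℕ) (hn : m.asIdeal.height ≤ n) :
    ∃ (s : Finset A) (a : A), s.card ≤ n ∧
      a ∉ m.asIdeal.comap (Algebra.TensorProduct.includeRight : A →ₐ[R] p.asIdeal.Fiber A).toRingHom ∧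
      (∀ x ∈ s, x ∈ m.asIdeal.comap (Algebra.TensorProduct.includeRight : A →ₐ[R] p.asIdeal.Fiber A).toRingHom) ∧
      ∀ w : PrimeSpectrum A, PrimeSpectrum.comap (algebraMap R A) w = p → (∀ x ∈ s, x ∈ w.asIdeal) →
        a ∉ w.asIdeal →
        w = PrimeSpectrum.comap (Algebra.TensorProduct.includeRight : A →ₐ[R] p.asIdeal.Fiber A).toRingHom m := by
  classical
  haveI : Algebra.FiniteType p.asIdeal.ResidueField (p.asIdeal.Fiber A) := inferInstance
  haveI : IsNoetherianRing (p.asIdeal.Fiber A) :=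
    Algebra.FiniteType.isNoetherianRing p.asIdeal.ResidueField _
  set ι := (Algebra.TensorProduct.includeRight : A →ₐ[R] p.asIdeal.Fiber A).toRingHom with hι
  have hscale : ∀ y : p.asIdeal.Fiber A, ∃ b : A, ∀ Q : Ideal (p.asIdeal.Fiber A), ι b ∈ Q ↔ y ∈ Q := by
    intro y
    obtain ⟨r, hr, b, hb⟩ := Ideal.Fiber.exists_smul_eq_one_tmul _ y
    have hu : IsUnit (algebraMap R (p.asIdeal.Fiber A) r) := by
      rw [IsScalarTower.algebraMap_apply R p.asIdeal.ResidueField (p.asIdeal.Fiber A)]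
      refine IsUnit.map _ (isUnit_iff_ne_zero.mpr fun h => hr ?_)
      exact Ideal.algebraMap_residueField_eq_zero.mp h
    refine ⟨b, fun Q => ?_⟩
    rw [show ι b = algebraMap R (p.asIdeal.Fiber A) r * y by rw [← Algebra.smul_def, hb]; rfl]
    exact Q.unit_mul_mem_iff_mem hu
  choose β hβ using hscale
  obtain ⟨t, htmin, htcard⟩ := m.asIdeal.exists_finset_card_eq_height_of_isNoetherianRing
  let others : Finset (Ideal (p.asIdeal.Fiber A)) :=
    (Ideal.finite_minimalPrimes_of_isNoetherianRing _ (Ideal.span (t : Set (p.asIdeal.Fiber A)))).toFinset.filter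
      fun Q => ¬ Q ≤ m.asIdeal
  obtain ⟨h, hh, hhm⟩ : ∃ h ∈ others.inf id, h ∉ m.asIdeal := by
    refine SetLike.not_le_iff_exists.mp fun hle => ?_
    obtain ⟨Q, hQ, hQm⟩ := m.2.inf_le'.mp hle
    exact (Finset.mem_filter.mp hQ).2 hQm
  have htn : t.card ≤ n := by
    have : (t.card : ℕ∞) ≤ (n : ℕ∞) := htcard ▸ hn
    exact_mod_cast this
  refine ⟨t.image β, β h, Finset.card_image_le.trans htn, fun hmem => hhm ((hβ h _).mp hmem),
    fun x hx => ?_, fun w hw hsw haw => ?_⟩
  · obtain ⟨y, hy, rfl⟩ := Finset.mem_image.mp hx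
    exact (hβ y _).mpr (htmin.1.2 (Ideal.subset_span hy))
  · let Q := PrimeSpectrum.preimageEquivFiber R A p ⟨w, hw⟩
    have hQ : PrimeSpectrum.comap ι Q = w :=
      congrArg Subtype.val ((PrimeSpectrum.preimageEquivFiber R A p).symm_apply_apply ⟨w, hw⟩)
    have hiff : ∀ b, b ∈ w.asIdeal ↔ ι b ∈ Q.asIdeal := fun b => by rw [← hQ]; rfl
    haveI : Q.asIdeal.IsPrime := Q.2
    have hspan : Ideal.span (t : Set (p.asIdeal.Fiber A)) ≤ Q.asIdeal :=
      Ideal.span_le.mpr fun y hy =>
        (hβ y _).mp ((hiff _).mp (hsw _ (Finset.mem_image_of_mem β hy)))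
    obtain ⟨Q₀, hQ₀, hQ₀le⟩ := Ideal.exists_minimalPrimes_le hspan
    have hQ₀m : Q₀ ≤ m.asIdeal := by
      by_contra hnot
      exact haw ((hiff _).mpr ((hβ h _).mpr (hQ₀le (Finset.inf_le (f := id)
        (Finset.mem_filter.mpr ⟨(Set.Finite.mem_toFinset _).mpr hQ₀, hnot⟩) hh))))
    have : m.asIdeal ≤ Q₀ := htmin.2 hQ₀.1 hQ₀m
    have hQm : Q = m := PrimeSpectrum.ext (hm.eq_of_le Q.2.ne_top (this.trans hQ₀le)).symm
    rw [← hQ, hQm]

theorem dim_subsingleton_le {T : Type*} [TopologicalSpace T] [Subsingleton T] :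
    topologicalKrullDim T ≤ 0 :=
  topologicalKrullDim_zero_of_discreteTopology _

/-- Quasi-finite points have zero dimensional fibre. -/
theorem fibreDimAt_le_zero_of_quasiFiniteAt {X Y : Scheme.{u}} (g : X ⟶ Y) [LocallyOfFiniteType g]
    {w : X} (hw : g.QuasiFiniteAt w) : FlatMor.fibreDimAt g w ≤ 0 := by
  refine (H28Top.localDim_le (X := g.fiber (g w)) (g.asFiber w)
    (U := ⟨{g.asFiber w}, Scheme.Hom.quasiFiniteAt_iff_isOpen_singleton_asFiber.mp hw⟩) rfl).trans ?_
  haveI : Subsingleton ({g.asFiber w} : Set (g.fiber (g w))) :=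
    Set.subsingleton_singleton.coe_sort
  exact dim_subsingleton_le

theorem fibreDimAt_affineSpace_le {R : Type u} [CommRing R] (σ : Type u) [Fintype σ]
    (w : Spec (CommRingCat.of (MvPolynomial σ R))) :
    FlatMor.fibreDimAt (Spec.map (CommRingCat.ofHom (algebraMap R (MvPolynomial σ R)))) w ≤
      (Fintype.card σ : ℕ) := by
  set π := Spec.map (CommRingCat.ofHom (algebraMap R (MvPolynomial σ R)))
  refine (H28Top.localDim_le_dim _).trans ?_
  let p : PrimeSpectrum R := π w
  have e := (Arrow.leftFunc.mapIso (Spec.fiberToSpecResidueFieldIso R (MvPolynomial σ R) p))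
  refine (le_of_eq (IsHomeomorph.topologicalKrullDim_eq _ (Scheme.homeoOfIso e).isHomeomorph)).trans ?_
  show topologicalKrullDim (PrimeSpectrum (p.asIdeal.Fiber (MvPolynomial σ R))) ≤ _
  rw [PrimeSpectrum.topologicalKrullDim_eq_ringKrullDim,
    ringKrullDim_eq_of_ringEquiv (MvPolynomial.algebraTensorAlgEquiv (σ := σ) R p.asIdeal.ResidueField).toRingEquiv,
    MvPolynomial.ringKrullDim_of_isNoetherianRing, ringKrullDim_eq_zero_of_field, Nat.card_eq_fintype_card]
  simp

/-- A point with fibre dimension `≤ n` is a quasi-finite point of a map to `n`-dimensional affine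
space over the base. -/
theorem exists_quasiFiniteAt_map {R A : Type u} [CommRing R] [CommRing A] [Algebra R A]
    [Algebra.FiniteType R A] (q : PrimeSpectrum A) (n : ℕ)
    (hq : FlatMor.fibreDimAt (Spec.map (CommRingCat.ofHom (algebraMap R A))) q ≤ n) :
    ∃ (σ : Type u) (_ : Fintype σ) (γ : MvPolynomial σ R →ₐ[R] A), Fintype.card σ ≤ n ∧
      (Spec.map (CommRingCat.ofHom γ.toRingHom)).QuasiFiniteAt q := by
  classical
  set φ := Spec.map (CommRingCat.ofHom (algebraMap R A)) with hφ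
  haveI : LocallyOfFiniteType φ := (HasRingHomProperty.Spec_iff (P := @LocallyOfFiniteType)).mpr
    (RingHom.finiteType_algebraMap.mpr inferInstance)
  let p : PrimeSpectrum R := PrimeSpectrum.comap (algebraMap R A) q
  let K := p.asIdeal.ResidueField
  let Fib := p.asIdeal.Fiber A
  let ι : A →+* Fib := (Algebra.TensorProduct.includeRight : A →ₐ[R] Fib).toRingHom
  have hsq : IsPullback (Spec.map (CommRingCat.ofHom ι))
      (Spec.map (CommRingCat.ofHom (algebraMap K Fib))) φ
      (Spec.map (CommRingCat.ofHom (algebraMap R K))) :=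
    (isPullback_SpecMap_of_isPushout _ _ _ _ (CommRingCat.isPushout_tensorProduct R K A)).flip
  let f' := Spec.map (CommRingCat.ofHom (algebraMap K Fib))
  haveI : LocallyOfFiniteType f' := MorphismProperty.of_isPullback hsq ‹_›
  let qb : PrimeSpectrum Fib := PrimeSpectrum.preimageEquivFiber R A p ⟨q, rfl⟩
  have hqb : PrimeSpectrum.comap ι qb = q :=
    congrArg Subtype.val ((PrimeSpectrum.preimageEquivFiber R A p).symm_apply_apply ⟨q, rfl⟩)
  have hfd : FlatMor.fibreDimAt φ q = FlatMor.localDim (Spec (CommRingCat.of Fib)) qb := by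
    have h1 := fibreDimAt_baseChange φ hsq qb
    rw [show (Spec.map (CommRingCat.ofHom ι)) qb = q from hqb] at h1
    rw [← h1]
    haveI : LocallyOfFiniteType (𝟙 (Spec (CommRingCat.of K))) := inferInstance
    haveI : Flat f' := (HasRingHomProperty.Spec_iff (P := @Flat)).mpr
      (show (algebraMap K Fib).Flat from RingHom.flat_algebraMap_iff.mpr inferInstance)
    rw [(localDim_le_fibreDimAt_add (k := K) f' (𝟙 _) f' (Category.comp_id _) qb).2 (Flat.stalkMap f' qb),
      show FlatMor.localDim (Spec (CommRingCat.of K)) (f' qb) = 0 from ?_, add_zero]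
    refine le_antisymm ((H28Top.localDim_le_dim _).trans ?_) ?_
    · haveI : Subsingleton (Spec (CommRingCat.of K)) := inferInstanceAs (Subsingleton (PrimeSpectrum K))
      exact dim_subsingleton_le
    · obtain ⟨s, hs⟩ := exists_nat_cdim (k := K) (𝟙 (Spec (CommRingCat.of K))) (f' qb)
      rw [localDim_eq_stalk_add_cdim (k := K) (𝟙 (Spec (CommRingCat.of K))), hs]
      exact add_nonneg ringKrullDim_nonneg_of_nontrivial (by exact_mod_cast Nat.zero_le s)
  obtain ⟨U, hqU, hU⟩ := H28Top.exists_localDim_eq (X := Spec (CommRingCat.of Fib)) qb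
  haveI : JacobsonSpace (Spec (CommRingCat.of Fib)) := LocallyOfFiniteType.jacobsonSpace f'
  obtain ⟨m, ⟨hqm, hmU⟩, hmc⟩ := nonempty_inter_closedPoints
    (Z := closure ({qb} : Set (Spec (CommRingCat.of Fib))) ∩ U)
    ⟨qb, subset_closure rfl, hqU⟩ (isClosed_closure.isLocallyClosed.inter U.2.isLocallyClosed)
  have hmmax : (m : PrimeSpectrum Fib).asIdeal.IsMaximal :=
    (PrimeSpectrum.isClosed_singleton_iff_isMaximal m).mp hmc
  have hmn : (m : PrimeSpectrum Fib).asIdeal.height ≤ n := by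
    have h1 : FlatMor.localDim (Spec (CommRingCat.of Fib)) m ≤ n := by
      refine (H28Top.localDim_le (X := Spec (CommRingCat.of Fib)) m (U := U) hmU).trans ?_
      rw [hU, ← hfd]; exact hq
    rw [localDim_eq_stalk_add_cdim (k := K) f' m] at h1
    obtain ⟨s, hs⟩ := exists_nat_cdim (k := K) f' m
    have h2 : ringKrullDim ((Spec (CommRingCat.of Fib)).presheaf.stalk m) ≤ n :=
      le_trans (le_add_of_nonneg_right (hs ▸ by exact_mod_cast Nat.zero_le s)) h1
    have h3 := ringKrullDim_stalk_chart (𝟙 (Spec (CommRingCat.of Fib))) (m : PrimeSpectrum Fib)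
    have h4 : ((m : PrimeSpectrum Fib).asIdeal.height : WithBot ℕ∞) ≤ ((n : ℕ∞) : WithBot ℕ∞) :=
      h3 ▸ h2
    exact WithBot.coe_le_coe.mp h4
  obtain ⟨s, a, hcard, hac, hsc, huniq⟩ := exists_isolating p (m : PrimeSpectrum Fib) hmmax n hmn
  let P := MvPolynomial (s : Type u) R
  let γ : P →ₐ[R] A := MvPolynomial.aeval fun x => x.1
  let G : Spec (CommRingCat.of A) ⟶ Spec (CommRingCat.of P) := Spec.map (CommRingCat.ofHom γ.toRingHom)
  let π : Spec (CommRingCat.of P) ⟶ Spec (CommRingCat.of R) :=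
    Spec.map (CommRingCat.ofHom (algebraMap R P))
  have hcomp : G ≫ π = φ := by
    simp only [G, π, hφ, ← Spec.map_comp]
    congr 1
    exact CommRingCat.hom_ext γ.comp_algebraMap
  haveI : LocallyOfFiniteType (G ≫ π) := hcomp ▸ ‹_›
  haveI : LocallyOfFiniteType G := locallyOfFiniteType_of_comp G π
  haveI : LocallyOfFiniteType π := (HasRingHomProperty.Spec_iff (P := @LocallyOfFiniteType)).mpr
    (RingHom.finiteType_algebraMap.mpr inferInstance)
  let c : Spec (CommRingCat.of A) := PrimeSpectrum.comap ι (m : PrimeSpectrum Fib)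
  have hqc : (q : Spec (CommRingCat.of A)) ⤳ c := by
    rw [← hqb]
    exact (specializes_iff_mem_closure.mpr hqm).map (PrimeSpectrum.continuous_comap ι)
  have hcp : PrimeSpectrum.comap (algebraMap R A) c = p := by
    have := (PrimeSpectrum.preimageEquivFiber R A p).symm m |>.2
    exact this
  have hqf : G.QuasiFiniteAt c := by
    rw [Scheme.Hom.quasiFiniteAt_iff_isOpen_singleton_asFiber, ← (G.fiberHomeo (G c)).isOpen_image]
    simp only [Set.image_singleton, Scheme.Hom.asFiber, Homeomorph.apply_symm_apply]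
    refine ⟨((PrimeSpectrum.basicOpen a : Opens (PrimeSpectrum A)) : Set (PrimeSpectrum A)), (PrimeSpectrum.basicOpen a).2, Set.ext fun w => ?_⟩
    refine ⟨fun hw => Subtype.ext ?_, fun hw => ?_⟩
    · have hGw : PrimeSpectrum.comap γ.toRingHom w.1 = PrimeSpectrum.comap γ.toRingHom c := w.2
      refine huniq w.1 ?_ (fun x hx => ?_) hw
      · rw [← hcp, ← γ.comp_algebraMap, PrimeSpectrum.comap_comp]
        exact congrArg (PrimeSpectrum.comap (algebraMap R P)) hGw
      · have h1 : MvPolynomial.X (⟨x, hx⟩ : s) ∈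
            (PrimeSpectrum.comap γ.toRingHom c).asIdeal := by
          show γ (MvPolynomial.X _) ∈ (c : PrimeSpectrum A).asIdeal
          rw [MvPolynomial.aeval_X]
          exact hsc x hx
        rw [← hGw] at h1
        have h2 : γ (MvPolynomial.X (⟨x, hx⟩ : s)) ∈ (w.1 : PrimeSpectrum A).asIdeal := h1
        rwa [MvPolynomial.aeval_X] at h2
    · rw [Set.mem_singleton_iff] at hw
      subst hw
      exact hac
  exact ⟨(s : Type u), inferInstance, γ, by simpa using hcard, hqc.mem_open G.quasiFiniteLocus.2 hqf⟩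

/-- The affine case of semicontinuity. -/
theorem exists_nhd_fibreDimAt_le_spec {R A : Type u} [CommRing R] [CommRing A] [Algebra R A]
    [Algebra.FiniteType R A] (q : PrimeSpectrum A) (n : ℕ)
    (hq : FlatMor.fibreDimAt (Spec.map (CommRingCat.ofHom (algebraMap R A))) q ≤ n) :
    ∃ W : (Spec (CommRingCat.of A)).Opens, (q : Spec (CommRingCat.of A)) ∈ W ∧
      ∀ w ∈ W, FlatMor.fibreDimAt (Spec.map (CommRingCat.ofHom (algebraMap R A))) w ≤ n := by
  obtain ⟨σ, _, γ, hcard, hqf⟩ := exists_quasiFiniteAt_map q n hq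
  set φ := Spec.map (CommRingCat.ofHom (algebraMap R A)) with hφ
  haveI : LocallyOfFiniteType φ := (HasRingHomProperty.Spec_iff (P := @LocallyOfFiniteType)).mpr
    (RingHom.finiteType_algebraMap.mpr inferInstance)
  let G : Spec (CommRingCat.of A) ⟶ Spec (CommRingCat.of (MvPolynomial σ R)) :=
    Spec.map (CommRingCat.ofHom γ.toRingHom)
  let π : Spec (CommRingCat.of (MvPolynomial σ R)) ⟶ Spec (CommRingCat.of R) :=
    Spec.map (CommRingCat.ofHom (algebraMap R (MvPolynomial σ R)))
  have hcomp : G ≫ π = φ := by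
    simp only [G, π, hφ, ← Spec.map_comp]
    congr 1
    exact CommRingCat.hom_ext γ.comp_algebraMap
  haveI : LocallyOfFiniteType (G ≫ π) := hcomp ▸ ‹_›
  haveI : LocallyOfFiniteType G := locallyOfFiniteType_of_comp G π
  haveI : LocallyOfFiniteType π := (HasRingHomProperty.Spec_iff (P := @LocallyOfFiniteType)).mpr
    (RingHom.finiteType_algebraMap.mpr inferInstance)
  refine ⟨G.quasiFiniteLocus, hqf, fun w hw => ?_⟩
  rw [← hcomp]
  refine (fibreDimAt_comp_le G π w).1.trans ?_
  refine le_trans (add_le_add (fibreDimAt_le_zero_of_quasiFiniteAt G hw) (fibreDimAt_affineSpace_le _ _)) ?_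
  rw [zero_add]
  exact_mod_cast hcard

theorem fibreDimAt_openImmersion_comp {X Y Z : Scheme.{u}} (j : X ⟶ Y) [IsOpenImmersion j]
    (g : Y ⟶ Z) [LocallyOfFiniteType g] (x : X) :
    FlatMor.fibreDimAt (j ≫ g) x = FlatMor.fibreDimAt g (j x) := by
  rw [(fibreDimAt_comp_le j g x).2 (Flat.stalkMap j x), fibreDimAt_eq_zero_of_lqf, zero_add]

theorem fibreDimAt_comp_openImmersion {X Y Z : Scheme.{u}} (g : X ⟶ Y) [LocallyOfFiniteType g]
    (i : Y ⟶ Z) [IsOpenImmersion i] (x : X) :
    FlatMor.fibreDimAt (g ≫ i) x = FlatMor.fibreDimAt g x := by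
  have hpb : IsPullback (𝟙 X) g (g ≫ i) i :=
    IsPullback.of_isLimit' ⟨Category.id_comp _⟩ (PullbackCone.IsLimit.mk _ (fun s => s.fst)
      (fun s => Category.comp_id _)
      (fun s => by rw [← cancel_mono i, Category.assoc]; exact s.condition)
      (fun s m h _ => by rw [← h, Category.comp_id]))
  exact (fibreDimAt_baseChange (g ≫ i) hpb x).symm

/-- **Chevalley**: the locus where the fibre dimension is at most `n` is open. -/
theorem isOpen_fibreDimAt_le {X S : Scheme.{u}} (f : X ⟶ S) [LocallyOfFiniteType f] (n : ℕ) :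
    IsOpen {x : X | FlatMor.fibreDimAt f x ≤ n} := by
  refine isOpen_iff_forall_mem_open.mpr fun x hx => ?_
  obtain ⟨U, (hU : IsAffineOpen U), hxU, -⟩ := Opens.isBasis_iff_nbhd.mp S.isBasis_affineOpens
    (show f x ∈ (⊤ : S.Opens) from trivial)
  obtain ⟨V, (hV : IsAffineOpen V), hxV, hVU⟩ := Opens.isBasis_iff_nbhd.mp X.isBasis_affineOpens
    (show x ∈ f ⁻¹ᵁ U from hxU)
  obtain ⟨q, rfl⟩ : x ∈ Set.range hV.fromSpec := by rw [hV.range_fromSpec]; exact hxV
  letI := (f.appLE U V hVU).hom.toAlgebra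
  haveI : Algebra.FiniteType Γ(S, U) Γ(X, V) := f.finiteType_appLE hU hV hVU
  set φ := Spec.map (CommRingCat.ofHom (algebraMap Γ(S, U) Γ(X, V)))
  haveI : LocallyOfFiniteType φ := (HasRingHomProperty.Spec_iff (P := @LocallyOfFiniteType)).mpr
    (RingHom.finiteType_algebraMap.mpr inferInstance)
  have hsq : φ ≫ hU.fromSpec = hV.fromSpec ≫ f := IsAffineOpen.SpecMap_appLE_fromSpec f hU hV hVU
  have key : ∀ w, FlatMor.fibreDimAt f (hV.fromSpec w) = FlatMor.fibreDimAt φ w := fun w => by
    rw [← fibreDimAt_openImmersion_comp hV.fromSpec f w, ← hsq]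
    exact fibreDimAt_comp_openImmersion φ hU.fromSpec w
  obtain ⟨W, hqW, hW⟩ := exists_nhd_fibreDimAt_le_spec (R := Γ(S, U)) (A := Γ(X, V)) q n
    ((key q).ge.trans hx)
  refine ⟨hV.fromSpec '' (W : Set (Spec Γ(X, V))), ?_, hV.fromSpec.isOpenEmbedding.isOpenMap _ W.2,
    ⟨q, hqW, rfl⟩⟩
  rintro _ ⟨w, hw, rfl⟩
  exact (key w).trans_le (hW w hw)

/-- The fibre dimension does not increase under generization. -/
theorem fibreDimAt_le_of_specializes {X S : Scheme.{u}} (f : X ⟶ S) [LocallyOfFiniteType f]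
    {x x' : X} (h : x' ⤳ x) : FlatMor.fibreDimAt f x' ≤ FlatMor.fibreDimAt f x := by
  haveI := locallyOfFiniteType_fiberToSpec f (f x)
  obtain ⟨U, hxU, hU⟩ := H28Top.exists_localDim_eq (X := f.fiber (f x)) (f.asFiber x)
  match hm : FlatMor.fibreDimAt f x with
  | (⊤ : ℕ∞) => exact le_top
  | ((n : ℕ) : ℕ∞) => exact h.mem_open (isOpen_fibreDimAt_le f n) hm.le
  | ⊥ =>
    exfalso
    haveI : Nonempty (U : Set (f.fiber (f x))) := ⟨⟨_, hxU⟩⟩
    haveI : Nonempty (IrreducibleCloseds (U : Set (f.fiber (f x)))) :=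
      ⟨⟨closure {⟨_, hxU⟩}, isIrreducible_singleton.closure, isClosed_closure⟩⟩
    have : (0 : WithBot ℕ∞) ≤ ⊥ := (Order.krullDim_nonneg (α := IrreducibleCloseds (U : Set (f.fiber (f x))))).trans
      (le_of_eq (hU.trans hm))
    simp at this

end Groth.Agent.H8Props.FieldDim
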