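import Groth.Agent.H13Flat.Algebra
import Mathlib.AlgebraicGeometry.Pullbacks
import Mathlib.AlgebraicGeometry.Morphisms.Flat
import Mathlib.AlgebraicGeometry.Noetherian
import Mathlib.AlgebraicGeometry.Morphisms.FinitePresentation
import Mathlib.RingTheory.FiniteType
import Mathlib.RingTheory.Extension.Presentation.Core

/-!
# Noetherian approximation of affine flat morphisms of finite presentation
-/

set_option autoImplicit false
set_option linter.style.haveILetI false
universe u

open AlgebraicGeometry CategoryTheory CategoryTheory.Limits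
open scoped TensorProduct

namespace Groth.Agent.H8Props.FlatApprox

/-- A flat finitely presented algebra comes from a flat finitely presented algebra over a ring of
finite type over `ℤ`, as a pullback square of spectra. -/
theorem exists_isPullback_spec (A B : Type u) [CommRing A] [CommRing B] [Algebra A B]
    [Algebra.FinitePresentation A B] [Module.Flat A B] :
    ∃ (R₀ B₀ : Type u) (_ : CommRing R₀) (_ : CommRing B₀) (_ : Algebra R₀ A) (_ : Algebra R₀ B₀)
      (g' : Spec (CommRingCat.of B) ⟶ Spec (CommRingCat.of B₀)),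
      Algebra.FiniteType ℤ R₀ ∧ Algebra.FinitePresentation R₀ B₀ ∧ Module.Flat R₀ B₀ ∧
        IsPullback g' (Spec.map (CommRingCat.ofHom (algebraMap A B)))
          (Spec.map (CommRingCat.ofHom (algebraMap R₀ B₀)))
          (Spec.map (CommRingCat.ofHom (algebraMap R₀ A))) := by
  obtain ⟨R, hR, B₀, _, _, hfp, hflat, ⟨e⟩⟩ := H13Flat.exists_flat_stage A B
  refine ⟨R, B₀, inferInstance, inferInstance, inferInstance, inferInstance,
    Spec.map (CommRingCat.ofHom (e.toAlgHom.restrictScalars R |>.comp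
      (Algebra.TensorProduct.includeRight : B₀ →ₐ[R] A ⊗[R] B₀)).toRingHom),
    R.fg_iff_finiteType.1 hR, hfp, hflat, ?_⟩
  have h := (isPullback_SpecMap_of_isPushout _ _ _ _ (CommRingCat.isPushout_tensorProduct R A B₀)).flip
  refine h.of_iso (Scheme.Spec.mapIso e.symm.toRingEquiv.toCommRingCatIso.op) (Iso.refl _) (Iso.refl _) (Iso.refl _)
    ?_ ?_ (by simp) (by simp)
  · simp only [Iso.refl_hom, Category.comp_id, Functor.mapIso_hom, Iso.op_hom, Scheme.Spec_map,
      Quiver.Hom.unop_op, ← Spec.map_comp]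
    congr 1
    ext x
    show _ = e.symm (e ((1 : A) ⊗ₜ x))
    rw [e.symm_apply_apply]
    rfl
  · simp only [Iso.refl_hom, Category.comp_id, Functor.mapIso_hom, Iso.op_hom, Scheme.Spec_map,
      Quiver.Hom.unop_op, ← Spec.map_comp]
    congr 1
    ext x
    simp

/-- The scheme version. -/
theorem exists_isPullback {X S : Scheme.{u}} (f : X ⟶ S) [IsAffine X] [IsAffine S]
    [LocallyOfFinitePresentation f] [Flat f] :
    ∃ (X₀ S₀ : Scheme.{u}) (f₀ : X₀ ⟶ S₀) (g : S ⟶ S₀) (g' : X ⟶ X₀), IsAffine X₀ ∧ IsAffine S₀ ∧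
      IsPullback g' f f₀ g ∧ Algebra.FiniteType ℤ Γ(S₀, ⊤) ∧ LocallyOfFiniteType f₀ ∧ Flat f₀ ∧
        IsLocallyNoetherian S₀ := by
  letI := f.appTop.hom.toAlgebra
  haveI : Algebra.FinitePresentation Γ(S, ⊤) Γ(X, ⊤) :=
    (HasRingHomProperty.iff_of_isAffine (P := @LocallyOfFinitePresentation)).mp ‹_›
  haveI : Module.Flat Γ(S, ⊤) Γ(X, ⊤) := (HasRingHomProperty.iff_of_isAffine (P := @Flat)).mp ‹_›
  obtain ⟨R₀, B₀, _, _, _, _, g', hR, hfp, hflat, hsq⟩ := exists_isPullback_spec Γ(S, ⊤) Γ(X, ⊤)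
  haveI : IsNoetherianRing R₀ := Algebra.FiniteType.isNoetherianRing ℤ R₀
  refine ⟨Spec (CommRingCat.of B₀), Spec (CommRingCat.of R₀),
    Spec.map (CommRingCat.ofHom (algebraMap R₀ B₀)),
    S.isoSpec.hom ≫ Spec.map (CommRingCat.ofHom (algebraMap R₀ Γ(S, ⊤))),
    X.isoSpec.hom ≫ g', inferInstance, inferInstance, ?_, ?_, ?_, ?_, inferInstance⟩
  · refine hsq.of_iso X.isoSpec.symm (Iso.refl _) S.isoSpec.symm (Iso.refl _) ?_ ?_ ?_ ?_
    · simp
    · exact Scheme.isoSpec_inv_naturality f
    · simp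
    · simp
  · exact Algebra.FiniteType.equiv hR (Scheme.ΓSpecIso (CommRingCat.of R₀)).symm.commRingCatIsoToRingEquiv.toIntAlgEquiv
  · exact (HasRingHomProperty.Spec_iff (P := @LocallyOfFiniteType)).mpr
      (RingHom.finiteType_algebraMap.mpr inferInstance)
  · exact (HasRingHomProperty.Spec_iff (P := @Flat)).mpr (RingHom.flat_algebraMap_iff.mpr hflat)

end Groth.Agent.H8Props.FlatApprox

namespace Groth.Agent.H8Props.FlatApprox

/-- A finitely presented algebra comes from one over a ring of finite type over `ℤ`, as a pullback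
square of spectra. -/
theorem exists_isPullback_spec_fp (A B : Type u) [CommRing A] [CommRing B] [Algebra A B]
    [Algebra.FinitePresentation A B] :
    ∃ (R₀ B₀ : Type u) (_ : CommRing R₀) (_ : CommRing B₀) (_ : Algebra R₀ A) (_ : Algebra R₀ B₀)
      (g' : Spec (CommRingCat.of B) ⟶ Spec (CommRingCat.of B₀)),
      Algebra.FiniteType ℤ R₀ ∧ Algebra.FinitePresentation R₀ B₀ ∧
        IsPullback g' (Spec.map (CommRingCat.ofHom (algebraMap A B)))
          (Spec.map (CommRingCat.ofHom (algebraMap R₀ B₀)))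
          (Spec.map (CommRingCat.ofHom (algebraMap R₀ A))) := by
  let P := Algebra.Presentation.ofFinitePresentation A B
  let R := Algebra.adjoin ℤ P.coeffs
  haveI : P.HasCoeffs R := ⟨by simp [R]⟩
  let e := P.tensorModelOfHasCoeffsEquiv R
  refine ⟨R, P.ModelOfHasCoeffs R, inferInstance, inferInstance, inferInstance, inferInstance,
    Spec.map (CommRingCat.ofHom (e.toAlgHom.restrictScalars R |>.comp
      (Algebra.TensorProduct.includeRight : P.ModelOfHasCoeffs R →ₐ[R] A ⊗[R] P.ModelOfHasCoeffs R)).toRingHom),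
    R.fg_iff_finiteType.1 ⟨P.finite_coeffs.toFinset, by simp [R]⟩, inferInstance, ?_⟩
  have h := (isPullback_SpecMap_of_isPushout _ _ _ _
    (CommRingCat.isPushout_tensorProduct R A (P.ModelOfHasCoeffs R))).flip
  refine h.of_iso (Scheme.Spec.mapIso e.symm.toRingEquiv.toCommRingCatIso.op) (Iso.refl _) (Iso.refl _) (Iso.refl _)
    ?_ ?_ (by simp) (by simp)
  · simp only [Iso.refl_hom, Category.comp_id, Functor.mapIso_hom, Iso.op_hom, Scheme.Spec_map,
      Quiver.Hom.unop_op, ← Spec.map_comp]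
    congr 1
    refine CommRingCat.hom_ext (RingHom.ext fun x => ?_)
    show _ = e.symm (e ((1 : A) ⊗ₜ x))
    rw [e.symm_apply_apply]
    rfl
  · simp only [Iso.refl_hom, Category.comp_id, Functor.mapIso_hom, Iso.op_hom, Scheme.Spec_map,
      Quiver.Hom.unop_op, ← Spec.map_comp]
    congr 1
    refine CommRingCat.hom_ext (RingHom.ext fun x => ?_)
    simp

end Groth.Agent.H8Props.FlatApprox
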