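import Groth.Agent.H8Props.FibreCriterion
import Groth.Agent.H17.LocusBC
import Groth.Agent.H12AlgSp.LocPCancel
import Groth.Agent.H06Unram.SmoothQF
import Groth.Agent.H18Et.TopInvariance
import Mathlib.AlgebraicGeometry.Morphisms.IsIso

/-!
# Fibrewise criteria for smooth, étale and open immersion

`X → Y → S` with `X → S` flat, everything locally of finite presentation.
-/

set_option autoImplicit false
set_option linter.style.haveILetI false
universe u

open AlgebraicGeometry CategoryTheory CategoryTheory.Limits TopologicalSpace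

namespace Groth.Agent.H8Props.FibreCriterion

variable {X Y S : Scheme.{u}} (f : X ⟶ Y) (g : Y ⟶ S)

theorem isPullback_fiberMap (s : S) :
    IsPullback ((f ≫ g).fiberι s) (MoreMor.fiberMap f g s) f (g.fiberι s) := by
  refine IsPullback.of_bot ?_ (fiberMap_fiberι f g s).symm
    (IsPullback.of_hasPullback g (S.fromSpecResidueField s))
  show IsPullback _ (MoreMor.fiberMap f g s ≫ g.fiberToSpecResidueField s) _ _
  rw [fiberMap_fiberToSpec]
  exact IsPullback.of_hasPullback (f ≫ g) (S.fromSpecResidueField s)

theorem fiberMap_of_snd {P : MorphismProperty Scheme.{u}} [P.IsStableUnderBaseChange] (s : S)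
    (h : P (pullback.snd f (g.fiberι s))) : P (MoreMor.fiberMap f g s) := by
  rw [← (isPullback_fiberMap f g s).isoPullback_hom_snd]
  exact (P.cancel_left_of_respectsIso _ _).mpr h

theorem fiberToSpec_of_snd {P : MorphismProperty Scheme.{u}} [P.IsStableUnderBaseChange]
    (h : ∀ s : S, P (pullback.snd f (g.fiberι s))) (y : Y) : P (f.fiberToSpecResidueField y) := by
  have key : ∀ k, k = g.asFiberHom y ≫ g.fiberι (g y) → P (pullback.snd f k) := by
    rintro k rfl
    have h1 := MorphismProperty.pullback_snd (P := P) (pullback.snd f (g.fiberι (g y)))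
      (g.asFiberHom y) (h (g y))
    rw [← pullbackLeftPullbackSndIso_hom_snd f (g.fiberι (g y)) (g.asFiberHom y)] at h1
    exact (P.cancel_left_of_respectsIso _ _).mp h1
  exact key _ (g.asFiberHom_fiberι y).symm

variable [LocallyOfFinitePresentation g] [LocallyOfFinitePresentation (f ≫ g)] [Flat (f ≫ g)]

theorem flat_stalkMap_of_snd (h : ∀ s : S, Flat (pullback.snd f (g.fiberι s))) (x : X) :
    (f.stalkMap x).hom.Flat ∧ (g.stalkMap (f x)).hom.Flat := by
  haveI : Flat (MoreMor.fiberMap f g ((f ≫ g) x)) := fiberMap_of_snd f g _ (h _)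
  have h1 := flat_stalkMap_of_fiberMap f g ((f ≫ g) x) ((f ≫ g).asFiber x) (Flat.stalkMap _ _)
  rwa [Scheme.Hom.fiberι_asFiber] at h1

theorem smooth_of_snd (h : ∀ s : S, Smooth (pullback.snd f (g.fiberι s))) : Smooth f := by
  haveI : LocallyOfFinitePresentation f := H12AlgSp.lfp_of_comp f g
  have hflat := fun s => (haveI := h s; inferInstance : Flat (pullback.snd f (g.fiberι s)))
  refine Scheme.Hom.smoothLocus_eq_top_iff.mp (top_unique fun x _ => ?_)
  haveI : Smooth (f.fiberToSpecResidueField (f x)) := fiberToSpec_of_snd f g h _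
  refine H17.LocusBC.mem_smoothLocus_of_flat_of_fiber f x (flat_stalkMap_of_snd f g hflat x).1 ?_
  rw [(f.fiberToSpecResidueField (f x)).smoothLocus_eq_top]
  trivial

theorem etale_of_snd (h : ∀ s : S, Etale (pullback.snd f (g.fiberι s))) : Etale f := by
  refine (H06Unram.etale_iff_smooth_and_locallyQuasiFinite f).mpr
    ⟨smooth_of_snd f g fun s => ?_, LocallyQuasiFinite.of_fiberToSpecResidueField _ fun y => ?_⟩
  · haveI := h s; infer_instance
  · exact ((H06Unram.etale_iff_smooth_and_locallyQuasiFinite _).mp
      (fiberToSpec_of_snd f g h y)).2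

theorem universallyInjective_of_mono (hm : ∀ y : Y, Mono (f.fiberToSpecResidueField y)) :
    UniversallyInjective f := by
  refine ((tfae_universallyInjective f).out 0 1).mpr ?_
  intro K inst g₁ g₂ e
  dsimp only at e
  obtain ⟨y, q, hq⟩ : ∃ (y : Y) (q : Spec (.of K) ⟶ Spec (Y.residueField y)),
      q ≫ Y.fromSpecResidueField y = g₁ ≫ f :=
    ⟨_, _, Scheme.descResidueField_stalkClosedPointTo_fromSpecResidueField K Y (g₁ ≫ f)⟩
  have l : pullback.lift g₁ q hq.symm = pullback.lift g₂ q (hq.trans e).symm :=
    (hm y).right_cancellation (Z := Spec (.of K)) _ _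
      ((pullback.lift_snd _ _ _).trans (pullback.lift_snd _ _ _).symm)
  calc g₁ = pullback.lift g₁ q hq.symm ≫ pullback.fst _ _ := (pullback.lift_fst _ _ _).symm
    _ = pullback.lift g₂ q (hq.trans e).symm ≫ pullback.fst _ _ := by rw [l]
    _ = g₂ := pullback.lift_fst _ _ _

theorem isOpenImmersion_of_snd (h : ∀ s : S, IsOpenImmersion (pullback.snd f (g.fiberι s))) :
    IsOpenImmersion f := by
  haveI : Etale f := etale_of_snd f g fun s => by haveI := h s; infer_instance
  haveI : UniversallyInjective f := universallyInjective_of_mono f fun y => by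
    haveI : IsOpenImmersion (f.fiberToSpecResidueField y) := fiberToSpec_of_snd f g h y
    infer_instance
  exact H18Et.TopInv.isOpenImmersion_of_etale_of_universallyInjective f

omit [LocallyOfFinitePresentation g] [LocallyOfFinitePresentation (f ≫ g)] [Flat (f ≫ g)] in
theorem surjective_of_snd (h : ∀ s : S, Surjective (pullback.snd f (g.fiberι s))) : Surjective f := by
  refine ⟨fun y => ?_⟩
  haveI := h (g y)
  obtain ⟨w, hw⟩ := (pullback.snd f (g.fiberι (g y))).surjective (g.asFiber y)
  refine ⟨pullback.fst f (g.fiberι (g y)) w, ?_⟩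
  rw [← Scheme.Hom.comp_apply, pullback.condition, Scheme.Hom.comp_apply, hw, g.fiberι_asFiber]

theorem isIso_of_snd (h : ∀ s : S, IsIso (pullback.snd f (g.fiberι s))) : IsIso f :=
  (isIso_iff_isOpenImmersion_and_surjective f).mpr
    ⟨isOpenImmersion_of_snd f g fun s => by haveI := h s; infer_instance,
     surjective_of_snd f g fun s => by haveI := h s; infer_instance⟩

end Groth.Agent.H8Props.FibreCriterion
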