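import Groth.Agent.H8Props.FieldDimScheme
import Mathlib.AlgebraicGeometry.Fiber

/-!
# Dimensions of fibres of morphisms locally of finite type
-/

set_option autoImplicit false
set_option linter.style.haveILetI false
universe u

open AlgebraicGeometry CategoryTheory CategoryTheory.Limits TopologicalSpace Topology

namespace Groth.Agent.H8Props.FieldDim

variable {X Y : Scheme.{u}} (f : X ⟶ Y)

/-- `fibreDimAt` computed in the fibre over any point equal to the image. -/
theorem fibreDimAt_eq_localDim {y : Y} (u : f.fiber y) :
    FlatMor.fibreDimAt f (f.fiberι y u) = FlatMor.localDim (f.fiber y) u := by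
  have hy : f (f.fiberι y u) = y :=
    (f.range_fiberι y).subset (Set.mem_range_self u)
  generalize hx : f.fiberι y u = x at hy
  subst hy
  have : u = f.asFiber x :=
    (f.fiberι _).isEmbedding.injective (hx.trans (f.fiberι_asFiber x).symm)
  rw [this]
  rfl

set_option backward.isDefEq.respectTransparency.types false in
theorem locallyOfFiniteType_fiberToSpec [LocallyOfFiniteType f] (y : Y) :
    LocallyOfFiniteType (f.fiberToSpecResidueField y) :=
  MorphismProperty.pullback_snd _ _ inferInstance

theorem mem_irreducibleComponents_iff {Z : Scheme.{u}} {T : Set Z} (hT : T ∈ irreducibleComponents Z) :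
    ∃ η : Z, T = closure {η} ∧ ∀ ζ, ζ ⤳ η → ζ = η := by
  have hc := isClosed_of_mem_irreducibleComponents T hT
  have hg := hT.1.closure_genericPoint hc
  refine ⟨hT.1.genericPoint, hg.symm, fun ζ hζ => ?_⟩
  have hsub : T ⊆ closure {ζ} := by
    rw [← hg]
    exact closure_minimal (Set.singleton_subset_iff.mpr hζ.mem_closure) isClosed_closure
  have heq : closure {ζ} = T := hT.eq_of_ge isIrreducible_singleton.closure hsub
  exact (show IsGenericPoint ζ T from heq).eq (hT.1.isGenericPoint_genericPoint hc)

theorem exists_component_generization {Z : Scheme.{u}} (z : Z) :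
    ∃ η : Z, η ⤳ z ∧ closure ({η} : Set Z) ∈ irreducibleComponents Z := by
  have hT := irreducibleComponent_mem_irreducibleComponents z
  obtain ⟨η, hη, -⟩ := mem_irreducibleComponents_iff hT
  exact ⟨η, specializes_iff_mem_closure.mpr (hη ▸ mem_irreducibleComponent), hη ▸ hT⟩

variable {X' Y' : Scheme.{u}} {g : Y' ⟶ Y} {g' : X' ⟶ X} {f' : X' ⟶ Y'}

/-- Dimension of fibres commutes with base change. -/
theorem dim_fiber_baseChange [LocallyOfFiniteType f] (hc : IsPullback g' f' f g) (y' : Y') :
    topologicalKrullDim (f'.fiber y') = topologicalKrullDim (f.fiber (g y')) := by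
  haveI := locallyOfFiniteType_fiberToSpec f (g y')
  letI := (g.residueFieldMap y').hom.toAlgebra
  exact dim_baseChange (k := Y.residueField (g y')) (f.fiberToSpecResidueField (g y'))
    (K := Y'.residueField y') _ _ (isPullback_fiberToSpecResidueField_of_isPullback hc y')

theorem fibreDimAt_baseChange [LocallyOfFiniteType f] (hc : IsPullback g' f' f g) (x' : X') :
    FlatMor.fibreDimAt f' x' = FlatMor.fibreDimAt f (g' x') := by
  haveI := locallyOfFiniteType_fiberToSpec f (g (f' x'))
  letI := (g.residueFieldMap (f' x')).hom.toAlgebra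
  have h := localDim_baseChange (k := Y.residueField (g (f' x'))) (f.fiberToSpecResidueField (g (f' x')))
    (K := Y'.residueField (f' x')) _ _ (isPullback_fiberToSpecResidueField_of_isPullback hc (f' x'))
    (f'.asFiber x')
  rw [← fibreDimAt_eq_localDim f] at h
  refine h.trans (congrArg _ ?_)
  erw [← Scheme.Hom.comp_apply, pullback.lift_fst]
  exact congrArg g' (f'.fiberι_asFiber x')

/-- Pure relative dimension is stable under base change. -/
theorem irreducibleComponents_dim_baseChange [LocallyOfFiniteType f] (hc : IsPullback g' f' f g)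
    (y' : Y') (d : WithBot ℕ∞)
    (h : ∀ T ∈ irreducibleComponents (f.fiber (g y')), topologicalKrullDim T = d)
    (T : Set (f'.fiber y')) (hT : T ∈ irreducibleComponents (f'.fiber y')) :
    topologicalKrullDim T = d := by
  haveI := locallyOfFiniteType_fiberToSpec f (g y')
  letI := (g.residueFieldMap y').hom.toAlgebra
  have hb := baseChange_point (k := Y.residueField (g y')) (f.fiberToSpecResidueField (g y'))
    (K := Y'.residueField y') _ _ (isPullback_fiberToSpecResidueField_of_isPullback hc y')
  obtain ⟨η', rfl, hmax⟩ := mem_irreducibleComponents_iff hT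
  obtain ⟨ξ, hξ, hξT⟩ := exists_component_generization
    (pullback.map _ _ _ _ g' (Spec.map (g.residueFieldMap y')) g hc.w.symm
      (Scheme.Hom.SpecMap_residueFieldMap_fromSpecResidueField g y').symm η')
  obtain ⟨η'', h1, -, h3⟩ := (hb η').2 ξ hξ
  rw [hmax η'' h1] at h3
  exact h3.trans (h _ hξT)

end Groth.Agent.H8Props.FieldDim

namespace Groth.Agent.H8Props.FieldDim

variable {X Y : Scheme.{u}} (f : X ⟶ Y)

/-- The dimension of the closure of a point in its fibre is the transcendence degree of its residue
field over that of its image. -/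
theorem exists_trdeg_fiber [LocallyOfFiniteType f] {y : Y} (u : f.fiber y) :
    ∃ s : ℕ, cdim u = s ∧
      @Algebra.trdeg (Y.residueField (f.base (f.fiberι y u))) (X.residueField (f.fiberι y u)) _ _
        (f.residueFieldMap (f.fiberι y u)).hom.toAlgebra = s := by
  have hy : f (f.fiberι y u) = y :=
    (f.range_fiberι y).subset (Set.mem_range_self u)
  generalize hx : f.fiberι y u = x at hy ⊢
  subst hy
  have hu : u = f.asFiber x :=
    (f.fiberι _).isEmbedding.injective (hx.trans (f.fiberι_asFiber x).symm)
  haveI := locallyOfFiniteType_fiberToSpec f (f x)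
  letI := (f.residueFieldMap x).hom.toAlgebra
  obtain ⟨s, hs, hs'⟩ := exists_trdeg (k := Y.residueField (f x)) (f.fiberToSpecResidueField (f x))
    (L := X.residueField x) (f.asFiberHom x) (f.asFiberHom_fiberToSpecResidueField x)
    (IsLocalRing.closedPoint _)
  refine ⟨s, ?_, hs'⟩
  rw [hu, ← hs]
  erw [f.asFiberHom_apply]

end Groth.Agent.H8Props.FieldDim
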