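import Mathlib.AlgebraicGeometry.Noetherian
import Mathlib.AlgebraicGeometry.Morphisms.UniversallyOpen
import Mathlib.Topology.Sober

set_option autoImplicit false
universe u

open AlgebraicGeometry CategoryTheory Topology TopologicalSpace

namespace Groth.Agent.H8Props

variable {X : Scheme.{u}}

theorem mem_genericPoints_iff {x : X} :
    x ∈ genericPoints X ↔ ∀ y : X, y ⤳ x → y = x := by
  refine ⟨fun h y hy ↦ ?_, fun h ↦ ?_⟩
  · have h1 : closure {x} ⊆ closure {y} :=
      closure_minimal (Set.singleton_subset_iff.mpr hy.mem_closure) isClosed_closure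
    have h2 := h.2 (isIrreducible_singleton.closure) h1
    exact ((specializes_iff_closure_subset.mpr h1).antisymm
      (specializes_iff_closure_subset.mpr h2)).eq
  · obtain ⟨Z, hZ, hxZ⟩ : ∃ Z ∈ irreducibleComponents X, x ∈ Z :=
      ⟨_, irreducibleComponent_mem_irreducibleComponents x, mem_irreducibleComponent⟩
    obtain ⟨η, hη⟩ := QuasiSober.sober hZ.1 (isClosed_of_mem_irreducibleComponents Z hZ)
    obtain rfl := h η (hη.specializes hxZ)
    show closure {η} ∈ irreducibleComponents X
    rwa [hη.def]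

theorem exists_genericPoints_specializes (x : X) : ∃ η ∈ genericPoints X, η ⤳ x := by
  obtain ⟨Z, hZ, hxZ⟩ : ∃ Z ∈ irreducibleComponents X, x ∈ Z :=
    ⟨_, irreducibleComponent_mem_irreducibleComponents x, mem_irreducibleComponent⟩
  obtain ⟨η, hη⟩ := QuasiSober.sober hZ.1 (isClosed_of_mem_irreducibleComponents Z hZ)
  exact ⟨η, show closure {η} ∈ irreducibleComponents X by rwa [hη.def], hη.specializes hxZ⟩

theorem flat_map_genericPoints {Y : Scheme.{u}} (f : X ⟶ Y) [Flat f] {η : X}
    (hη : η ∈ genericPoints X) : f η ∈ genericPoints Y := by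
  rw [mem_genericPoints_iff] at hη ⊢
  intro y hy
  obtain ⟨x, hx, rfl⟩ := Flat.generalizingMap f hy
  rw [hη x hx]

theorem exists_open_nhd_subset_closure [IsLocallyNoetherian X] {η : X}
    (hη : η ∈ genericPoints X) :
    ∃ O : Set X, IsOpen O ∧ η ∈ O ∧ O ⊆ closure {η} := by
  obtain ⟨V, hV, hηV, -⟩ : ∃ V : X.Opens, IsAffineOpen V ∧ η ∈ V ∧ V ≤ ⊤ :=
    Opens.isBasis_iff_nbhd.mp X.isBasis_affineOpens (U := ⊤) trivial
  have : IsNoetherianRing Γ(X, V) := IsLocallyNoetherian.component_noetherian ⟨V, hV⟩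
  have : NoetherianSpace ((V : Set X) : Type u) := noetherianSpace_of_isAffineOpen V hV
  have hfin : (irreducibleComponents ((V : Set X) : Type u)).Finite :=
    NoetherianSpace.finite_irreducibleComponents
  -- components of `X` meeting `V`
  let G : Set X := {γ | γ ∈ genericPoints X ∧ γ ∈ V}
  have hG : G.Finite := by
    have hsub : G ⊆ Subtype.val '' (genericPoints ((V : Set X) : Type u)) := by
      rintro γ ⟨hγ, hγV⟩
      refine ⟨⟨γ, hγV⟩, ⟨isIrreducible_singleton.closure, fun W hW hle ↦ ?_⟩, rfl⟩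
      have h1 : closure {γ} ⊆ closure (Subtype.val '' W) := by
        refine closure_mono (Set.singleton_subset_iff.mpr ?_)
        exact ⟨⟨γ, hγV⟩, hle (subset_closure rfl), rfl⟩
      have h2 := hγ.2 (hW.image _ continuous_subtype_val.continuousOn).closure h1
      intro w hw
      rw [IsEmbedding.subtypeVal.closure_eq_preimage_closure_image, Set.image_singleton]
      exact h2 (subset_closure ⟨w, hw, rfl⟩)
    exact ((genericPoints.finite hfin).image _).subset hsub
  refine ⟨(V : Set X) \ ⋃ γ ∈ G \ {η}, closure {γ},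
    V.2.sdiff (hG.sdiff.isClosed_biUnion fun _ _ ↦ isClosed_closure), ⟨hηV, ?_⟩, ?_⟩
  · simp only [Set.mem_iUnion, not_exists]
    rintro γ ⟨hγ, hne⟩ hηγ
    exact hne ((mem_genericPoints_iff.mp hη) γ (specializes_iff_mem_closure.mpr hηγ))
  · rintro x ⟨hxV, hx⟩
    obtain ⟨γ, hγ, hγx⟩ := exists_genericPoints_specializes x
    by_cases hne : γ = η
    · exact hne ▸ hγx.mem_closure
    · exact absurd (Set.mem_biUnion (show γ ∈ G \ {η} from ⟨⟨hγ, hγx.mem_open V.2 hxV⟩, hne⟩)
        hγx.mem_closure) hx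

theorem genericPoints_subset_of_dense [IsLocallyNoetherian X] {U : Set X} (hU : IsOpen U)
    (hd : Dense U) : genericPoints X ⊆ U := by
  intro η hη
  obtain ⟨O, hO, hηO, hsub⟩ := exists_open_nhd_subset_closure hη
  obtain ⟨p, hpO, hpU⟩ := hd.inter_open_nonempty O hO ⟨η, hηO⟩
  exact (specializes_iff_mem_closure.mpr (hsub hpO)).mem_open hU hpU

end Groth.Agent.H8Props
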