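import Groth.Agent.H29Ref.DualStalk
import Groth.Agent.H29Blow.IdealMod
import Groth.Agent.H11Ample.Basic
import Groth.Agent.H11Tilde.TwistInv

/-!
# The invertible module with a section attached to an effective Cartier divisor
-/

set_option autoImplicit false
set_option linter.style.haveILetI false

noncomputable section

universe u

open CategoryTheory CategoryTheory.Limits AlgebraicGeometry Opposite TopologicalSpace
open Groth.Agent.H11Tilde Groth.Agent.H11Ample

namespace Groth.Agent.H8Props.DivisorSection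

open Groth.Agent

variable {X : Scheme.{u}} {F : X.Modules}

/-- Germs of a restricted generator span. -/
theorem span_germ_gen {U : X.Opens} {e : Γ(F, U)} (he : IsGen F e) (y : X) (hy : y ∈ U) :
    Submodule.span (X.presheaf.stalk y)
      (Set.range fun _ : Unit => F.presheaf.germ U y hy e) = ⊤ := by
  refine eq_top_iff.2 fun v _ => ?_
  obtain ⟨r, rfl⟩ := (he y hy).2 v
  exact Submodule.smul_mem _ r (Submodule.subset_span ⟨(), rfl⟩)

/-- The section of the dual taking a generator to one. -/
theorem exists_dual_gen {U : X.Opens} {e : Γ(F, U)} (he : IsGen F e) :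
    ∃ s : Γ(RefHull.dual F, U), (∀ y : U, s.1 y (F.presheaf.germ U y.1 y.2 e) = H29Ref.oneStalk y.1) ∧
      IsGen (RefHull.dual F) s := by
  let E : ∀ y : U, X.presheaf.stalk y.1 ≃ₗ[X.presheaf.stalk y.1] F.presheaf.stalk y.1 := fun y =>
    LinearEquiv.ofBijective (LinearMap.toSpanSingleton _ _ (F.presheaf.germ U y.1 y.2 e)) (he y.1 y.2)
  let θ : ∀ y : U, RefHull.StalkHom F (Coh.structureModule X) y.1 := fun y =>
    (H29Ref.unitEquiv y.1).toLinearMap.comp (E y).symm.toLinearMap
  have hθ : ∀ y : U, θ y (F.presheaf.germ U y.1 y.2 e) = H29Ref.oneStalk y.1 := fun y => by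
    have h1 : (E y).symm (F.presheaf.germ U y.1 y.2 e) = 1 := by
      rw [LinearEquiv.symm_apply_eq]
      exact (one_smul (X.presheaf.stalk y.1) (F.presheaf.germ U y.1 y.2 e)).symm
    show H29Ref.unitEquiv y.1 ((E y).symm _) = _
    rw [h1]
    exact one_smul (X.presheaf.stalk y.1) (H29Ref.oneStalk y.1)
  have hloc : RefHull.IsLocSect F (Coh.structureModule X) θ :=
    H29Ref.isLocSect_of_generators le_rfl (fun _ : Unit => e) (span_germ_gen he) θ
      (fun _ => ((1 : Γ(X, U)) : Γ(Coh.structureModule X, U))) fun _ y =>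
        (hθ y).trans (H29Ref.germ_one y.1 y.2).symm
  let s : Γ(RefHull.dual F, U) := ⟨θ, hloc⟩
  refine ⟨s, hθ, isGen_of_bijective fun V hV => ?_⟩
  let eV : Γ(F, V) := F.presheaf.map (homOfLE hV).op e
  have hev : ∀ (r : Γ(X, V)) (y : V),
      (r • (RefHull.dual F).presheaf.map (homOfLE hV).op s : Γ(RefHull.dual F, V)).1 y
        (F.presheaf.germ U y.1 (hV y.2) e) = X.presheaf.germ V y.1 y.2 r • H29Ref.oneStalk y.1 :=
    fun r y => by
      show X.presheaf.germ V y.1 y.2 r • (θ ⟨y.1, hV y.2⟩ (F.presheaf.germ U y.1 (hV y.2) e)) = _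
      rw [hθ]
  refine ⟨fun r r' h => ?_, fun f => ?_⟩
  · refine TopCat.Presheaf.section_ext X.sheaf V _ _ fun y hy => (H29Ref.bijective_smul_oneStalk y).1 ?_
    have := congrArg (fun g : Γ(RefHull.dual F, V) => g.1 ⟨y, hy⟩ (F.presheaf.germ U y (hV hy) e)) h
    simp only at this
    exact (hev r ⟨y, hy⟩).symm.trans (this.trans (hev r' ⟨y, hy⟩))
  · refine ⟨(H29Ref.toLin f eV : Γ(Coh.structureModule X, V)), ?_⟩
    refine H29Ref.homSh_ext hV (fun _ : Unit => e)
      (fun y hy => span_germ_gen he y (hV hy)) fun _ y => ?_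
    refine (hev _ y).trans ((H29Ref.germ_unit_eq_smul y.1 y.2 _).symm.trans ?_)
    refine (H29Ref.germ_toLin f eV y).trans ?_
    rw [TopCat.Presheaf.germ_res_apply]

/-- The dual of an invertible module is invertible. -/
theorem isInvertible_dual (hF : PicF.IsInvertible F) : PicF.IsInvertible (RefHull.dual F) :=
  isInvertible_of_gen fun x => by
    obtain ⟨U, e, hx, he⟩ := exists_gen hF x
    obtain ⟨s, -, hs⟩ := exists_dual_gen he
    exact ⟨U, s, hx, hs⟩

/-- The coefficient of a form with respect to the dual generator is its value. -/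
theorem ofHom_eq_smul {U : X.Opens} {e : Γ(F, U)} (he : IsGen F e) (s : Γ(RefHull.dual F, U))
    (hs : ∀ y : U, s.1 y (F.presheaf.germ U y.1 y.2 e) = H29Ref.oneStalk y.1)
    (φ : F ⟶ Coh.structureModule X) :
    RefHull.ofHom φ U = (show Γ(X, U) from φ.app U e) • s := by
  refine H29Ref.homSh_ext le_rfl (fun _ : Unit => e) (span_germ_gen he) fun _ y => ?_
  refine (RefHull.stalkMapₗ_germ φ y.1 y.2 e).trans ?_
  rw [H29Ref.germ_unit_eq_smul]
  show _ = X.presheaf.germ U y.1 y.2 (show Γ(X, U) from φ.app U e) • (s.1 y (F.presheaf.germ U y.1 y.2 e))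
  rw [hs]

/-- An effective Cartier divisor gives an invertible module with a section whose locus of
generation is the complement. -/
theorem exists_invertible_section {I : X.IdealSheafData} (hI : BlowUp.IsEffCartierIdeal I) :
    ∃ (M : X.Modules) (t : Γ(M, ⊤)), PicF.IsInvertible M ∧
      gen M t = I.support.compl := by
  have hF : PicF.IsInvertible (ClSub.idealMod I) := H29Blow.isInvertible_of_isEffCartierIdeal I hI
  refine ⟨RefHull.dual (ClSub.idealMod I), RefHull.ofHom (ClSub.idealModι I) ⊤,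
    isInvertible_dual hF, ?_⟩
  ext x
  obtain ⟨V, e₀, hxV, he₀⟩ := exists_gen hF x
  obtain ⟨U, hU, hxU, hUV⟩ := exists_isAffineOpen_mem_and_subset (U := V) hxV
  let e : Γ(ClSub.idealMod I, U) := (ClSub.idealMod I).presheaf.map (homOfLE hUV).op e₀
  have he : IsGen (ClSub.idealMod I) e := he₀.res hUV
  obtain ⟨s, hs, hsgen⟩ := exists_dual_gen he
  let a : Γ(X, U) := OmegaSh.idealSect I U e
  have hres : (RefHull.dual (ClSub.idealMod I)).presheaf.map (homOfLE (le_top : U ≤ ⊤)).op
      (RefHull.ofHom (ClSub.idealModι I) ⊤) = a • s := by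
    refine Eq.trans ?_ (ofHom_eq_smul he s hs (ClSub.idealModι I))
    rfl
  have hideal : I.ideal ⟨U, hU⟩ = Ideal.span {a} := by
    refine le_antisymm (fun b hb => ?_) ?_
    · obtain ⟨m, rfl⟩ := (H29Blow.mem_ideal_iff_exists_idealSect I hU b).1 hb
      obtain ⟨r, rfl⟩ := exists_coeff he m
      rw [H29Blow.idealSect_smul]
      exact Ideal.mul_mem_left _ r (Ideal.mem_span_singleton_self _)
    · rw [Ideal.span_le, Set.singleton_subset_iff]
      exact (H29Blow.mem_ideal_iff_exists_idealSect I hU _).2 ⟨e, rfl⟩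
  have hsupp := I.coe_support_inter ⟨U, hU⟩
  rw [hideal] at hsupp
  have hg := gen_inf_eq_basicOpen hsgen _ a hres
  constructor
  · intro hx hxs
    have h1 : x ∈ X.basicOpen a := hg.le ⟨hx, hxU⟩
    have h2 := hsupp.le ⟨hxs, hxU⟩
    rw [Scheme.zeroLocus_span, Scheme.zeroLocus_singleton] at h2
    exact h2.1 h1
  · intro hx
    refine (hg.ge ?_).1
    by_contra h1
    refine hx (hsupp.ge ⟨?_, hxU⟩).1
    rw [Scheme.zeroLocus_span, Scheme.zeroLocus_singleton]
    exact h1

end Groth.Agent.H8Props.DivisorSection
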