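import Groth.Prelude.Def_MoreMor
import Groth.Agent.H8Props.FlatDepth
import Groth.Agent.H8Props.FibreStalk
import Groth.Agent.H7Flat.FibreCriterion

/-!
# Cohen–Macaulay morphisms at a point
-/

set_option autoImplicit false

universe u

open AlgebraicGeometry CategoryTheory IsLocalRing LocCoh

namespace Groth.Agent.H8Props.CMAt

theorem isCohenMacaulayLocalRing_of_ringEquiv {R S : Type u} [CommRing R] [CommRing S] (e : R ≃+* S)
    [h : IsCohenMacaulayLocalRing R] : IsCohenMacaulayLocalRing S := by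
  have := isNoetherianRing_of_ringEquiv R e
  have : Nontrivial S := e.symm.toEquiv.nontrivial
  have : IsLocalRing S := .of_surjective' e.toRingHom e.surjective
  rw [FlatDepth.isCM_iff_dim] at h ⊢
  let := e.toRingHom.toAlgebra
  rw [← ringKrullDim_eq_of_ringEquiv e, h, FlatDepth.depth_eq_of_surjective (R := R) e.surjective]
  congr 1
  exact_mod_cast H4Depth.depth_congr (LinearEquiv.ofBijective (Algebra.linearMap R S) e.bijective)

theorem isNoetherianRing_of_CM {R : Type u} [CommRing R] (h : IsCohenMacaulayLocalRing R) :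
    IsNoetherianRing R := inferInstance

variable {A B C : Type u} [CommRing A] [CommRing B] [CommRing C]

/-- Transitivity of "flat with Cohen–Macaulay closed fibre" for local homomorphisms. -/
theorem fibre_CM_iff [IsLocalRing A] [IsLocalRing B] [IsLocalRing C] (φ : A →+* B) (ψ : B →+* C)
    [IsLocalHom φ] [IsLocalHom ψ] (hψ : ψ.Flat)
    (hB : IsNoetherianRing (B ⧸ (maximalIdeal A).map φ))
    (hC : IsNoetherianRing (C ⧸ (maximalIdeal A).map (ψ.comp φ))) :
    IsCohenMacaulayLocalRing (C ⧸ (maximalIdeal A).map (ψ.comp φ)) ↔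
      IsCohenMacaulayLocalRing (B ⧸ (maximalIdeal A).map φ) ∧
        IsCohenMacaulayLocalRing (C ⧸ (maximalIdeal B).map ψ) := by
  algebraize [ψ]
  set I := (maximalIdeal A).map φ with hI
  have hIle : I ≤ maximalIdeal B := map_maximalIdeal_le φ
  have hIC : I.map (algebraMap B C) = (maximalIdeal A).map (ψ.comp φ) := Ideal.map_map φ ψ
  have hC' : IsNoetherianRing (C ⧸ I.map (algebraMap B C)) := hIC ▸ hC
  have : Nontrivial (B ⧸ I) := Ideal.Quotient.nontrivial_iff.mpr
    (ne_top_of_le_ne_top (maximalIdeal.isMaximal B).ne_top hIle)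
  have : IsLocalHom (algebraMap B C) := ‹IsLocalHom ψ›
  have hIm : I.map (algebraMap B C) ≤ maximalIdeal C :=
    (Ideal.map_mono hIle).trans (map_maximalIdeal_le _)
  have : Nontrivial (C ⧸ I.map (algebraMap B C)) := Ideal.Quotient.nontrivial_iff.mpr
    (ne_top_of_le_ne_top (maximalIdeal.isMaximal C).ne_top hIm)
  have : IsLocalRing (B ⧸ I) := .of_surjective' _ Ideal.Quotient.mk_surjective
  have : IsLocalRing (C ⧸ I.map (algebraMap B C)) := .of_surjective' _ Ideal.Quotient.mk_surjective
  have := FlatDepth.flat_base_quotient (B := C) I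
  have := FlatDepth.isLocalHom_quotient (B := C) I
  have key := FlatDepth.isCohenMacaulayLocalRing_iff (B ⧸ I) (C ⧸ I.map (algebraMap B C))
  have hmax := FlatDepth.map_maximalIdeal_quotient (B := C) I
  let e : ((C ⧸ I.map (algebraMap B C)) ⧸
      (maximalIdeal (B ⧸ I)).map (algebraMap (B ⧸ I) (C ⧸ I.map (algebraMap B C)))) ≃+*
      C ⧸ (maximalIdeal B).map ψ :=
    (Ideal.quotEquivOfEq hmax).trans ((DoubleQuot.quotQuotEquivQuotSup _ _).trans
      (Ideal.quotEquivOfEq (sup_eq_right.mpr (Ideal.map_mono hIle))))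
  rw [← hIC]
  refine key.trans (and_congr_right fun _ => ⟨fun h => ?_, fun h => ?_⟩)
  · exact isCohenMacaulayLocalRing_of_ringEquiv e
  · exact isCohenMacaulayLocalRing_of_ringEquiv e.symm

variable {X Y : Scheme.{u}}

theorem isCMAt_iff (f : X ⟶ Y) (x : X) :
    MoreMor.IsCMAt f x ↔ (f.stalkMap x).hom.Flat ∧
      IsCohenMacaulayLocalRing
        (X.presheaf.stalk x ⧸ (maximalIdeal (Y.presheaf.stalk (f x))).map (f.stalkMap x).hom) :=
  and_congr_right fun _ =>
    ⟨fun _ => isCohenMacaulayLocalRing_of_ringEquiv (FibreStalk.asFiberStalkEquiv f x).symm,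
      fun _ => isCohenMacaulayLocalRing_of_ringEquiv (FibreStalk.asFiberStalkEquiv f x)⟩

theorem isNoetherianRing_fibre (f : X ⟶ Y) (x : X) (h : IsLocallyNoetherian (f.fiber (f x))) :
    IsNoetherianRing
      (X.presheaf.stalk x ⧸ (maximalIdeal (Y.presheaf.stalk (f x))).map (f.stalkMap x).hom) :=
  have : IsNoetherianRing ((f.fiber (f x)).presheaf.stalk (f.asFiber x)) := inferInstance
  isNoetherianRing_of_ringEquiv _ (FibreStalk.asFiberStalkEquiv f x).symm

end Groth.Agent.H8Props.CMAt
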