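import Mathlib.AlgebraicGeometry.AffineScheme
import Mathlib.RingTheory.Localization.LocalizationLocalization
import Groth.Agent.H05EGA4.Points
import Groth.Agent.H8Props.CMAt

/-!
# Stalks at generizations; localizations of Cohen–Macaulay local rings
-/

set_option autoImplicit false

universe u

open AlgebraicGeometry LocCoh

namespace Groth.Agent.H8Props.StalkLocal

theorem exists_prime_ringEquiv_of_specializes {X : Scheme.{u}} {x z : X} (h : x ⤳ z) :
    ∃ (p : Ideal (X.presheaf.stalk z)) (_ : p.IsPrime),
      Nonempty (Localization.AtPrime p ≃+* X.presheaf.stalk x) := by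
  obtain ⟨_, ⟨U, hU, rfl⟩, hzU, -⟩ :=
    X.isBasis_affineOpens.exists_subset_of_mem_open (Set.mem_univ z) isOpen_univ
  have hxU : x ∈ U := h.mem_open U.2 hzU
  letI := X.presheaf.algebra_section_stalk ⟨z, hzU⟩
  letI := X.presheaf.algebra_section_stalk ⟨x, hxU⟩
  set P := (hU.primeIdealOf ⟨z, hzU⟩).asIdeal
  set Q := (hU.primeIdealOf ⟨x, hxU⟩).asIdeal
  have : IsLocalization.AtPrime (X.presheaf.stalk z) P := hU.isLocalization_stalk ⟨z, hzU⟩
  have : IsLocalization.AtPrime (X.presheaf.stalk x) Q := hU.isLocalization_stalk ⟨x, hxU⟩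
  have hle : Q ≤ P := by
    have := hU.isOpenImmersion_fromSpec
    refine (PrimeSpectrum.le_iff_specializes _ _).mpr (hU.fromSpec.isOpenEmbedding.isEmbedding
      |>.specializes_iff.mp ?_)
    rw [hU.fromSpec_primeIdealOf, hU.fromSpec_primeIdealOf]
    exact h
  have hdisj : Disjoint (P.primeCompl : Set Γ(X, U)) Q :=
    Set.disjoint_left.mpr fun a ha hq => ha (hle hq)
  set p := Q.map (algebraMap Γ(X, U) (X.presheaf.stalk z))
  have hp : p.IsPrime :=
    IsLocalization.isPrime_of_isPrime_disjoint P.primeCompl _ Q inferInstance hdisj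
  have hcomap : p.comap (algebraMap Γ(X, U) (X.presheaf.stalk z)) = Q :=
    IsLocalization.comap_map_of_isPrime_disjoint P.primeCompl _ inferInstance hdisj
  have h2 := IsLocalization.isLocalization_isLocalization_atPrime_isLocalization
    (T := Localization.AtPrime p) P.primeCompl p
  have h3 : IsLocalization.AtPrime (Localization.AtPrime p) Q := by
    convert h2 using 3
    exact hcomap.symm
  exact ⟨p, hp, ⟨(IsLocalization.algEquiv Q.primeCompl (Localization.AtPrime p)
    (X.presheaf.stalk x)).toRingEquiv⟩⟩

theorem exists_closed_specializes (X : Scheme.{u}) [IsLocallyNoetherian X] (x : X) :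
    ∃ z : X, x ⤳ z ∧ IsClosed ({z} : Set X) := by
  obtain ⟨z, hz, hzc⟩ := H05EGA4.exists_closedPoint X (closure {x}) isClosed_closure
    ⟨x, subset_closure rfl⟩
  exact ⟨z, specializes_iff_mem_closure.mpr hz, hzc⟩

theorem isCohenMacaulayLocalRing_localization (R : Type u) [CommRing R]
    [h : IsCohenMacaulayLocalRing R] (p : Ideal R) [p.IsPrime] :
    IsCohenMacaulayLocalRing (Localization.AtPrime p) := by
  obtain ⟨hcm, -, -⟩ := H4Depth.IsCM.localization (M := R) h.supportDim_eq_depth p (by
    rw [Module.mem_support_iff']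
    exact ⟨1, fun r hr h0 => hr (by simp [show r = 0 by simpa using h0])⟩)
  let e : LocalizedModule p.primeCompl R ≃ₗ[Localization.AtPrime p] Localization.AtPrime p :=
    (IsLocalizedModule.iso p.primeCompl (Algebra.linearMap R (Localization.AtPrime p))
      ).extendScalarsOfIsLocalization p.primeCompl (Localization.AtPrime p)
  refine { supportDim_eq_depth := ?_ }
  rw [← Module.supportDim_eq_of_equiv e, ← H4Depth.depth_congr e]
  exact hcm

end Groth.Agent.H8Props.StalkLocal
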