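import Groth.Agent.H8Props.FieldDimFormula
import Mathlib.AlgebraicGeometry.Morphisms.Flat
import Mathlib.AlgebraicGeometry.Morphisms.FiniteType

/-!
# Equidimensionality along flat morphisms of schemes over a field
-/

set_option autoImplicit false
set_option linter.style.haveILetI false
universe u

open AlgebraicGeometry CategoryTheory CategoryTheory.Limits TopologicalSpace Topology

namespace Groth.Agent.H8Props.FieldDim

variable {k : Type u} [Field k]

theorem localDim_eq_dim_of_irreducible {Y : Scheme.{u}} (q : Y ⟶ Spec (CommRingCat.of k))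
    [LocallyOfFiniteType q] [IrreducibleSpace Y] (y : Y) :
    FlatMor.localDim Y y = topologicalKrullDim Y := by
  refine localDim_eq_of_pure q y _ fun T hT => ?_
  rw [irreducibleComponents_eq_singleton] at hT
  rw [hT]
  exact IsHomeomorph.topologicalKrullDim_eq _ (Homeomorph.Set.univ Y).isHomeomorph

theorem exists_nat_localDim {Y : Scheme.{u}} (q : Y ⟶ Spec (CommRingCat.of k)) [LocallyOfFiniteType q]
    (y : Y) : ∃ s : ℕ, FlatMor.localDim Y y = s := by
  obtain ⟨t, ht⟩ := exists_nat_cdim q y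
  haveI : IsLocallyNoetherian Y := LocallyOfFiniteType.isLocallyNoetherian q
  have h : ringKrullDim (Y.presheaf.stalk y) ≠ ⊥ := ringKrullDim_ne_bot
  have h' : ringKrullDim (Y.presheaf.stalk y) ≠ ⊤ := ringKrullDim_lt_top.ne
  rw [localDim_eq_stalk_add_cdim q, ht]
  generalize ringKrullDim (Y.presheaf.stalk y) = a at h h'
  match a, h, h' with
  | ((n : ℕ) : ℕ∞), _, _ => exact ⟨n + t, by push_cast; rfl⟩

theorem withBot_nat_cancel {a : WithBot ℕ∞} {n m : ℕ} (h : a + n = ((m + n : ℕ) : WithBot ℕ∞)) :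
    a = m := by
  match a with
  | ⊥ => rw [WithBot.bot_add] at h; exact absurd h.symm (WithBot.natCast_ne_bot _)
  | (⊤ : ℕ∞) =>
    change ((⊤ : ℕ∞) : WithBot ℕ∞) + ((n : ℕ∞) : WithBot ℕ∞) = (((m + n : ℕ) : ℕ∞) : WithBot ℕ∞) at h
    rw [← WithBot.coe_add, top_add] at h
    exact absurd (WithBot.coe_injective h).symm (ENat.natCast_ne_top _)
  | ((e : ℕ) : ℕ∞) =>
    change ((e : ℕ∞) : WithBot ℕ∞) + ((n : ℕ∞) : WithBot ℕ∞) = (((m + n : ℕ) : ℕ∞) : WithBot ℕ∞) at h
    have h1 : e + n = m + n := by exact_mod_cast h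
    rw [Nat.add_right_cancel h1]
    rfl

variable {X Y : Scheme.{u}} (qX : X ⟶ Spec (CommRingCat.of k))
  (qY : Y ⟶ Spec (CommRingCat.of k)) [LocallyOfFiniteType qX] [LocallyOfFiniteType qY]
  (f : X ⟶ Y)

theorem locallyOfFiniteType_of_over (hf : f ≫ qY = qX) : LocallyOfFiniteType f :=
  have : LocallyOfFiniteType (f ≫ qY) := hf ▸ ‹_›
  locallyOfFiniteType_of_comp f qY

include qX qY in
/-- Fibre components: their dimension plus the dimension of the base at the point is the local
dimension of the source at their generic point. -/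
theorem exists_fibre_component (hf : f ≫ qY = qX) [Flat f] (y : Y) (T : Set (f.fiber y))
    (hT : T ∈ irreducibleComponents (f.fiber y)) :
    ∃ x : X, f x = y ∧ topologicalKrullDim T + FlatMor.localDim Y y = FlatMor.localDim X x := by
  haveI := locallyOfFiniteType_of_over qX qY f hf
  haveI := locallyOfFiniteType_fiberToSpec f y
  obtain ⟨u, rfl, hmax⟩ := mem_irreducibleComponents_iff hT
  have hy : f (f.fiberι y u) = y := (f.range_fiberι y).subset (Set.mem_range_self u)
  refine ⟨f.fiberι y u, hy, ?_⟩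
  rw [(localDim_le_fibreDimAt_add qX qY f hf _).2 (Flat.stalkMap f _),
    fibreDimAt_eq_localDim f u, localDim_of_maximal (k := Y.residueField y) (f.fiberToSpecResidueField y) u hmax,
    hy]
  rfl

include qX qY in
theorem fibres_pure_of_source_pure (hf : f ≫ qY = qX) [Flat f] (d n : ℕ)
    (hY : ∀ y, FlatMor.localDim Y y = d)
    (hX : ∀ Z ∈ irreducibleComponents X, topologicalKrullDim Z = ((d + n : ℕ) : WithBot ℕ∞))
    (y : Y) (T : Set (f.fiber y)) (hT : T ∈ irreducibleComponents (f.fiber y)) :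
    topologicalKrullDim T = (n : WithBot ℕ∞) := by
  obtain ⟨x, -, h⟩ := exists_fibre_component qX qY f hf y T hT
  rw [hY, localDim_eq_of_pure qX x _ hX] at h
  exact withBot_nat_cancel (by rw [h, add_comm d n])

include qX qY in
theorem source_pure_of_fibres_pure (hf : f ≫ qY = qX) [Flat f] (d : WithBot ℕ∞) (n : ℕ)
    (hY : ∀ y, FlatMor.localDim Y y = d)
    (h : ∀ (y : Y) (T : Set (f.fiber y)), T ∈ irreducibleComponents (f.fiber y) →
      topologicalKrullDim T = (n : WithBot ℕ∞))
    (Z : Set X) (hZ : Z ∈ irreducibleComponents X) : topologicalKrullDim Z = d + n := by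
  haveI := locallyOfFiniteType_of_over qX qY f hf
  obtain ⟨ξ, rfl, hmax⟩ := mem_irreducibleComponents_iff hZ
  haveI := locallyOfFiniteType_fiberToSpec f (f ξ)
  show cdim ξ = _
  rw [← localDim_of_maximal qX ξ hmax, (localDim_le_fibreDimAt_add qX qY f hf ξ).2 (Flat.stalkMap f ξ),
    hY, FlatMor.fibreDimAt,
    localDim_eq_of_pure (k := Y.residueField (f ξ)) (f.fiberToSpecResidueField (f ξ)) _ _ (h (f ξ)),
    add_comm]

include qX qY in
/-- A point maximal in the preimage of an irreducible closed subset. -/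
theorem cdim_of_maximal_in_preimage (hf : f ≫ qY = qX) [Flat f] (n : ℕ)
    (h : ∀ (y : Y) (T : Set (f.fiber y)), T ∈ irreducibleComponents (f.fiber y) →
      topologicalKrullDim T = (n : WithBot ℕ∞))
    (v : Y) (ξ : X) (hξ : v ⤳ f ξ) (hmax : ∀ ζ, ζ ⤳ ξ → v ⤳ f ζ → ζ = ξ) :
    cdim ξ = cdim v + n := by
  haveI := locallyOfFiniteType_of_over qX qY f hf
  obtain ⟨ζ, hζ, hζv⟩ := Flat.generalizingMap f hξ
  obtain rfl : f ξ = v := by rw [← hmax ζ hζ (hζv ▸ specializes_rfl)]; exact hζv
  haveI := locallyOfFiniteType_fiberToSpec f (f ξ)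
  rw [cdim_eq_add qX qY f hf ξ, add_comm]
  congr 1
  rw [← localDim_of_maximal (k := Y.residueField (f ξ)) (f.fiberToSpecResidueField (f ξ)) (f.asFiber ξ)]
  · exact localDim_eq_of_pure (k := Y.residueField (f ξ)) (f.fiberToSpecResidueField (f ξ)) _ _ (h (f ξ))
  · intro u hu
    apply (f.fiberι _).isEmbedding.injective
    rw [f.fiberι_asFiber]
    have hfu : f (f.fiberι (f ξ) u) = f ξ := (f.range_fiberι _).subset (Set.mem_range_self u)
    refine hmax _ ?_ (by rw [hfu])
    have := hu.map (f.fiberι (f ξ)).continuous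
    rwa [f.fiberι_asFiber] at this

end Groth.Agent.H8Props.FieldDim
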