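import Groth.Agent.H8Props.FieldDimHeight
import Groth.Agent.H8Props.FieldDimFibre
import Groth.Agent.H8Props.FibreStalk
import Groth.Agent.H02CA.FlatRegular
import Groth.Agent.H05EGA4.DimLocal
import Groth.Agent.H8Props.FlatDepth

/-!
# The dimension formula for schemes locally of finite type over a field

* `localDim Z z = dim 𝒪_{Z,z} + cdim z`;
* `localDim X x ≤ fibreDimAt f x + localDim Y (f x)`, with equality if `f` is flat at `x`.
-/

set_option autoImplicit false
set_option linter.style.haveILetI false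
universe u

open AlgebraicGeometry CategoryTheory CategoryTheory.Limits TopologicalSpace Topology

namespace Groth.Agent.H8Props.FieldDim

variable {k : Type u} [Field k]

/-- `height p + dim A/p` is the maximal dimension of the components through `p`. -/
theorem height_add_dim_quotient_eq_iSup (A : Type u) [CommRing A] [Algebra k A]
    [Algebra.FiniteType k A] (p : PrimeSpectrum A) :
    (p.asIdeal.height : WithBot ℕ∞) + ringKrullDim (A ⧸ p.asIdeal) =
      ⨆ q : {q : PrimeSpectrum A // q ≤ p}, ringKrullDim (A ⧸ q.1.asIdeal) := by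
  haveI : IsNoetherianRing A := Algebra.FiniteType.isNoetherianRing k A
  have key : ∀ q : PrimeSpectrum A, q ≤ p →
      ((p.asIdeal.map (Ideal.Quotient.mk q.asIdeal)).height : WithBot ℕ∞) + ringKrullDim (A ⧸ p.asIdeal) =
        ringKrullDim (A ⧸ q.asIdeal) := by
    intro q hq
    haveI : Algebra.FiniteType k (A ⧸ q.asIdeal) :=
      Algebra.FiniteType.trans (R := k) (S := A) inferInstance inferInstance
    haveI : (p.asIdeal.map (Ideal.Quotient.mk q.asIdeal)).IsPrime :=
      Ideal.isPrime_map_quotientMk_of_isPrime hq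
    rw [← height_add_dim_quotient k (A ⧸ q.asIdeal) (p.asIdeal.map (Ideal.Quotient.mk q.asIdeal))]
    congr 1
    exact (ringKrullDim_eq_of_ringEquiv (DoubleQuot.quotQuotEquivQuotOfLE hq)).symm
  refine le_antisymm ?_ (iSup_le fun q => ?_)
  · obtain ⟨l, hl, hlen⟩ := p.asIdeal.exists_ltSeries_length_eq_height
    have hlast : l.last = p := hl
    have hle : ∀ i, l.head ≤ l i := fun i => l.monotone (Fin.zero_le i)
    let q := l.head
    have hqp : q ≤ p := hlast ▸ hle _
    refine le_trans ?_ (le_iSup_of_le ⟨q, hqp⟩ (key q hqp).le)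
    gcongr
    rw [← hlen]
    let l' : LTSeries (PrimeSpectrum (A ⧸ q.asIdeal)) := LTSeries.mk l.length
      (fun i => ⟨(l i).asIdeal.map (Ideal.Quotient.mk q.asIdeal),
        Ideal.isPrime_map_quotientMk_of_isPrime (hle i)⟩) fun i j hij => by
      have h := l.strictMono hij
      refine lt_of_le_of_ne (Ideal.map_mono h.le) fun e => h.ne ?_
      have e' := congrArg (fun r : PrimeSpectrum (A ⧸ q.asIdeal) => r.asIdeal.comap (Ideal.Quotient.mk q.asIdeal)) e
      simp only [Ideal.comap_map_of_surjective _ Ideal.Quotient.mk_surjective, ← RingHom.ker_eq_comap_bot,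
        Ideal.mk_ker] at e'
      exact PrimeSpectrum.ext (by
        have hi : q.asIdeal ≤ (l i).asIdeal := hle i
        have hj : q.asIdeal ≤ (l j).asIdeal := hle j
        rwa [sup_eq_left.mpr hi, sup_eq_left.mpr hj] at e')
    haveI := Ideal.isPrime_map_quotientMk_of_isPrime (p := p.asIdeal) (I := q.asIdeal) hqp
    refine WithBot.coe_le_coe.mpr ((le_trans (le_of_eq ?_) (Order.length_le_height_last (p := l'))).trans (le_of_eq ?_))
    · rfl
    · rw [← PrimeSpectrum.height_eq_orderHeight]
      congr 1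
      show (l (Fin.last _)).asIdeal.map _ = _
      rw [show l (Fin.last _) = p from hlast]
  · rw [← key q.1 q.2]
    gcongr
    haveI : (p.asIdeal.map (Ideal.Quotient.mk q.1.asIdeal)).IsPrime :=
      Ideal.isPrime_map_quotientMk_of_isPrime q.2
    rw [PrimeSpectrum.height_eq_orderHeight p,
      PrimeSpectrum.height_eq_orderHeight ⟨p.asIdeal.map (Ideal.Quotient.mk q.1.asIdeal), inferInstance⟩]
    refine WithBot.coe_le_coe.mpr ((Order.height_le_height_apply_of_strictMono
      (PrimeSpectrum.comap (Ideal.Quotient.mk q.1.asIdeal))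
      (RingHom.strictMono_comap_of_surjective Ideal.Quotient.mk_surjective) _).trans (le_of_eq ?_))
    congr 1
    refine PrimeSpectrum.ext ?_
    rw [PrimeSpectrum.comap_asIdeal, Ideal.comap_map_of_surjective _ Ideal.Quotient.mk_surjective,
      ← RingHom.ker_eq_comap_bot, Ideal.mk_ker, sup_eq_left]
    exact q.2

variable {Z : Scheme.{u}} (f : Z ⟶ Spec (CommRingCat.of k))

omit f in
theorem ringKrullDim_stalk_chart {A : Type u} [CommRing A] (j : Spec (CommRingCat.of A) ⟶ Z)
    [IsOpenImmersion j] (p : PrimeSpectrum A) :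
    ringKrullDim (Z.presheaf.stalk (j p)) = p.asIdeal.height := by
  erw [AlgebraicGeometry.ringKrullDim_stalk_eq_coheight, coheight_eq_of_isOpenImmersion]
  exact WithBot.coe_eq_coe.mpr (idealHeight_eq_coheight (CommRingCat.of A) p).symm

/-- `localDim Z z = dim 𝒪_{Z,z} + dim closure {z}`. -/
theorem localDim_eq_stalk_add_cdim [LocallyOfFiniteType f] (z : Z) :
    FlatMor.localDim Z z = ringKrullDim (Z.presheaf.stalk z) + cdim z := by
  obtain ⟨W, (hW : IsAffineOpen W), hzW, -⟩ := Opens.isBasis_iff_nbhd.mp Z.isBasis_affineOpens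
    (show z ∈ (⊤ : Z.Opens) from trivial)
  obtain ⟨p, rfl⟩ : z ∈ Set.range hW.fromSpec := by rw [hW.range_fromSpec]; exact hzW
  obtain ⟨alg, hj⟩ := exists_algebra_chart f (A := Γ(Z, W)) hW.fromSpec
  haveI := finiteType_of_chart f (A := Γ(Z, W)) hW.fromSpec hj
  erw [localDim_eq f, ringKrullDim_stalk_chart (A := Γ(Z, W)) hW.fromSpec p,
    cdim_eq_chart f (A := Γ(Z, W)) hW.fromSpec p, height_add_dim_quotient_eq_iSup (k := k) Γ(Z, W) p]
  refine le_antisymm (iSup_le fun η => ?_) (iSup_le fun q => ?_)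
  · obtain ⟨q, hq⟩ : η.1 ∈ Set.range hW.fromSpec := by
      rw [hW.range_fromSpec]; exact η.2.mem_open W.2 hzW
    have hqp : q ⤳ p := hW.fromSpec.isOpenEmbedding.isInducing.specializes_iff.mp (hq ▸ η.2)
    refine le_iSup_of_le ⟨q, (PrimeSpectrum.le_iff_specializes q p).mpr hqp⟩ ?_
    rw [← hq]
    erw [cdim_eq_chart f (A := Γ(Z, W)) hW.fromSpec q]
  · exact le_iSup_of_le ⟨hW.fromSpec q.1, ((PrimeSpectrum.le_iff_specializes q.1 p).mp q.2).map
      hW.fromSpec.continuous⟩ (cdim_eq_chart f (A := Γ(Z, W)) hW.fromSpec q.1).ge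

/-- A strict generization has a local ring of smaller dimension. -/
theorem ringKrullDim_stalk_lt [LocallyOfFiniteType f] {x x' : Z} (h : x ⤳ x') (hne : x ≠ x') :
    ringKrullDim (Z.presheaf.stalk x) < ringKrullDim (Z.presheaf.stalk x') := by
  obtain ⟨W, (hW : IsAffineOpen W), hyW, -⟩ := Opens.isBasis_iff_nbhd.mp Z.isBasis_affineOpens
    (show x' ∈ (⊤ : Z.Opens) from trivial)
  obtain ⟨q, rfl⟩ : x' ∈ Set.range hW.fromSpec := by rw [hW.range_fromSpec]; exact hyW
  obtain ⟨p, rfl⟩ : x ∈ Set.range hW.fromSpec := by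
    rw [hW.range_fromSpec]; exact h.mem_open W.2 hyW
  obtain ⟨alg, hj⟩ := exists_algebra_chart f (A := Γ(Z, W)) hW.fromSpec
  haveI := finiteType_of_chart f (A := Γ(Z, W)) hW.fromSpec hj
  haveI : IsNoetherianRing Γ(Z, W) := Algebra.FiniteType.isNoetherianRing k _
  haveI : p.asIdeal.IsPrime := p.2
  haveI : q.asIdeal.IsPrime := q.2
  erw [ringKrullDim_stalk_chart (A := Γ(Z, W)) hW.fromSpec p,
    ringKrullDim_stalk_chart (A := Γ(Z, W)) hW.fromSpec q]
  refine WithBot.coe_lt_coe.mpr (Ideal.height_strict_mono_of_isPrime (lt_of_le_of_ne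
    ((PrimeSpectrum.le_iff_specializes p q).mpr (hW.fromSpec.isOpenEmbedding.isInducing.specializes_iff.mp h))
    fun e => hne (by rw [PrimeSpectrum.ext e])))

/-- Transcendence degrees add up along a morphism over a field. -/
theorem cdim_eq_add {X Y : Scheme.{u}} (qX : X ⟶ Spec (CommRingCat.of k))
    (qY : Y ⟶ Spec (CommRingCat.of k)) [LocallyOfFiniteType qX] [LocallyOfFiniteType qY]
    (g : X ⟶ Y) (hg : g ≫ qY = qX) [LocallyOfFiniteType g] (x : X) :
    cdim x = cdim (g.asFiber x) + cdim (g x) := by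
  haveI := locallyOfFiniteType_fiberToSpec g (g x)
  letI : Algebra k (Y.residueField (g x)) :=
    (Spec.preimage (Y.fromSpecResidueField (g x) ≫ qY)).hom.toAlgebra
  letI : Algebra k (X.residueField x) :=
    (Spec.preimage (X.fromSpecResidueField x ≫ qX)).hom.toAlgebra
  letI : Algebra (Y.residueField (g x)) (X.residueField x) := (g.residueFieldMap x).hom.toAlgebra
  haveI : IsScalarTower k (Y.residueField (g x)) (X.residueField x) := by
    refine IsScalarTower.of_algebraMap_eq' ?_
    have : Spec.preimage (X.fromSpecResidueField x ≫ qX) =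
        Spec.preimage (Y.fromSpecResidueField (g x) ≫ qY) ≫ g.residueFieldMap x := by
      apply Spec.map_injective
      rw [Spec.map_preimage, Spec.map_comp, Spec.map_preimage, ← Category.assoc,
        Scheme.Hom.SpecMap_residueFieldMap_fromSpecResidueField, Category.assoc, hg]
    exact congrArg CommRingCat.Hom.hom this
  obtain ⟨a, ha, ha'⟩ := exists_trdeg qY (L := Y.residueField (g x)) (Y.fromSpecResidueField (g x))
    (Spec.map_preimage _).symm (IsLocalRing.closedPoint _)
  obtain ⟨b, hb, hb'⟩ := exists_trdeg qX (L := X.residueField x) (X.fromSpecResidueField x)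
    (Spec.map_preimage _).symm (IsLocalRing.closedPoint _)
  obtain ⟨c, hc, hc'⟩ := exists_trdeg (k := Y.residueField (g x)) (g.fiberToSpecResidueField (g x))
    (L := X.residueField x) (g.asFiberHom x) (g.asFiberHom_fiberToSpecResidueField x)
    (IsLocalRing.closedPoint _)
  erw [Scheme.fromSpecResidueField_apply] at ha hb
  erw [g.asFiberHom_apply] at hc
  haveI : FaithfulSMul (Y.residueField (g x)) (X.residueField x) :=
    (faithfulSMul_iff_algebraMap_injective _ _).mpr (RingHom.injective _)
  have h := trdeg_add_eq k (Y.residueField (g x)) (A := X.residueField x)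
  rw [ha', hb', hc'] at h
  have h' : a + c = b := by exact_mod_cast h
  rw [ha, hb, hc, ← h', add_comm a c]
  push_cast
  rfl

/-- Additivity of dimensions along a morphism of schemes locally of finite type over a field. -/
theorem localDim_le_fibreDimAt_add {X Y : Scheme.{u}} (qX : X ⟶ Spec (CommRingCat.of k))
    (qY : Y ⟶ Spec (CommRingCat.of k)) [LocallyOfFiniteType qX] [LocallyOfFiniteType qY]
    (g : X ⟶ Y) (hg : g ≫ qY = qX) [LocallyOfFiniteType g] (x : X) :
    FlatMor.localDim X x ≤ FlatMor.fibreDimAt g x + FlatMor.localDim Y (g x) ∧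
      ((g.stalkMap x).hom.Flat →
        FlatMor.localDim X x = FlatMor.fibreDimAt g x + FlatMor.localDim Y (g x)) := by
  haveI := locallyOfFiniteType_fiberToSpec g (g x)
  haveI : IsLocallyNoetherian X := LocallyOfFiniteType.isLocallyNoetherian qX
  haveI : IsLocallyNoetherian Y := LocallyOfFiniteType.isLocallyNoetherian qY
  have hfib : FlatMor.fibreDimAt g x =
      ringKrullDim ((g.fiber (g x)).presheaf.stalk (g.asFiber x)) + cdim (g.asFiber x) :=
    localDim_eq_stalk_add_cdim (k := Y.residueField (g x)) (g.fiberToSpecResidueField (g x)) (g.asFiber x)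
  have hX : FlatMor.localDim X x = ringKrullDim (X.presheaf.stalk x) + cdim x :=
    localDim_eq_stalk_add_cdim qX x
  have hY : FlatMor.localDim Y (g x) = ringKrullDim (Y.presheaf.stalk (g x)) + cdim (g x) :=
    localDim_eq_stalk_add_cdim qY (g x)
  have hcd : cdim x = cdim (g.asFiber x) + cdim (g x) := cdim_eq_add qX qY g hg x
  have hst : ringKrullDim ((g.fiber (g x)).presheaf.stalk (g.asFiber x)) = ringKrullDim
      (X.presheaf.stalk x ⧸ (IsLocalRing.maximalIdeal (Y.presheaf.stalk (g x))).map (g.stalkMap x).hom) :=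
    (ringKrullDim_eq_of_ringEquiv (FibreStalk.asFiberStalkEquiv g x)).symm
  letI : Algebra (Y.presheaf.stalk (g x)) (X.presheaf.stalk x) := (g.stalkMap x).hom.toAlgebra
  haveI : IsLocalHom (algebraMap (Y.presheaf.stalk (g x)) (X.presheaf.stalk x)) :=
    inferInstanceAs (IsLocalHom (g.stalkMap x).hom)
  rw [hfib, hX, hY, hcd, hst, show ∀ a b c d : WithBot ℕ∞, a + b + (c + d) = (c + a) + (b + d) from
    fun a b c d => by ac_rfl]
  refine ⟨?_, fun hflat => ?_⟩
  · gcongr
    exact H05EGA4.dimLocalHom (Y.presheaf.stalk (g x)) (X.presheaf.stalk x)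
  · haveI : Module.Flat (Y.presheaf.stalk (g x)) (X.presheaf.stalk x) := hflat
    congr 1
    exact H02CA.ringKrullDim_eq_add_of_flat (Y.presheaf.stalk (g x)) (X.presheaf.stalk x)

end Groth.Agent.H8Props.FieldDim

namespace Groth.Agent.H8Props.FieldDim

variable {X Y : Scheme.{u}} (g : X ⟶ Y)

/-- `fibreDimAt` through the local ring of the fibre and the residue field extension. -/
theorem fibreDimAt_eq [LocallyOfFiniteType g] (x : X) :
    ∃ t : ℕ, FlatMor.fibreDimAt g x = ringKrullDim
        (X.presheaf.stalk x ⧸ (IsLocalRing.maximalIdeal (Y.presheaf.stalk (g x))).map (g.stalkMap x).hom) + t ∧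
      @Algebra.trdeg (Y.residueField (g.base x)) (X.residueField x) _ _
        (g.residueFieldMap x).hom.toAlgebra = t := by
  haveI := locallyOfFiniteType_fiberToSpec g (g x)
  letI := (g.residueFieldMap x).hom.toAlgebra
  obtain ⟨c, hc, hc'⟩ := exists_trdeg (k := Y.residueField (g x)) (g.fiberToSpecResidueField (g x))
    (L := X.residueField x) (g.asFiberHom x) (g.asFiberHom_fiberToSpecResidueField x)
    (IsLocalRing.closedPoint _)
  erw [g.asFiberHom_apply] at hc
  refine ⟨c, ?_, hc'⟩
  rw [ringKrullDim_eq_of_ringEquiv (FibreStalk.asFiberStalkEquiv g x), ← hc]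
  exact localDim_eq_stalk_add_cdim (k := Y.residueField (g x)) (g.fiberToSpecResidueField (g x)) (g.asFiber x)

theorem isNoetherianRing_fibre_stalk [LocallyOfFiniteType g] (x : X) :
    IsNoetherianRing
      (X.presheaf.stalk x ⧸ (IsLocalRing.maximalIdeal (Y.presheaf.stalk (g x))).map (g.stalkMap x).hom) := by
  haveI := locallyOfFiniteType_fiberToSpec g (g x)
  haveI : IsLocallyNoetherian (g.fiber (g x)) :=
    LocallyOfFiniteType.isLocallyNoetherian (g.fiberToSpecResidueField (g x))
  exact isNoetherianRing_of_ringEquiv _ (FibreStalk.asFiberStalkEquiv g x).symm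

/-- Dimensions of closed fibres along a composition of local homomorphisms. -/
theorem dim_fibre_comp {R S T : Type u} [CommRing R] [CommRing S] [CommRing T]
    [IsLocalRing R] [IsLocalRing S] [IsLocalRing T] (φ : R →+* S) (ψ : S →+* T) (χ : R →+* T)
    (hχ : ψ.comp φ = χ) [IsLocalHom φ] [IsLocalHom ψ]
    [hS : IsNoetherianRing (S ⧸ (IsLocalRing.maximalIdeal R).map φ)]
    [hT : IsNoetherianRing (T ⧸ (IsLocalRing.maximalIdeal R).map χ)] :
    ringKrullDim (T ⧸ (IsLocalRing.maximalIdeal R).map χ) ≤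
        ringKrullDim (S ⧸ (IsLocalRing.maximalIdeal R).map φ) +
          ringKrullDim (T ⧸ (IsLocalRing.maximalIdeal S).map ψ) ∧
      (ψ.Flat → ringKrullDim (T ⧸ (IsLocalRing.maximalIdeal R).map χ) =
        ringKrullDim (S ⧸ (IsLocalRing.maximalIdeal R).map φ) +
          ringKrullDim (T ⧸ (IsLocalRing.maximalIdeal S).map ψ)) := by
  subst hχ
  algebraize [ψ]
  set I := (IsLocalRing.maximalIdeal R).map φ with hI
  have hI' : (IsLocalRing.maximalIdeal R).map (ψ.comp φ) = I.map (algebraMap S T) :=
    (Ideal.map_map φ ψ).symm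
  rw [hI'] at hT ⊢
  have hIS : I ≤ IsLocalRing.maximalIdeal S := IsLocalRing.map_maximalIdeal_le φ
  have hIT : I.map (algebraMap S T) ≤ IsLocalRing.maximalIdeal T :=
    (Ideal.map_mono hIS).trans (IsLocalRing.map_maximalIdeal_le ψ)
  haveI : Nontrivial (S ⧸ I) := Ideal.Quotient.nontrivial_iff.mpr
    (ne_top_of_le_ne_top (IsLocalRing.maximalIdeal.isMaximal _).ne_top hIS)
  haveI : Nontrivial (T ⧸ I.map (algebraMap S T)) := Ideal.Quotient.nontrivial_iff.mpr
    (ne_top_of_le_ne_top (IsLocalRing.maximalIdeal.isMaximal _).ne_top hIT)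
  haveI : IsLocalRing (S ⧸ I) := .of_surjective' (Ideal.Quotient.mk _) Ideal.Quotient.mk_surjective
  haveI : IsLocalRing (T ⧸ I.map (algebraMap S T)) :=
    .of_surjective' (Ideal.Quotient.mk _) Ideal.Quotient.mk_surjective
  have hmap : (IsLocalRing.maximalIdeal (S ⧸ I)).map (algebraMap (S ⧸ I) (T ⧸ I.map (algebraMap S T))) =
      ((IsLocalRing.maximalIdeal S).map ψ).map (Ideal.Quotient.mk (I.map (algebraMap S T))) := by
    rw [← IsLocalRing.map_maximalIdeal_of_surjective _ (Ideal.Quotient.mk_surjective (I := I))]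
    have e : (algebraMap (S ⧸ I) (T ⧸ I.map (algebraMap S T))).comp (Ideal.Quotient.mk I) =
        (Ideal.Quotient.mk (I.map (algebraMap S T))).comp ψ := RingHom.ext fun _ => rfl
    calc _ = (IsLocalRing.maximalIdeal S).map
          ((algebraMap (S ⧸ I) (T ⧸ I.map (algebraMap S T))).comp (Ideal.Quotient.mk I)) :=
        Ideal.map_map _ _
      _ = (IsLocalRing.maximalIdeal S).map ((Ideal.Quotient.mk (I.map (algebraMap S T))).comp ψ) := by
        rw [e]
      _ = _ := (Ideal.map_map ψ _).symm
  haveI : IsLocalHom (algebraMap (S ⧸ I) (T ⧸ I.map (algebraMap S T))) := by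
    refine ((IsLocalRing.local_hom_TFAE _).out 0 2).mpr ?_
    rw [hmap, ← IsLocalRing.map_maximalIdeal_of_surjective _
      (Ideal.Quotient.mk_surjective (I := I.map (algebraMap S T)))]
    exact Ideal.map_mono (IsLocalRing.map_maximalIdeal_le ψ)
  have hfib : ringKrullDim ((T ⧸ I.map (algebraMap S T)) ⧸
      (IsLocalRing.maximalIdeal (S ⧸ I)).map (algebraMap (S ⧸ I) (T ⧸ I.map (algebraMap S T)))) =
      ringKrullDim (T ⧸ (IsLocalRing.maximalIdeal S).map ψ) := by
    rw [hmap]
    exact ringKrullDim_eq_of_ringEquiv (DoubleQuot.quotQuotEquivQuotOfLE (Ideal.map_mono hIS))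
  rw [← hfib]
  refine ⟨H05EGA4.dimLocalHom _ _, fun hflat => ?_⟩
  haveI : Module.Flat S T := hflat
  haveI : Module.Flat (S ⧸ I) (T ⧸ I.map (algebraMap S T)) := FlatDepth.flat_base_quotient I
  exact H02CA.ringKrullDim_eq_add_of_flat _ _

/-- Fibre dimensions along a composition. -/
theorem fibreDimAt_comp_le {W : Scheme.{u}} (h : Y ⟶ W) [LocallyOfFiniteType g]
    [LocallyOfFiniteType h] (x : X) :
    FlatMor.fibreDimAt (g ≫ h) x ≤ FlatMor.fibreDimAt g x + FlatMor.fibreDimAt h (g x) ∧
      ((g.stalkMap x).hom.Flat →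
        FlatMor.fibreDimAt (g ≫ h) x = FlatMor.fibreDimAt g x + FlatMor.fibreDimAt h (g x)) := by
  obtain ⟨a, ha, ha'⟩ := fibreDimAt_eq g x
  obtain ⟨b, hb, hb'⟩ := fibreDimAt_eq h (g x)
  obtain ⟨c, hc, hc'⟩ := fibreDimAt_eq (g ≫ h) x
  have hbc : c = b + a := by
    letI iA : Algebra (W.residueField (h (g x))) (Y.residueField (g x)) := (h.residueFieldMap (g x)).hom.toAlgebra
    letI iB : Algebra (Y.residueField (g x)) (X.residueField x) := (g.residueFieldMap x).hom.toAlgebra
    letI iC : Algebra (W.residueField (h (g x))) (X.residueField x) := ((g ≫ h).residueFieldMap x).hom.toAlgebra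
    haveI : IsScalarTower (W.residueField (h (g x))) (Y.residueField (g x)) (X.residueField x) :=
      IsScalarTower.of_algebraMap_eq' (congrArg CommRingCat.Hom.hom (Scheme.residueFieldMap_comp g h x))
    haveI : FaithfulSMul (Y.residueField (g x)) (X.residueField x) :=
      (faithfulSMul_iff_algebraMap_injective _ _).mpr (RingHom.injective _)
    have h1 := trdeg_add_eq (W.residueField (h (g x))) (Y.residueField (g x)) (A := X.residueField x)
    have e : Algebra.trdeg (W.residueField (h (g x))) (X.residueField x) = (c : Cardinal.{u}) := hc'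
    rw [e, ha', hb'] at h1
    exact_mod_cast h1.symm
  haveI : IsNoetherianRing (Y.presheaf.stalk (g x) ⧸
      (IsLocalRing.maximalIdeal (W.presheaf.stalk (h (g x)))).map (h.stalkMap (g x)).hom) :=
    isNoetherianRing_fibre_stalk h (g x)
  haveI : IsNoetherianRing (X.presheaf.stalk x ⧸
      (IsLocalRing.maximalIdeal (W.presheaf.stalk (h (g x)))).map ((g ≫ h).stalkMap x).hom) :=
    isNoetherianRing_fibre_stalk (g ≫ h) x
  have key := dim_fibre_comp (h.stalkMap (g x)).hom (g.stalkMap x).hom ((g ≫ h).stalkMap x).hom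
    (congrArg CommRingCat.Hom.hom (Scheme.Hom.stalkMap_comp g h x)).symm
    (hT := isNoetherianRing_fibre_stalk (g ≫ h) x)
  rw [ha, hb, hc, hbc, Nat.cast_add]
  rw [show ∀ p q r s : WithBot ℕ∞, p + q + (r + s) = (r + p) + (s + q) from
    fun p q r s => by ac_rfl]
  refine ⟨?_, fun hflat => ?_⟩
  · gcongr
    exact key.1
  · congr 1
    exact key.2 hflat

/-- If all components through a point have dimension `d`, so does the space at the point. -/
theorem localDim_eq_of_pure {k : Type u} [Field k] {Z : Scheme.{u}} (f : Z ⟶ Spec (CommRingCat.of k))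
    [LocallyOfFiniteType f] (z : Z) (d : WithBot ℕ∞)
    (h : ∀ T ∈ irreducibleComponents Z, topologicalKrullDim T = d) : FlatMor.localDim Z z = d := by
  rw [localDim_eq f]
  refine le_antisymm (iSup_le fun η => ?_) ?_
  · obtain ⟨ξ, hξ, hT⟩ := exists_component_generization η.1
    refine le_trans ?_ (h _ hT).le
    exact dim_mono (closure_minimal (Set.singleton_subset_iff.mpr hξ.mem_closure) isClosed_closure)
  · obtain ⟨ξ, hξ, hT⟩ := exists_component_generization z
    exact le_iSup_of_le ⟨ξ, hξ⟩ (h _ hT).ge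

/-- At a maximal point the local dimension is that of the component. -/
theorem localDim_of_maximal {k : Type u} [Field k] {Z : Scheme.{u}} (f : Z ⟶ Spec (CommRingCat.of k))
    [LocallyOfFiniteType f] (z : Z) (hz : ∀ ζ, ζ ⤳ z → ζ = z) : FlatMor.localDim Z z = cdim z := by
  rw [localDim_eq f]
  exact le_antisymm (iSup_le fun η => by rw [hz η.1 η.2]) (le_iSup_of_le ⟨z, specializes_rfl⟩ le_rfl)

end Groth.Agent.H8Props.FieldDim
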