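import Groth.Agent.H05EGA4.IntegralDim
import Mathlib.RingTheory.NoetherNormalization
import Mathlib.RingTheory.KrullDimension.Polynomial
import Mathlib.RingTheory.KrullDimension.Field
import Mathlib.RingTheory.KrullDimension.NonZeroDivisors
import Mathlib.RingTheory.AlgebraicIndependent.TranscendenceBasis
import Mathlib.RingTheory.TensorProduct.MvPolynomial
import Mathlib.RingTheory.Ideal.MinimalPrime.Localization
import Mathlib.RingTheory.Localization.FractionRing
import Mathlib.RingTheory.Localization.Module
import Mathlib.RingTheory.Localization.Finiteness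
import Mathlib.RingTheory.Localization.InvSubmonoid
import Mathlib.RingTheory.Flat.Basic
import Mathlib.RingTheory.Flat.FaithfullyFlat.Basic
import Mathlib.RingTheory.FiniteStability
import Mathlib.LinearAlgebra.TensorProduct.Pi

/-!
# Dimension theory of finite type algebras over a field

* `ringKrullDim A = trdeg k A` for a finitely generated domain `A`;
* for a field extension `K/k` all minimal primes of `K ⊗ A` (`A` a domain) have the dimension of `A`.
-/

set_option autoImplicit false
set_option linter.style.haveILetI false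
universe u

open TensorProduct

namespace Groth.Agent.H8Props.FieldDim

section Trdeg

variable (k : Type u) [Field k]

/-- The dimension of a finitely generated domain is its transcendence degree. -/
theorem exists_dim_trdeg (A : Type u) [CommRing A] [IsDomain A] [Algebra k A]
    [Algebra.FiniteType k A] :
    ∃ s : ℕ, ringKrullDim A = s ∧ Algebra.trdeg k A = s := by
  obtain ⟨s, g, hg, hfin⟩ := exists_finite_inj_algHom_of_fg k A
  letI := g.toRingHom.toAlgebra
  haveI : Module.Finite (MvPolynomial (Fin s) k) A := hfin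
  haveI : FaithfulSMul (MvPolynomial (Fin s) k) A :=
    (faithfulSMul_iff_algebraMap_injective _ _).mpr hg
  haveI : IsScalarTower k (MvPolynomial (Fin s) k) A :=
    IsScalarTower.of_algebraMap_eq fun c => (g.commutes c).symm
  refine ⟨s, ?_, ?_⟩
  · rw [(H05EGA4.dim_int (MvPolynomial (Fin s) k) A).2 hg,
      MvPolynomial.ringKrullDim_of_isNoetherianRing, ringKrullDim_eq_zero_of_field]
    simp
  · haveI : Algebra.IsAlgebraic (MvPolynomial (Fin s) k) A := inferInstance
    rw [← trdeg_add_eq k (MvPolynomial (Fin s) k), trdeg_eq_zero_iff.2 this, add_zero,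
      MvPolynomial.trdeg_of_isDomain]
    simp

/-- Finitely generated domains which are algebraic over one another have the same dimension. -/
theorem dim_eq_of_algebraic (A B : Type u) [CommRing A] [IsDomain A] [CommRing B] [IsDomain B]
    [Algebra k A] [Algebra k B] [Algebra A B] [IsScalarTower k A B]
    [Algebra.FiniteType k A] [Algebra.FiniteType k B] [Algebra.IsAlgebraic A B]
    (hinj : Function.Injective (algebraMap A B)) :
    ringKrullDim A = ringKrullDim B := by
  haveI : FaithfulSMul A B := (faithfulSMul_iff_algebraMap_injective _ _).mpr hinj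
  obtain ⟨s, hs, hs'⟩ := exists_dim_trdeg k A
  obtain ⟨t, ht, ht'⟩ := exists_dim_trdeg k B
  have h := trdeg_add_eq k A (A := B)
  rw [trdeg_eq_zero_iff.2 (inferInstance : Algebra.IsAlgebraic A B), add_zero, hs', ht'] at h
  rw [hs, ht, Nat.cast_inj.mp h]

/-- Inverting an element outside a prime does not change the dimension of the quotient. -/
theorem dim_quotient_localization_away (A B : Type u) [CommRing A] [CommRing B] [Algebra k A]
    [Algebra k B] [Algebra A B] [IsScalarTower k A B] [Algebra.FiniteType k A] (a : A)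
    [IsLocalization.Away a B] (q : Ideal B) [q.IsPrime] :
    ringKrullDim (B ⧸ q) = ringKrullDim (A ⧸ q.comap (algebraMap A B)) := by
  haveI : Algebra.FiniteType A B := IsLocalization.finiteType_of_monoid_fg (Submonoid.powers a) B
  haveI : Algebra.FiniteType k B := Algebra.FiniteType.trans (R := k) (S := A) (A := B) inferInstance inferInstance
  set p := q.comap (algebraMap A B) with hp
  letI : Algebra (A ⧸ p) (B ⧸ q) := (Ideal.quotientMap q (algebraMap A B) le_rfl).toAlgebra
  haveI : IsScalarTower k (A ⧸ p) (B ⧸ q) := IsScalarTower.of_algebraMap_eq fun c => by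
    show _ = Ideal.Quotient.mk q (algebraMap A B (algebraMap k A c))
    rw [← IsScalarTower.algebraMap_apply k A B]; rfl
  have hinj : Function.Injective (algebraMap (A ⧸ p) (B ⧸ q)) :=
    Ideal.quotientMap_injective' (f := algebraMap A B) le_rfl
  haveI : Algebra.FiniteType k (A ⧸ p) := Algebra.FiniteType.trans (R := k) (S := A) inferInstance inferInstance
  haveI : Algebra.FiniteType k (B ⧸ q) := Algebra.FiniteType.trans (R := k) (S := B) inferInstance inferInstance
  haveI : Algebra.IsAlgebraic (A ⧸ p) (B ⧸ q) := by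
    refine ⟨fun x => ?_⟩
    obtain ⟨b, rfl⟩ := Ideal.Quotient.mk_surjective x
    obtain ⟨⟨r, m, hm⟩, hb⟩ := IsLocalization.surj (Submonoid.powers a) b
    refine ⟨Polynomial.C (Ideal.Quotient.mk p m) * Polynomial.X - Polynomial.C (Ideal.Quotient.mk p r), ?_, ?_⟩
    · intro h0
      have h1 := congrArg (fun f => Polynomial.coeff f 1) h0
      have : m ∈ p := Ideal.Quotient.eq_zero_iff_mem.mp (by simpa using h1)
      exact (Ideal.IsPrime.ne_top ‹q.IsPrime›)
        (Ideal.eq_top_of_isUnit_mem q this (IsLocalization.map_units B ⟨m, hm⟩))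
    · simp only [map_sub, map_mul, Polynomial.aeval_C, Polynomial.aeval_X]
      show Ideal.Quotient.mk q (algebraMap A B m) * Ideal.Quotient.mk q b -
        Ideal.Quotient.mk q (algebraMap A B r) = 0
      rw [← map_mul, mul_comm, sub_eq_zero]
      exact congrArg _ hb
  exact (dim_eq_of_algebraic k (A ⧸ p) (B ⧸ q) hinj).symm

/-- Going to a strictly bigger prime drops the dimension. -/
theorem dim_quotient_lt (A : Type u) [CommRing A] [Algebra k A] [Algebra.FiniteType k A]
    (p q : Ideal A) [p.IsPrime] [q.IsPrime] (h : p < q) :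
    ringKrullDim (A ⧸ q) < ringKrullDim (A ⧸ p) := by
  haveI : Algebra.FiniteType k (A ⧸ p) := Algebra.FiniteType.trans (R := k) (S := A) inferInstance inferInstance
  haveI : Algebra.FiniteType k (A ⧸ q) := Algebra.FiniteType.trans (R := k) (S := A) inferInstance inferInstance
  obtain ⟨x, hxq, hxp⟩ := SetLike.exists_of_lt h
  have hx0 : Ideal.Quotient.mk p x ≠ 0 := fun e => hxp (Ideal.Quotient.eq_zero_iff_mem.mp e)
  have h1 := ringKrullDim_quotient_succ_le_of_nonZeroDivisor (mem_nonZeroDivisors_of_ne_zero hx0)
  have h2 : ringKrullDim (A ⧸ q) ≤ ringKrullDim ((A ⧸ p) ⧸ Ideal.span {Ideal.Quotient.mk p x}) := by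
    let e : (A ⧸ p) ⧸ Ideal.span {Ideal.Quotient.mk p x} →+* A ⧸ q :=
      Ideal.Quotient.lift _ (Ideal.Quotient.factor h.le) fun y hy => by
        obtain ⟨z, rfl⟩ := Ideal.mem_span_singleton'.mp hy
        rw [map_mul, Ideal.Quotient.factor_mk, Ideal.Quotient.eq_zero_iff_mem.mpr hxq, mul_zero]
    refine ringKrullDim_le_of_surjective e ?_
    exact Ideal.Quotient.lift_surjective_of_surjective _ _ (Ideal.Quotient.factor_surjective _)
  obtain ⟨s, hs, -⟩ := exists_dim_trdeg k (A ⧸ q)
  obtain ⟨t, ht, -⟩ := exists_dim_trdeg k (A ⧸ p)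
  rw [hs] at h2
  rw [ht] at h1
  rw [hs, ht]
  have := (add_le_add_left h2 1).trans h1
  have : s + 1 ≤ t := by exact_mod_cast this
  exact_mod_cast this

end Trdeg

section BaseChange

variable (k K : Type u) [Field k] [Field K] [Algebra k K]

/-- A finite torsion free module over a domain embeds into a finite free one. -/
theorem exists_injective_pi (P M : Type u) [CommRing P] [IsDomain P] [AddCommGroup M] [Module P M]
    [Module.Finite P M] [Module.IsTorsionFree P M] :
    ∃ (n : ℕ) (φ : M →ₗ[P] (Fin n → P)), Function.Injective φ := by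
  classical
  let L := FractionRing P
  let V := LocalizedModule (nonZeroDivisors P) M
  let ι : M →ₗ[P] V := LocalizedModule.mkLinearMap _ _
  have hι : Function.Injective ι := by
    intro x y hxy
    obtain ⟨c, hc⟩ := (IsLocalizedModule.eq_iff_exists (nonZeroDivisors P) ι).mp hxy
    exact smul_right_injective M (nonZeroDivisors.coe_ne_zero c) hc
  haveI : Module.Finite L V := Module.Finite.of_isLocalizedModule (nonZeroDivisors P) (Rₚ := L) ι
  let b := Module.finBasis L V
  obtain ⟨t, ht⟩ := Module.Finite.fg_top (R := P) (M := M)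
  obtain ⟨⟨d, hd⟩, hdint⟩ := IsLocalization.exist_integer_multiples (nonZeroDivisors P)
    (t ×ˢ (Finset.univ : Finset (Fin (Module.finrank L V)))) (fun x => b.repr (ι x.1) x.2)
  have hall : ∀ (x : M) i, d • b.repr (ι x) i ∈ LinearMap.range (Algebra.linearMap P L) := by
    intro x i
    have hx : x ∈ Submodule.span P (t : Set M) := by rw [ht]; trivial
    induction hx using Submodule.span_induction with
    | mem y hy =>
      obtain ⟨c, hc⟩ := hdint (y, i) (Finset.mem_product.mpr ⟨hy, Finset.mem_univ _⟩)
      exact ⟨c, hc⟩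
    | zero => simp
    | add y z _ _ hy hz =>
      simp only [map_add, Finsupp.add_apply, smul_add]; exact add_mem hy hz
    | smul r y _ hy =>
      rw [map_smul, ← IsScalarTower.algebraMap_smul L r (ι y), map_smul, Finsupp.smul_apply,
        IsScalarTower.algebraMap_smul, smul_comm]
      exact Submodule.smul_mem _ r hy
  let e : P ≃ₗ[P] LinearMap.range (Algebra.linearMap P L) :=
    LinearEquiv.ofInjective _ (IsFractionRing.injective P L)
  let ψ : Fin (Module.finrank L V) → (M →ₗ[P] L) := fun i =>
    d • (((Finsupp.lapply i).comp b.repr.toLinearMap).restrictScalars P).comp ι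
  refine ⟨Module.finrank L V, LinearMap.pi fun i =>
    e.symm.toLinearMap.comp ((ψ i).codRestrict _ (fun x => hall x i)), ?_⟩
  intro x y hxy
  refine hι (b.repr.injective (Finsupp.ext fun i => ?_))
  have h1 := congr_arg Subtype.val (e.symm.injective (congr_fun hxy i))
  exact smul_right_injective L (nonZeroDivisors.ne_zero hd) h1

variable {A : Type u} [CommRing A] [IsDomain A] [Algebra k A]

/-- Nonzero elements of a domain stay nonzerodivisors after a field extension. -/
theorem includeRight_mem_nonZeroDivisors (a : A) (ha : a ≠ 0) :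
    (1 : K) ⊗ₜ[k] a ∈ nonZeroDivisors (K ⊗[k] A) := by
  have hinj := Module.Flat.lTensor_preserves_injective_linearMap (M := K) (LinearMap.mulLeft k a)
    (mul_right_injective₀ ha)
  have hmul : ∀ z : K ⊗[k] A, (1 : K) ⊗ₜ[k] a * z = (LinearMap.mulLeft k a).lTensor K z := by
    intro z
    induction z using TensorProduct.induction_on with
    | zero => simp
    | tmul c b => simp
    | add x y hx hy => rw [mul_add, map_add, hx, hy]
  refine mem_nonZeroDivisors_iff.mpr ⟨fun z hz => hinj ?_, fun z hz => hinj ?_⟩
  · rw [map_zero, ← hmul]; exact hz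
  · rw [map_zero, ← hmul, mul_comm]; exact hz

theorem comap_includeRight_eq_bot (q : Ideal (K ⊗[k] A)) (hq : q ∈ minimalPrimes (K ⊗[k] A)) :
    q.comap (Algebra.TensorProduct.includeRight : A →ₐ[k] K ⊗[k] A).toRingHom = ⊥ := by
  refine (Submodule.eq_bot_iff _).mpr fun a ha => ?_
  by_contra h0
  exact notMem_nonZeroDivisors_of_mem_mem_minimalPrimes (Ideal.mem_comap.mp ha) hq
    (includeRight_mem_nonZeroDivisors k K a h0)

theorem dim_quotient_minimalPrimes [Algebra.FiniteType k A] (q : Ideal (K ⊗[k] A))
    (hq : q ∈ minimalPrimes (K ⊗[k] A)) :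
    ringKrullDim (K ⊗[k] A ⧸ q) = ringKrullDim A := by
  classical
  obtain ⟨s, g, hg, hfin⟩ := exists_finite_inj_algHom_of_fg k A
  letI := g.toRingHom.toAlgebra
  haveI : Module.Finite (MvPolynomial (Fin s) k) A := hfin
  haveI : FaithfulSMul (MvPolynomial (Fin s) k) A := (faithfulSMul_iff_algebraMap_injective _ _).mpr hg
  obtain ⟨n, φ, hφ⟩ := exists_injective_pi (MvPolynomial (Fin s) k) A
  let gK : K ⊗[k] MvPolynomial (Fin s) k →ₐ[k] K ⊗[k] A :=
    Algebra.TensorProduct.map (AlgHom.id k K) g
  haveI : IsScalarTower k (MvPolynomial (Fin s) k) A :=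
    IsScalarTower.of_algebraMap_eq fun c => (g.commutes c).symm
  let Φ : Fin n → (K ⊗[k] A →ₗ[k] K ⊗[k] MvPolynomial (Fin s) k) := fun i =>
    (((LinearMap.proj i).comp φ).restrictScalars k).lTensor K
  have hΦ : ∀ i h b, Φ i (gK h * b) = h * Φ i b := by
    intro i h b
    induction h using TensorProduct.induction_on with
    | zero => simp
    | tmul c p =>
      induction b using TensorProduct.induction_on with
      | zero => simp
      | tmul c' a =>
        simp only [gK, Φ, Algebra.TensorProduct.map_tmul, AlgHom.id_apply,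
          Algebra.TensorProduct.tmul_mul_tmul, LinearMap.lTensor_tmul]
        congr 1
        show φ (g p * a) i = p * φ a i
        rw [show g p * a = p • a from (Algebra.smul_def p a).symm, map_smul]
        rfl
      | add x y hx hy => rw [mul_add, map_add, hx, hy, map_add, mul_add]
    | add x y hx hy => rw [map_add, add_mul, map_add, hx, hy, add_mul]
  have hjoint : ∀ b, (∀ i, Φ i b = 0) → b = 0 := by
    intro b hb
    have hinj := Module.Flat.lTensor_preserves_injective_linearMap (M := K) (φ.restrictScalars k) hφ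
    refine hinj ((TensorProduct.piRight k k K (fun _ : Fin n => MvPolynomial (Fin s) k)).injective ?_)
    have key : ∀ z i, TensorProduct.piRight k k K (fun _ : Fin n => MvPolynomial (Fin s) k)
        ((φ.restrictScalars k).lTensor K z) i = Φ i z := by
      intro z i
      induction z using TensorProduct.induction_on with
      | zero => simp
      | tmul c a => simp [Φ]
      | add x y hx hy => rw [map_add, map_add, Pi.add_apply, hx, hy, map_add]
    funext i
    rw [key, hb i, map_zero, map_zero]
    rfl
  haveI : IsDomain (K ⊗[k] MvPolynomial (Fin s) k) :=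
    (MvPolynomial.algebraTensorAlgEquiv (σ := Fin s) k K).toRingEquiv.toMulEquiv.isDomain
  have hreg : ∀ h, h ≠ 0 → gK h ∈ nonZeroDivisors (K ⊗[k] A) := by
    intro h hh
    refine mem_nonZeroDivisors_iff.mpr ⟨fun b hb => hjoint b fun i => ?_, fun b hb => hjoint b fun i => ?_⟩
    · have := hΦ i h b
      rw [hb, map_zero] at this
      exact (mul_eq_zero.mp this.symm).resolve_left hh
    · have := hΦ i h b
      rw [mul_comm, hb, map_zero] at this
      exact (mul_eq_zero.mp this.symm).resolve_left hh
  letI := gK.toRingHom.toAlgebra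
  haveI : q.IsPrime := hq.1.1
  have hinj : Function.Injective ((Ideal.Quotient.mk q).comp gK.toRingHom) := by
    rw [injective_iff_map_eq_zero]
    intro h hh
    by_contra h0
    exact notMem_nonZeroDivisors_of_mem_mem_minimalPrimes (Ideal.Quotient.eq_zero_iff_mem.mp hh) hq
      (hreg h h0)
  have hfin2 : gK.toRingHom.Finite := by
    haveI : Module.Finite (K ⊗[k] MvPolynomial (Fin s) k) (K ⊗[k] A) := by
      obtain ⟨t, ht⟩ := Module.Finite.fg_top (R := MvPolynomial (Fin s) k) (M := A)
      refine ⟨⟨t.image fun a => (1 : K) ⊗ₜ[k] a, ?_⟩⟩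
      rw [eq_top_iff]
      rintro z -
      induction z using TensorProduct.induction_on with
      | zero => exact zero_mem _
      | add x y hx hy => exact add_mem hx hy
      | tmul c a =>
        have ha : a ∈ Submodule.span (MvPolynomial (Fin s) k) (t : Set A) := by rw [ht]; trivial
        induction ha using Submodule.span_induction generalizing c with
        | mem y hy =>
          have hy' : (1 : K) ⊗ₜ[k] y ∈ ((t.image fun a => (1 : K) ⊗ₜ[k] a : Finset _) : Set (K ⊗[k] A)) :=
            Finset.mem_coe.mpr (Finset.mem_image_of_mem (fun a => (1 : K) ⊗ₜ[k] a) hy)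
          have : c ⊗ₜ[k] y = (c ⊗ₜ[k] (1 : MvPolynomial (Fin s) k)) • ((1 : K) ⊗ₜ[k] y) := by
            show _ = gK _ * _
            simp [gK]
          rw [this]
          exact Submodule.smul_mem _ _ (Submodule.subset_span hy')
        | zero => rw [TensorProduct.tmul_zero]; exact zero_mem _
        | add x y _ _ hx hy => rw [TensorProduct.tmul_add]; exact add_mem (hx c) (hy c)
        | smul p x _ hx =>
          have : c ⊗ₜ[k] (p • x) = ((1 : K) ⊗ₜ[k] p) • (c ⊗ₜ[k] x) := by
            show _ = gK _ * _
            simp only [gK, Algebra.TensorProduct.map_tmul, AlgHom.id_apply,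
              Algebra.TensorProduct.tmul_mul_tmul, one_mul]
            rw [Algebra.smul_def]; rfl
          rw [this]
          exact Submodule.smul_mem _ _ (hx c)
    assumption
  haveI : Module.Finite (K ⊗[k] MvPolynomial (Fin s) k) (K ⊗[k] A) := hfin2
  haveI : Algebra.IsIntegral (K ⊗[k] MvPolynomial (Fin s) k) (K ⊗[k] A ⧸ q) :=
    Algebra.IsIntegral.of_finite _ _
  rw [(H05EGA4.dim_int (K ⊗[k] MvPolynomial (Fin s) k) (K ⊗[k] A ⧸ q)).2 hinj,
    (H05EGA4.dim_int (MvPolynomial (Fin s) k) A).2 hg,
    ringKrullDim_eq_of_ringEquiv (MvPolynomial.algebraTensorAlgEquiv (σ := Fin s) k K).toRingEquiv,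
    MvPolynomial.ringKrullDim_of_isNoetherianRing, MvPolynomial.ringKrullDim_of_isNoetherianRing,
    ringKrullDim_eq_zero_of_field, ringKrullDim_eq_zero_of_field]

omit [IsDomain A] in
/-- Below every prime of `K ⊗ A` lying above `p` there is one lying exactly over `p` with the same
dimension as `p`. -/
theorem exists_le_comap_eq [Algebra.FiniteType k A] (p : Ideal A) [p.IsPrime]
    (Q : Ideal (K ⊗[k] A)) [Q.IsPrime]
    (h : p ≤ Q.comap (Algebra.TensorProduct.includeRight : A →ₐ[k] K ⊗[k] A).toRingHom) :
    ∃ q : Ideal (K ⊗[k] A), q.IsPrime ∧ q ≤ Q ∧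
      q.comap (Algebra.TensorProduct.includeRight : A →ₐ[k] K ⊗[k] A).toRingHom = p ∧
      ringKrullDim (K ⊗[k] A ⧸ q) = ringKrullDim (A ⧸ p) := by
  haveI : Algebra.FiniteType k (A ⧸ p) := Algebra.FiniteType.trans (R := k) (S := A) inferInstance inferInstance
  let π : K ⊗[k] A →ₐ[k] K ⊗[k] (A ⧸ p) :=
    Algebra.TensorProduct.map (AlgHom.id k K) (Ideal.Quotient.mkₐ k p)
  have hπs : Function.Surjective π := LinearMap.lTensor_surjective K
    (g := (Ideal.Quotient.mkₐ k p).toLinearMap) Ideal.Quotient.mk_surjective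
  have hker : RingHom.ker π ≤ Q := by
    rw [Algebra.TensorProduct.lTensor_ker (Ideal.Quotient.mkₐ k p) Ideal.Quotient.mk_surjective,
      Ideal.map_le_iff_le_comap]
    intro a ha
    exact h (Ideal.Quotient.eq_zero_iff_mem.mp ha)
  haveI : (Q.map π).IsPrime := Ideal.map_isPrime_of_surjective hπs hker
  obtain ⟨m, hm, hmQ⟩ := Ideal.exists_minimalPrimes_le (I := (⊥ : Ideal (K ⊗[k] (A ⧸ p))))
    (J := Q.map π) bot_le
  haveI := hm.1.1
  refine ⟨m.comap π, Ideal.IsPrime.comap π, ?_, ?_, ?_⟩
  · refine (Ideal.comap_mono hmQ).trans ?_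
    rw [Ideal.comap_map_of_surjective π hπs]
    exact sup_le le_rfl hker
  · have h1 := comap_includeRight_eq_bot k K (A := A ⧸ p) m hm
    change (m.comap (π : K ⊗[k] A →+* K ⊗[k] (A ⧸ p))).comap _ = p
    rw [Ideal.comap_comap]
    have : (π : K ⊗[k] A →+* _).comp (Algebra.TensorProduct.includeRight : A →ₐ[k] K ⊗[k] A).toRingHom =
        (Algebra.TensorProduct.includeRight : (A ⧸ p) →ₐ[k] K ⊗[k] (A ⧸ p)).toRingHom.comp
          (Ideal.Quotient.mk p) := RingHom.ext fun a => by simp [π]
    rw [this, ← Ideal.comap_comap, h1, ← RingHom.ker_eq_comap_bot, Ideal.mk_ker]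
  · rw [← dim_quotient_minimalPrimes k K m hm]
    refine ringKrullDim_eq_of_ringEquiv (RingEquiv.ofBijective
      (Ideal.quotientMap m (π : K ⊗[k] A →+* K ⊗[k] (A ⧸ p)) le_rfl)
      ⟨Ideal.quotientMap_injective' (f := (π : K ⊗[k] A →+* K ⊗[k] (A ⧸ p))) le_rfl,
        Ideal.quotientMap_surjective hπs⟩)

omit [IsDomain A] in
theorem dim_quotient_le_comap [Algebra.FiniteType k A] (Q : Ideal (K ⊗[k] A)) [Q.IsPrime] :
    ringKrullDim (K ⊗[k] A ⧸ Q) ≤ ringKrullDim
      (A ⧸ Q.comap (Algebra.TensorProduct.includeRight : A →ₐ[k] K ⊗[k] A).toRingHom) := by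
  obtain ⟨q, _, hq, -, hd⟩ := exists_le_comap_eq k K
    (Q.comap (Algebra.TensorProduct.includeRight : A →ₐ[k] K ⊗[k] A).toRingHom) Q le_rfl
  rw [← hd]
  exact ringKrullDim_le_of_surjective _ (Ideal.Quotient.factor_surjective hq)

end BaseChange

end Groth.Agent.H8Props.FieldDim
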