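import Groth.Agent.S4730
import Groth.Agent.H8Props.FieldDimRing

/-!
# The dimension formula for finitely generated domains over a field

`height q + dim (A ⧸ q) = dim A`.
-/

set_option autoImplicit false
set_option linter.style.haveILetI false
universe u

namespace Groth.Agent.H8Props.FieldDim

variable (k : Type u) [Field k]

/-- `height Q + trdeg (R ⧸ Q) = n` for all primes. -/
def HasHeightFormula (R : Type u) [CommRing R] [Algebra k R] (n : ℕ) : Prop :=
  ∀ Q : Ideal R, Q.IsPrime → (Q.height : Cardinal.{u}) + Algebra.trdeg k (R ⧸ Q) = n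

theorem HasHeightFormula.of_algEquiv {R S : Type u} [CommRing R] [Algebra k R] [CommRing S]
    [Algebra k S] (e : R ≃ₐ[k] S) {n : ℕ} (h : HasHeightFormula k R n) : HasHeightFormula k S n := by
  intro Q hQ
  haveI : (Q.comap e.toRingEquiv).IsPrime := Ideal.IsPrime.comap _
  have h1 := h (Q.comap e.toRingEquiv) inferInstance
  have h2 : Q = (Q.comap e.toRingEquiv).map (e : R →ₐ[k] S) :=
    (Ideal.map_comap_of_surjective _ e.surjective Q).symm
  rw [(Ideal.quotientEquivAlg (Q.comap e.toRingEquiv) Q e h2).trdeg_eq, RingEquiv.height_comap] at h1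
  exact h1

theorem hasHeightFormula_mvPolynomial (s : ℕ) : HasHeightFormula k (MvPolynomial (Fin s) k) s := by
  induction s with
  | zero =>
    refine HasHeightFormula.of_algEquiv k (MvPolynomial.isEmptyAlgEquiv k (Fin 0)).symm ?_
    intro Q hQ
    obtain rfl : Q = ⊥ := (Ideal.eq_bot_or_top Q).resolve_right hQ.ne_top
    rw [Ideal.height_bot, ← (AlgEquiv.quotientBot k k).symm.trdeg_eq, trdeg_eq_zero]
    simp
  | succ s ih =>
    refine HasHeightFormula.of_algEquiv k (MvPolynomial.finSuccEquiv k s).symm ?_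
    intro Q hQ
    let p := Q.comap (Polynomial.C : MvPolynomial (Fin s) k →+* Polynomial (MvPolynomial (Fin s) k))
    haveI : p.IsPrime := Ideal.IsPrime.comap _
    haveI : Q.LiesOver p := ⟨rfl⟩
    have h1 := Groth.Agent.S4730.result (MvPolynomial (Fin s) k) p Q
    have h2 := ih p inferInstance
    haveI : FaithfulSMul (MvPolynomial (Fin s) k ⧸ p) (Polynomial (MvPolynomial (Fin s) k) ⧸ Q) :=
      (faithfulSMul_iff_algebraMap_injective _ _).mpr Ideal.algebraMap_quotient_injective
    rw [← trdeg_add_eq k (MvPolynomial (Fin s) k ⧸ p)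
        (A := Polynomial (MvPolynomial (Fin s) k) ⧸ Q), ← add_assoc, add_comm (Q.height : Cardinal.{u}),
      add_assoc, ← h1, ← add_assoc, add_comm (Algebra.trdeg k _) (p.height : Cardinal.{u}), h2]
    push_cast
    rfl

/-- The dimension formula `height q + dim (A ⧸ q) = dim A` for a finitely generated domain. -/
theorem height_add_dim_quotient (A : Type u) [CommRing A] [IsDomain A] [Algebra k A]
    [Algebra.FiniteType k A] (q : Ideal A) [q.IsPrime] :
    (q.height : WithBot ℕ∞) + ringKrullDim (A ⧸ q) = ringKrullDim A := by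
  obtain ⟨s, g, hg, hfin⟩ := exists_finite_inj_algHom_of_fg k A
  letI := g.toRingHom.toAlgebra
  haveI : Module.Finite (MvPolynomial (Fin s) k) A := hfin
  haveI : FaithfulSMul (MvPolynomial (Fin s) k) A := (faithfulSMul_iff_algebraMap_injective _ _).mpr hg
  haveI : IsScalarTower k (MvPolynomial (Fin s) k) A :=
    IsScalarTower.of_algebraMap_eq fun c => (g.commutes c).symm
  haveI : IsNoetherianRing A := Algebra.FiniteType.isNoetherianRing k A
  let p := q.comap (algebraMap (MvPolynomial (Fin s) k) A)
  haveI : q.LiesOver p := ⟨rfl⟩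
  have hh : q.height = p.height := by
    rw [Ideal.height_eq_height_add_of_liesOver_of_hasGoingDown p q]
    have hz : (q.map (Ideal.Quotient.mk (p.map (algebraMap (MvPolynomial (Fin s) k) A)))).height = 0 := by
      have hle : p.map (algebraMap (MvPolynomial (Fin s) k) A) ≤ q := Ideal.map_comap_le
      haveI := Ideal.isPrime_map_quotientMk_of_isPrime hle
      rw [Ideal.height_eq_zero_iff]
      refine ⟨⟨inferInstance, bot_le⟩, fun J hJ hJq => ?_⟩
      haveI := hJ.1
      have hJ' : J.comap (Ideal.Quotient.mk _) ≤ q := by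
        refine (Ideal.comap_mono hJq).trans ?_
        rw [Ideal.comap_map_of_surjective _ Ideal.Quotient.mk_surjective]
        refine sup_le le_rfl ?_
        rw [← RingHom.ker_eq_comap_bot, Ideal.mk_ker]
        exact hle
      rcases hJ'.lt_or_eq with hlt | heq
      · exfalso
        have hlt' := Ideal.IsIntegral.comap_lt_comap (R := MvPolynomial (Fin s) k) hlt
        refine hlt'.not_ge ?_
        intro x hx
        rw [Ideal.mem_comap, Ideal.mem_comap]
        rw [Ideal.Quotient.eq_zero_iff_mem.mpr (Ideal.mem_map_of_mem _ hx)]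
        exact J.zero_mem
      · rw [← heq, Ideal.map_comap_of_surjective _ Ideal.Quotient.mk_surjective]
    rw [hz, add_zero]
  haveI : Algebra.FiniteType k (A ⧸ q) := Algebra.FiniteType.trans (R := k) (S := A) inferInstance inferInstance
  haveI : Algebra.FiniteType k (MvPolynomial (Fin s) k ⧸ p) :=
    Algebra.FiniteType.trans (R := k) (S := MvPolynomial (Fin s) k) inferInstance inferInstance
  haveI : FaithfulSMul (MvPolynomial (Fin s) k ⧸ p) (A ⧸ q) :=
    (faithfulSMul_iff_algebraMap_injective _ _).mpr Ideal.algebraMap_quotient_injective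
  obtain ⟨t, ht, ht'⟩ := exists_dim_trdeg k (A ⧸ q)
  have htr : Algebra.trdeg k (MvPolynomial (Fin s) k ⧸ p) = t := by
    have hadd := trdeg_add_eq k (MvPolynomial (Fin s) k ⧸ p) (A := A ⧸ q)
    haveI : Algebra.IsIntegral (MvPolynomial (Fin s) k ⧸ p) (A ⧸ q) := Algebra.IsIntegral.quotient
    rw [trdeg_eq_zero_iff.2 (inferInstance : Algebra.IsAlgebraic (MvPolynomial (Fin s) k ⧸ p) (A ⧸ q)),
      add_zero, ht'] at hadd
    exact hadd
  have h := hasHeightFormula_mvPolynomial k s p inferInstance
  rw [htr] at h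
  obtain ⟨m, hm⟩ : ∃ m : ℕ, p.height = m := ⟨_, (ENat.coe_toNat (Ideal.height_ne_top (Ideal.IsPrime.ne_top inferInstance))).symm⟩
  rw [hm, Cardinal.ofENat_nat] at h
  have h3 : m + t = s := by exact_mod_cast h
  rw [hh, hm, ht, (H05EGA4.dim_int (MvPolynomial (Fin s) k) A).2 hg,
    MvPolynomial.ringKrullDim_of_isNoetherianRing, ringKrullDim_eq_zero_of_field, ← h3]
  simp

end Groth.Agent.H8Props.FieldDim
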