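import Groth.Agent.H29Blow.AssPoints
import Groth.Agent.H29Blow.WeakAss
import Groth.Agent.H4Depth.Regular
import Groth.Agent.H8Props.FibreStalk
import Mathlib.AlgebraicGeometry.Morphisms.Flat
import Mathlib.AlgebraicGeometry.Properties
import Mathlib.AlgebraicGeometry.FunctionField
import Mathlib.RingTheory.Flat.TorsionFree
import Mathlib.RingTheory.DiscreteValuationRing.TFAE
import Mathlib.Topology.KrullDimension

/-!
# Flatness over integral bases whose local rings are regular of dimension at most one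
-/

set_option autoImplicit false

universe u

open AlgebraicGeometry CategoryTheory IsLocalRing

namespace Groth.Agent.H8Props.FlatDimOneBase

theorem not_isSMulRegular_of_isAssociatedPrime {B : Type u} [CommRing B] {p : Ideal B}
    (hp : IsAssociatedPrime p B) {r : B} (hr : r ∈ p) : ¬ IsSMulRegular B r := by
  intro hreg
  obtain ⟨hp', m, hm⟩ := hp
  rw [hm] at hr
  obtain ⟨n, hn⟩ := hr
  rw [Submodule.mem_colon_singleton, Submodule.mem_bot] at hn
  have hm0 : m = 0 := (hreg.pow n).right_eq_zero_of_smul hn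
  refine hp'.ne_top (hm.trans ?_)
  rw [Ideal.radical_eq_top, Ideal.eq_top_iff_one, Submodule.mem_colon_singleton, hm0]
  simp

theorem isPrincipalIdealRing_of_dim_le_one (A : Type u) [CommRing A] [IsRegularLocalRing A]
    (h : ringKrullDim A ≤ 1) : IsPrincipalIdealRing A := by
  have := H4Depth.isDomain_of_isRegularLocalRing A
  have hsp : (maximalIdeal A).spanFinrank ≤ 1 := by
    have h' := IsRegularLocalRing.spanFinrank_maximalIdeal (R := A)
    rw [← h'] at h
    exact_mod_cast h
  refine ((tfae_of_isNoetherianRing_of_isLocalRing_of_isDomain (R := A)).out 0 5).mpr ?_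
  rw [← spanFinrank_maximalIdeal_eq_finrank_cotangentSpace]
  exact hsp

theorem flat_iff_forall_isSMulRegular {A B : Type u} [CommRing A] [IsRegularLocalRing A]
    [CommRing B] [Algebra A B] (h : ringKrullDim A ≤ 1) :
    Module.Flat A B ↔ ∀ a : A, a ≠ 0 → IsSMulRegular B (algebraMap A B a) := by
  have := H4Depth.isDomain_of_isRegularLocalRing A
  have := isPrincipalIdealRing_of_dim_le_one A h
  constructor
  · intro _ a ha
    exact IsSMulRegular.of_flat (x := a) fun b c e => mul_left_cancel₀ ha e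
  · intro hreg
    rw [Module.Flat.flat_iff_torsion_eq_bot_of_isBezout, eq_bot_iff]
    rintro b ⟨⟨a, ha⟩, hab⟩
    rw [Submodule.mem_bot]
    refine (hreg a (nonZeroDivisors.ne_zero ha)).right_eq_zero_of_smul ?_
    rw [algebraMap_smul]
    exact hab

variable {X Y : Scheme.{u}}

theorem ringKrullDim_stalk_le (Y : Scheme.{u}) (y : Y) :
    ringKrullDim (Y.presheaf.stalk y) ≤ topologicalKrullDim Y := by
  rw [← PrimeSpectrum.topologicalKrullDim_eq_ringKrullDim]
  exact (Y.fromSpecStalk y).isEmbedding.isInducing.topologicalKrullDim_le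

theorem fromSpecStalk_specializes (Y : Scheme.{u}) {y z : Y} (h : z ⤳ y) :
    ∃ p : PrimeSpectrum (Y.presheaf.stalk y), Y.fromSpecStalk y p = z :=
  (show z ∈ Set.range (Y.fromSpecStalk y) by rw [Scheme.range_fromSpecStalk]; exact h)

theorem fromSpecStalk_bot [IsIntegral Y] (y : Y) :
    Y.fromSpecStalk y (⟨⊥, Ideal.isPrime_bot⟩ : PrimeSpectrum (Y.presheaf.stalk y)) = genericPoint Y := by
  obtain ⟨p, hp⟩ := fromSpecStalk_specializes Y (genericPoint_specializes y)
  refine (Inseparable.eq ?_)
  refine Specializes.antisymm ?_ (genericPoint_specializes _)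
  rw [← hp]
  exact ((PrimeSpectrum.le_iff_specializes ⟨⊥, Ideal.isPrime_bot⟩ p).mp bot_le).map
    (Y.fromSpecStalk y).continuous

theorem maximalIdeal_stalk_ne_bot [IsIntegral Y] (y : Y) (hy : y ≠ genericPoint Y) :
    maximalIdeal (Y.presheaf.stalk y) ≠ ⊥ := by
  intro h
  refine hy ?_
  rw [← fromSpecStalk_bot y]
  refine (Scheme.fromSpecStalk_closedPoint (X := Y) (x := y)).symm.trans ?_
  exact congrArg _ (PrimeSpectrum.ext h)

/-- Flatness over an integral scheme with regular local rings of dimension at most one in terms of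
the weakly associated points of the source. -/
theorem flat_iff_weakAssPoint [IsIntegral Y] (f : X ⟶ Y)
    (hreg : ∀ y : Y, IsRegularLocalRing (Y.presheaf.stalk y))
    (hdim : ∀ y : Y, ringKrullDim (Y.presheaf.stalk y) ≤ 1) :
    Flat f ↔ ∀ x : X, Curv2.IsWeakAssPoint (Coh.structureModule X) x → f x = genericPoint Y := by
  constructor
  · intro hf x hx
    by_contra hne
    obtain ⟨a, ha, ha0⟩ := Submodule.exists_mem_ne_zero_of_ne_bot (maximalIdeal_stalk_ne_bot (f x) hne)
    letI := (f.stalkMap x).hom.toAlgebra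
    have := hreg (f x)
    have hfl : Module.Flat (Y.presheaf.stalk (f x)) (X.presheaf.stalk x) := Flat.stalkMap f x
    refine not_isSMulRegular_of_isAssociatedPrime ((H29Blow.isWeakAssPoint_structureModule_iff x).mp hx)
      ?_ ((flat_iff_forall_isSMulRegular (hdim (f x))).mp hfl a ha0)
    exact (IsLocalRing.mem_maximalIdeal _).mpr
      (map_nonunit (f.stalkMap x).hom a ((IsLocalRing.mem_maximalIdeal _).mp ha))
  · intro h
    refine Flat.iff_flat_stalkMap f |>.mpr fun x => ?_
    letI := (f.stalkMap x).hom.toAlgebra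
    have := hreg (f x)
    show Module.Flat (Y.presheaf.stalk (f x)) (X.presheaf.stalk x)
    rw [flat_iff_forall_isSMulRegular (hdim (f x))]
    intro a ha
    refine (isSMulRegular_iff_right_eq_zero_of_smul).mpr fun b hb => ?_
    obtain ⟨W, hxW, a', rfl⟩ := Y.presheaf.exists_germ_eq a
    have hmul : (f.stalkMap x (Y.presheaf.germ W (f x) hxW a')) * b = 0 := hb
    rw [Scheme.Hom.germ_stalkMap_apply] at hmul
    obtain ⟨U, hxU, β, rfl⟩ := X.presheaf.exists_germ_eq b
    set s := f.app W a'
    have hx' : x ∈ f ⁻¹ᵁ W ⊓ U := ⟨hxW, hxU⟩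
    set i₁ := homOfLE (inf_le_left : f ⁻¹ᵁ W ⊓ U ≤ f ⁻¹ᵁ W)
    set i₂ := homOfLE (inf_le_right : f ⁻¹ᵁ W ⊓ U ≤ U)
    rw [← TopCat.Presheaf.germ_res_apply X.presheaf i₁ x hx' s,
      ← TopCat.Presheaf.germ_res_apply X.presheaf i₂ x hx' β, ← map_mul] at hmul
    obtain ⟨O, hxO, i, j, hO⟩ := X.presheaf.germ_eq x hx' hx' _ _
      (hmul.trans (map_zero (X.presheaf.germ _ x hx').hom).symm)
    rw [map_zero] at hO
    obtain ⟨V, hV, hxV, hVO⟩ : ∃ V : X.Opens, IsAffineOpen V ∧ x ∈ V ∧ V ≤ O :=
      TopologicalSpace.Opens.isBasis_iff_nbhd.mp X.isBasis_affineOpens hxO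
    set β' := X.presheaf.map (i₂.op ≫ i.op ≫ (homOfLE hVO).op) β
    suffices β' = 0 by
      have h1 := congrArg (X.presheaf.germ V x hxV).hom this
      rw [map_zero] at h1
      exact (TopCat.Presheaf.germ_res_apply X.presheaf (homOfLE hVO ≫ i ≫ i₂) x hxV β).symm.trans h1
    by_contra hne
    obtain ⟨y, hy, hass, hgerm⟩ := H29Blow.exists_isWeakAssPoint_germ_ne_zero ⟨V, hV⟩ hne
    have hfy := h y hass
    have hyW : f y ∈ W := (i.le (hVO hy)).1
    have hprod : X.presheaf.map (i₁.op ≫ i.op ≫ (homOfLE hVO).op) s * β' = 0 := by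
      have := congrArg (X.presheaf.map (homOfLE hVO).op).hom hO
      simpa only [β', map_mul, map_zero, Functor.map_comp, CommRingCat.comp_apply] using this
    have hu : IsUnit (Y.presheaf.germ W (f y) hyW a') := by
      have ha' : a' ≠ 0 := fun h0 => ha (by rw [h0, map_zero])
      have : Nonempty W := ⟨⟨f x, hxW⟩⟩
      have hgen : genericPoint Y ∈ W := (genericPoint_specializes (f x)).mem_open W.2 hxW
      have hinj : Y.presheaf.germ W (genericPoint Y) hgen a' ≠ 0 := fun h0 =>
        ha' (germ_injective_of_isIntegral Y _ hgen (h0.trans (map_zero _).symm))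
      revert hyW
      rw [hfy]
      intro hyW
      exact Ne.isUnit (a := (show Y.functionField from Y.presheaf.germ W (genericPoint Y) hgen a')) hinj
    refine hgerm ?_
    have h2 := congrArg (X.presheaf.germ V y hy).hom hprod
    rw [map_mul, map_zero] at h2
    have hu' : IsUnit (X.presheaf.germ V y hy (X.presheaf.map (i₁.op ≫ i.op ≫ (homOfLE hVO).op) s)) := by
      erw [TopCat.Presheaf.germ_res_apply X.presheaf (homOfLE hVO ≫ i ≫ i₁) y hy s]
      exact (congrArg IsUnit (Scheme.Hom.germ_stalkMap_apply f W y hyW a')).mp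
        (hu.map (f.stalkMap y).hom)
    exact hu'.mul_right_eq_zero.mp h2

theorem apply_eq_genericPoint_iff [IsIntegral Y] (f : X ⟶ Y) (x : X)
    (q : PrimeSpectrum (X.presheaf.stalk x)) :
    f (X.fromSpecStalk x q) = genericPoint Y ↔ q.asIdeal.comap (f.stalkMap x).hom = ⊥ := by
  have key : f (X.fromSpecStalk x q) =
      Y.fromSpecStalk (f x) (PrimeSpectrum.comap (f.stalkMap x).hom q) := by
    show (X.fromSpecStalk x ≫ f) q = _
    rw [← Scheme.SpecMap_stalkMap_fromSpecStalk]
    rfl
  rw [key, ← fromSpecStalk_bot (f x)]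
  exact (Y.fromSpecStalk (f x)).isEmbedding.injective.eq_iff.trans PrimeSpectrum.ext_iff

/-- Minimal primes of a local ring give points with no nontrivial generization. -/
theorem eq_of_specializes_fromSpecStalk (x : X) {q : PrimeSpectrum (X.presheaf.stalk x)}
    (hq : q.asIdeal ∈ minimalPrimes (X.presheaf.stalk x)) {y : X} (hy : y ⤳ X.fromSpecStalk x q) :
    y = X.fromSpecStalk x q := by
  have hx : X.fromSpecStalk x q ⤳ x := by
    have : X.fromSpecStalk x q ∈ Set.range (X.fromSpecStalk x) := ⟨q, rfl⟩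
    rwa [Scheme.range_fromSpecStalk] at this
  obtain ⟨p, rfl⟩ := fromSpecStalk_specializes X (hy.trans hx)
  have hle : p ≤ q :=
    (PrimeSpectrum.le_iff_specializes p q).mpr ((X.fromSpecStalk x).isEmbedding.specializes_iff.mp hy)
  rw [le_antisymm hle (hq.2 ⟨p.2, bot_le⟩ hle)]

end Groth.Agent.H8Props.FlatDimOneBase
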