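import Groth.Agent.H11Ample.RelPullback
import Groth.Agent.H11Ample.RelComp
import Groth.Agent.H11Proj.PnGlobal
import Groth.Agent.H11Ample.ImmersionPn
import Groth.Agent.H7Lim.ThickeningAmple
import Groth.Prelude.Def_MoreMor

/-!
# Ample modules: bases, embeddings, products, thickenings, families
-/

set_option autoImplicit false
set_option linter.style.haveILetI false
set_option backward.isDefEq.respectTransparency false

noncomputable section

universe u

open CategoryTheory CategoryTheory.Limits AlgebraicGeometry Opposite TopologicalSpace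
open Groth.Agent.H11Tilde Groth.Agent.H11Ample

namespace Groth.Agent.H8Props.Ample

variable {X Y S : Scheme.{u}}

theorem isBasis_affine_gen {L : X.Modules} (hL : PicF.IsInvertible L)
    (hB : Opens.IsBasis {U : X.Opens | ∃ (n : ℕ) (s : Coh.structureModule X ⟶ CohB1.tensorPow L (n + 1)),
      U = CohB1.genLocus _ s}) :
    Opens.IsBasis {U : X.Opens | IsAffineOpen U ∧ ∃ (n : ℕ) (s : Coh.structureModule X ⟶ CohB1.tensorPow L (n + 1)),
      U = CohB1.genLocus _ s} := by
  refine Opens.isBasis_iff_nbhd.2 fun {U x} hx => ?_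
  obtain ⟨V, e, hxV, he⟩ := exists_gen hL x
  obtain ⟨W, hW, hxW, hWle⟩ := exists_isAffineOpen_mem_and_subset (U := U ⊓ V) (x := x) ⟨hx, hxV⟩
  obtain ⟨D, ⟨n, s, rfl⟩, hxD, hDW⟩ := Opens.isBasis_iff_nbhd.1 hB (U := W) hxW
  refine ⟨_, ⟨?_, n, s, rfl⟩, hxD, hDW.trans (fun y hy => (hWle hy).1)⟩
  rw [genLocus_eq_gen] at hDW ⊢
  have h := isAffineOpen_gen_inf hW
    ((isGen_spow he (n + 1)).res (show W ≤ V from fun y hy => (hWle hy).2)) (SecTwist.val s ⊤)
  rwa [inf_eq_left.2 hDW] at h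

theorem isAmple_pullback_of_isEmbedding (i : X ⟶ Y) [CompactSpace X] (hi : Topology.IsEmbedding i)
    {L : Y.Modules} (hL : CohB1.IsAmple L) : CohB1.IsAmple ((Scheme.Modules.pullback i).obj L) := by
  haveI := quasiSeparatedSpace_of_isAmple hL
  haveI : QuasiCompact i := quasiCompact_of_compactSpace i
  exact isAmple_pullback_of_isQuasiAffine i hL fun W hW => (isQuasiAffineHom_of_isEmbedding i hi).2 W hW

theorem isQuasiAffine_pullback (f : X ⟶ S) (g : Y ⟶ S) [QuasiSeparatedSpace S] [IsAffine X] [IsAffine Y] :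
    (pullback f g).IsQuasiAffine := by
  haveI : QuasiSeparated (terminal.from S) := (quasiSeparatedSpace_iff_quasiSeparated S).1 inferInstance
  let j := pullback.mapDesc f g (terminal.from S)
  haveI : QuasiCompact j := inferInstance
  haveI : CompactSpace (pullback f g : Scheme.{u}) := QuasiCompact.compactSpace_of_compactSpace j
  exact Scheme.IsQuasiAffine.of_isImmersion j

theorem isQuasiAffine_fst_inf_snd (f : X ⟶ S) (g : Y ⟶ S) [QuasiSeparatedSpace S] {A : X.Opens}
    (hA : IsAffineOpen A) {B : Y.Opens} (hB : IsAffineOpen B) :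
    (pullback.fst f g ⁻¹ᵁ A ⊓ pullback.snd f g ⁻¹ᵁ B).toScheme.IsQuasiAffine := by
  haveI : IsAffine A.toScheme := hA
  haveI : IsAffine B.toScheme := hB
  let j := pullback.map (A.ι ≫ f) (B.ι ≫ g) f g A.ι B.ι (𝟙 S) (by simp) (by simp)
  have e : j.opensRange = pullback.fst f g ⁻¹ᵁ A ⊓ pullback.snd f g ⁻¹ᵁ B := by
    refine Opens.ext ?_
    change Set.range j = _
    rw [Scheme.Pullback.range_map, Scheme.Opens.range_ι, Scheme.Opens.range_ι]
    rfl
  haveI := isQuasiAffine_pullback (A.ι ≫ f) (B.ι ≫ g)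
  rw [← e]
  exact isQuasiAffine_of_iso j.isoOpensRange.symm

theorem exists_pullback_section (p : X ⟶ Y) {L : Y.Modules} (hL : PicF.IsInvertible L) (k : ℕ)
    (s : Γ(CohB1.tensorPow L k, ⊤)) (n : ℕ) (hn : 0 < n) :
    ∃ t : Γ(CohB1.tensorPow ((Scheme.Modules.pullback p).obj L) (k * n), ⊤),
      gen _ t = p ⁻¹ᵁ gen (CohB1.tensorPow L k) s := by
  have hM := isInvertible_pullback p hL
  obtain ⟨φ⟩ := exists_iso_pullback_tensorPow p hL k
  obtain ⟨ψ, -⟩ := exists_iso_mul hM k n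
  refine ⟨ψ.hom.app ⊤ (spow (φ.hom.app ⊤ (pullTop p s)) n), ?_⟩
  rw [gen_iso, gen_spow (isInvertible_tensorPow hM k) _ n hn, gen_iso]
  have := gen_smul_pullSect p (isInvertible_tensorPow hL k) s (isUnit_one (M := Γ(X, ⊤)))
  rwa [one_smul] at this

theorem isAmple_prod [QuasiSeparatedSpace S] (f : X ⟶ S) (g : Y ⟶ S) {L : X.Modules} {N : Y.Modules}
    (hL : CohB1.IsAmple L) (hN : CohB1.IsAmple N) :
    CohB1.IsAmple (CohB1.tensorMod ((Scheme.Modules.pullback (pullback.fst f g)).obj L)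
      ((Scheme.Modules.pullback (pullback.snd f g)).obj N)) := by
  haveI := compactSpace_of_isAmple hL
  haveI := compactSpace_of_isAmple hN
  haveI : QuasiCompact g := quasiCompact_of_compactSpace g
  haveI : QuasiCompact (pullback.fst f g) := MorphismProperty.pullback_fst _ _ ‹QuasiCompact g›
  haveI : CompactSpace (pullback f g : Scheme.{u}) :=
    QuasiCompact.compactSpace_of_compactSpace (pullback.fst f g)
  obtain ⟨hL', -, hA⟩ := isAmple_iff.1 hL
  obtain ⟨hN', -, hB⟩ := isAmple_iff.1 hN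
  have h₁ := isInvertible_pullback (pullback.fst f g) hL'
  have h₂ := isInvertible_pullback (pullback.snd f g) hN'
  refine isAmple_of_gen_isQuasiAffine (isInvertible_tensor h₁ h₂) fun x => ?_
  obtain ⟨k, s, hk, hxs, hs⟩ := hA (pullback.fst f g x)
  obtain ⟨m, t, hm, hxt, ht⟩ := hB (pullback.snd f g x)
  obtain ⟨s', hs'⟩ := exists_pullback_section (pullback.fst f g) hL' k s m hm
  obtain ⟨t₀, ht₀⟩ := exists_pullback_section (pullback.snd f g) hN' m t k hk
  obtain ⟨t', ht'⟩ := exists_section_of_eq (mul_comm m k) t₀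
  obtain ⟨χ⟩ := exists_iso_tensorPow_tensor h₁ h₂ (k * m)
  have e : gen _ (χ.hom.app ⊤ (tm s' t')) =
      pullback.fst f g ⁻¹ᵁ gen _ s ⊓ pullback.snd f g ⁻¹ᵁ gen _ t := by
    rw [gen_iso, gen_tm (isInvertible_tensorPow h₁ _) (isInvertible_tensorPow h₂ _), hs', ht', ht₀]
  exact ⟨k * m, _, Nat.mul_pos hk hm, by rw [e]; exact ⟨hxs, hxt⟩, by
    rw [e]; exact isQuasiAffine_fst_inf_snd f g hs ht⟩

theorem isRelAmple_twistOver (n : ℕ) (S : Scheme.{u}) :
    RelAmple.IsRelAmple (CohB1.ProjSpaceOver.toBase n S) (Twist.twistOver n S 1) := by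
  have h := isAmple_twistProjSpace n (ULift.{u} ℤ)
  haveI := compactSpace_projSpace n (ULift.{u} ℤ)
  haveI : QuasiCompact (CohB1.ProjSpace.toSpec n (ULift.{u} ℤ)) := quasiCompact_of_compactSpace _
  exact isRelAmple_baseChange (CohB1.ProjSpace.toSpec n (ULift.{u} ℤ)) (specULiftZIsTerminal.from S)
    ((isRelAmple_iff_isAmple_of_isAffine).2 h)

theorem exists_isAmple_projSpaceOver (n : ℕ) (hS : ∃ N : S.Modules, CohB1.IsAmple N) :
    ∃ M : (CohB1.ProjSpaceOver n S).Modules, CohB1.IsAmple M := by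
  obtain ⟨N, hN⟩ := hS
  haveI : QuasiCompact (CohB1.ProjSpaceOver.toBase n S) := (isRelAmple_twistOver n S).1
  obtain ⟨n₀, -, h⟩ := eventually_isAmple_tensor_pullback _ (isRelAmple_twistOver n S) hN
  exact ⟨_, h n₀ le_rfl⟩

theorem isImmersion_projSpace_iff (hS : ∃ N : S.Modules, CohB1.IsAmple N) (f : X ⟶ S) :
    (∃ (n : ℕ) (i : X ⟶ CohB1.ProjSpaceOver n S), IsImmersion i ∧ QuasiCompact i ∧
        i ≫ CohB1.ProjSpaceOver.toBase n S = f) ↔
      (LocallyOfFiniteType f ∧ QuasiCompact f ∧ ∃ L : X.Modules, CohB1.IsAmple L) := by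
  constructor
  · rintro ⟨n, i, hi, hq, rfl⟩
    obtain ⟨M, hM⟩ := exists_isAmple_projSpaceOver n hS
    haveI := compactSpace_of_isAmple hM
    haveI : IsProper (CohB1.ProjSpaceOver.toBase n S) := H27Weil.isProper_toBase n S
    haveI : CompactSpace X := QuasiCompact.compactSpace_of_compactSpace i
    exact ⟨inferInstance, inferInstance, _,
      isAmple_pullback_of_isEmbedding i i.isEmbedding hM⟩
  · rintro ⟨_, _, L, hL⟩
    haveI := compactSpace_of_isAmple hL
    haveI := quasiSeparatedSpace_of_isAmple hL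
    obtain ⟨n, i, hi, h⟩ := exists_immersion_projSpaceOver f hL
    haveI : QuasiSeparatedSpace (CohB1.ProjSpaceOver n S) :=
      quasiSeparatedSpace_of_isAmple (exists_isAmple_projSpaceOver n hS).choose_spec
    exact ⟨n, i, hi, quasiCompact_of_compactSpace i, h⟩

theorem isClosedImmersion_projSpace_iff (hS : ∃ N : S.Modules, CohB1.IsAmple N) (f : X ⟶ S) :
    ((∃ (n : ℕ) (i : X ⟶ CohB1.ProjSpaceOver n S), IsClosedImmersion i ∧
        i ≫ CohB1.ProjSpaceOver.toBase n S = f) ↔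
      (IsProper f ∧ ∃ L : X.Modules, CohB1.IsAmple L)) ∧
    ((IsProper f ∧ ∃ L : X.Modules, CohB1.IsAmple L) ↔
      (IsProper f ∧ ∃ L : X.Modules, RelAmple.IsRelAmple f L)) := by
  refine ⟨⟨?_, ?_⟩, ⟨?_, ?_⟩⟩
  · rintro ⟨n, i, hi, rfl⟩
    haveI : IsProper (CohB1.ProjSpaceOver.toBase n S) := H27Weil.isProper_toBase n S
    exact ⟨inferInstance, ((isImmersion_projSpace_iff hS _).1 ⟨n, i, inferInstance, inferInstance, rfl⟩).2.2⟩
  · rintro ⟨hf, hL⟩
    haveI := hf
    obtain ⟨n, i, hi, -, h⟩ := (isImmersion_projSpace_iff hS f).2 ⟨inferInstance, inferInstance, hL⟩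
    haveI := hi
    exact ⟨n, i, H11Proj.isClosedImmersion_of_isImmersion f i h, h⟩
  · rintro ⟨hf, L, hL⟩
    haveI := hf
    obtain ⟨N, hN⟩ := hS
    haveI := quasiSeparatedSpace_of_isAmple hN
    refine ⟨hf, L, isRelAmple_iff.2 ⟨inferInstance, fun V hV => ?_⟩⟩
    exact ((ampleOn_top_iff L).2 hL).mono le_top (f.isCompact_preimage (U := V) hV.isCompact)
  · rintro ⟨hf, L, hL⟩
    haveI := hf
    obtain ⟨N, hN⟩ := hS
    obtain ⟨n₀, -, h⟩ := eventually_isAmple_tensor_pullback f hL hN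
    exact ⟨hf, _, h n₀ le_rfl⟩

theorem isRelAmple_thickening_iff {X' S' : Scheme.{u}} (iX : X ⟶ X') (iS : S ⟶ S') (f : X ⟶ S) (f' : X' ⟶ S')
    (hX : MoreMor.IsThickening iX) (hS : MoreMor.IsThickening iS) (w : iX ≫ f' = f ≫ iS)
    {L' : X'.Modules} (hL' : PicF.IsInvertible L') :
    RelAmple.IsRelAmple f' L' ↔ RelAmple.IsRelAmple f ((Scheme.Modules.pullback iX).obj L') := by
  haveI := hX.1
  haveI := hS.1
  haveI := hX.2
  haveI := hS.2
  have key : ∀ U : X'.Opens, AmpleOn ((Scheme.Modules.pullback iX).obj L') (iX ⁻¹ᵁ U) ↔ AmpleOn L' U := by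
    intro U
    rw [AmpleOn, ← isAmple_pullback_comp_iff, ← morphismRestrict_ι, isAmple_pullback_comp_iff]
    refine ⟨fun h => H7Lim.isAmple_of_surjective_closedImmersion (iX ∣_ U) ?_
      (isInvertible_pullback _ hL') h, isAmple_pullback_of_isAffineHom _⟩
    haveI : Surjective (iX ∣_ U) := IsZariskiLocalAtTarget.restrict ‹Surjective iX› U
    exact (iX ∣_ U).surjective
  have hpre : ∀ V : S'.Opens, iX ⁻¹ᵁ (f' ⁻¹ᵁ V) = f ⁻¹ᵁ (iS ⁻¹ᵁ V) := fun V => by
    rw [← Scheme.Hom.comp_preimage, w, Scheme.Hom.comp_preimage]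
  constructor
  · intro h
    obtain ⟨hq, hA⟩ := isRelAmple_iff.1 h
    haveI := hq
    haveI : QuasiCompact f := by
      have : QuasiCompact (f ≫ iS) := by rw [← w]; infer_instance
      exact QuasiCompact.of_comp f iS
    refine isRelAmple_of_cover fun y => ?_
    obtain ⟨V, hV, hyV⟩ := exists_isAffineOpen_mem (iS y)
    exact ⟨iS ⁻¹ᵁ V, hV.preimage iS, hyV, hpre V ▸ (key _).2 (hA V hV)⟩
  · intro h
    obtain ⟨hq, hA⟩ := isRelAmple_iff.1 h
    haveI := hq
    haveI : QuasiCompact (iX ≫ f') := by rw [w]; infer_instance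
    haveI : QuasiCompact f' := (quasiCompact_iff _).2 fun U hUo hUc => by
      have h1 := (iX ≫ f').isCompact_preimage (U := ⟨U, hUo⟩) hUc
      have h2 := h1.image iX.continuous
      convert! h2 using 1
      exact (Set.image_preimage_eq (f' ⁻¹' U) iX.surjective).symm
    exact isRelAmple_iff.2 ⟨inferInstance, fun V hV => (key _).1 ((hpre V).symm ▸ hA _ (hV.preimage iS))⟩

theorem exists_family_section (f : X ⟶ Y) [QuasiCompact f] [CompactSpace X] [QuasiSeparatedSpace X]
    {L : X.Modules} (hL : RelAmple.IsRelAmple f L) {K : Y.Modules} (hK : PicF.IsInvertible K)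
    (s : Γ(K, ⊤)) (hs : IsAffineOpen (gen K s)) {x : X} (hx : f x ∈ gen K s) :
    ∃ (P : X.Modules) (v : Γ(P, ⊤)), PicF.IsInvertible P ∧ x ∈ gen P v ∧ IsAffineOpen (gen P v) := by
  have hL' := isInvertible_of_isRelAmple hL
  let M := (Scheme.Modules.pullback f).obj K
  have hM : PicF.IsInvertible M := isInvertible_pullback f hK
  let t : Γ(M, ⊤) := pullTop f s
  have et : gen M t = f ⁻¹ᵁ gen K s := by
    have := gen_smul_pullSect f hK s (isUnit_one (M := Γ(X, ⊤)))
    rwa [one_smul] at this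
  let t₁ : Γ(CohB1.tensorPow M 1, ⊤) := spow t 1
  have et₁ : gen (CohB1.tensorPow M 1) t₁ = gen M t := gen_spow hM t 1 one_pos
  let G := gen (CohB1.tensorPow M 1) t₁
  let e : Γ(M, G) := M.presheaf.map (homOfLE (le_top : G ≤ ⊤)).op t
  have he : IsGen M e := by
    have := (isGen_gen (L := M) t).res et₁.le
    rwa [H10Coh.mres_mres] at this
  have hAm : AmpleOn L G := by
    rw [show G = f ⁻¹ᵁ gen K s from et₁.trans et]
    exact (isRelAmple_iff.1 hL).2 _ hs
  have hxG : x ∈ G := et₁.ge (et.ge hx)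
  obtain ⟨k, u, A, hk, hxA, hA, hAG, hchar⟩ := exists_section_of_ampleOn hL' hAm hxG
  let F := CohB1.tensorPow L k
  have hF : PicF.IsInvertible F := isInvertible_tensorPow hL' k
  obtain ⟨N, hN⟩ := exists_extend (F := F) hM (H28Mero.isQCoh_of_isInvertible hF) 1 0 t₁ (tm u (spow e 0))
  obtain ⟨v, hv⟩ := hN N le_rfl
  have hv' := hv G le_rfl e u 1 he (H10Coh.mres_self _ _ _) (by rw [one_smul]; exact spow_res le_top t 1)
  rw [one_pow, one_smul] at hv'
  let P := CohB1.tensorMod F (CohB1.tensorPow M (0 + N * 1))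
  have hP : PicF.IsInvertible P := isInvertible_tensor hF (isInvertible_tensorPow hM _)
  refine ⟨CohB1.tensorMod P M, tm v t, isInvertible_tensor hP hM, ?_, ?_⟩ <;>
    rw [gen_tm hP hM, ← et₁] <;>
    (have hon : gen P v ⊓ G = A := by
      ext z
      refine ⟨fun hz => ?_, fun hz => ⟨?_, hAG hz⟩⟩
      · obtain ⟨B, l, hzB, hl⟩ := exists_gen hF z
        let B' := B ⊓ G
        have hl' := hl.res (inf_le_left : B' ≤ B)
        obtain ⟨a, ha⟩ := exists_coeff hl' (F.presheaf.map (homOfLE (inf_le_right : B' ≤ G)).op u)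
        have hpl := isGen_tm hl' (isGen_spow (he.res (inf_le_right : B' ≤ G)) (0 + N * 1))
        refine (hchar B' inf_le_right _ a hl' ha z ⟨hzB, hz.2⟩).2
          ((mem_gen_iff_mem_basicOpen hpl ?_ ⟨hzB, hz.2⟩).1 hz.1)
        rw [← tm_smul_left, ← ha, ← spow_res, ← tm_res, ← hv', H10Coh.mres_mres]
      · obtain ⟨B, l, hzB, hl⟩ := exists_gen hF z
        let B' := B ⊓ G
        have hl' := hl.res (inf_le_left : B' ≤ B)
        obtain ⟨a, ha⟩ := exists_coeff hl' (F.presheaf.map (homOfLE (inf_le_right : B' ≤ G)).op u)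
        have hpl := isGen_tm hl' (isGen_spow (he.res (inf_le_right : B' ≤ G)) (0 + N * 1))
        refine (mem_gen_iff_mem_basicOpen hpl ?_ ⟨hzB, hAG hz⟩).2
          ((hchar B' inf_le_right _ a hl' ha z ⟨hzB, hAG hz⟩).1 hz)
        rw [← tm_smul_left, ← ha, ← spow_res, ← tm_res, ← hv', H10Coh.mres_mres]
     rw [hon]) <;> assumption

theorem hasAmpleFamily_of_isRelAmple (f : X ⟶ Y) (hY : MoreMor.HasAmpleFamily Y) {L : X.Modules}
    (hL : RelAmple.IsRelAmple f L) : MoreMor.HasAmpleFamily X := by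
  haveI := hY.1
  haveI := hL.1
  haveI : CompactSpace X := QuasiCompact.compactSpace_of_compactSpace f
  have loc : ∀ y : Y, ∃ (K : Y.Modules) (s : Γ(K, ⊤)),
      PicF.IsInvertible K ∧ y ∈ gen K s ∧ IsAffineOpen (gen K s) := fun y => by
    obtain ⟨M, n, s, hM, hn, hys, hs⟩ := hY.2 y
    rw [genLocus_eq_gen] at hys hs
    exact ⟨_, _, isInvertible_tensorPow hM n, hys, hs⟩
  choose K s hK hys hs using loc
  haveI : QuasiSeparatedSpace X := quasiSeparatedSpace_of_gen_cover
    (P := fun x : X => (Scheme.Modules.pullback f).obj (K (f x)))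
    (fun x => isInvertible_pullback f (hK _)) (fun x => pullTop f (s (f x)))
    (fun x => ⟨x, by
      have := gen_smul_pullSect f (hK (f x)) (s (f x)) (isUnit_one (M := Γ(X, ⊤)))
      rw [one_smul] at this
      rw [this]; exact hys _⟩)
    fun x => by
      have h := quasiSeparatedSpace_of_isAmple ((isRelAmple_iff.1 hL).2 _ (hs (f x)))
      have := gen_smul_pullSect f (hK (f x)) (s (f x)) (isUnit_one (M := Γ(X, ⊤)))
      rw [one_smul] at this
      rw [this]; exact h
  refine ⟨inferInstance, fun x => ?_⟩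
  obtain ⟨P, v, hP, hxv, hv⟩ := exists_family_section f hL (hK _) (s (f x)) (hs _) (hys _)
  refine ⟨P, 1, homOfGlobal _ (spow v 1), hP, le_rfl, ?_, ?_⟩
  · change x ∈ gen (CohB1.tensorPow P 1) (spow v 1)
    rw [gen_spow hP v 1 one_pos]; exact hxv
  · change IsAffineOpen (gen (CohB1.tensorPow P 1) (spow v 1))
    rw [gen_spow hP v 1 one_pos]; exact hv

end Groth.Agent.H8Props.Ample
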