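import Groth.Agent.H8Props.FlatDepth
import Groth.Agent.H4Depth.Regular
import Groth.Agent.H05EGA4.FlatRegular
import Groth.Agent.H7Flat.LocalCriterion

/-!
# Systems of parameters in Cohen–Macaulay modules; miracle flatness
-/

set_option autoImplicit false

universe u

open IsLocalRing RingTheory.Sequence LocCoh Pointwise

namespace Groth.Agent.H8Props.MiracleFlat

variable {R : Type u} [CommRing R] [IsLocalRing R] [IsNoetherianRing R]

/-- `dim M ≤ dim M / (rs) M + |rs|`. -/
theorem supportDim_le_add_length (rs : List R) : ∀ (M : Type u) [AddCommGroup M] [Module R M]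
    [Module.Finite R M], (∀ r ∈ rs, r ∈ maximalIdeal R) →
    Module.supportDim R M ≤
      Module.supportDim R (M ⧸ Ideal.ofList rs • (⊤ : Submodule R M)) + (rs.length : WithBot ℕ∞) := by
  induction rs with
  | nil =>
    intro M _ _ _ _
    rw [Module.supportDim_eq_of_equiv (Submodule.quotEquivOfEqBot _ (by simp))]
    simp
  | cons x rs ih =>
    intro M _ _ _ h
    simp only [List.mem_cons, forall_eq_or_imp] at h
    refine (Module.supportDim_le_supportDim_quotSMulTop_succ h.1).trans ?_
    rw [Module.supportDim_eq_of_equiv
      (Submodule.quotOfListConsSMulTopEquivQuotSMulTopInner M x rs), List.length_cons, Nat.cast_succ,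
      ← add_assoc]
    gcongr
    exact ih _ h.2

/-- Part of a system of parameters of a Cohen–Macaulay module is a regular sequence. -/
theorem isWeaklyRegular_of_supportDim (rs : List R) : ∀ (M : Type u) [AddCommGroup M] [Module R M]
    [Module.Finite R M], (∀ r ∈ rs, r ∈ maximalIdeal R) → IsCohenMacaulayModule R M →
    Module.supportDim R (M ⧸ Ideal.ofList rs • (⊤ : Submodule R M)) + (rs.length : WithBot ℕ∞) ≤
      Module.supportDim R M →
    IsWeaklyRegular M rs := by
  induction rs with
  | nil => intro M _ _ _ _ _ _; exact .nil R M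
  | cons x rs ih =>
    intro M _ _ _ h hCM hdim
    simp only [List.mem_cons, forall_eq_or_imp] at h
    have := H4Depth.IsCM.nontrivial hCM
    rw [Module.supportDim_eq_of_equiv
      (Submodule.quotOfListConsSMulTopEquivQuotSMulTopInner M x rs), List.length_cons, Nat.cast_succ,
      ← add_assoc] at hdim
    have h1 : Module.supportDim R (QuotSMulTop x M) + 1 ≤ Module.supportDim R M :=
      le_trans (by gcongr; exact supportDim_le_add_length rs _ h.2) hdim
    obtain ⟨d, hd⟩ := H4Depth.exists_nat_supportDim_eq (R := R) (M := M)
    have hlt : Module.supportDim R (QuotSMulTop x M) < Module.supportDim R M := by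
      rw [hd] at h1 ⊢
      revert h1
      generalize Module.supportDim R (QuotSMulTop x M) = a
      intro h1
      cases a with
      | bot => exact WithBot.bot_lt_coe _
      | coe a =>
        induction a using ENat.recTopCoe with
        | top =>
          rw [← WithBot.coe_one, ← WithBot.coe_add, top_add] at h1
          exact absurd h1 (not_le.mpr (WithBot.coe_lt_coe.mpr (ENat.natCast_lt_top d)))
        | coe k => exact_mod_cast (show k + 1 ≤ d by exact_mod_cast h1)
    have hreg := H4Depth.IsCM.isSMulRegular_of_supportDim_lt hCM hlt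
    rw [isWeaklyRegular_cons_iff]
    refine ⟨hreg, ih _ h.2 ((H4Depth.isCM_quotSMulTop_iff h.1 hreg).mpr hCM) ?_⟩
    rw [← Module.supportDim_quotSMulTop_succ_eq_supportDim hreg h.1] at hdim
    revert hdim
    generalize Module.supportDim R (QuotSMulTop x M ⧸ Ideal.ofList rs • (⊤ : Submodule R (QuotSMulTop x M))) + (rs.length : WithBot ℕ∞) = a
    generalize Module.supportDim R (QuotSMulTop x M) = b
    intro hab
    cases a with
    | bot => exact bot_le
    | coe a =>
      cases b with
      | bot => simp [← WithBot.coe_one, ← WithBot.coe_add] at hab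
      | coe b =>
        rw [← WithBot.coe_one, ← WithBot.coe_add, ← WithBot.coe_add, WithBot.coe_le_coe] at hab
        exact WithBot.coe_le_coe.mpr ((ENat.add_le_add_iff_right (k := 1) (by simp)).mp hab)

/-- Miracle flatness: `A` regular, `B` Cohen–Macaulay and `dim B ≥ dim A + dim B/𝔪_A B`. -/
theorem flat_of_regular_of_cohenMacaulay (A B : Type u) [CommRing A] [CommRing B]
    [IsRegularLocalRing A] [IsCohenMacaulayLocalRing B] [Algebra A B] [IsLocalHom (algebraMap A B)]
    (hdim : ringKrullDim A + ringKrullDim (B ⧸ (maximalIdeal A).map (algebraMap A B)) ≤ ringKrullDim B) :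
    Module.Flat A B := by
  obtain ⟨d, x, hd, hx⟩ := H4Depth.exists_regular_system_of_parameters A
  let fs := List.ofFn x
  have hfs : Ideal.ofList fs = maximalIdeal A := by
    rw [Ideal.ofList, ← hx]
    congr 1
    ext a
    simp [fs, List.mem_ofFn]
  let gs := fs.map (algebraMap A B)
  have hgs : Ideal.ofList gs = (maximalIdeal A).map (algebraMap A B) := by
    rw [← hfs, Ideal.map_ofList]
  have hmem : ∀ r ∈ gs, r ∈ maximalIdeal B := fun r hr =>
    map_maximalIdeal_le (algebraMap A B) (hgs ▸ Ideal.subset_span hr)
  have hreg : IsWeaklyRegular B gs := by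
    refine isWeaklyRegular_of_supportDim gs B hmem
      (‹IsCohenMacaulayLocalRing B›).supportDim_eq_depth ?_
    rw [Module.supportDim_eq_of_equiv (Submodule.quotEquivOfEq _ ((maximalIdeal A).map (algebraMap A B))
        (by rw [hgs, smul_eq_mul, Ideal.mul_top])), Module.supportDim_quotient_eq_ringKrullDim,
      Module.supportDim_self_eq_ringKrullDim, add_comm]
    refine le_trans (le_of_eq ?_) hdim
    congr 1
    simp [gs, fs, hd]
  have hregA : IsWeaklyRegular B fs := (isWeaklyRegular_map_algebraMap_iff B B fs).mp hreg
  refine H7Flat.flat_of_injective (S := B) (M := B) ?_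
  rw [← hfs]
  exact H05EGA4.lTensor_ofList_injective fs hregA

end Groth.Agent.H8Props.MiracleFlat
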