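import Groth.Agent.H8Props.PushClosedBasic
import Groth.Agent.H17.KerStalk
import Groth.Agent.H16Derived.ProjFormula.ClosedImm
import Groth.Agent.H16Derived.KFlat.RestrictD
import Groth.Agent.H16Derived.KFlat.LpullLocal

/-!
# Base change of direct images along closed immersions
-/

set_option autoImplicit false
set_option linter.style.haveILetI false
set_option backward.isDefEq.respectTransparency false

universe u

open CategoryTheory CategoryTheory.Limits AlgebraicGeometry TensorProduct

attribute [local instance] HasDerivedCategory.standard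
attribute [local instance] Groth.Agent.H06Mod.stalkAlgebra

namespace Groth.Agent.H8Props.ClosedBC

open H16Derived.ProjFormula H16Derived.KFlat.Stalk PushPC

variable {Z Y Z' Y' : Scheme.{u}} {i : Z ⟶ Y} {q : Y' ⟶ Y} {g : Z' ⟶ Z} {i' : Z' ⟶ Y'}

/-- Sections in the ideal kill direct images on stalks. -/
theorem germ_smul_push_eq_zero (i : Z ⟶ Y) (G : Z.Modules) {V : Y.Opens} (w : Γ(Y, V))
    (hw : i.app V w = 0) (y : Y) (hy : y ∈ V)
    (m : ((Scheme.Modules.pushforward i).obj G).presheaf.stalk y) :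
    Y.presheaf.germ V y hy w • m = 0 := by
  obtain ⟨U, hU, s, rfl⟩ := ((Scheme.Modules.pushforward i).obj G).presheaf.exists_germ_eq m
  let W := V ⊓ U
  rw [← TopCat.Presheaf.germ_res_apply _ (homOfLE (inf_le_right : W ≤ U)) y ⟨hy, hU⟩,
    ← TopCat.Presheaf.germ_res_apply Y.presheaf (homOfLE (inf_le_left : W ≤ V)) y ⟨hy, hU⟩ w]
  erw [← H06Mod.germ_smul]
  have h0 : i.app W (Y.presheaf.map (homOfLE (inf_le_left : W ≤ V)).op w) = 0 := by
    refine (congr($(i.naturality (homOfLE (inf_le_left : W ≤ V)).op) w)).trans ?_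
    show Z.presheaf.map _ (i.app V w) = 0
    rw [hw, map_zero]
  refine (congrArg _ ?_).trans (map_zero _)
  let σ : Γ(G, i ⁻¹ᵁ W) :=
    ((Scheme.Modules.pushforward i).obj G).presheaf.map (homOfLE (inf_le_right : W ≤ U)).op s
  exact (congrArg (fun a : Γ(Z, i ⁻¹ᵁ W) => a • σ) h0).trans (zero_smul _ σ)

theorem appLE_congr_hom {A B : Scheme.{u}} {f f' : A ⟶ B} (h : f = f') (U : B.Opens) (V : A.Opens)
    (e : V ≤ f ⁻¹ᵁ U) : f.appLE U V e = f'.appLE U V (h ▸ e) := by
  subst h
  rfl

/-- The ideal of the base change of a closed immersion on affine opens. -/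
theorem ker_app_baseChange [IsClosedImmersion i] (H : IsPullback g i' i q) {V : Y.Opens}
    (hV : IsAffineOpen V) {V' : Y'.Opens} (hV' : IsAffineOpen V') (e : V' ≤ q ⁻¹ᵁ V) :
    RingHom.ker (i'.app V').hom = (RingHom.ker (i.app V).hom).map (q.appLE V V' e).hom := by
  have hU : IsAffineOpen (i ⁻¹ᵁ V) := hV.preimage i
  haveI : IsClosedImmersion i' := MorphismProperty.of_isPullback H inferInstance
  refine le_antisymm ?_ ?_
  · haveI : IsAffine _ := hV
    have hp : IsPushout (i.appLE V (i ⁻¹ᵁ V) le_rfl) (q.appLE V V' e)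
        (g.appLE (i ⁻¹ᵁ V) (g ⁻¹ᵁ i ⁻¹ᵁ V ⊓ i' ⁻¹ᵁ V') inf_le_left)
        (i'.appLE V' (g ⁻¹ᵁ i ⁻¹ᵁ V ⊓ i' ⁻¹ᵁ V') inf_le_right) :=
      (isIso_pushoutSection_iff H e le_rfl rfl).mp
        (isIso_pushoutSection_of_isAffineOpen H e le_rfl rfl hV hV' hU)
    let J : Ideal Γ(Y', V') := (RingHom.ker (i.app V).hom).map (q.appLE V V' e).hom
    have hs : Function.Surjective (i.appLE V (i ⁻¹ᵁ V) le_rfl).hom := by
      rw [← Scheme.Hom.app_eq_appLE]
      exact (H17.app_surjective_of_restrict i hV).1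
    have hk : RingHom.ker (i.appLE V (i ⁻¹ᵁ V) le_rfl).hom ≤
        RingHom.ker ((Ideal.Quotient.mk J).comp (q.appLE V V' e).hom) := by
      intro w hw
      rw [← Scheme.Hom.app_eq_appLE] at hw
      exact Ideal.Quotient.eq_zero_iff_mem.2 (Ideal.mem_map_of_mem _ hw)
    let l : Γ(Z, i ⁻¹ᵁ V) ⟶ CommRingCat.of (Γ(Y', V') ⧸ J) :=
      CommRingCat.ofHom ((i.appLE V (i ⁻¹ᵁ V) le_rfl).hom.liftOfSurjective hs ⟨_, hk⟩)
    have hl : i.appLE V (i ⁻¹ᵁ V) le_rfl ≫ l = q.appLE V V' e ≫ CommRingCat.ofHom (Ideal.Quotient.mk J) :=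
      CommRingCat.hom_ext (RingHom.ext fun w => RingHom.liftOfSurjective_comp_apply _ hs ⟨_, hk⟩ w)
    intro a ha
    refine Ideal.Quotient.eq_zero_iff_mem.1 ?_
    have hle : i' ⁻¹ᵁ V' ≤ g ⁻¹ᵁ i ⁻¹ᵁ V := fun z hz => by
      show i (g z) ∈ V
      rw [show i (g z) = q (i' z) from congr($(H.w) z)]
      exact e hz
    have h0 : i'.appLE V' (g ⁻¹ᵁ i ⁻¹ᵁ V ⊓ i' ⁻¹ᵁ V') inf_le_right a = 0 := by
      show Z'.presheaf.map _ (i'.app V' a) = 0
      rw [show i'.app V' a = 0 from ha, map_zero]
    exact (congr($((hp.inr_desc l (CommRingCat.ofHom (Ideal.Quotient.mk J)) hl).symm).hom a)).trans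
      ((congrArg (hp.desc l (CommRingCat.ofHom (Ideal.Quotient.mk J)) hl).hom h0).trans (map_zero _))
  · rw [Ideal.map_le_iff_le_comap]
    intro w hw
    have hle : i' ⁻¹ᵁ V' ≤ g ⁻¹ᵁ i ⁻¹ᵁ V := fun z hz => by
      show i (g z) ∈ V
      rw [show i (g z) = q (i' z) from congr($(H.w) z)]
      exact e hz
    show i'.app V' (q.appLE V V' e w) = 0
    rw [Scheme.Hom.app_eq_appLE]
    refine Eq.trans ?_ (map_zero (g.appLE (i ⁻¹ᵁ V) (i' ⁻¹ᵁ V') hle).hom)
    refine Eq.trans ?_ (congrArg (g.appLE (i ⁻¹ᵁ V) (i' ⁻¹ᵁ V') hle).hom (show i.app V w = 0 from hw))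
    rw [Scheme.Hom.app_eq_appLE]
    exact congr($((Scheme.Hom.appLE_comp_appLE i' q V V' (i' ⁻¹ᵁ V') e le_rfl).trans
      ((appLE_congr_hom H.w.symm V (i' ⁻¹ᵁ V') _).trans
        (Scheme.Hom.appLE_comp_appLE g i V (i ⁻¹ᵁ V) (i' ⁻¹ᵁ V') le_rfl hle).symm)).hom w)

/-- Pullbacks of direct images along closed immersions are killed by the ideal of the base change. -/
theorem killed_pull_push [IsClosedImmersion i] (H : IsPullback g i' i q) (G : Z.Modules) :
    Killed i' ((Scheme.Modules.pullback q).obj ((Scheme.Modules.pushforward i).obj G)) := by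
  haveI : IsClosedImmersion i' := MorphismProperty.of_isPullback H inferInstance
  refine ⟨fun x r hr a => ?_, fun y' hy' => ?_⟩
  · let F := (Scheme.Modules.pushforward i).obj G
    obtain ⟨_, ⟨V, hV, rfl⟩, hxV, -⟩ :=
      Y.isBasis_affineOpens.exists_subset_of_mem_open (Set.mem_univ (q (i' x))) isOpen_univ
    obtain ⟨_, ⟨V', hV', rfl⟩, hxV', e⟩ :=
      Y'.isBasis_affineOpens.exists_subset_of_mem_open (show i' x ∈ q ⁻¹ᵁ V from hxV) (q ⁻¹ᵁ V).2
    haveI : IsClosedImmersion (i' ∣_ V') := IsZariskiLocalAtTarget.restrict (P := @IsClosedImmersion) inferInstance V'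
    have hr' : r ∈ RingHom.ker (i'.stalkMap x).hom := hr
    rw [H17.ker_stalkMap_eq_map i' hV' x hxV', ker_app_baseChange H hV hV' e, Ideal.map_map] at hr'
    suffices h : r ∈ Submodule.annihilator (⊤ : Submodule (Y'.presheaf.stalk (i' x))
        (((Scheme.Modules.pullback q).obj F).presheaf.stalk (i' x))) from
      Submodule.mem_annihilator.1 h a Submodule.mem_top
    have hle : ∀ w ∈ RingHom.ker (i.app V).hom,
        ((Y'.presheaf.germ V' (i' x) hxV').hom.comp (q.appLE V V' e).hom) w ∈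
          Submodule.annihilator (⊤ : Submodule (Y'.presheaf.stalk (i' x))
            (((Scheme.Modules.pullback q).obj F).presheaf.stalk (i' x))) := fun w hw =>
      Submodule.mem_annihilator.2 fun b hb => ?_
    · have h2 : (RingHom.ker (i.app V).hom).map
          ((Y'.presheaf.germ V' (i' x) hxV').hom.comp (q.appLE V V' e).hom) ≤
          Submodule.annihilator (⊤ : Submodule (Y'.presheaf.stalk (i' x))
            (((Scheme.Modules.pullback q).obj F).presheaf.stalk (i' x))) :=
        Ideal.map_le_iff_le_comap.2 fun w hw => Ideal.mem_comap.2 (hle w hw)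
      exact h2 hr'
    clear hb
    obtain ⟨t, rfl⟩ := (H06Mod.pullStalkEquiv q F (i' x)).surjective b
    show Y'.presheaf.germ V' (i' x) hxV' (q.appLE V V' e w) • _ = 0
    have hwg : Y'.presheaf.germ V' (i' x) hxV' (q.appLE V V' e w) =
        (q.stalkMap (i' x)).hom (Y.presheaf.germ V (q (i' x)) hxV w) := by
      erw [Scheme.Hom.germ_stalkMap_apply q V (i' x) hxV w]
      exact TopCat.Presheaf.germ_res_apply Y'.presheaf (homOfLE e) (i' x) hxV' (q.app V w)
    rw [hwg, ← map_smul]
    refine (congrArg (H06Mod.pullStalkEquiv q F (i' x)) ?_).trans (map_zero _)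
    induction t using TensorProduct.induction_on with
    | zero => exact smul_zero _
    | add t₁ t₂ h₁ h₂ => rw [smul_add, h₁, h₂, add_zero]
    | tmul c m =>
      rw [TensorProduct.smul_tmul', show (q.stalkMap (i' x)).hom (Y.presheaf.germ V (q (i' x)) hxV w) • c =
          Y.presheaf.germ V (q (i' x)) hxV w • c from (Algebra.smul_def _ _).symm,
        TensorProduct.smul_tmul, germ_smul_push_eq_zero i G w hw (q (i' x)) hxV m, TensorProduct.tmul_zero]
  · haveI := subsingleton_stalk_push i G (q y') fun hy => by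
      obtain ⟨z, hz⟩ := hy
      obtain ⟨z', -, hz'⟩ := Scheme.exists_preimage_of_isPullback H z y' hz
      exact hy' ⟨z', hz'⟩
    refine (H06Mod.pullStalkEquiv q ((Scheme.Modules.pushforward i).obj G) y').symm.injective.subsingleton

/-- Base change of the direct image along a closed immersion. -/
noncomputable def baseChangeIso [IsClosedImmersion i] (H : IsPullback g i' i q) :
    Scheme.Modules.pushforward i ⋙ Scheme.Modules.pullback q ≅
      Scheme.Modules.pullback g ⋙ Scheme.Modules.pushforward i' :=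
  haveI : IsClosedImmersion i' := MorphismProperty.of_isPullback H inferInstance
  let T := Scheme.Modules.pushforward i ⋙ Scheme.Modules.pullback q
  haveI : ∀ G, IsIso ((Functor.whiskerLeft T (adj i').unit).app G) := fun G =>
    isIso_unit_of_killed i' (killed_pull_push H G)
  haveI : IsIso (Functor.whiskerLeft T (adj i').unit) := NatIso.isIso_of_isIso_app _
  haveI : ∀ G, IsIso ((adj i).counit.app G) := isIso_counit_of_isClosedImmersion i
  haveI : IsIso (adj i).counit := NatIso.isIso_of_isIso_app _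
  T.rightUnitor.symm ≪≫ asIso (Functor.whiskerLeft T (adj i').unit) ≪≫
    Functor.isoWhiskerLeft (Scheme.Modules.pushforward i)
      (Functor.isoWhiskerRight
        (Scheme.Modules.pullbackComp i' q ≪≫ Scheme.Modules.pullbackCongr H.w.symm ≪≫
          (Scheme.Modules.pullbackComp g i).symm)
        (Scheme.Modules.pushforward i')) ≪≫
    Functor.isoWhiskerRight (asIso (adj i).counit)
      (Scheme.Modules.pullback g ⋙ Scheme.Modules.pushforward i')

/-- Derived pullback along a flat morphism is termwise. -/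
theorem nonempty_lpull_flat {X X' : Scheme.{u}} (f : X' ⟶ X) [Flat f] [DCoh.HasLpull f] (K : DCoh.D X) :
    haveI := preservesFiniteLimits_pullback_of_flat f
    Nonempty ((DCoh.Lpull f).obj K ≅ (Scheme.Modules.pullback f).mapDerivedCategory.obj K) := by
  haveI := preservesFiniteLimits_pullback_of_flat f
  obtain ⟨P, hP, ⟨e⟩⟩ := exists_kflat_rep K
  exact ⟨(DCoh.Lpull f).mapIso e.symm ≪≫ lpullObjIso f P hP ≪≫
    ((Scheme.Modules.pullback f).mapDerivedCategoryFactors.app P).symm ≪≫
    (Scheme.Modules.pullback f).mapDerivedCategory.mapIso e⟩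

/-- Flat base change of the direct image along a closed immersion on derived categories. -/
theorem nonempty_lpull_pushD [IsClosedImmersion i] [IsClosedImmersion i'] (H : IsPullback g i' i q)
    [Flat q] [DCoh.HasLpull q] [DCoh.HasLpull g] (K : DCoh.D Z) :
    Nonempty ((DCoh.Lpull q).obj ((pushD i).obj K) ≅ (pushD i').obj ((DCoh.Lpull g).obj K)) := by
  haveI : Flat g := MorphismProperty.of_isPullback H.flip inferInstance
  haveI := preservesFiniteLimits_pullback_of_flat q
  haveI := preservesFiniteLimits_pullback_of_flat g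
  obtain ⟨a⟩ := nonempty_lpull_flat q ((pushD i).obj K)
  obtain ⟨b⟩ := nonempty_lpull_flat g K
  let G := DerivedCategory.Q.objPreimage K
  let e : DerivedCategory.Q.obj G ≅ K := DerivedCategory.Q.objObjPreimageIso K
  exact ⟨a ≪≫ (Scheme.Modules.pullback q).mapDerivedCategory.mapIso
      ((pushD i).mapIso e.symm ≪≫ pushDQ i G) ≪≫
    (Scheme.Modules.pullback q).mapDerivedCategoryFactors.app _ ≪≫
    DerivedCategory.Q.mapIso ((NatIso.mapHomologicalComplex (baseChangeIso H) (ComplexShape.up ℤ)).app G) ≪≫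
    (pushDQ i' (((Scheme.Modules.pullback g).mapHomologicalComplex (ComplexShape.up ℤ)).obj G)).symm ≪≫
    (pushD i').mapIso (((Scheme.Modules.pullback g).mapDerivedCategoryFactors.app G).symm ≪≫
      (Scheme.Modules.pullback g).mapDerivedCategory.mapIso e) ≪≫
    (pushD i').mapIso b.symm⟩

end Groth.Agent.H8Props.ClosedBC
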