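import Groth.Agent.H8Props.RelPC
import Groth.Agent.H10Coh.QCohOps
import Groth.Agent.H29Fitt.PullbackQCoh

/-!
# Relative pseudo-coherence: first consequences
-/

set_option autoImplicit false
set_option linter.style.haveILetI false
set_option backward.isDefEq.respectTransparency false

universe u

open CategoryTheory CategoryTheory.Limits AlgebraicGeometry Pretriangulated

attribute [local instance] HasDerivedCategory.standard

namespace Groth.Agent.H8Props.RelPC

open H16Derived.KFlat.Stalk PushPC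

variable {X Y : Scheme.{u}}

/-- Strictly perfect complexes have quasi-coherent cohomology. -/
theorem isQCoh_homology_of_sperf {P : CochainComplex X.Modules ℤ} (hP : DCoh.IsStrictlyPerfect P)
    (i : ℤ) : Coh.IsQCoh (P.homology i) := by
  haveI : ∀ j, (P.X j).IsQuasicoherent := fun j =>
    H8Props.FinLocFree.isQCoh_of_isFinLocFree _ (hP.2 j)
  haveI : (P.cycles i).IsQuasicoherent :=
    @H10Coh.isQuasicoherent_of_iso _ _ _ ((kernelIsKernel (P.d i (i + 1))).conePointUniqueUpToIso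
      (P.cyclesIsKernel i (i + 1) (by simp))) (H10Coh.isQuasicoherent_kernel _)
  exact @H10Coh.isQuasicoherent_of_iso _ _ _ ((cokernelIsCokernel _).coconePointUniqueUpToIso
    (P.homologyIsCokernel (i - 1) i (by simp))) (H10Coh.isQuasicoherent_cokernel (P.toCycles (i - 1) i))

/-- An `m`-pseudo-coherent object has quasi-coherent cohomology in degrees above `m`. -/
theorem isQCoh_HD_of_pc {m : ℤ} {K : DCoh.D X} (hK : DCoh.IsPseudoCoherentD m K) (i : ℤ) (hi : m < i) :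
    Coh.IsQCoh (DCoh.HD K i) := by
  refine isQCoh_of_local _ fun x => ?_
  obtain ⟨V, hx, P, α, hP, hα⟩ := (isPseudoCoherentD_iff _ _).1 hK x
  haveI := hα.1 i hi
  exact ⟨V, hx, @H10Coh.isQuasicoherent_of_iso _ _ _
    (((DerivedCategory.homologyFunctorFactors _ i).app P).symm ≪≫
      asIso ((DerivedCategory.homologyFunctor _ i).map α) ≪≫ homologyRdIso V.ι K i)
    (isQCoh_homology_of_sperf hP i)⟩

/-- Every point has a chart with the pseudo-coherence test. -/
theorem exists_chart {f : X ⟶ Y} {m : ℤ} {K : DCoh.D X} (h : DerSch.IsPseudoCoherentRel f m K) (x : X) :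
    ∃ (U : X.affineOpens) (V : Y.affineOpens) (n : ℕ)
      (φ : MvPolynomial (Fin n) Γ(Y, (V : Y.Opens)) →+* Γ(X, (U : X.Opens))),
      x ∈ (U : X.Opens) ∧ Function.Surjective φ ∧ DerSch.ChartPC m K (U : X.Opens) (V : Y.Opens) φ := by
  obtain ⟨-, 𝒱, h𝒱, hV⟩ := h
  obtain ⟨V, hV', hxV⟩ : ∃ V ∈ 𝒱, f x ∈ (V : Y.Opens) := by
    simpa using h𝒱.ge (TopologicalSpace.Opens.mem_top (f x))
  obtain ⟨𝒰, h𝒰, hU⟩ := hV V hV'
  obtain ⟨U, hU', hxU⟩ : ∃ U ∈ 𝒰, x ∈ (U : X.Opens) := by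
    simpa using h𝒰.ge (show x ∈ f ⁻¹ᵁ (V : Y.Opens) from hxV)
  obtain ⟨n, φ, hφ, hK⟩ := hU U hU' (h𝒰 ▸ le_iSup₂_of_le U hU' le_rfl)
  exact ⟨U, V, n, φ, hxU, hφ.1, hK⟩

/-- Relative pseudo-coherence is inherited through the chart tests on the same charts. -/
theorem rel_of_forall_chart {f : X ⟶ Y} {m m' : ℤ} {K L : DCoh.D X}
    (h : DerSch.IsPseudoCoherentRel f m K)
    (t : ∀ (U : X.affineOpens) (V : Y.affineOpens) (n : ℕ)
      (φ : MvPolynomial (Fin n) Γ(Y, (V : Y.Opens)) →+* Γ(X, (U : X.Opens))), Function.Surjective φ →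
      DerSch.ChartPC m K (U : X.Opens) (V : Y.Opens) φ → DerSch.ChartPC m' L (U : X.Opens) (V : Y.Opens) φ) :
    DerSch.IsPseudoCoherentRel f m' L := by
  obtain ⟨hf, 𝒱, h𝒱, hV⟩ := h
  refine ⟨hf, 𝒱, h𝒱, fun V hV' => ?_⟩
  obtain ⟨𝒰, h𝒰, hU⟩ := hV V hV'
  refine ⟨𝒰, h𝒰, fun U hU' hle => ?_⟩
  obtain ⟨n, φ, hφ, hK⟩ := hU U hU' hle
  exact ⟨n, φ, hφ, t U V n φ hφ.1 hK⟩

/-- Cohomology of relatively pseudo-coherent objects is quasi-coherent. -/
theorem isQCoh_HD_of_rel {f : X ⟶ Y} {m : ℤ} {K : DCoh.D X} (h : DerSch.IsPseudoCoherentRel f m K)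
    (i : ℤ) (hi : m < i) : Coh.IsQCoh (DCoh.HD K i) := by
  refine isQCoh_of_local _ fun x => ?_
  obtain ⟨U, V, n, φ, hx, hφ, hK⟩ := exists_chart h x
  haveI := isClosedImmersion_chartImm U.2 φ hφ
  let g := DerSch.chartImm (U : X.Opens) φ
  have hq : Coh.IsQCoh ((Scheme.Modules.pushforward g).obj ((DCoh.HD K i).restrict (U : X.Opens).ι)) :=
    @H10Coh.isQuasicoherent_of_iso _ _ _ (hdPushD g _ i ≪≫
      (Scheme.Modules.pushforward g).mapIso (homologyRdIso (U : X.Opens).ι K i))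
      (isQCoh_HD_of_pc ((chartPC_iff φ m K).1 hK) i hi)
  have hi' := H16Derived.ProjFormula.isIso_counit_of_isClosedImmersion g
    ((DCoh.HD K i).restrict (U : X.Opens).ι)
  exact ⟨U, hx, @H10Coh.isQuasicoherent_of_iso _ _ _
    (@asIso _ _ _ _ _ hi')
    (H29Fitt.isQCoh_pullback g _ hq)⟩

/-- Relative pseudo-coherence passes to direct summands. -/
theorem rel_biprod {f : X ⟶ Y} {m : ℤ} {E K : DCoh.D X} [HasBinaryBiproduct E K]
    (h : DerSch.IsPseudoCoherentRel f m (E ⊞ K)) :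
    DerSch.IsPseudoCoherentRel f m E ∧ DerSch.IsPseudoCoherentRel f m K := by
  have key : ∀ (U : X.affineOpens) (V : Y.affineOpens) (n : ℕ)
      (φ : MvPolynomial (Fin n) Γ(Y, (V : Y.Opens)) →+* Γ(X, (U : X.Opens))), Function.Surjective φ →
      DerSch.ChartPC m (E ⊞ K) (U : X.Opens) (V : Y.Opens) φ →
      DerSch.ChartPC m E (U : X.Opens) (V : Y.Opens) φ ∧ DerSch.ChartPC m K (U : X.Opens) (V : Y.Opens) φ := by
    intro U V n φ hφ hc
    haveI := isClosedImmersion_chartImm U.2 φ hφ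
    let F := rd (U : X.Opens).ι ⋙ pushD (DerSch.chartImm (U : X.Opens) φ)
    haveI : F.Additive := inferInstance
    haveI : PreservesBinaryBiproduct E K F := preservesBinaryBiproduct_of_preservesBiproduct F E K
    rw [chartPC_iff] at hc ⊢
    rw [chartPC_iff]
    exact isPseudoCoherentD_of_biprod _ _ (isPseudoCoherentD_of_iso (F.mapBiprod E K) hc)
  exact ⟨rel_of_forall_chart h fun U V n φ hφ hc => (key U V n φ hφ hc).1,
    rel_of_forall_chart h fun U V n φ hφ hc => (key U V n φ hφ hc).2⟩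

end Groth.Agent.H8Props.RelPC
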