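import Groth.Agent.H8Props.RelPCRep
import Groth.Agent.H8Props.RelPCLocal
import Groth.Agent.H16Derived.Dual.PerfQCoh

/-!
# Relative pseudo-coherence: flat base change and descent along coverings of the base
-/

set_option autoImplicit false
set_option linter.style.haveILetI false
set_option backward.isDefEq.respectTransparency false

universe u

open CategoryTheory CategoryTheory.Limits AlgebraicGeometry

attribute [local instance] HasDerivedCategory.standard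

namespace Groth.Agent.H8Props.RelPC

open H16Derived.KFlat.Stalk

variable {X S : Scheme.{u}}

/-- The pushout square of sections over affine opens of a cartesian square. -/
theorem pushout_sections {X' S' : Scheme.{u}} {f : X ⟶ S} {f' : X' ⟶ S'} {g : X' ⟶ X} {h : S' ⟶ S}
    (H : IsPullback g f' f h) {U : X.Opens} (hU : IsAffineOpen U) {V : S.Opens} (hV : IsAffineOpen V)
    (eU : U ≤ f ⁻¹ᵁ V) {W : S'.Opens} (hW : IsAffineOpen W) (eW : W ≤ h ⁻¹ᵁ V) :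
    IsAffineOpen (g ⁻¹ᵁ U ⊓ f' ⁻¹ᵁ W) ∧
      IsPushout (f.appLE V U eU) (h.appLE V W eW) (g.appLE U (g ⁻¹ᵁ U ⊓ f' ⁻¹ᵁ W) inf_le_left)
        (f'.appLE W (g ⁻¹ᵁ U ⊓ f' ⁻¹ᵁ W) inf_le_right) := by
  refine ⟨?_, (isIso_pushoutSection_iff H eW eU rfl).mp
    (isIso_pushoutSection_of_isAffineOpen H eW eU rfl hV hW hU)⟩
  have : IsAffine _ := hV
  have : IsAffine _ := hW
  have : IsAffine _ := hU
  exact .of_isIso (Scheme.Hom.isPullback_resLE H eW eU rfl).isoPullback.hom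

/-- Descent on one pair of affine opens. -/
theorem relPC_of_cover (f : X ⟶ S) [LocallyOfFiniteType f] {J : Type} [Finite J]
    (Si Xi : J → Scheme.{u}) (h : ∀ j, Si j ⟶ S) [∀ j, Flat (h j)] (g : ∀ j, Xi j ⟶ X)
    (f' : ∀ j, Xi j ⟶ Si j) (H : ∀ j, IsPullback (g j) (f' j) f (h j)) [∀ j, DCoh.HasLpull (g j)]
    {E : DCoh.D X} {m : ℤ} (hrel : ∀ j, DerSch.IsPseudoCoherentRel (f' j) m ((DCoh.Lpull (g j)).obj E))
    {U : X.Opens} (hU : IsAffineOpen U) {V : S.Opens} (hV : IsAffineOpen V) (eU : U ≤ f ⁻¹ᵁ V)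
    (W : ∀ j, (Si j).Opens) (hW : ∀ j, IsAffineOpen (W j)) (eW : ∀ j, W j ≤ h j ⁻¹ᵁ V)
    (hcov : ∀ s ∈ V, ∃ (j : J) (t : Si j), t ∈ W j ∧ h j t = s)
    {P : DRing.Cx Γ(X, U)} (hP : H4DR.TorAmp.KF Γ(X, U) P) (hM : Rep hU E (DRing.toD P)) :
    letI := (f.appLE V U eU).hom.toAlgebra
    DerCA.IsRelPseudoCoherent Γ(S, V) Γ(X, U) m (DRing.toD P) := by
  let U' : ∀ j, (Xi j).Opens := fun j => g j ⁻¹ᵁ U ⊓ f' j ⁻¹ᵁ W j
  have hU' : ∀ j, IsAffineOpen (U' j) := fun j => (pushout_sections (H j) hU hV eU (hW j) (eW j)).1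
  letI := (f.appLE V U eU).hom.toAlgebra
  haveI : Algebra.FiniteType Γ(S, V) Γ(X, U) := f.finiteType_appLE hV hU eU
  letI : ∀ j, Algebra Γ(S, V) Γ(Si j, W j) := fun j => ((h j).appLE V (W j) (eW j)).hom.toAlgebra
  letI : ∀ j, Algebra Γ(Si j, W j) Γ(Xi j, U' j) := fun j =>
    ((f' j).appLE (W j) (U' j) inf_le_right).hom.toAlgebra
  letI : ∀ j, Algebra Γ(X, U) Γ(Xi j, U' j) := fun j =>
    ((g j).appLE U (U' j) inf_le_left).hom.toAlgebra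
  letI : ∀ j, Algebra Γ(S, V) Γ(Xi j, U' j) := fun j =>
    (((f' j).appLE (W j) (U' j) inf_le_right).hom.comp ((h j).appLE V (W j) (eW j)).hom).toAlgebra
  haveI : ∀ j, IsScalarTower Γ(S, V) Γ(Si j, W j) Γ(Xi j, U' j) := fun j =>
    IsScalarTower.of_algebraMap_eq fun _ => rfl
  haveI : ∀ j, IsScalarTower Γ(S, V) Γ(X, U) Γ(Xi j, U' j) := fun j =>
    IsScalarTower.of_algebraMap_eq fun x =>
      congrArg (fun φ => φ.hom x) (pushout_sections (H j) hU hV eU (hW j) (eW j)).2.w.symm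
  haveI : ∀ j, Algebra.IsPushout Γ(S, V) Γ(Si j, W j) Γ(X, U) Γ(Xi j, U' j) := fun j =>
    CommRingCat.isPushout_iff_isPushout.mp (pushout_sections (H j) hU hV eU (hW j) (eW j)).2.flip
  haveI : ∀ j, Module.Flat Γ(S, V) Γ(Si j, W j) := fun j =>
    HasRingHomProperty.appLE (P := @Flat) (h j) inferInstance ⟨V, hV⟩ ⟨W j, hW j⟩ (eW j)
  refine RingRelPC.relPC_descend (fun j => Γ(Si j, W j)) (fun j => Γ(Xi j, U' j)) (fun p => ?_) P m
    fun j => ?_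
  · obtain ⟨j, t, ht, hts⟩ := hcov (hV.fromSpec p) (hV.range_fromSpec.le ⟨p, rfl⟩)
    obtain ⟨q, rfl⟩ := (hW j).range_fromSpec.ge ht
    refine ⟨j, q, hV.fromSpec.isOpenEmbedding.injective (Eq.trans ?_ hts)⟩
    exact congr($(IsAffineOpen.SpecMap_appLE_fromSpec (h j) hV (hW j) (eW j)) q)
  · haveI : LocallyOfFiniteType (f' j) := (hrel j).1
    exact (hM.lpull hP (g j) (hU' j) inf_le_left).relPC_of_rel (hrel j) (hW j) inf_le_right

/-- Flat base change. -/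
theorem rel_baseChange {X' S' : Scheme.{u}} {f : X ⟶ S} {f' : X' ⟶ S'} {g : X' ⟶ X} {h : S' ⟶ S}
    (H : IsPullback g f' f h) [Flat h] [LocallyOfFiniteType f] [DCoh.HasLpull g] {m : ℤ} {E : DCoh.D X}
    (hq : DCoh.IsQCohD E) (hE : DerSch.IsPseudoCoherentRel f m E) :
    DerSch.IsPseudoCoherentRel f' m ((DCoh.Lpull g).obj E) := by
  haveI : LocallyOfFiniteType f' := MorphismProperty.of_isPullback H inferInstance
  refine rel_of_local_relPC f' m _ fun x => ?_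
  obtain ⟨_, ⟨V, hV, rfl⟩, hxV, -⟩ :=
    S.isBasis_affineOpens.exists_subset_of_mem_open (Set.mem_univ (h (f' x))) isOpen_univ
  obtain ⟨_, ⟨W, hW, rfl⟩, hxW, eW⟩ :=
    S'.isBasis_affineOpens.exists_subset_of_mem_open (show f' x ∈ h ⁻¹ᵁ V from hxV) (h ⁻¹ᵁ V).2
  have hfg : g x ∈ f ⁻¹ᵁ V := by
    show f (g x) ∈ V
    rw [show f (g x) = h (f' x) from congr($(H.w) x)]
    exact hxV
  obtain ⟨_, ⟨U, hU, rfl⟩, hxU, eU⟩ := X.isBasis_affineOpens.exists_subset_of_mem_open hfg (f ⁻¹ᵁ V).2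
  obtain ⟨P, hP, hM⟩ := exists_repCx (U := U) hU hq
  obtain ⟨hU', hp⟩ := pushout_sections H hU hV eU hW eW
  refine ⟨g ⁻¹ᵁ U ⊓ f' ⁻¹ᵁ W, hU', W, hW, inf_le_right, _, ⟨hxU, hxW⟩, hM.lpull hP g hU' inf_le_left, ?_⟩
  letI := (f.appLE V U eU).hom.toAlgebra
  letI : Algebra Γ(S, V) Γ(S', W) := (h.appLE V W eW).hom.toAlgebra
  letI : Algebra Γ(S', W) Γ(X', g ⁻¹ᵁ U ⊓ f' ⁻¹ᵁ W) :=
    (f'.appLE W (g ⁻¹ᵁ U ⊓ f' ⁻¹ᵁ W) inf_le_right).hom.toAlgebra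
  letI : Algebra Γ(X, U) Γ(X', g ⁻¹ᵁ U ⊓ f' ⁻¹ᵁ W) :=
    (g.appLE U (g ⁻¹ᵁ U ⊓ f' ⁻¹ᵁ W) inf_le_left).hom.toAlgebra
  letI : Algebra Γ(S, V) Γ(X', g ⁻¹ᵁ U ⊓ f' ⁻¹ᵁ W) :=
    ((f'.appLE W (g ⁻¹ᵁ U ⊓ f' ⁻¹ᵁ W) inf_le_right).hom.comp (h.appLE V W eW).hom).toAlgebra
  haveI : IsScalarTower Γ(S, V) Γ(S', W) Γ(X', g ⁻¹ᵁ U ⊓ f' ⁻¹ᵁ W) :=
    IsScalarTower.of_algebraMap_eq fun _ => rfl
  haveI : IsScalarTower Γ(S, V) Γ(X, U) Γ(X', g ⁻¹ᵁ U ⊓ f' ⁻¹ᵁ W) :=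
    IsScalarTower.of_algebraMap_eq fun x => congrArg (fun φ => φ.hom x) hp.w.symm
  haveI : Algebra.IsPushout Γ(S, V) Γ(S', W) Γ(X, U) Γ(X', g ⁻¹ᵁ U ⊓ f' ⁻¹ᵁ W) :=
    CommRingCat.isPushout_iff_isPushout.mp hp.flip
  haveI : Module.Flat Γ(S, V) Γ(S', W) :=
    HasRingHomProperty.appLE (P := @Flat) h inferInstance ⟨V, hV⟩ ⟨W, hW⟩ eW
  exact RingRelPC.relPC_extCx Γ(S', W) Γ(X', g ⁻¹ᵁ U ⊓ f' ⁻¹ᵁ W) P m (hM.relPC_of_rel hE hV eU)

/-- Descent along a flat family with finitely many affine opens over every affine open of the base. -/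
theorem rel_descend (f : X ⟶ S) [LocallyOfFiniteType f] {ι : Type u} (Si Xi : ι → Scheme.{u})
    (h : ∀ i, Si i ⟶ S) [∀ i, Flat (h i)] (g : ∀ i, Xi i ⟶ X) (f' : ∀ i, Xi i ⟶ Si i)
    (H : ∀ i, IsPullback (g i) (f' i) f (h i)) [∀ i, DCoh.HasLpull (g i)]
    (hfin : ∀ V : S.Opens, IsAffineOpen V → ∃ (N : ℕ) (i : Fin N → ι) (W : ∀ j, (Si (i j)).Opens),
      (∀ j, IsAffineOpen (W j) ∧ W j ≤ h (i j) ⁻¹ᵁ V) ∧
        ∀ s ∈ V, ∃ (j : Fin N) (t : Si (i j)), t ∈ W j ∧ h (i j) t = s)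
    {E : DCoh.D X} (hq : DCoh.IsQCohD E) {m : ℤ}
    (hrel : ∀ i, DerSch.IsPseudoCoherentRel (f' i) m ((DCoh.Lpull (g i)).obj E)) :
    DerSch.IsPseudoCoherentRel f m E := by
  refine rel_of_local_relPC f m E fun x => ?_
  obtain ⟨_, ⟨V, hV, rfl⟩, hxV, -⟩ :=
    S.isBasis_affineOpens.exists_subset_of_mem_open (Set.mem_univ (f x)) isOpen_univ
  obtain ⟨_, ⟨U, hU, rfl⟩, hxU, eU⟩ :=
    X.isBasis_affineOpens.exists_subset_of_mem_open (show x ∈ f ⁻¹ᵁ V from hxV) (f ⁻¹ᵁ V).2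
  obtain ⟨P, hP, hM⟩ := exists_repCx (U := U) hU hq
  obtain ⟨N, i, W, hW, hcov⟩ := hfin V hV
  exact ⟨U, hU, V, hV, eU, _, hxU, hM, relPC_of_cover f (fun j => Si (i j)) (fun j => Xi (i j))
    (fun j => h (i j)) (fun j => g (i j)) (fun j => f' (i j)) (fun j => H (i j)) (fun j => hrel (i j))
    hU hV eU W (fun j => (hW j).1) (fun j => (hW j).2) hcov hP hM⟩

/-- An fppf covering has finitely many affine opens over every affine open. -/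
theorem fin_cover_fppf {ι : Type u} (Si : ι → Scheme.{u}) (h : ∀ i, Si i ⟶ S) [∀ i, Flat (h i)]
    [∀ i, LocallyOfFinitePresentation (h i)] (hcov : ∀ s : S, ∃ (i : ι) (t : Si i), h i t = s)
    (V : S.Opens) (hV : IsAffineOpen V) :
    ∃ (N : ℕ) (i : Fin N → ι) (W : ∀ j, (Si (i j)).Opens),
      (∀ j, IsAffineOpen (W j) ∧ W j ≤ h (i j) ⁻¹ᵁ V) ∧
        ∀ s ∈ V, ∃ (j : Fin N) (t : Si (i j)), t ∈ W j ∧ h (i j) t = s := by
  have hW : ∀ s : V, ∃ (i : ι) (W : (Si i).Opens), IsAffineOpen W ∧ W ≤ h i ⁻¹ᵁ V ∧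
      (s : S) ∈ h i '' (W : Set (Si i)) := fun s => by
    obtain ⟨i, t, hts⟩ := hcov s
    obtain ⟨_, ⟨W, hW, rfl⟩, htW, hle⟩ := (Si i).isBasis_affineOpens.exists_subset_of_mem_open
      (show t ∈ h i ⁻¹ᵁ V by show h i t ∈ V; rw [hts]; exact s.2) (h i ⁻¹ᵁ V).2
    exact ⟨i, W, hW, hle, t, htW, hts⟩
  choose i W hW hle hmem using hW
  obtain ⟨T, hT⟩ := hV.isCompact.elim_finite_subcover (fun s => h (i s) '' (W s : Set (Si (i s))))
    (fun s => (h (i s)).isOpenMap _ (W s).2) fun s hs => Set.mem_iUnion.2 ⟨⟨s, hs⟩, hmem ⟨s, hs⟩⟩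
  refine ⟨T.card, fun j => i (T.equivFin.symm j), fun j => W (T.equivFin.symm j),
    fun j => ⟨hW _, hle _⟩, fun s hs => ?_⟩
  obtain ⟨a, ha, t, ht, hts⟩ := Set.mem_iUnion₂.1 (hT hs)
  have key : ∀ b : V, b = a → ∃ t ∈ W b, h (i b) t = s := by
    rintro b rfl
    exact ⟨t, ht, hts⟩
  exact ⟨T.equivFin ⟨a, ha⟩, key _ (congrArg Subtype.val (T.equivFin.symm_apply_apply _))⟩

/-- A quasi-compact surjection has finitely many affine opens over every affine open. -/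
theorem fin_cover_qc {S' : Scheme.{u}} (h : S' ⟶ S) [QuasiCompact h] [Surjective h]
    (V : S.Opens) (hV : IsAffineOpen V) :
    ∃ (N : ℕ) (W : Fin N → S'.Opens), (∀ j, IsAffineOpen (W j) ∧ W j ≤ h ⁻¹ᵁ V) ∧
        ∀ s ∈ V, ∃ (j : Fin N) (t : S'), t ∈ W j ∧ h t = s := by
  have hW : ∀ t : (h ⁻¹ᵁ V : S'.Opens), ∃ W : S'.Opens, IsAffineOpen W ∧ W ≤ h ⁻¹ᵁ V ∧ (t : S') ∈ W := fun t => by
    obtain ⟨_, ⟨W, hW, rfl⟩, htW, hle⟩ :=
      S'.isBasis_affineOpens.exists_subset_of_mem_open t.2 (h ⁻¹ᵁ V).2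
    exact ⟨W, hW, hle, htW⟩
  choose W hW hle hmem using hW
  have hc : IsCompact ((h ⁻¹ᵁ V : S'.Opens) : Set S') :=
    QuasiCompact.isCompact_preimage _ V.2 hV.isCompact
  obtain ⟨T, hT⟩ := hc.elim_finite_subcover (fun t => (W t : Set S')) (fun t => (W t).2)
    fun t ht => Set.mem_iUnion.2 ⟨⟨t, ht⟩, hmem ⟨t, ht⟩⟩
  refine ⟨T.card, fun j => W (T.equivFin.symm j), fun j => ⟨hW _, hle _⟩, fun s hs => ?_⟩
  obtain ⟨t, rfl⟩ := h.surjective s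
  obtain ⟨a, ha, hta⟩ := Set.mem_iUnion₂.1 (hT hs)
  refine ⟨T.equivFin ⟨a, ha⟩, t, ?_, rfl⟩
  simp only
  rw [Equiv.symm_apply_apply]
  exact hta

end Groth.Agent.H8Props.RelPC

namespace Groth.Agent.H8Props.RelPC

open H16Derived.KFlat.Stalk

theorem isFinLocFree_structure (X : Scheme.{u}) : FlatMod.IsFinLocFree (Coh.structureModule X) :=
  (isFinLocFree_iff _).2 fun _ => ⟨⊤, trivial, IsFreeFin.pullback _ (isFreeFin_structureModule (X := X))⟩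

theorem isQCohD_unit (X : Scheme.{u}) : DCoh.IsQCohD (DCoh.toD X (DerSch.unitCx X)) :=
  H16Derived.QCohD.isQCohD_iso (inDIsoQ (Coh.structureModule X))
    (H16Derived.Dual.isQCohD_of_isPerfect (isPerfect_inD (isFinLocFree_structure X)))

theorem nonempty_lpull_unit {X Z : Scheme.{u}} (g : Z ⟶ X) [DCoh.HasLpull g] :
    Nonempty ((DCoh.Lpull g).obj (DCoh.toD X (DerSch.unitCx X)) ≅ DCoh.toD Z (DerSch.unitCx Z)) :=
  ⟨(DCoh.Lpull g).mapIso (inDIsoQ _).symm ≪≫ lpullSingleIso g (isFinLocFree_structure X) 0 ≪≫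
    (DerivedCategory.singleFunctor Z.Modules 0).mapIso (structurePullbackIso g) ≪≫ inDIsoQ _⟩

theorem rel_of_iso {X S : Scheme.{u}} {f : X ⟶ S} {m : ℤ} {K L : DCoh.D X} (e : K ≅ L)
    (h : DerSch.IsPseudoCoherentRel f m K) : DerSch.IsPseudoCoherentRel f m L :=
  rel_of_forall_chart h fun U V n φ hφ hc => by
    haveI := isClosedImmersion_chartImm U.2 φ hφ
    rw [chartPC_iff] at hc ⊢
    exact isPseudoCoherentD_of_iso
      ((rd (U : X.Opens).ι ⋙ PushPC.pushD (DerSch.chartImm (U : X.Opens) φ)).mapIso e) hc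

end Groth.Agent.H8Props.RelPC
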