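import Mathlib.AlgebraicGeometry.AffineScheme
import Mathlib.AlgebraicGeometry.Properties
import Mathlib.RingTheory.FiniteType
import Mathlib.RingTheory.Localization.Away.AdjoinRoot
import Groth.Agent.S9392
import Groth.Agent.S9394
import Groth.Agent.S9400

/-!
# Nagata, universally Japanese and N-2 as affine-local properties
-/

set_option autoImplicit false

universe u

open AlgebraicGeometry CategoryTheory

namespace Groth.Agent.H8Props.NagataAffine

theorem isLocalization_bot_of_bijective {R S : Type u} [CommRing R] [CommRing S] [Algebra R S]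
    (h : Function.Bijective (algebraMap R S)) : IsLocalization (⊥ : Submonoid R) S where
  map_units := by
    rintro ⟨_, rfl⟩
    simp
  surj z := by
    obtain ⟨r, rfl⟩ := h.2 z
    exact ⟨⟨r, 1⟩, by simp⟩
  exists_of_eq e := ⟨1, by simp [h.1 e]⟩

theorem isNagata_of_isLocalization {R : Type u} [CommRing R] (M : Submonoid R) (S : Type u)
    [CommRing S] [Algebra R S] [IsLocalization M S] (h : CAlg.IsNagata R) : CAlg.IsNagata S := by
  have := h.1
  refine ⟨IsLocalization.isNoetherianRing M S this, fun q hq => ?_⟩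
  obtain ⟨p, hp, rfl⟩ : ∃ p : Ideal R, p.IsPrime ∧ p.map (algebraMap R S) = q :=
    ⟨q.comap (algebraMap R S), inferInstance, IsLocalization.map_comap M S q⟩
  exact S9392.result (R ⧸ p) (Algebra.algebraMapSubmonoid (R ⧸ p) M) (S ⧸ p.map (algebraMap R S))
    (h.2 p)

theorem isNagata_of_ringEquiv {R S : Type u} [CommRing R] [CommRing S] (e : R ≃+* S)
    (h : CAlg.IsNagata R) : CAlg.IsNagata S :=
  letI := e.toRingHom.toAlgebra
  haveI := isLocalization_bot_of_bijective (R := R) (S := S) e.bijective
  isNagata_of_isLocalization ⊥ S h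

theorem isUniversallyJapanese_of_finiteType {R S : Type u} [CommRing R] [CommRing S] [Algebra R S]
    [Algebra.FiniteType R S] (h : CAlg.IsUniversallyJapanese R) : CAlg.IsUniversallyJapanese S :=
  fun T _ _ _ hT => by
    letI : Algebra R T := ((algebraMap S T).comp (algebraMap R S)).toAlgebra
    haveI : IsScalarTower R S T := .of_algebraMap_eq' rfl
    exact h T (Algebra.FiniteType.trans ‹Algebra.FiniteType R S› hT)

theorem isUniversallyJapanese_of_away_cover {R : Type u} [CommRing R] {ι : Type u} [Finite ι]
    (f : ι → R) (hf : Ideal.span (Set.range f) = ⊤) (Rf : ι → Type u) [∀ i, CommRing (Rf i)]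
    [∀ i, Algebra R (Rf i)] [∀ i, IsLocalization.Away (f i) (Rf i)]
    (h : ∀ i, CAlg.IsUniversallyJapanese (Rf i)) : CAlg.IsUniversallyJapanese R := by
  intro S _ _ _ hS
  classical
  let J := {i : ι // algebraMap R S (f i) ≠ 0}
  have hdom : ∀ i : J, IsDomain (Localization.Away (algebraMap R S (f i.1))) := fun i =>
    IsLocalization.isDomain_localization (powers_le_nonZeroDivisors_of_noZeroDivisors i.2)
  refine S9394.result S (fun i : J => algebraMap R S (f i.1)) ?_
    (fun i => Localization.Away (algebraMap R S (f i.1))) fun i => ?_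
  · rw [eq_top_iff, ← Ideal.map_top (algebraMap R S), ← hf, Ideal.map_span, Ideal.span_le]
    rintro _ ⟨_, ⟨i, rfl⟩, rfl⟩
    by_cases hi : algebraMap R S (f i) = 0
    · rw [hi]; exact zero_mem _
    · exact Ideal.subset_span ⟨⟨i, hi⟩, rfl⟩
  · have hu : IsUnit (algebraMap R (Localization.Away (algebraMap R S (f i.1))) (f i.1)) := by
      rw [IsScalarTower.algebraMap_apply R S]
      exact IsLocalization.Away.algebraMap_isUnit (algebraMap R S (f i.1))
    let φ : Rf i.1 →+* Localization.Away (algebraMap R S (f i.1)) :=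
      IsLocalization.Away.lift (f i.1) (S := Rf i.1) hu
    letI := φ.toAlgebra
    haveI : IsScalarTower R (Rf i.1) (Localization.Away (algebraMap R S (f i.1))) :=
      .of_algebraMap_eq fun r => (IsLocalization.Away.lift_eq (f i.1) hu r).symm
    haveI : Algebra.FiniteType R (Localization.Away (algebraMap R S (f i.1))) :=
      haveI := IsLocalization.Away.finitePresentation (algebraMap R S (f i.1))
        (S := Localization.Away (algebraMap R S (f i.1)))
      Algebra.FiniteType.trans (S := S) hS inferInstance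
    exact h i.1 _ (Algebra.FiniteType.of_restrictScalars_finiteType R (Rf i.1) _)

variable (X : Scheme.{u}) {ι : Type u} (U : ι → X.Opens) (hU : iSup U = ⊤)
  (haff : ∀ i, IsAffineOpen (U i)) (V : X.Opens) (hV : IsAffineOpen V)

include hU haff hV

theorem isNagata_affineOpen (hN : ∀ i, CAlg.IsNagata Γ(X, U i)) : CAlg.IsNagata Γ(X, V) := by
  refine of_affine_open_cover (P := fun W : X.affineOpens => CAlg.IsNagata Γ(X, W.1))
    (fun i => ⟨U i, haff i⟩) hU ⟨V, hV⟩ (fun W f h => ?_) (fun W s hs h => ?_) hN
  · have := W.2.isLocalization_basicOpen f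
    show CAlg.IsNagata Γ(X, X.basicOpen f)
    exact isNagata_of_isLocalization (Submonoid.powers f) _ h
  · refine S9400.result _ (fun f : s => (f : Γ(X, W.1))) (by simpa using hs) fun f => ?_
    have := W.2.isLocalization_basicOpen f.1
    exact isNagata_of_ringEquiv (IsLocalization.algEquiv (Submonoid.powers (f : Γ(X, W.1)))
      Γ(X, X.basicOpen f.1) (Localization.Away f.1)).toRingEquiv (h f)

theorem isUniversallyJapanese_affineOpen (hJ : ∀ i, CAlg.IsUniversallyJapanese Γ(X, U i)) :
    CAlg.IsUniversallyJapanese Γ(X, V) := by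
  refine of_affine_open_cover (P := fun W : X.affineOpens => CAlg.IsUniversallyJapanese Γ(X, W.1))
    (fun i => ⟨U i, haff i⟩) hU ⟨V, hV⟩ (fun W f h => ?_) (fun W s hs h => ?_) hJ
  · have := W.2.isLocalization_basicOpen f
    have := IsLocalization.Away.finitePresentation f (S := Γ(X, X.basicOpen f))
    show CAlg.IsUniversallyJapanese Γ(X, X.basicOpen f)
    exact isUniversallyJapanese_of_finiteType h
  · have : ∀ f : s, IsLocalization.Away (f : Γ(X, W.1)) Γ(X, X.basicOpen f.1) := fun f =>
      W.2.isLocalization_basicOpen f.1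
    exact isUniversallyJapanese_of_away_cover (fun f : s => (f : Γ(X, W.1))) (by simpa using hs)
      (fun f => Γ(X, X.basicOpen f.1)) h

/-- `N-2` is affine-local on integral schemes. -/
theorem isN2_affineOpen [IsIntegral X] [∀ i, Nonempty (U i)] [Nonempty V]
    (hJ : ∀ i, CAlg.IsN2 Γ(X, U i)) : CAlg.IsN2 Γ(X, V) := by
  let P : X.affineOpens → Prop := fun W => ∀ _ : IsDomain Γ(X, W.1), CAlg.IsN2 Γ(X, W.1)
  have key : P ⟨V, hV⟩ := by
    refine of_affine_open_cover (P := P)
      (fun i => ⟨U i, haff i⟩) hU ⟨V, hV⟩ (fun W f h => ?_) (fun W s hs h => ?_) (fun i _ => hJ i)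
    · intro hd
      replace hd : IsDomain Γ(X, X.basicOpen f) := hd
      show CAlg.IsN2 Γ(X, X.basicOpen f)
      have := W.2.isLocalization_basicOpen f
      have : Nonempty W.1 := by
        by_contra hemp
        have hW : W.1 = ⊥ := TopologicalSpace.Opens.ext (Set.eq_empty_iff_forall_notMem.mpr fun x hx => hemp ⟨⟨x, hx⟩⟩)
        have hsub : Subsingleton Γ(X, X.basicOpen f) := by
          have : X.basicOpen f = ⊥ := le_bot_iff.mp (hW ▸ X.basicOpen_le f)
          rw [this]; infer_instance
        exact not_subsingleton Γ(X, X.basicOpen f) hsub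
      exact S9392.result Γ(X, W.1) (Submonoid.powers f) _ (h inferInstance)
    · intro _
      classical
      let J := {f : s // (f : Γ(X, W.1)) ≠ 0}
      have hloc : ∀ f : J, IsLocalization.Away (f.1 : Γ(X, W.1)) Γ(X, X.basicOpen f.1.1) := fun f =>
        W.2.isLocalization_basicOpen f.1.1
      have hdom : ∀ f : J, IsDomain Γ(X, X.basicOpen f.1.1) := fun f =>
        have := hloc f
        IsLocalization.isDomain_of_le_nonZeroDivisors Γ(X, X.basicOpen f.1.1)
          (powers_le_nonZeroDivisors_of_noZeroDivisors f.2)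
      refine S9394.result Γ(X, W.1) (fun f : J => (f.1 : Γ(X, W.1))) ?_
        (fun f => Γ(X, X.basicOpen f.1.1)) fun f => h f.1 (hdom f)
      rw [eq_top_iff, ← hs, Ideal.span_le]
      intro g hg
      by_cases h0 : g = 0
      · rw [h0]; exact zero_mem _
      · exact Ideal.subset_span ⟨⟨⟨g, hg⟩, h0⟩, rfl⟩
  exact key inferInstance

end Groth.Agent.H8Props.NagataAffine
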