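import Mathlib.RingTheory.IntegralClosure.IntegrallyClosed
import Mathlib.RingTheory.Ideal.KrullsHeightTheorem
import Mathlib.RingTheory.DiscreteValuationRing.TFAE
import Mathlib.RingTheory.RegularLocalRing.Defs
import Mathlib.RingTheory.Localization.FractionRing
import Groth.Agent.H8Props.FlatDepth
import Groth.Agent.H4Depth.Regular

/-!
# Normal Noetherian local domains of small dimension
-/

set_option autoImplicit false

universe u

open IsLocalRing LocCoh

namespace Groth.Agent.H8Props.NormalLowDim

variable (R : Type u) [CommRing R] [IsLocalRing R] [IsNoetherianRing R] [IsDomain R]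
  [IsIntegrallyClosed R]

theorem two_le_depth (h : ¬ ringKrullDim R ≤ 1) : 2 ≤ depth R R := by
  have hne : maximalIdeal R ≠ ⊥ := by
    intro h0
    refine h ?_
    rw [ringKrullDim_eq_zero_of_isField (isField_iff_maximalIdeal_eq.mpr h0)]
    exact zero_le_one
  obtain ⟨x, hx, hx0⟩ := Submodule.exists_mem_ne_zero_of_ne_bot hne
  have hreg : IsSMulRegular R x := fun a b hab => mul_left_cancel₀ hx0 hab
  have hne' : maximalIdeal R • (⊤ : Submodule R (QuotSMulTop x R)) ≠ ⊤ :=
    H4Depth.smul_top_ne_top_of_one_le hx (by simpa using (maximalIdeal.isMaximal R).ne_top)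
  rw [depth, ← H4Depth.idealDepth_quotSMulTop_add_one hx hreg, ← one_add_one_eq_two]
  gcongr
  by_contra hlt
  obtain ⟨p, hp, hle⟩ := (H4Depth.idealDepth_eq_zero_iff_exists_associatedPrime hne').mp
    (ENat.lt_one_iff_eq_zero.mp (not_le.mp hlt))
  obtain ⟨hp', c, hc⟩ := isAssociatedPrime_iff.mp hp
  obtain ⟨y, rfl⟩ := Submodule.Quotient.mk_surjective _ c
  have hy : ¬ x ∣ y := by
    rintro ⟨w, rfl⟩
    refine hp'.ne_top ((Ideal.eq_top_iff_one _).mpr ?_)
    rw [hc, Submodule.mem_colon_singleton, one_smul, Submodule.mem_bot,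
      Submodule.Quotient.mk_eq_zero]
    exact Submodule.smul_mem_pointwise_smul w x ⊤ Submodule.mem_top
  have hdvd : ∀ a ∈ maximalIdeal R, x ∣ a * y := by
    intro a ha
    have := hle ha
    rw [hc, Submodule.mem_colon_singleton, Submodule.mem_bot, ← Submodule.Quotient.mk_smul,
      Submodule.Quotient.mk_eq_zero, Submodule.mem_smul_pointwise_iff_exists] at this
    obtain ⟨w, -, hw⟩ := this
    exact ⟨w, hw.symm⟩
  -- multiplication by `y / x` maps the maximal ideal into itself
  have hmem : ∀ a ∈ maximalIdeal R, ∀ w, a * y = x * w → w ∈ maximalIdeal R := by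
    intro a ha w hw
    by_contra hw'
    rw [mem_maximalIdeal, mem_nonunits_iff, not_not] at hw'
    obtain ⟨u, rfl⟩ := hw'
    have hspan : maximalIdeal R ≤ Ideal.span {a} := by
      intro b hb
      obtain ⟨r, hr⟩ := hdvd b hb
      have hy0 : y ≠ 0 := fun h0 => hy (h0 ▸ dvd_zero x)
      refine Ideal.mem_span_singleton'.mpr ⟨r * ↑u⁻¹, mul_right_cancel₀ hy0 ?_⟩
      rw [mul_assoc, hw, hr]
      calc r * ↑u⁻¹ * (x * ↑u) = x * r * (↑u⁻¹ * ↑u) := by ring
        _ = x * r := by rw [Units.inv_mul, mul_one]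
    have : (maximalIdeal R).IsPrincipal :=
      ⟨a, le_antisymm hspan ((Ideal.span_singleton_le_iff_mem _).mpr ha)⟩
    refine h ?_
    rw [← maximalIdeal_height_eq_ringKrullDim]
    exact_mod_cast (Ideal.height_le_one_of_isPrincipal_of_mem_minimalPrimes (maximalIdeal R)
      (maximalIdeal R) (by rw [Ideal.minimalPrimes_eq_subsingleton_self]; rfl))
  let K := FractionRing R
  let z : K := algebraMap R K y / algebraMap R K x
  have hxK : algebraMap R K x ≠ 0 :=
    (map_ne_zero_iff _ (IsFractionRing.injective R K)).mpr hx0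
  let N : Submodule R K := Submodule.map (Algebra.linearMap R K) (maximalIdeal R)
  have hN : N.FG := (IsNoetherian.noetherian (maximalIdeal R)).map _
  have hNne : N ≠ ⊥ := by
    intro h0
    exact hxK (h0 ▸ Submodule.mem_map_of_mem (f := Algebra.linearMap R K) hx :
      algebraMap R K x ∈ (⊥ : Submodule R K))
  have hz : IsIntegral R z := by
    refine isIntegral_of_smul_mem_submodule N hNne hN z fun n hn => ?_
    obtain ⟨a, ha, rfl⟩ := hn
    obtain ⟨w, hw⟩ := hdvd a ha
    refine ⟨w, hmem a ha w hw, ?_⟩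
    simp only [Algebra.linearMap_apply, smul_eq_mul, z]
    rw [div_mul_eq_mul_div, eq_div_iff hxK, ← map_mul, ← map_mul]
    congr 1
    rw [mul_comm w x, mul_comm y a, hw]
  obtain ⟨w, hw⟩ := IsIntegrallyClosed.algebraMap_eq_of_integral hz
  refine hy ⟨w, IsFractionRing.injective R K ?_⟩
  rw [map_mul, hw]
  simp only [z]
  rw [mul_div_cancel₀ _ hxK]

theorem isRegularLocalRing_of_dim_le_one (h : ringKrullDim R ≤ 1) : IsRegularLocalRing R := by
  by_cases hf : IsField R
  · letI := hf.toField
    exact inferInstanceAs (IsRegularLocalRing R)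
  · have : Ring.DimensionLEOne R := by
      refine ⟨fun {p} hp0 hp => ?_⟩
      by_contra hmax
      have hlt : p < maximalIdeal R := lt_of_le_of_ne (le_maximalIdeal hp.ne_top) fun e =>
        hmax (e ▸ maximalIdeal.isMaximal R)
      let s : LTSeries (PrimeSpectrum R) :=
        RelSeries.fromListIsChain [⟨⊥, Ideal.isPrime_bot⟩, ⟨p, hp⟩, ⟨maximalIdeal R, inferInstance⟩]
          (by simp) (List.isChain_cons_cons.mpr ⟨bot_lt_iff_ne_bot.mpr hp0,
            List.isChain_cons_cons.mpr ⟨hlt, List.isChain_singleton _⟩⟩)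
      have := (Order.LTSeries.length_le_krullDim s).trans h
      norm_cast at this
    have hD : IsDedekindDomain R := { }
    have : IsDiscreteValuationRing R := ((IsDiscreteValuationRing.TFAE R hf).out 0 2).mpr hD
    infer_instance

theorem isCohenMacaulayLocalRing_of_dim_le_two (h : ringKrullDim R ≤ 2) :
    IsCohenMacaulayLocalRing R := by
  by_cases h1 : ringKrullDim R ≤ 1
  · have := isRegularLocalRing_of_dim_le_one R h1
    exact H4Depth.isCohenMacaulayLocalRing_of_regular R
  · rw [FlatDepth.isCM_iff_dim]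
    refine le_antisymm (h.trans ?_) (FlatDepth.depth_le_dim R)
    exact WithBot.coe_le_coe.mpr (two_le_depth R h1)

end Groth.Agent.H8Props.NormalLowDim
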