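import Groth.Agent.LeadQSub.Extend
import Groth.Agent.H10Coh.QcqsPush
import Groth.Agent.H10Coh.QCohOps

/-!
# Extension of quasi-coherent modules on quasi-compact quasi-separated schemes
-/

set_option autoImplicit false
set_option linter.style.haveILetI false
set_option backward.isDefEq.respectTransparency false

universe u

open CategoryTheory CategoryTheory.Limits AlgebraicGeometry Opposite TopologicalSpace
open Groth.Agent.LeadQSub

namespace Groth.Agent.H8Props.QCohExtend

variable {X : Scheme.{u}}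

theorem isQuasicoherent_biprod (M N : X.Modules) [M.IsQuasicoherent] [N.IsQuasicoherent] :
    (M ⊞ N).IsQuasicoherent := by
  let P : WalkingPair → X.Modules := fun j => WalkingPair.casesOn j M N
  have hP : ∀ j : WalkingPair, (P j).IsQuasicoherent := fun j =>
    WalkingPair.casesOn j ‹M.IsQuasicoherent› ‹N.IsQuasicoherent›
  haveI : (⨁ P).IsQuasicoherent := @H10Coh.isQuasicoherent_biproduct X WalkingPair inferInstance P hP
  let e : ⨁ P ≅ M ⊞ N :=
    { hom := biprod.lift (biproduct.π P .left) (biproduct.π P .right)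
      inv := biproduct.lift fun j => WalkingPair.casesOn j biprod.fst biprod.snd
      hom_inv_id := by
        refine biproduct.hom_ext _ _ fun j => ?_
        rw [Category.id_comp, Category.assoc, biproduct.lift_π]
        cases j
        · exact biprod.lift_fst _ _
        · exact biprod.lift_snd _ _
      inv_hom_id := by refine biprod.hom_ext _ _ ?_ ?_ <;> simp }
  exact H10Coh.isQuasicoherent_of_iso e

theorem isQuasicoherent_pullback {M N P : X.Modules} (a : M ⟶ P) (b : N ⟶ P) [M.IsQuasicoherent]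
    [N.IsQuasicoherent] [P.IsQuasicoherent] : (pullback a b).IsQuasicoherent := by
  haveI := isQuasicoherent_biprod M N
  haveI := H10Coh.isQuasicoherent_kernel (biprod.desc a (-b))
  let e : kernel (biprod.desc a (-b)) ≅ pullback a b :=
    { hom := pullback.lift (kernel.ι _ ≫ biprod.fst) (kernel.ι _ ≫ biprod.snd) (by
        rw [← sub_eq_zero, Category.assoc, Category.assoc, ← Preadditive.comp_sub]
        have e : biprod.fst ≫ a - biprod.snd ≫ b = biprod.desc a (-b) := by
          refine biprod.hom_ext' _ _ ?_ ?_ <;> simp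
        rw [e, kernel.condition])
      inv := kernel.lift _ (biprod.lift (pullback.fst a b) (pullback.snd a b)) (by
        simp [biprod.lift_desc, pullback.condition])
      hom_inv_id := by
        refine (cancel_mono (kernel.ι _)).1 (biprod.hom_ext _ _ ?_ ?_) <;> simp
      inv_hom_id := by
        refine pullback.hom_ext ?_ ?_ <;> simp }
  exact H10Coh.isQuasicoherent_of_iso e

theorem exists_extension_hom (U : X.Opens) [QuasiCompact U.ι] (F : X.Modules) [F.IsQuasicoherent]
    (G : (U : Scheme.{u}).Modules) [G.IsQuasicoherent] (φ : G ⟶ F.restrict U.ι) :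
    ∃ (H : X.Modules) (ψ : H ⟶ F) (e : H.restrict U.ι ≅ G), Coh.IsQCoh H ∧
      e.hom ≫ φ = (Scheme.Modules.restrictFunctor U.ι).map ψ := by
  let R := Scheme.Modules.restrictFunctor U.ι
  let P := Scheme.Modules.pushforward U.ι
  let adj := Scheme.Modules.restrictAdjunction U.ι
  haveI : (R.obj F).IsQuasicoherent := Scheme.Modules.isQuasicoherent_restrictFunctor _ F
  haveI : (P.obj (R.obj F)).IsQuasicoherent := H10Coh.isQuasicoherent_pushforward U.ι _
  haveI : (P.obj G).IsQuasicoherent := H10Coh.isQuasicoherent_pushforward U.ι _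
  let a : F ⟶ P.obj (R.obj F) := adj.unit.app F
  let b : P.obj G ⟶ P.obj (R.obj F) := P.map φ
  haveI : IsIso (adj.counit.app (R.obj F)) := inferInstance
  haveI : IsIso (R.map a) := by
    have h : R.map a ≫ adj.counit.app (R.obj F) = 𝟙 _ := adj.left_triangle_components F
    exact IsIso.of_isIso_fac_right h
  have hsq := (IsPullback.of_hasPullback a b).map R
  haveI : IsIso (R.map (pullback.snd a b)) := hsq.isIso_snd_of_isIso
  refine ⟨pullback a b, pullback.fst a b, asIso (R.map (pullback.snd a b)) ≪≫ asIso (adj.counit.app G),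
    isQuasicoherent_pullback a b, ?_⟩
  have h1 : adj.counit.app G ≫ φ = R.map b ≫ adj.counit.app (R.obj F) := (adj.counit.naturality φ).symm
  have h2 : R.map (pullback.fst a b) ≫ R.map a = R.map (pullback.snd a b) ≫ R.map b := hsq.w
  calc (asIso (R.map (pullback.snd a b)) ≪≫ asIso (adj.counit.app G)).hom ≫ φ
      = R.map (pullback.snd a b) ≫ adj.counit.app G ≫ φ := by simp
    _ = R.map (pullback.fst a b) ≫ R.map a ≫ adj.counit.app (R.obj F) := by
      rw [h1, ← Category.assoc, ← h2, Category.assoc]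
    _ = R.map (pullback.fst a b) := by
      rw [show R.map a ≫ adj.counit.app (R.obj F) = 𝟙 _ from adj.left_triangle_components F, Category.comp_id]

theorem exists_finite_affine_cover [CompactSpace X] :
    ∃ (n : ℕ) (V : Fin n → X.Opens), (∀ l, IsAffineOpen (V l)) ∧ ⨆ l, V l = ⊤ := by
  have h : ∀ x : X, ∃ W : X.Opens, IsAffineOpen W ∧ x ∈ W := fun x =>
    let ⟨W, hW, hx, _⟩ := exists_isAffineOpen_mem_and_subset (U := (⊤ : X.Opens)) (x := x) trivial
    ⟨W, hW, hx⟩
  choose W hW hxW using h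
  obtain ⟨s, hs⟩ := CompactSpace.elim_nhds_subcover (fun x => (W x : Set X))
    (fun x => (W x).isOpen.mem_nhds (hxW x))
  refine ⟨s.card, fun l => W (s.equivFin.symm l).1, fun l => hW _, eq_top_iff.2 fun x _ => ?_⟩
  obtain ⟨y, hy, hxy⟩ := Set.mem_iUnion₂.1 (hs.ge (Set.mem_univ x))
  refine Opens.mem_iSup.2 ⟨s.equivFin ⟨y, hy⟩, ?_⟩
  simpa using hxy

theorem isCompact_inter_iUnion [QuasiSeparatedSpace X] {n : ℕ} (V : Fin n → X.Opens)
    (hV : ∀ l, IsAffineOpen (V l)) (l : Fin n) :
    IsCompact ((V l : Set X) ∩ ⋃ m ∈ Set.Iio l, (V m : Set X)) := by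
  rw [Set.inter_iUnion₂]
  exact (Set.toFinite (Set.Iio l)).isCompact_biUnion fun m _ =>
    (hV l).isCompact.inter_of_isOpen (hV m).isCompact (V l).2 (V m).2

theorem exists_extension_qcqs [CompactSpace X] [QuasiSeparatedSpace X] {F : X.Modules} (U : X.Opens)
    (hU : IsCompact (U : Set X)) {Γ₀ : Gens F} (hF : Coh.IsQCoh F) (hΓ₀ : ∀ g ∈ Γ₀, g.1 ≤ U)
    (hch : HasCharts Γ₀ U) : ∃ Γs : Gens F, Γ₀ ⊆ Γs ∧ HasCharts Γs ⊤ ∧ LeOn U Γs Γ₀ := by
  obtain ⟨n, V, hV, hcov⟩ := exists_finite_affine_cover (X := X)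
  exact exists_extension V U Γ₀ hF hV hcov (isCompact_inter_iUnion V hV)
    (fun l => (hV l).isCompact.inter_of_isOpen hU (V l).2 U.2) hΓ₀ hch

theorem exists_subsheaf_mem [CompactSpace X] [QuasiSeparatedSpace X] (F : X.Modules) [Coh.IsQCoh F]
    (U : X.affineOpens) (s : F.val.obj (op (U : X.Opens))) :
    ∃ (G : X.Modules) (i : G ⟶ F), Mono i ∧ Coh.IsQCoh G ∧ CohB1.IsFT G ∧
      ∃ g : G.val.obj (op (U : X.Opens)), (i.val.app (op (U : X.Opens))).hom g = s := by
  let Γ₀ : Gens F := ofSet (U : X.Opens) {(show Γ(F, (U : X.Opens)) from s)}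
  have hΓ₀ : ∀ g ∈ Γ₀, g.1 ≤ (U : X.Opens) := by
    rintro _ ⟨t, -, rfl⟩
    exact le_rfl
  have hch : HasCharts Γ₀ U := fun x hx => ⟨U, {(show Γ(F, (U : X.Opens)) from s)}, hx, le_rfl, U.2,
    Set.finite_singleton _, fun t ht => locSpan_gen ⟨(U : X.Opens), t⟩ ⟨t, ht, rfl⟩,
    leOn_of_subset Set.Subset.rfl⟩
  obtain ⟨Γs, hsub, hchs, -⟩ := exists_extension_qcqs U U.2.isCompact ‹Coh.IsQCoh F› hΓ₀ hch
  refine ⟨spanMod Γs, spanι Γs, inferInstance, isQuasicoherent_spanMod ‹Coh.IsQCoh F› hchs,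
    isFT_spanMod ‹Coh.IsQCoh F› hchs, ?_⟩
  exact (mem_range_spanι Γs).2 (locSpan_gen ⟨(U : X.Opens), (show Γ(F, (U : X.Opens)) from s)⟩
    (hsub ⟨_, rfl, rfl⟩))

theorem exists_extension_ft [CompactSpace X] [QuasiSeparatedSpace X] (U : X.Opens) (hU : IsCompact (U : Set X))
    (G : (U : Scheme.{u}).Modules) [Coh.IsQCoh G] (hG : CohB1.IsFT G) :
    ∃ G' : X.Modules, Coh.IsQCoh G' ∧ CohB1.IsFT G' ∧ Nonempty (G'.restrict U.ι ≅ G) := by
  obtain ⟨n, V, hV, hcov⟩ := exists_finite_affine_cover (X := X)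
  haveI : QuasiCompact U.ι := by
    refine (quasiCompact_iff_forall_isAffineOpen (f := U.ι)).2 fun W hW => ?_
    refine U.ι.isOpenEmbedding.isInducing.isCompact_iff.2 ?_
    rw [Scheme.Hom.coe_preimage, Set.image_preimage_eq_inter_range, Scheme.Opens.range_ι]
    exact hW.isCompact.inter_of_isOpen hU W.2 U.2
  haveI : ((Scheme.Modules.pushforward U.ι).obj G).IsQuasicoherent :=
    H10Coh.isQuasicoherent_pushforward U.ι G
  let c := (Scheme.Modules.restrictAdjunction U.ι).counit.app G
  obtain ⟨G', i', e, -, hq, hft, -⟩ := exists_extension_subsheaf (F := (Scheme.Modules.pushforward U.ι).obj G)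
    U (inv c) V inferInstance hV hcov (isCompact_inter_iUnion V hV)
    (fun l => (hV l).isCompact.inter_of_isOpen hU (V l).2 U.2) ‹Coh.IsQCoh G› hG
  exact ⟨G', hq, hft, ⟨e⟩⟩

end Groth.Agent.H8Props.QCohExtend
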