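import Groth.Agent.H8Props.RelPCTransfer
import Groth.Agent.H16Derived.QCohD.Equiv
import Groth.Agent.H17.OmegaAffine
import Groth.Prelude.Def_DerCA

/-!
# Relative pseudo-coherence and complexes of modules
-/

set_option autoImplicit false
set_option linter.style.haveILetI false
set_option backward.isDefEq.respectTransparency false

universe u

open CategoryTheory CategoryTheory.Limits AlgebraicGeometry Pretriangulated

attribute [local instance] HasDerivedCategory.standard

namespace Groth.Agent.H8Props.RelPC

open H16Derived.KFlat.Stalk PushPC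

section Tilde

variable {P C : CommRingCat.{u}} (α : P ⟶ C)

theorem isIso_tilde_unit (N : ModuleCat.{u} C) : IsIso ((tilde.adjunction (R := C)).unit.app N) :=
  inferInstance

theorem isIso_tilde_counit (N : ModuleCat.{u} C) :
    IsIso ((tilde.adjunction (R := P)).counit.app
      ((Scheme.Modules.pushforward (Spec.map α)).obj ((tilde.functor C).obj N))) := by
  haveI : ((tilde.functor C).obj N).IsQuasicoherent := inferInstanceAs (tilde N).IsQuasicoherent
  haveI := H10Coh.isQuasicoherent_pushforward_of_isAffineHom (Spec.map α) ((tilde.functor C).obj N)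
  exact Scheme.Modules.isIso_fromTildeΓ_of_isQuasicoherent (R := P)
    ((Scheme.Modules.pushforward (Spec.map α)).obj ((tilde.functor C).obj N))

/-- Direct image of `N~` is the `~` of the restriction of scalars. -/
noncomputable def tildePushIso :
    tilde.functor C ⋙ Scheme.Modules.pushforward (Spec.map α) ≅
      ModuleCat.restrictScalars α.hom ⋙ tilde.functor P :=
  NatIso.ofComponents
    (fun N =>
      haveI := isIso_tilde_counit α N
      haveI := isIso_tilde_unit N
      (asIso ((tilde.adjunction (R := P)).counit.app _)).symm ≪≫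
        (tilde.functor P).mapIso ((H17.OmegaAffine.pushΓIso α).app _ ≪≫
          (ModuleCat.restrictScalars α.hom).mapIso (asIso ((tilde.adjunction (R := C)).unit.app N)).symm))
    (fun {N N'} g => by
      haveI := isIso_tilde_counit α N
      haveI := isIso_tilde_counit α N'
      haveI := isIso_tilde_unit N
      haveI := isIso_tilde_unit N'
      simp only [Functor.comp_map, Iso.trans_hom, Iso.symm_hom, asIso_inv, Functor.mapIso_hom,
        Iso.app_hom, Functor.map_comp, Category.assoc]
      rw [IsIso.eq_inv_comp]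
      have h1 := (tilde.adjunction (R := P)).counit.naturality
        ((Scheme.Modules.pushforward (Spec.map α)).map ((tilde.functor C).map g))
      dsimp at h1
      erw [← reassoc_of% h1]
      simp only [IsIso.hom_inv_id_assoc]
      rw [← Functor.map_comp, ← Functor.map_comp, ← Functor.map_comp]
      erw [← Functor.map_comp, ← Functor.map_comp]
      refine congrArg (tilde.functor P).map ?_
      have h2 := (H17.OmegaAffine.pushΓIso α).hom.naturality ((tilde.functor C).map g)
      dsimp at h2
      erw [reassoc_of% h2]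
      refine congrArg (fun t => (H17.OmegaAffine.pushΓIso α).hom.app ((tilde.functor C).obj N) ≫ t) ?_
      rw [← Functor.map_comp]
      refine congrArg (ModuleCat.restrictScalars α.hom).map ?_
      rw [IsIso.comp_inv_eq, Category.assoc, IsIso.eq_inv_comp]
      exact ((tilde.adjunction (R := C)).unit.naturality g).symm)

end Tilde

variable {P C : Type u} [CommRing P] [CommRing C]
  [PreservesFiniteLimits (tilde.functor (CommRingCat.of C))]
  [PreservesFiniteLimits (tilde.functor (CommRingCat.of P))]

/-- The same on derived categories. -/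
noncomputable def tildeDPushIso (α : P →+* C) [IsClosedImmersion (Spec.map (CommRingCat.ofHom α))]
    (M : Dual.D C) :
    (pushD (Spec.map (CommRingCat.ofHom α))).obj ((DCoh.tildeD (CommRingCat.of C)).obj M) ≅
      (DCoh.tildeD (CommRingCat.of P)).obj ((DRing.restrictD α).obj M) :=
  (pushD _).mapIso ((DCoh.tildeD (CommRingCat.of C)).mapIso
      (DerivedCategory.Q.objObjPreimageIso M).symm ≪≫
      (tilde.functor (CommRingCat.of C)).mapDerivedCategoryFactors.app _) ≪≫
    pushDQ _ _ ≪≫
    DerivedCategory.Q.mapIso ((NatIso.mapHomologicalComplex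
      (tildePushIso (CommRingCat.ofHom α)) (ComplexShape.up ℤ)).app (DerivedCategory.Q.objPreimage M)) ≪≫
    ((tilde.functor (CommRingCat.of P)).mapDerivedCategoryFactors.app
      (((ModuleCat.restrictScalars.{u} α).mapHomologicalComplex _).obj (DerivedCategory.Q.objPreimage M))).symm ≪≫
    (DCoh.tildeD (CommRingCat.of P)).mapIso
      (((ModuleCat.restrictScalars.{u} α).mapDerivedCategoryFactors.app _).symm ≪≫
        (DRing.restrictD α).mapIso (DerivedCategory.Q.objObjPreimageIso M))

section Global

variable {X S : Scheme.{u}} (f : X ⟶ S)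

theorem isClosedImmersion_toSpecΓ {U : X.Opens} (hU : IsAffineOpen U) : IsClosedImmersion U.toSpecΓ := by
  haveI : IsIso U.toSpecΓ := by
    rw [← hU.isoSpec_hom]
    infer_instance
  infer_instance

/-- The chart test in terms of a complex of modules over the sections. -/
theorem chartPC_iff_ring {U : X.Opens} (hU : IsAffineOpen U)
    [PreservesFiniteLimits (tilde.functor (CommRingCat.of Γ(X, U)))] {V : S.Opens} {n : ℕ}
    (φ : MvPolynomial (Fin n) Γ(S, V) →+* Γ(X, U)) (hφ : Function.Surjective φ) (m : ℤ) (E : DCoh.D X)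
    (M : Dual.D Γ(X, U))
    (e : haveI := isClosedImmersion_toSpecΓ hU
      (DCoh.tildeD (CommRingCat.of Γ(X, U))).obj M ≅ (pushD U.toSpecΓ).obj ((rd U.ι).obj E)) :
    DerSch.ChartPC m E U V φ ↔
      DRing.IsPseudoCoherent (MvPolynomial (Fin n) Γ(S, V)) m ((DRing.restrictD φ).obj M) := by
  haveI := isClosedImmersion_toSpecΓ hU
  haveI : IsClosedImmersion (Spec.map (CommRingCat.ofHom φ)) :=
    IsClosedImmersion.spec_of_surjective _ hφ
  haveI := isClosedImmersion_chartImm hU φ hφ
  rw [chartPC_iff, ← pc_tilde_iff]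
  let i := pushDComp U.toSpecΓ (Spec.map (CommRingCat.ofHom φ)) (DerSch.chartImm U φ) rfl ((rd U.ι).obj E) ≪≫
    (pushD (Spec.map (CommRingCat.ofHom φ))).mapIso e.symm ≪≫ tildeDPushIso φ M
  exact ⟨isPseudoCoherentD_of_iso i, isPseudoCoherentD_of_iso i.symm⟩

/-- Relative pseudo-coherence through the complexes of modules on affine opens. -/
theorem rel_iff_ring [LocallyOfFiniteType f]
    [∀ U : X.affineOpens, PreservesFiniteLimits (tilde.functor (X.presheaf.obj (Opposite.op (U : X.Opens))))]
    (E : DCoh.D X) (hE : DCoh.IsQCohD E) (m : ℤ) :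
    DerSch.IsPseudoCoherentRel f m E ↔
      ∀ (U : X.affineOpens) (V : S.affineOpens) (h : (U : X.Opens) ≤ f ⁻¹ᵁ (V : S.Opens))
        (G : CochainComplex X.Modules ℤ), Nonempty (DCoh.toD X G ≅ E) →
        ∀ M : Dual.D Γ(X, (U : X.Opens)),
          Nonempty ((DCoh.tildeD (X.presheaf.obj (Opposite.op (U : X.Opens)))).obj M ≅
            DCoh.toD _ ((DerSch.pushCx U.2.isoSpec.hom).obj ((DCoh.restrictCx (U : X.Opens)).obj G))) →
          letI := (f.appLE (V : S.Opens) (U : X.Opens) h).hom.toAlgebra
          DerCA.IsRelPseudoCoherent Γ(S, (V : S.Opens)) Γ(X, (U : X.Opens)) m M := by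
  have e₀ : ∀ (U : X.affineOpens) (G : CochainComplex X.Modules ℤ),
      haveI := isClosedImmersion_toSpecΓ U.2
      DCoh.toD _ ((DerSch.pushCx U.2.isoSpec.hom).obj ((DCoh.restrictCx (U : X.Opens)).obj G)) ≅
        (pushD (U : X.Opens).toSpecΓ).obj ((rd (U : X.Opens).ι).obj (DCoh.toD X G)) := fun U G => by
    haveI := isClosedImmersion_toSpecΓ U.2
    refine DerivedCategory.Q.mapIso ((NatIso.mapHomologicalComplex
      (Scheme.Modules.pushforwardCongr U.2.isoSpec_hom) (ComplexShape.up ℤ)).app _) ≪≫
      (pushDQ _ _).symm ≪≫ (pushD _).mapIso ((rdQ (U : X.Opens).ι).app G).symm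
  constructor
  · intro h U V e G hG M hM
    haveI := isClosedImmersion_toSpecΓ U.2
    haveI : PreservesFiniteLimits (tilde.functor (CommRingCat.of Γ(X, (U : X.Opens)))) :=
      inferInstanceAs (PreservesFiniteLimits (tilde.functor (X.presheaf.obj (Opposite.op (U : X.Opens)))))
    obtain ⟨n, φ, hφ⟩ := exists_isChart f _ _ e (f.finiteType_appLE V.2 U.2 e)
    letI := (f.appLE (V : S.Opens) (U : X.Opens) e).hom.toAlgebra
    refine ⟨n, { φ with commutes' := fun a => congr($(hφ.2) a) }, hφ.1, ?_⟩
    exact (chartPC_iff_ring U.2 φ hφ.1 m E M (hM.some ≪≫ e₀ U G ≪≫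
      (pushD (U : X.Opens).toSpecΓ).mapIso ((rd (U : X.Opens).ι).mapIso hG.some))).1
      (chartPC_of_rel h U.2 V.2 e φ hφ)
  · intro h
    refine (rel_iff_forall f m E).2 fun U V e => ?_
    haveI := isClosedImmersion_toSpecΓ U.2
    haveI : PreservesFiniteLimits (tilde.functor (CommRingCat.of Γ(X, (U : X.Opens)))) :=
      inferInstanceAs (PreservesFiniteLimits (tilde.functor (X.presheaf.obj (Opposite.op (U : X.Opens)))))
    have hq : DCoh.IsQCohD ((pushD (U : X.Opens).toSpecΓ).obj ((rd (U : X.Opens).ι).obj E)) := fun i => by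
      haveI : ((Scheme.Modules.restrictFunctor (U : X.Opens).ι).obj (DCoh.HD E i)).IsQuasicoherent :=
        @Scheme.Modules.isQuasicoherent_restrictFunctor _ _ (U : X.Opens).ι _ _ (hE i)
      haveI := H10Coh.isQuasicoherent_pushforward_of_isAffineHom (U : X.Opens).toSpecΓ
        ((Scheme.Modules.restrictFunctor (U : X.Opens).ι).obj (DCoh.HD E i))
      exact @H10Coh.isQuasicoherent_of_iso _ _ _ (hdPushD _ _ i ≪≫
        (Scheme.Modules.pushforward (U : X.Opens).toSpecΓ).mapIso (homologyRdIso _ E i)).symm this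
    obtain ⟨M, ⟨eM⟩⟩ := H16Derived.QCohD.exists_tildeD_iso
      (R := CommRingCat.of Γ(X, (U : X.Opens))) hq
    letI := (f.appLE (V : S.Opens) (U : X.Opens) e).hom.toAlgebra
    obtain ⟨n, α, hα, hM⟩ := h U V e _ ⟨DerivedCategory.Q.objObjPreimageIso E⟩ M
      ⟨eM ≪≫ ((e₀ U _) ≪≫ (pushD (U : X.Opens).toSpecΓ).mapIso
        ((rd (U : X.Opens).ι).mapIso (DerivedCategory.Q.objObjPreimageIso E))).symm⟩
    exact ⟨n, α.toRingHom, ⟨hα, RingHom.ext fun a => α.commutes a⟩,
      (chartPC_iff_ring U.2 α.toRingHom hα m E M eM).2 hM⟩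

end Global

end Groth.Agent.H8Props.RelPC
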