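import Groth.Agent.H8Props.PushClosedBasic

/-!
# Direct image along closed immersions in a cartesian square with open immersions
-/

set_option autoImplicit false
set_option linter.style.haveILetI false
set_option backward.isDefEq.respectTransparency false

universe u

open CategoryTheory CategoryTheory.Limits AlgebraicGeometry Pretriangulated

attribute [local instance] HasDerivedCategory.standard

namespace Groth.Agent.H8Props.PushPC

open H16Derived.KFlat.Stalk

variable {X Y X' Y' : Scheme.{u}} {f : X ⟶ Y} {g : Y' ⟶ Y} {f' : X' ⟶ Y'} {g' : X' ⟶ X}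
  [IsOpenImmersion g] [IsOpenImmersion g']

/-- Direct image commutes with restriction, naturally in the module. -/
noncomputable def pushRestrictSquareNatIso (H : IsPullback f' g' g f) :
    Scheme.Modules.pushforward f ⋙ Scheme.Modules.restrictFunctor g ≅
      Scheme.Modules.restrictFunctor g' ⋙ Scheme.Modules.pushforward f' :=
  NatIso.ofComponents (fun M => H10Coh.pushRestrictIso H M)
    (fun {M N} φ => Scheme.Modules.hom_ext _ _ fun W => by
      show φ.app (f ⁻¹ᵁ (g ''ᵁ W)) ≫ (H10Coh.pushRestrictHom H N).app W =
        (H10Coh.pushRestrictHom H M).app W ≫ φ.app (g' ''ᵁ (f' ⁻¹ᵁ W))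
      rw [H10Coh.pushRestrictHom_app, H10Coh.pushRestrictHom_app]
      exact (((Scheme.Modules.toPresheaf X).map φ).naturality _).symm)

/-- `i_*` commutes with restriction along open immersions. -/
noncomputable def rdPushDSquare (H : IsPullback f' g' g f) [IsClosedImmersion f] [IsClosedImmersion f']
    (K : DCoh.D X) : (rd g).obj ((pushD f).obj K) ≅ (pushD f').obj ((rd g').obj K) :=
  (rd g).mapIso ((pushD f).mapIso (DerivedCategory.Q.objObjPreimageIso K).symm ≪≫ pushDQ f _) ≪≫
    (rdQ g).app _ ≪≫
    DerivedCategory.Q.mapIso ((NatIso.mapHomologicalComplex (pushRestrictSquareNatIso H)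
      (ComplexShape.up ℤ)).app (DerivedCategory.Q.objPreimage K)) ≪≫
    (pushDQ f' (((Scheme.Modules.restrictFunctor g').mapHomologicalComplex _).obj
      (DerivedCategory.Q.objPreimage K))).symm ≪≫
    (pushD f').mapIso ((rdQ g').symm.app _ ≪≫
      (rd g').mapIso (DerivedCategory.Q.objObjPreimageIso K))

end Groth.Agent.H8Props.PushPC
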