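import Groth.Agent.H06EGA11.Loc
import Mathlib.RingTheory.IsTensorProduct
import Mathlib.RingTheory.LocalRing.ResidueField.Ideal
import Mathlib.RingTheory.Flat.Localization
import Mathlib.LinearAlgebra.Basis.VectorSpace

/-!
# Flatness at a prime: base change and descent along a flat-at-the-prime algebra
-/

set_option autoImplicit false
set_option linter.style.haveILetI false

universe u

open TensorProduct

namespace Groth.Agent.H8Props.FlatAtBC

variable {R S R' S' : Type u} [CommRing R] [CommRing S] [CommRing R'] [CommRing S']
  [Algebra R S] [Algebra R R'] [Algebra S S'] [Algebra R' S'] [Algebra R S'] [IsScalarTower R S S']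
  [IsScalarTower R R' S'] [hP : Algebra.IsPushout R S R' S']
  {M M' : Type u} [AddCommGroup M] [Module S M] [Module R M] [IsScalarTower R S M]
  [AddCommGroup M'] [Module S' M'] [Module R' M'] [IsScalarTower R' S' M'] [Module S M']
  [IsScalarTower S S' M'] [Module R M'] [IsScalarTower R R' M'] [IsScalarTower R S M']

include hP in
/-- The module base change along a pushout square, over the base. -/
theorem isBaseChange_restrictScalars (f : M →ₗ[S] M') (hf : IsBaseChange S' f) :
    IsBaseChange R' (f.restrictScalars R) := by
  haveI : Algebra.IsPushout R R' S S' := hP.symm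
  refine IsBaseChange.of_equiv ((Algebra.IsPushout.cancelBaseChange R R' S S' M).symm ≪≫ₗ
    (hf.equiv.restrictScalars R')) fun m => ?_
  simp [Algebra.IsPushout.cancelBaseChange_symm_tmul, IsBaseChange.equiv_tmul]

include hP in
/-- Flatness at a prime is stable under base change. -/
theorem flat_localizedModule_of_comap (f : M →ₗ[S] M') (hf : IsBaseChange S' f) (q' : Ideal S')
    [q'.IsPrime] (h : Module.Flat R (LocalizedModule (q'.comap (algebraMap S S')).primeCompl M)) :
    Module.Flat R' (LocalizedModule q'.primeCompl M') := by
  have hb := isBaseChange_restrictScalars (R := R) (R' := R') f hf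
  refine H06EGA11.flat_localizedModule _ fun J x hx => ?_
  -- `M ⊗_R J ≅ M' ⊗_{R'} J`
  let e : ∀ (P : Type u) [AddCommGroup P] [Module R P] [Module R' P] [IsScalarTower R R' P],
      M ⊗[R] P ≃+ M' ⊗[R'] P := fun P _ _ _ _ =>
    ((TensorProduct.comm R M P).toAddEquiv.trans (hb.tensorEquiv P).symm.toAddEquiv).trans
      (TensorProduct.comm R' P M').toAddEquiv
  have he : ∀ (P : Type u) [AddCommGroup P] [Module R P] [Module R' P] [IsScalarTower R R' P]
      (m : M) (j : P), e P (m ⊗ₜ j) = f m ⊗ₜ j := fun P _ _ _ _ m j => by
    show TensorProduct.comm R' P M' ((hb.tensorEquiv P).symm (j ⊗ₜ m)) = _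
    simp [IsBaseChange.tensorEquiv, IsBaseChange.equiv_tmul]
  obtain ⟨z, rfl⟩ := (e J).surjective x
  have hcomm : ∀ z, J.subtype.lTensor M' (e J z) =
      e R' ((J.subtype.restrictScalars R).lTensor M z) := fun z => by
    induction z with
    | zero => simp
    | tmul m j => rw [he, LinearMap.lTensor_tmul, LinearMap.lTensor_tmul, he]; rfl
    | add a b ha hb => simp only [map_add, ha, hb]
  have hz : (J.subtype.restrictScalars R).lTensor M z = 0 :=
    (e R').injective (by rw [← hcomm, hx, map_zero])
  haveI := h
  obtain ⟨t, ht, htz⟩ := H06EGA11.exists_smul_eq_zero_of_flat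
    (q'.comap (algebraMap S S')).primeCompl (J.subtype.restrictScalars R) J.injective_subtype z hz
  refine ⟨algebraMap S S' t, ht, ?_⟩
  have hsm : ∀ z, algebraMap S S' t • e J z = e J (t • z) := fun z => by
    induction z with
    | zero => simp
    | tmul m j => rw [TensorProduct.smul_tmul', he, he, TensorProduct.smul_tmul', map_smul, algebraMap_smul]
    | add a b ha hb => simp only [map_add, smul_add, ha, hb]
  rw [hsm, htz, map_zero]

include hP in
/-- A prime of the pushout over two primes with the same contraction. -/
theorem exists_prime_over (q : Ideal S) [q.IsPrime] (p' : Ideal R') [p'.IsPrime]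
    (hqp : p'.comap (algebraMap R R') = q.comap (algebraMap R S)) :
    ∃ q' : Ideal S', q'.IsPrime ∧ q'.comap (algebraMap S S') = q ∧
      q'.comap (algebraMap R' S') = p' := by
  let p := q.comap (algebraMap R S)
  letI := (Ideal.ResidueField.map p q (algebraMap R S) rfl).toAlgebra
  letI := (Ideal.ResidueField.map p p' (algebraMap R R') hqp.symm).toAlgebra
  let T := q.ResidueField ⊗[p.ResidueField] p'.ResidueField
  haveI : Nontrivial T := Algebra.TensorProduct.nontrivial_of_algebraMap_injective_of_flat_left
    p.ResidueField q.ResidueField p'.ResidueField (RingHom.injective _)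
  obtain ⟨m, hm⟩ := Ideal.exists_maximal T
  letI := Ideal.Quotient.field m
  let a : q.ResidueField →+* T ⧸ m :=
    (Ideal.Quotient.mk m).comp Algebra.TensorProduct.includeLeftRingHom
  let b : p'.ResidueField →+* T ⧸ m :=
    (Ideal.Quotient.mk m).comp Algebra.TensorProduct.includeRight.toRingHom
  letI : Algebra R (T ⧸ m) := (a.comp ((algebraMap S q.ResidueField).comp (algebraMap R S))).toAlgebra
  have hab : ∀ r : R, b (algebraMap R' p'.ResidueField (algebraMap R R' r)) =
      a (algebraMap S q.ResidueField (algebraMap R S r)) := fun r => by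
    rw [← Ideal.ResidueField.map_algebraMap p p' (algebraMap R R') hqp.symm r,
      ← Ideal.ResidueField.map_algebraMap p q (algebraMap R S) rfl r]
    show Ideal.Quotient.mk m ((1 : q.ResidueField) ⊗ₜ algebraMap p.ResidueField p'.ResidueField _) =
      Ideal.Quotient.mk m (algebraMap p.ResidueField q.ResidueField _ ⊗ₜ 1)
    exact congrArg (Ideal.Quotient.mk m) (((Algebra.TensorProduct.includeRight (R := p.ResidueField)
      (A := q.ResidueField) (B := p'.ResidueField)).commutes _).trans
        (Algebra.TensorProduct.algebraMap_apply _))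
  let Φ := Algebra.pushoutDesc S' (R := R) (S := S) (R' := R') (A := T ⧸ m)
    ⟨a.comp (algebraMap S q.ResidueField), fun _ => rfl⟩
    ⟨b.comp (algebraMap R' p'.ResidueField), hab⟩ fun _ _ => mul_comm _ _
  refine ⟨RingHom.ker Φ.toRingHom, RingHom.ker_isPrime _, ?_, ?_⟩
  · ext s
    show Φ (algebraMap S S' s) = 0 ↔ _
    rw [Algebra.pushoutDesc_left]
    show a (algebraMap S q.ResidueField s) = 0 ↔ _
    rw [map_eq_zero_iff a a.injective, Ideal.algebraMap_residueField_eq_zero]
  · ext r
    show Φ (algebraMap R' S' r) = 0 ↔ _
    rw [Algebra.pushoutDesc_right]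
    show b (algebraMap R' p'.ResidueField r) = 0 ↔ _
    rw [map_eq_zero_iff b b.injective, Ideal.algebraMap_residueField_eq_zero]

include hP in
/-- Descent of flatness at a prime. -/
theorem flat_localizedModule_descend (f : M →ₗ[S] M') (hf : IsBaseChange S' f) (q' : Ideal S')
    [q'.IsPrime] (h : Module.Flat R' (LocalizedModule q'.primeCompl M'))
    (hflat : Module.Flat R (Localization.AtPrime (q'.comap (algebraMap R' S')))) :
    Module.Flat R (LocalizedModule (q'.comap (algebraMap S S')).primeCompl M) := by
  let p' := q'.comap (algebraMap R' S')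
  let C := Localization.AtPrime q'
  let N := LocalizedModule q'.primeCompl M'
  haveI : Algebra.IsPushout R R' S S' := hP.symm
  -- `C` is flat over `S`
  have hC : Module.Flat S C := by
    have h1 : Module.Flat S (LocalizedModule q'.primeCompl S') :=
      flat_localizedModule_of_comap (R := R) (S := R') (R' := S) (S' := S') (M := R') (M' := S')
        (Algebra.linearMap R' S') (IsBaseChange.linearMap R' S') q' hflat
    exact h1
  -- `N` is flat over `R`
  haveI : IsScalarTower R S' M' := .of_algebraMap_smul fun r z => by
    rw [IsScalarTower.algebraMap_apply R R' S', algebraMap_smul, algebraMap_smul]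
  letI : Algebra (Localization.AtPrime p') C := Localization.AtPrime.algebraOfLiesOver p' q'
  letI : Module (Localization.AtPrime p') N :=
    Module.compHom N (algebraMap (Localization.AtPrime p') C)
  haveI : IsScalarTower R' (Localization.AtPrime p') N := .of_algebraMap_smul fun r n => by
    show algebraMap (Localization.AtPrime p') C (algebraMap R' (Localization.AtPrime p') r) • n = _
    rw [← IsScalarTower.algebraMap_apply, IsScalarTower.algebraMap_apply R' S' C,
      algebraMap_smul, algebraMap_smul]
  haveI : IsScalarTower R (Localization.AtPrime p') N := .of_algebraMap_smul fun r n => by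
    rw [IsScalarTower.algebraMap_apply R R' (Localization.AtPrime p'), algebraMap_smul, algebraMap_smul]
  haveI : Module.Flat (Localization.AtPrime p') N :=
    (Module.flat_iff_of_isLocalization (Localization.AtPrime p') p'.primeCompl N).2 h
  haveI := hflat
  haveI : Module.Flat R N := Module.Flat.trans R (Localization.AtPrime p') N
  refine H06EGA11.flat_localizedModule _ fun J x hx => ?_
  -- `M ⊗ J → N ⊗ J` is the base change along `S → C`
  let g : M →ₗ[S] N := ((LocalizedModule.mkLinearMap q'.primeCompl M').restrictScalars S).comp f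
  haveI : IsScalarTower S C N := .of_algebraMap_smul fun s n => by
    rw [IsScalarTower.algebraMap_apply S S' C, algebraMap_smul, algebraMap_smul]
  have hg : IsBaseChange C g :=
    hf.comp ((isLocalizedModule_iff_isBaseChange q'.primeCompl C _).mp inferInstance)
  let E : C ⊗[S] (M ⊗[R] J) ≃ₗ[C] N ⊗[R] J :=
    (AlgebraTensorModule.assoc R S C C M J).symm ≪≫ₗ
      AlgebraTensorModule.congr hg.equiv (LinearEquiv.refl R J)
  have hE : ∀ z, E (1 ⊗ₜ z) = LinearMap.rTensor J (g.restrictScalars R) z := fun z => by
    induction z with
    | zero => simp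
    | tmul m j => simp [E, IsBaseChange.equiv_tmul]
    | add a b ha hb => simp only [TensorProduct.tmul_add, map_add, ha, hb]
  have hgx : LinearMap.rTensor J (g.restrictScalars R) x = 0 := by
    refine (injective_iff_map_eq_zero (J.subtype.lTensor N)).1
      (Module.Flat.lTensor_preserves_injective_linearMap _ J.injective_subtype) _ ?_
    rw [← LinearMap.comp_apply, LinearMap.lTensor_comp_rTensor, ← LinearMap.rTensor_comp_lTensor,
      LinearMap.comp_apply, hx, map_zero]
  have h0 : (1 : C) ⊗ₜ[S] x = 0 := E.injective (by rw [hE, hgx, map_zero])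
  -- so the annihilator is not inside `q`
  by_contra hcon
  push Not at hcon
  let l := LinearMap.toSpanSingleton S (M ⊗[R] J) x
  have hle : LinearMap.ker l ≤ q'.comap (algebraMap S S') := fun t ht => by
    by_contra htq
    exact hcon t htq (by simpa [l] using ht)
  let lbar := (LinearMap.ker l).liftQ l le_rfl
  have hinj : Function.Injective lbar := LinearMap.ker_eq_bot.mp (Submodule.ker_liftQ_eq_bot _ _ _ le_rfl)
  have h1 : (1 : C) ⊗ₜ[S] (Submodule.Quotient.mk 1 : S ⧸ LinearMap.ker l) = 0 :=
    Module.Flat.lTensor_preserves_injective_linearMap lbar hinj (by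
      rw [map_zero, LinearMap.lTensor_tmul]
      show (1 : C) ⊗ₜ[S] lbar (Submodule.Quotient.mk 1) = 0
      rw [show lbar (Submodule.Quotient.mk 1) = x from one_smul S x]
      exact h0)
  -- evaluate in the residue field of `q'`
  let π : S ⧸ LinearMap.ker l →ₗ[S] q'.ResidueField :=
    (LinearMap.ker l).liftQ (Algebra.linearMap S q'.ResidueField) fun t ht => by
      show algebraMap S q'.ResidueField t = 0
      rw [IsScalarTower.algebraMap_apply S S' q'.ResidueField, Ideal.algebraMap_residueField_eq_zero]
      exact hle ht
  have h2 := congrArg (LinearMap.liftBaseChange C π) h1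
  simp only [map_zero, LinearMap.liftBaseChange_tmul, one_smul] at h2
  exact one_ne_zero ((map_one (algebraMap S q'.ResidueField)).symm.trans h2)

end Groth.Agent.H8Props.FlatAtBC
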