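import Groth.Agent.H8Props.RingRelPCExtend
import Groth.Agent.H8Props.PseudoCoh.RingMap
import Groth.Agent.S2087

/-!
# Relative pseudo-coherence and localization
-/

set_option autoImplicit false
set_option linter.style.haveILetI false
set_option backward.isDefEq.respectTransparency false

universe u

open CategoryTheory CategoryTheory.Limits TensorProduct

attribute [local instance] HasDerivedCategory.standard

namespace Groth.Agent.H8Props.RingRelPC

open PseudoCoh

variable {R A B : Type u} [CommRing R] [CommRing A] [CommRing B] [Algebra R A] [Algebra R B]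

theorem rfp_pres (h : MoreMor.IsPseudoCoherentHom R A) {n : ℕ} (α : MvPolynomial (Fin n) R →ₐ[R] A)
    (hα : Function.Surjective α) : RFP α.toRingHom := by
  let e := MvPolynomial.renameEquiv R (Equiv.ulift.{u} (α := Fin n))
  exact RFP.of_comp (rfp_of_bijective _ e.bijective)
    (rfp_of_isPseudoCoherentHom h (α.comp e.toAlgHom) (hα.comp e.surjective) :)

/-- Relative pseudo-coherence over `R` through a pseudo-coherent `R`-algebra mapping onto `B`. -/
theorem relPC_iff_via_hom {Q : Type u} [CommRing Q] [Algebra R Q]
    (hQ : MoreMor.IsPseudoCoherentHom R Q) (π : Q →ₐ[R] B) (hπ : Function.Surjective π) (m : ℤ)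
    (K : Dual.D B) : DerCA.IsRelPseudoCoherent R B m K ↔ Via (π : Q →+* B) m K := by
  obtain ⟨n, φ, hφ, hr⟩ := isPseudoCoherentHom_iff.mp hQ
  exact (relPC_iff_via (π.comp φ) (hπ.comp hφ) m K).trans
    (via_comp_iff φ.toRingHom hr (π : Q →+* B) m K).symm

theorem isPseudoCoherentHom_mvPolynomial (n : ℕ) :
    MoreMor.IsPseudoCoherentHom R (MvPolynomial (Fin n) R) :=
  isPseudoCoherentHom_iff.mpr
    ⟨n, AlgHom.id R _, fun x => ⟨x, rfl⟩, rfp_of_bijective _ Function.bijective_id⟩

theorem relPC_away_iff_aux {n : ℕ} (α : MvPolynomial (Fin n) R →ₐ[R] A) (hα : Function.Surjective α)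
    (h : MvPolynomial (Fin n) R) (K : DRing.Cx A) (m : ℤ) :
    letI := α.toRingHom.toAlgebra
    (DerCA.IsRelPseudoCoherent R A m (DRing.toD K) →
      DerCA.IsRelPseudoCoherent R (Localization.Away (α h)) m (DRing.toD
        (((ModuleCat.extendScalars (algebraMap A (Localization.Away (α h)))).mapHomologicalComplex
          (ComplexShape.up ℤ)).obj K))) ∧
    (DerCA.IsRelPseudoCoherent R (Localization.Away (α h)) m (DRing.toD
        (((ModuleCat.extendScalars (algebraMap A (Localization.Away (α h)))).mapHomologicalComplex
          (ComplexShape.up ℤ)).obj K)) →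
      DRing.IsPseudoCoherent (Localization.Away h) m (DRing.toD
        (((ModuleCat.extendScalars (algebraMap (MvPolynomial (Fin n) R) (Localization.Away h))).mapHomologicalComplex
          (ComplexShape.up ℤ)).obj
          (((ModuleCat.restrictScalars.{u} (algebraMap (MvPolynomial (Fin n) R) A)).mapHomologicalComplex
            (ComplexShape.up ℤ)).obj K)))) := by
  letI := α.toRingHom.toAlgebra
  let P := MvPolynomial (Fin n) R
  let P' := Localization.Away h
  let A' := Localization.Away (α h)
  haveI : IsScalarTower R P A := IsScalarTower.of_algebraMap_eq fun r => (α.commutes r).symm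
  have hu : IsUnit (algebraMap P A' h) := by
    rw [IsScalarTower.algebraMap_apply P A A']
    exact IsLocalization.Away.algebraMap_isUnit (α h)
  letI : Algebra P' A' :=
    (IsLocalization.Away.lift (S := P') (g := algebraMap P A') h hu).toAlgebra
  haveI : IsScalarTower P P' A' := IsScalarTower.of_algebraMap_eq fun x =>
    (IsLocalization.Away.lift_eq (S := P') (g := algebraMap P A') h hu x).symm
  haveI : IsLocalization (Algebra.algebraMapSubmonoid A (Submonoid.powers h)) A' := by
    rw [Algebra.algebraMapSubmonoid_powers]
    exact inferInstanceAs (IsLocalization.Away (α h) A')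
  haveI : Algebra.IsPushout P A P' A' := Algebra.isPushout_of_isLocalization (Submonoid.powers h) P' A A'
  haveI : Algebra.IsPushout P P' A A' := Algebra.IsPushout.symm inferInstance
  haveI : Module.Flat P P' := IsLocalization.flat P' (Submonoid.powers h)
  haveI : IsScalarTower R P' A' := IsScalarTower.of_algebraMap_eq fun r => by
    rw [IsScalarTower.algebraMap_apply R P P', ← IsScalarTower.algebraMap_apply P P' A',
      IsScalarTower.algebraMap_apply P A A', ← IsScalarTower.algebraMap_apply R P A,
      ← IsScalarTower.algebraMap_apply R A A']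
  have hQ : MoreMor.IsPseudoCoherentHom R P' :=
    isPseudoCoherentHom_comp (isPseudoCoherentHom_mvPolynomial n) (isPseudoCoherentHom_away h)
  have hsurj : Function.Surjective (algebraMap P' A') := fun z => by
    obtain ⟨⟨a, ⟨_, k, rfl⟩⟩, hz⟩ :=
      IsLocalization.surj (Submonoid.powers (α h)) z
    obtain ⟨p, rfl⟩ := hα a
    refine ⟨IsLocalization.mk' P' p (⟨h ^ k, k, rfl⟩ : Submonoid.powers h), ?_⟩
    have h1 := congrArg (algebraMap P' A')
      (IsLocalization.mk'_spec P' p (⟨h ^ k, k, rfl⟩ : Submonoid.powers h))
    rw [map_mul, ← IsScalarTower.algebraMap_apply P P' A', ← IsScalarTower.algebraMap_apply P P' A',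
      IsScalarTower.algebraMap_apply P A A', IsScalarTower.algebraMap_apply P A A'] at h1
    simp only [RingHom.algebraMap_toAlgebra, AlgHom.toRingHom_eq_coe, RingHom.coe_coe, map_pow] at h1 hz
    exact ((IsLocalization.Away.algebraMap_isUnit (α h)).pow k).mul_left_injective
      (h1.trans hz.symm)
  have hiff := relPC_iff_via_hom (B := A') hQ (IsScalarTower.toAlgHom R P' A') hsurj m
    (DRing.toD (((ModuleCat.extendScalars (algebraMap A A')).mapHomologicalComplex
      (ComplexShape.up ℤ)).obj K))
  exact ⟨fun hK => hiff.2 (via_extend P P' A A' K m ((relPC_iff_via α hα m _).1 hK)),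
    fun hK => (via_extend_iff P P' A A' K m).1 (hiff.1 hK)⟩

theorem relPC_away {K : DRing.Cx A} {m : ℤ} [Algebra.FiniteType R A] (g : A)
    (hK : DerCA.IsRelPseudoCoherent R A m (DRing.toD K)) :
    DerCA.IsRelPseudoCoherent R (Localization.Away g) m (DRing.toD
      (((ModuleCat.extendScalars (algebraMap A (Localization.Away g))).mapHomologicalComplex
        (ComplexShape.up ℤ)).obj K)) := by
  obtain ⟨n, α, hα⟩ := exists_pres R A
  obtain ⟨h, rfl⟩ := hα g
  exact (relPC_away_iff_aux α hα h K m).1 hK

theorem relPC_of_away [Algebra.FiniteType R A] (K : DRing.Cx A) (m : ℤ) {r : ℕ} (f : Fin r → A)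
    (hf : Ideal.span (Set.range f) = ⊤)
    (h : ∀ i, DerCA.IsRelPseudoCoherent R (Localization.Away (f i)) m
      (DRing.toD (((ModuleCat.extendScalars (algebraMap A (Localization.Away (f i)))).mapHomologicalComplex
        (ComplexShape.up ℤ)).obj K))) :
    DerCA.IsRelPseudoCoherent R A m (DRing.toD K) := by
  obtain ⟨n, α, hα⟩ := exists_pres R A
  letI := α.toRingHom.toAlgebra
  let P := MvPolynomial (Fin n) R
  choose g hg using fun i => hα (f i)
  obtain ⟨c, hc⟩ := (Ideal.mem_span_range_iff_exists_fun).1 (hf ▸ Submodule.mem_top : (1 : A) ∈ _)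
  choose c' hc' using fun i => hα (c i)
  let k : P := 1 - ∑ i, c' i * g i
  have hk : α k = 0 := by simp [k, map_sum, hc', hg, hc]
  let t : Fin (r + 1) → P := Fin.cons k g
  have ht : Ideal.span (Set.range t) = ⊤ := by
    refine (Ideal.eq_top_iff_one _).2 ?_
    have e : (1 : P) = k + ∑ i, c' i * g i := (sub_add_cancel _ _).symm
    rw [e]
    refine Ideal.add_mem _ (Ideal.subset_span ⟨0, rfl⟩) (Ideal.sum_mem _ fun i _ =>
      Ideal.mul_mem_left _ _ (Ideal.subset_span ⟨i.succ, Fin.cons_succ _ _ _⟩))
  refine (relPC_iff_via α hα m _).2 (H4DR.PCoh.pc_of_iso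
    ((ModuleCat.restrictScalars.{u} (algebraMap P A)).mapDerivedCategoryFactors.app K).symm
    (S2087.result t ht _ m fun j => ?_))
  induction j using Fin.cases with
  | succ i =>
    rw [show t i.succ = g i from Fin.cons_succ _ _ _]
    have := h i
    rw [← hg i] at this
    exact (relPC_away_iff_aux α hα (g i) K m).2 this
  | zero =>
    rw [show t 0 = k from rfl]
    refine H4DR.PCoh.pc_of_vanish fun i _ => ?_
    have hz : ∀ j, IsZero ((((ModuleCat.extendScalars (algebraMap P (Localization.Away k))).mapHomologicalComplex
        (ComplexShape.up ℤ)).obj (((ModuleCat.restrictScalars.{u} (algebraMap P A)).mapHomologicalComplex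
          (ComplexShape.up ℤ)).obj K)).X j) := fun j => by
      let N : ModuleCat.{u} P := (ModuleCat.restrictScalars.{u} (algebraMap P A)).obj (K.X j)
      haveI : Subsingleton (Localization.Away k ⊗[P] N) := by
        refine ⟨fun a b => ?_⟩
        have hz : ∀ z : Localization.Away k ⊗[P] N, z = 0 := fun z => by
          induction z using TensorProduct.induction_on with
          | zero => rfl
          | add a b ha hb => rw [ha, hb, add_zero]
          | tmul s x =>
            obtain ⟨u, hu⟩ := (IsLocalization.Away.algebraMap_isUnit (S := Localization.Away k) k).exists_left_inv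
            have e : s = k • (s * u) := by
              rw [Algebra.smul_def, mul_left_comm, mul_comm _ u, hu, mul_one]
            rw [e, TensorProduct.smul_tmul,
              show k • x = 0 from (congrArg (fun a : A => a • (x : K.X j)) hk).trans (zero_smul A _),
              TensorProduct.tmul_zero]
        rw [hz a, hz b]
      have hs : Subsingleton ((ModuleCat.extendScalars.{u, u, u} (algebraMap P (Localization.Away k))).obj N) :=
        (H26Tor.extendEquiv (A' := Localization.Away k) N).symm.injective.subsingleton
      exact @ModuleCat.isZero_of_subsingleton _ _ ((ModuleCat.extendScalars.{u, u, u} (algebraMap P (Localization.Away k))).obj N) hs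
    let W := ((ModuleCat.extendScalars.{u, u, u} (algebraMap P (Localization.Away k))).mapHomologicalComplex
        (ComplexShape.up ℤ)).obj (((ModuleCat.restrictScalars.{u} (algebraMap P A)).mapHomologicalComplex
          (ComplexShape.up ℤ)).obj K)
    exact ModuleCat.subsingleton_of_isZero (IsZero.of_iso ((HomologicalComplex.exactAt_iff W i).2
      (ShortComplex.exact_of_isZero_X₂ (W.sc i) (hz i))).isZero_homology
      ((DerivedCategory.homologyFunctorFactors (ModuleCat.{u} (Localization.Away k)) i).app _))

end Groth.Agent.H8Props.RingRelPC
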