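import Groth.Agent.H8Props.RingRelPCExtend
import Groth.Agent.H8Props.RingRelPCLocal
import Groth.Agent.H4DR.TorAmp.Pair
import Groth.Agent.H4DR.TorAmp.Nilpotent
import Groth.Agent.S6941
import Groth.Agent.H8Props.FlatAtBaseChange
import Groth.Agent.S2087
import Mathlib.RingTheory.TensorProduct.MvPolynomial
import Mathlib.RingTheory.Localization.Away.Basic
import Mathlib.RingTheory.RingHom.FaithfullyFlat

/-!
# Flat base change and faithfully flat descent of relative pseudo-coherence
-/

set_option autoImplicit false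
set_option linter.style.haveILetI false
set_option linter.unusedSectionVars false
set_option backward.isDefEq.respectTransparency false

universe u

open CategoryTheory CategoryTheory.Limits TensorProduct

attribute [local instance] HasDerivedCategory.standard

namespace Groth.Agent.H8Props.RingRelPC

open PseudoCoh

/-- Extension of scalars of a complex. -/
noncomputable abbrev extCx {A B : Type u} [CommRing A] [CommRing B] (φ : A →+* B) (K : DRing.Cx A) :
    DRing.Cx B :=
  ((ModuleCat.extendScalars.{u, u, u} φ).mapHomologicalComplex (ComplexShape.up ℤ)).obj K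

/-- Restriction of scalars of a complex. -/
noncomputable abbrev resCx {A B : Type u} [CommRing A] [CommRing B] (φ : A →+* B) (K : DRing.Cx B) :
    DRing.Cx A :=
  ((ModuleCat.restrictScalars.{u} φ).mapHomologicalComplex (ComplexShape.up ℤ)).obj K

theorem pc_extCx {A B : Type u} [CommRing A] [CommRing B] (φ : A →+* B) (hφ : φ.Flat) {K : DRing.Cx A}
    {m : ℤ} (h : DRing.IsPseudoCoherent A m (DRing.toD K)) :
    DRing.IsPseudoCoherent B m (DRing.toD (extCx φ K)) := by
  haveI : PreservesFiniteLimits (ModuleCat.extendScalars.{u, u, u} φ) :=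
    ModuleCat.preservesFiniteLimits_extendScalars_of_flat hφ
  exact H4DR.PCoh.pc_of_iso ((ModuleCat.extendScalars.{u, u, u} φ).mapDerivedCategoryFactors.app K)
    (H4DR.PCoh.pc_map _ (H4DR.PCoh.hfree_extend φ) h)

theorem pc_extCx_trans {A B C : Type u} [CommRing A] [CommRing B] [CommRing C] (f : A →+* B) (g : B →+* C)
    (h : A →+* C) (e : g.comp f = h) (K : DRing.Cx A) (m : ℤ) :
    DRing.IsPseudoCoherent C m (DRing.toD (extCx g (extCx f K))) ↔
      DRing.IsPseudoCoherent C m (DRing.toD (extCx h K)) := by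
  subst e
  exact ⟨H4DR.PCoh.pc_of_iso (DerivedCategory.Q.mapIso (H4DR.TorAmp.extCompIso f g K)).symm,
    H4DR.PCoh.pc_of_iso (DerivedCategory.Q.mapIso (H4DR.TorAmp.extCompIso f g K))⟩

/-- Pseudo-coherence is detected by a finite jointly faithfully flat family. -/
theorem pc_of_family {P : Type u} [CommRing P] {J : Type} [Finite J] (Pj : J → Type u)
    [∀ j, CommRing (Pj j)] [∀ j, Algebra P (Pj j)] [∀ j, Module.Flat P (Pj j)]
    (hsurj : ∀ p : PrimeSpectrum P, ∃ j, p ∈ Set.range (PrimeSpectrum.comap (algebraMap P (Pj j))))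
    (K : DRing.Cx P) (m : ℤ)
    (h : ∀ j, DRing.IsPseudoCoherent (Pj j) m (DRing.toD (extCx (algebraMap P (Pj j)) K))) :
    DRing.IsPseudoCoherent P m (DRing.toD K) := by
  classical
  haveI := Fintype.ofFinite J
  let Q := ∀ j, Pj j
  haveI : Module.Flat P Q :=
    Module.Flat.of_linearEquiv (DirectSum.linearEquivFunOnFintype P J Pj).symm
  have hff : Module.FaithfullyFlat P Q := by
    rw [← RingHom.faithfullyFlat_algebraMap_iff, RingHom.FaithfullyFlat.iff_flat_and_comap_surjective]
    refine ⟨RingHom.flat_algebraMap_iff.2 inferInstance, fun p => ?_⟩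
    obtain ⟨j, q, hq⟩ := hsurj p
    refine ⟨PrimeSpectrum.comap (Pi.evalRingHom Pj j) q, ?_⟩
    rw [← hq, ← PrimeSpectrum.comap_comp_apply]
    rfl
  refine (S6941.result (R := P) (R' := Q) K m).1 ?_
  let σ := Fintype.equivFin J
  let t : Fin (Fintype.card J) → Q := fun k => Pi.single (σ.symm k) 1
  have ht : Ideal.span (Set.range t) = ⊤ := by
    rw [Ideal.eq_top_iff_one, show (1 : Q) = ∑ k, t k by
      rw [Equiv.sum_comp σ.symm (fun j => (Pi.single j 1 : Q))]
      exact (Finset.univ_sum_single (1 : Q)).symm]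
    exact Ideal.sum_mem _ fun k _ => Ideal.subset_span ⟨k, rfl⟩
  refine S2087.result t ht _ m fun k => ?_
  let j := σ.symm k
  letI : Algebra Q (Pj j) := (Pi.evalRingHom Pj j).toAlgebra
  haveI : IsScalarTower P Q (Pj j) := IsScalarTower.of_algebraMap_eq fun _ => rfl
  haveI : IsLocalization.Away (t k) (Pj j) :=
    IsLocalization.away_of_isIdempotentElem
      (by show t k * t k = t k; simp only [t]; rw [← Pi.single_mul, mul_one])
      (RingHom.ker_evalRingHom _ _) fun x => ⟨Pi.single j x, Pi.single_eq_same j x⟩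
  let e := (IsLocalization.algEquiv (Submonoid.powers (t k)) (Pj j) (Localization.Away (t k)))
  have hflat : (e : Pj j →+* Localization.Away (t k)).Flat := RingHom.Flat.of_bijective e.bijective
  refine (pc_extCx_trans (algebraMap P Q) (algebraMap Q (Localization.Away (t k)))
    ((e : Pj j →+* Localization.Away (t k)).comp (algebraMap P (Pj j))) ?_ K m).2
    ((pc_extCx_trans (algebraMap P (Pj j)) (e : Pj j →+* Localization.Away (t k)) _ rfl K m).1
      (pc_extCx _ hflat (h j)))
  rw [IsScalarTower.algebraMap_eq P Q (Pj j), ← RingHom.comp_assoc]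
  exact congrArg (fun f : Q →+* Localization.Away (t k) => f.comp (algebraMap P Q))
    (RingHom.ext fun x => (e.commutes x).symm)

section Charts

variable {R A : Type u} [CommRing R] [CommRing A] [Algebra R A]

attribute [local instance] MvPolynomial.algebraMvPolynomial

variable (R' A' : Type u) [CommRing R'] [CommRing A'] [Algebra R R'] [Algebra R' A'] [Algebra A A']
  [Algebra R A'] [IsScalarTower R R' A'] [IsScalarTower R A A'] [Algebra.IsPushout R R' A A']

variable {n : ℕ} (α : MvPolynomial (Fin n) R →ₐ[R] A)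

/-- The base change of a presentation. -/
noncomputable def bcPres : MvPolynomial (Fin n) R' →ₐ[R'] A' :=
  MvPolynomial.aeval fun i => algebraMap A A' (α (MvPolynomial.X i))

/-- `R[x] → A → A'`. -/
@[reducible] noncomputable def bcAlg : Algebra (MvPolynomial (Fin n) R) A' :=
  ((algebraMap A A').comp α.toRingHom).toAlgebra

theorem bcPres_tower₁ :
    letI : Algebra (MvPolynomial (Fin n) R) A := α.toRingHom.toAlgebra
    letI : Algebra (MvPolynomial (Fin n) R) A' := bcAlg A' α
    IsScalarTower (MvPolynomial (Fin n) R) A A' :=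
  letI : Algebra (MvPolynomial (Fin n) R) A := α.toRingHom.toAlgebra
  letI : Algebra (MvPolynomial (Fin n) R) A' := bcAlg A' α
  IsScalarTower.of_algebraMap_eq fun _ => rfl

theorem bcPres_map (x : MvPolynomial (Fin n) R) :
    bcPres R' A' α (algebraMap (MvPolynomial (Fin n) R) (MvPolynomial (Fin n) R') x) =
      algebraMap A A' (α x) := by
  have : (bcPres R' A' α).toRingHom.comp
      (algebraMap (MvPolynomial (Fin n) R) (MvPolynomial (Fin n) R')) =
      (algebraMap A A').comp α.toRingHom := MvPolynomial.ringHom_ext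
    (fun r => by simp [bcPres, ← IsScalarTower.algebraMap_apply])
    (fun i => by simp [bcPres])
  exact congr($this x)

theorem bcPres_tower₂ :
    letI : Algebra (MvPolynomial (Fin n) R') A' := (bcPres R' A' α).toRingHom.toAlgebra
    letI : Algebra (MvPolynomial (Fin n) R) A' := bcAlg A' α
    IsScalarTower (MvPolynomial (Fin n) R) (MvPolynomial (Fin n) R') A' :=
  letI : Algebra (MvPolynomial (Fin n) R') A' := (bcPres R' A' α).toRingHom.toAlgebra
  letI : Algebra (MvPolynomial (Fin n) R) A' := bcAlg A' α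
  IsScalarTower.of_algebraMap_eq fun x => (bcPres_map R' A' α x).symm

theorem bcPres_surjective (hα : Function.Surjective α) : Function.Surjective (bcPres R' A' α) := by
  intro z
  obtain ⟨t, rfl⟩ := (Algebra.IsPushout.equiv R R' A A').surjective z
  induction t using TensorProduct.induction_on with
  | zero => exact ⟨0, by rw [map_zero, map_zero]⟩
  | add a b ha hb =>
    obtain ⟨x, hx⟩ := ha
    obtain ⟨y, hy⟩ := hb
    exact ⟨x + y, by rw [map_add, map_add, hx, hy]⟩
  | tmul r a =>
    obtain ⟨p, rfl⟩ := hα a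
    refine ⟨MvPolynomial.C r * algebraMap (MvPolynomial (Fin n) R) (MvPolynomial (Fin n) R') p, ?_⟩
    rw [map_mul, bcPres_map, show bcPres R' A' α (MvPolynomial.C r) = algebraMap R' A' r from
      (bcPres R' A' α).commutes r, Algebra.IsPushout.equiv_tmul]

theorem bcPres_isPushout :
    letI : Algebra (MvPolynomial (Fin n) R) A := α.toRingHom.toAlgebra
    letI : Algebra (MvPolynomial (Fin n) R') A' := (bcPres R' A' α).toRingHom.toAlgebra
    letI : Algebra (MvPolynomial (Fin n) R) A' := bcAlg A' α
    haveI := bcPres_tower₁ A' α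
    haveI := bcPres_tower₂ R' A' α
    Algebra.IsPushout (MvPolynomial (Fin n) R) (MvPolynomial (Fin n) R') A A' := by
  let P := MvPolynomial (Fin n) R
  let P' := MvPolynomial (Fin n) R'
  letI : Algebra P A := α.toRingHom.toAlgebra
  letI : Algebra P' A' := (bcPres R' A' α).toRingHom.toAlgebra
  letI : Algebra P A' := bcAlg A' α
  haveI : IsScalarTower R P A := IsScalarTower.of_algebraMap_eq fun r => (α.commutes r).symm
  haveI := bcPres_tower₁ A' α
  haveI := bcPres_tower₂ R' A' α
  haveI : IsScalarTower R' P' A' := IsScalarTower.of_algebraMap_eq fun r => ((bcPres R' A' α).commutes r).symm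
  haveI : IsScalarTower R P A' := IsScalarTower.of_algebraMap_eq fun r => by
    rw [IsScalarTower.algebraMap_apply R A A', IsScalarTower.algebraMap_apply R P A]
    rfl
  haveI : IsScalarTower R P' A' := IsScalarTower.of_algebraMap_eq fun r => by
    rw [IsScalarTower.algebraMap_apply R R' A', IsScalarTower.algebraMap_apply R' P' A',
      IsScalarTower.algebraMap_apply R R' P']
  haveI : Algebra.IsPushout R A R' A' := Algebra.IsPushout.symm inferInstance
  haveI : Algebra.IsPushout P A P' A' :=
    (Algebra.IsPushout.comp_iff (R := R) (S := P) (R' := R') (S' := P') (T := A) (T' := A')).1 inferInstance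
  exact Algebra.IsPushout.symm inferInstance

/-- Flat base change. -/
theorem relPC_extCx [Module.Flat R R'] (K : DRing.Cx A) (m : ℤ)
    (h : DerCA.IsRelPseudoCoherent R A m (DRing.toD K)) :
    DerCA.IsRelPseudoCoherent R' A' m (DRing.toD (extCx (algebraMap A A') K)) := by
  obtain ⟨n, α, hα, hK⟩ := h
  letI : Algebra (MvPolynomial (Fin n) R) A := α.toRingHom.toAlgebra
  letI : Algebra (MvPolynomial (Fin n) R') A' := (bcPres R' A' α).toRingHom.toAlgebra
  letI : Algebra (MvPolynomial (Fin n) R) A' := bcAlg A' α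
  haveI := bcPres_tower₁ A' α
  haveI := bcPres_tower₂ R' A' α
  haveI := bcPres_isPushout R' A' α
  haveI : Module.Flat (MvPolynomial (Fin n) R) (MvPolynomial (Fin n) R') :=
    Module.Flat.of_linearEquiv ((Algebra.IsPushout.symm
      (inferInstance : Algebra.IsPushout R R' (MvPolynomial (Fin n) R) (MvPolynomial (Fin n) R'))).out.equiv).symm
  exact (relPC_iff_via (bcPres R' A' α) (bcPres_surjective R' A' α hα) m _).2
    (via_extend (MvPolynomial (Fin n) R) (MvPolynomial (Fin n) R') A A' K m hK)

end Charts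

/-- Descent along a finite jointly faithfully flat family of base changes. -/
theorem relPC_descend {R A : Type u} [CommRing R] [CommRing A] [Algebra R A] [Algebra.FiniteType R A]
    {J : Type} [Finite J] (Rj Aj : J → Type u)
    [∀ j, CommRing (Rj j)] [∀ j, CommRing (Aj j)] [∀ j, Algebra R (Rj j)] [∀ j, Algebra (Rj j) (Aj j)]
    [∀ j, Algebra A (Aj j)] [∀ j, Algebra R (Aj j)] [∀ j, IsScalarTower R (Rj j) (Aj j)]
    [∀ j, IsScalarTower R A (Aj j)] [∀ j, Algebra.IsPushout R (Rj j) A (Aj j)]
    [∀ j, Module.Flat R (Rj j)]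
    (hsurj : ∀ p : PrimeSpectrum R, ∃ j, p ∈ Set.range (PrimeSpectrum.comap (algebraMap R (Rj j))))
    (K : DRing.Cx A) (m : ℤ)
    (h : ∀ j, DerCA.IsRelPseudoCoherent (Rj j) (Aj j) m (DRing.toD (extCx (algebraMap A (Aj j)) K))) :
    DerCA.IsRelPseudoCoherent R A m (DRing.toD K) := by
  obtain ⟨n, α, hα⟩ := exists_pres R A
  letI : Algebra (MvPolynomial (Fin n) R) A := α.toRingHom.toAlgebra
  letI : ∀ j, Algebra (MvPolynomial (Fin n) R) (MvPolynomial (Fin n) (Rj j)) := fun j =>
    MvPolynomial.algebraMvPolynomial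
  haveI : ∀ j, Module.Flat (MvPolynomial (Fin n) R) (MvPolynomial (Fin n) (Rj j)) := fun j =>
    Module.Flat.of_linearEquiv ((Algebra.IsPushout.symm (inferInstance : Algebra.IsPushout R (Rj j)
      (MvPolynomial (Fin n) R) (MvPolynomial (Fin n) (Rj j)))).out.equiv).symm
  refine (relPC_iff_via α hα m _).2 ?_
  refine H4DR.PCoh.pc_of_iso
    ((ModuleCat.restrictScalars.{u} (algebraMap (MvPolynomial (Fin n) R) A)).mapDerivedCategoryFactors.app K).symm
    (pc_of_family (fun j => MvPolynomial (Fin n) (Rj j)) (fun p => ?_) _ m fun j => ?_)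
  · let q := PrimeSpectrum.comap (algebraMap R (MvPolynomial (Fin n) R)) p
    obtain ⟨j, hj⟩ := hsurj q
    refine ⟨j, ?_⟩
    haveI : Algebra.IsPushout R (MvPolynomial (Fin n) R) (Rj j) (MvPolynomial (Fin n) (Rj j)) :=
      Algebra.IsPushout.symm inferInstance
    obtain ⟨q', hq'⟩ := hj
    obtain ⟨Q, hQ, hQp, -⟩ := FlatAtBC.exists_prime_over (R := R) (S := MvPolynomial (Fin n) R) (R' := Rj j)
      (S' := MvPolynomial (Fin n) (Rj j)) p.asIdeal q'.asIdeal (congrArg PrimeSpectrum.asIdeal hq')
    exact ⟨⟨Q, hQ⟩, PrimeSpectrum.ext hQp⟩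
  · letI : Algebra (MvPolynomial (Fin n) (Rj j)) (Aj j) := (bcPres (Rj j) (Aj j) α).toRingHom.toAlgebra
    letI : Algebra (MvPolynomial (Fin n) R) (Aj j) := bcAlg (Aj j) α
    haveI := bcPres_tower₁ (Aj j) α
    haveI := bcPres_tower₂ (Rj j) (Aj j) α
    haveI := bcPres_isPushout (Rj j) (Aj j) α
    exact (via_extend_iff (MvPolynomial (Fin n) R) (MvPolynomial (Fin n) (Rj j)) A (Aj j) K m).1
      ((relPC_iff_via (bcPres (Rj j) (Aj j) α) (bcPres_surjective (Rj j) (Aj j) α hα) m _).1 (h j))

end Groth.Agent.H8Props.RingRelPC
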