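import Groth.Agent.H8Props.RelPCFinite
import Groth.Agent.H8Props.PushRestrictSquare
import Groth.Agent.H8Props.RingRelPCDescend

/-!
# Relative pseudo-coherence through modules on affine opens and derived pullback
-/

set_option autoImplicit false
set_option linter.style.haveILetI false
set_option backward.isDefEq.respectTransparency false

universe u

open CategoryTheory CategoryTheory.Limits AlgebraicGeometry

attribute [local instance] HasDerivedCategory.standard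

namespace Groth.Agent.H8Props.RelPC

open H16Derived.KFlat.Stalk PushPC

variable {X Y S : Scheme.{u}}

/-- Direct image along an isomorphism is restriction along its inverse. -/
theorem nonempty_pushD_iso_rd (a : X ⟶ Y) [IsIso a] (K : DCoh.D X) :
    Nonempty ((pushD a).obj K ≅ (rd (inv a)).obj K) := by
  have H : IsPullback (𝟙 Y) (inv a) (𝟙 Y) a := IsPullback.of_horiz_isIso ⟨by simp⟩
  let ε : Scheme.Modules.pushforward a ≅ Scheme.Modules.restrictFunctor (inv a) :=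
    (Functor.rightUnitor _).symm ≪≫
      Functor.isoWhiskerLeft _ (Scheme.Modules.restrictFunctorId (X := Y)).symm ≪≫
      pushRestrictSquareNatIso H ≪≫
      Functor.isoWhiskerLeft _ (Scheme.Modules.pushforwardId Y) ≪≫ Functor.rightUnitor _
  exact ⟨(pushD a).mapIso (DerivedCategory.Q.objObjPreimageIso K).symm ≪≫ pushDQ a _ ≪≫
    DerivedCategory.Q.mapIso ((NatIso.mapHomologicalComplex ε (ComplexShape.up ℤ)).app
      (DerivedCategory.Q.objPreimage K)) ≪≫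
    ((rdQ (inv a)).app _).symm ≪≫ (rd (inv a)).mapIso (DerivedCategory.Q.objObjPreimageIso K)⟩

theorem nonempty_pushD_toSpecΓ {U : X.Opens} (hU : IsAffineOpen U) (E : DCoh.D X) :
    haveI := isClosedImmersion_toSpecΓ hU
    Nonempty ((pushD U.toSpecΓ).obj ((rd U.ι).obj E) ≅ (rd hU.fromSpec).obj E) := by
  haveI := isClosedImmersion_toSpecΓ hU
  haveI : IsIso U.toSpecΓ := by rw [← hU.isoSpec_hom]; infer_instance
  obtain ⟨e⟩ := nonempty_pushD_iso_rd U.toSpecΓ ((rd U.ι).obj E)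
  have h : inv U.toSpecΓ ≫ U.ι = hU.fromSpec := by
    rw [IsIso.inv_comp_eq, ← hU.isoSpec_hom, hU.isoSpec_hom_fromSpec]
  exact ⟨e ≪≫ (rdComp (inv U.toSpecΓ) U.ι hU.fromSpec h E).symm⟩

/-- `M` computes `E` on the affine open `U`. -/
def Rep {U : X.Opens} (hU : IsAffineOpen U) (E : DCoh.D X) (M : Dual.D Γ(X, U)) : Prop :=
  Nonempty ((DCoh.tildeD (CommRingCat.of Γ(X, U))).obj M ≅ (rd hU.fromSpec).obj E)

theorem exists_rep {U : X.Opens} (hU : IsAffineOpen U) {E : DCoh.D X} (hE : DCoh.IsQCohD E) :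
    ∃ M, Rep hU E M := by
  obtain ⟨M, ⟨e⟩⟩ := exists_module hU hE
  obtain ⟨e'⟩ := nonempty_pushD_toSpecΓ hU E
  exact ⟨M, ⟨e ≪≫ e'⟩⟩

theorem Rep.of_iso {U : X.Opens} {hU : IsAffineOpen U} {E : DCoh.D X} {M N : Dual.D Γ(X, U)}
    (h : Rep hU E M) (e : M ≅ N) : Rep hU E N :=
  ⟨(DCoh.tildeD (CommRingCat.of Γ(X, U))).mapIso e.symm ≪≫ h.some⟩

/-- A complex of modules computing `E`. -/
theorem exists_repCx {U : X.Opens} (hU : IsAffineOpen U) {E : DCoh.D X} (hE : DCoh.IsQCohD E) :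
    ∃ P : DRing.Cx Γ(X, U), H4DR.TorAmp.KF Γ(X, U) P ∧ Rep hU E (DRing.toD P) := by
  obtain ⟨M, hM⟩ := exists_rep hU hE
  obtain ⟨P, hP, -, ⟨e⟩⟩ := H4DR.TorAmp.exists_kflatRep M
  exact ⟨P, hP, hM.of_iso e.symm⟩

/-- The chart test through the module. -/
theorem Rep.chartPC_iff {U : X.Opens} {hU : IsAffineOpen U} {E : DCoh.D X} {M : Dual.D Γ(X, U)}
    (hM : Rep hU E M) (p : X ⟶ S) {V : S.Opens} (h : U ≤ p ⁻¹ᵁ V) {n : ℕ}
    (φ : MvPolynomial (Fin n) Γ(S, V) →+* Γ(X, U)) (hφ : DerSch.IsChart p U V h φ) (m : ℤ) :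
    DerSch.ChartPC m E U V φ ↔
      letI := (p.appLE V U h).hom.toAlgebra
      DerCA.IsRelPseudoCoherent Γ(S, V) Γ(X, U) m M := by
  obtain ⟨e⟩ := hM
  obtain ⟨e'⟩ := nonempty_pushD_toSpecΓ hU E
  exact chartPC_iff_relPC hU p h φ hφ m E M (e ≪≫ e'.symm)

theorem Rep.relPC_of_rel {U : X.Opens} {hU : IsAffineOpen U} {E : DCoh.D X} {M : Dual.D Γ(X, U)}
    (hM : Rep hU E M) {p : X ⟶ S} [LocallyOfFiniteType p] {m : ℤ}
    (hE : DerSch.IsPseudoCoherentRel p m E) {V : S.Opens} (hV : IsAffineOpen V) (h : U ≤ p ⁻¹ᵁ V) :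
    letI := (p.appLE V U h).hom.toAlgebra
    DerCA.IsRelPseudoCoherent Γ(S, V) Γ(X, U) m M := by
  obtain ⟨n, φ, hφ⟩ := exists_isChart p U V h (p.finiteType_appLE hV hU h)
  exact (hM.chartPC_iff p h φ hφ m).1 (chartPC_of_rel hE hU hV h φ hφ)

/-- A chart with the test near a point gives one inside any pair. -/
theorem exists_chart_near' (f : X ⟶ Y) (m : ℤ) (K : DCoh.D X) {U : X.Opens} (hU : IsAffineOpen U)
    {V : Y.Opens} (hV : IsAffineOpen V) (h : U ≤ f ⁻¹ᵁ V) (u : X) (hu : u ∈ U) {U₀ : X.Opens}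
    (hU₀ : IsAffineOpen U₀) {V₀ : Y.Opens} (hV₀ : IsAffineOpen V₀) (h₀ : U₀ ≤ f ⁻¹ᵁ V₀) (hu₀ : u ∈ U₀)
    {n : ℕ} (φ : MvPolynomial (Fin n) Γ(Y, V₀) →+* Γ(X, U₀)) (hφ : DerSch.IsChart f U₀ V₀ h₀ φ)
    (hc : DerSch.ChartPC m K U₀ V₀ φ) :
    ∃ g : Γ(X, U), u ∈ X.basicOpen g ∧ ∃ (k : ℕ) (ψ : MvPolynomial (Fin k) Γ(Y, V) →+* Γ(X, X.basicOpen g)),
      DerSch.IsChart f (X.basicOpen g) V ((X.basicOpen_le g).trans h) ψ ∧
        DerSch.ChartPC m K (X.basicOpen g) V ψ := by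
  obtain ⟨r, r₀, hr, hur⟩ := exists_basicOpen_le_affine_inter hV hV₀ (f u) ⟨h hu, h₀ hu₀⟩
  obtain ⟨g₁, hg₁, hug₁⟩ := hU.exists_basicOpen_le
    (V := U₀ ⊓ f ⁻¹ᵁ Y.basicOpen r) ⟨u, hu₀, hur⟩ hu
  obtain ⟨g₂, g₀, hg, hug₂⟩ := exists_basicOpen_le_affine_inter (hU.basicOpen g₁) hU₀ u ⟨hug₁, hu₀⟩
  obtain ⟨g, hgg⟩ := IsAffineOpen.basicOpen_basicOpen_is_basicOpen hU g₁ g₂
  have hD : X.basicOpen g = X.basicOpen g₀ := hgg.trans hg
  have hleW : X.basicOpen g ≤ f ⁻¹ᵁ Y.basicOpen r :=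
    hgg ▸ ((X.basicOpen_le g₂).trans (hg₁.trans inf_le_right))
  have hle₀ : X.basicOpen g ≤ f ⁻¹ᵁ V₀ := (hD ▸ X.basicOpen_le g₀).trans h₀
  obtain ⟨ψ₁, hψ₁, h₁⟩ := exists_chart_basicOpen f hU₀ _ φ hφ g₀ hD hle₀
  obtain ⟨ψ₂, hψ₂, h₂⟩ := exists_chart_of_le_basicOpen f (hU.basicOpen g) hV₀ r₀ hr hle₀ hleW ψ₁ hψ₁
  obtain ⟨ψ₃, hψ₃, h₃⟩ := exists_chart_base f (hU.basicOpen g) hV r hleW
    ((X.basicOpen_le g).trans h) ψ₂ hψ₂
  exact ⟨g, hgg.symm ▸ hug₂, _, ψ₃, hψ₃, (h₃ m K).2 (h₂ m K (h₁ m K hc))⟩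

/-- Relative pseudo-coherence from one chart around every point. -/
theorem rel_of_local (f : X ⟶ Y) [LocallyOfFiniteType f] (m : ℤ) (K : DCoh.D X)
    (h : ∀ x : X, ∃ (U : X.Opens) (_ : IsAffineOpen U) (V : Y.Opens) (_ : IsAffineOpen V)
      (e : U ≤ f ⁻¹ᵁ V) (n : ℕ) (φ : MvPolynomial (Fin n) Γ(Y, V) →+* Γ(X, U)),
      x ∈ U ∧ DerSch.IsChart f U V e φ ∧ DerSch.ChartPC m K U V φ) :
    DerSch.IsPseudoCoherentRel f m K := by
  refine rel_of_charts f m K fun U V e n φ hφ => ?_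
  refine chartPC_of_cover U.2 φ hφ.1 m K fun u hu => ?_
  obtain ⟨U₀, hU₀, V₀, hV₀, e₀, n₀, φ₀, hu₀, hφ₀, hc⟩ := h u
  obtain ⟨g, hug, k, ψ, hψ, hcψ⟩ := exists_chart_near' f m K U.2 V.2 e u hu hU₀ hV₀ e₀ hu₀ φ₀ hφ₀ hc
  refine ⟨g, hug, k, ψ, hψ.1, ?_, hcψ⟩
  rw [hψ.2, hφ.2]
  exact (congrArg CommRingCat.Hom.hom (f.appLE_map e (homOfLE (X.basicOpen_le g)).op)).symm

/-- Relative pseudo-coherence from modules around every point. -/
theorem rel_of_local_relPC (f : X ⟶ Y) [LocallyOfFiniteType f] (m : ℤ) (E : DCoh.D X)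
    (h : ∀ x : X, ∃ (U : X.Opens) (hU : IsAffineOpen U) (V : Y.Opens) (_ : IsAffineOpen V)
      (e : U ≤ f ⁻¹ᵁ V) (M : Dual.D Γ(X, U)), x ∈ U ∧ Rep hU E M ∧
        letI := (f.appLE V U e).hom.toAlgebra
        DerCA.IsRelPseudoCoherent Γ(Y, V) Γ(X, U) m M) :
    DerSch.IsPseudoCoherentRel f m E := by
  refine rel_of_local f m E fun x => ?_
  obtain ⟨U, hU, V, hV, e, M, hx, hM, hr⟩ := h x
  obtain ⟨n, φ, hφ⟩ := exists_isChart f U V e (f.finiteType_appLE hV hU e)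
  exact ⟨U, hU, V, hV, e, n, φ, hx, hφ, (hM.chartPC_iff f e φ hφ m).2 hr⟩

/-- Derived pullback on affine opens is derived base change. -/
theorem Rep.lpull {U : X.Opens} {hU : IsAffineOpen U} {E : DCoh.D X} {P : DRing.Cx Γ(X, U)}
    (hM : Rep hU E (DRing.toD P)) (hP : H4DR.TorAmp.KF Γ(X, U) P) {X' : Scheme.{u}} (g : X' ⟶ X)
    [DCoh.HasLpull g] {U' : X'.Opens} (hU' : IsAffineOpen U') (h : U' ≤ g ⁻¹ᵁ U) :
    Rep hU' ((DCoh.Lpull g).obj E) (DRing.toD (RingRelPC.extCx (g.appLE U U' h).hom P)) := by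
  let φ := g.appLE U U' h
  haveI := hasLpull (Spec.map φ)
  haveI : DCoh.HasLpull (Spec.map (CommRingCat.ofHom φ.hom)) := ‹DCoh.HasLpull (Spec.map φ)›
  haveI := H4DR.TorAmp.hasLBaseChange φ.hom
  obtain ⟨e⟩ := hM
  obtain ⟨i⟩ := H16Derived.QCohD.lpull_factor g hU'.fromSpec (Spec.map φ) hU.fromSpec
    (IsAffineOpen.SpecMap_appLE_fromSpec g hU hU' h) E
  exact ⟨(DCoh.tildeD (CommRingCat.of Γ(X', U'))).mapIso (H4DR.TorAmp.lbaseObj φ.hom P hP).symm ≪≫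
    (H16Derived.QCohD.lpullTildeIso φ.hom).app (DRing.toD P) ≪≫
    (DCoh.Lpull (Spec.map (CommRingCat.ofHom φ.hom))).mapIso e ≪≫ i.symm⟩

end Groth.Agent.H8Props.RelPC
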