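import Groth.Agent.H16Derived.KFlat.PerfNoeth
import Groth.Agent.H16Derived.KFlat.RestrictD
import Groth.Agent.H16Derived.ProjFormula.ClosedImm

/-!
# Direct image along closed immersions on derived categories
-/

set_option autoImplicit false
set_option linter.style.haveILetI false
set_option backward.isDefEq.respectTransparency false

universe u

open CategoryTheory CategoryTheory.Limits AlgebraicGeometry Pretriangulated

attribute [local instance] HasDerivedCategory.standard

namespace Groth.Agent.H8Props.PushPC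

open H16Derived.KFlat.Stalk

variable {X Z : Scheme.{u}}

instance (priority := 900) preservesFiniteLimits_push (i : Z ⟶ X) :
    PreservesFiniteLimits (Scheme.Modules.pushforward i) :=
  haveI := (Scheme.Modules.pullbackPushforwardAdjunction i).isRightAdjoint
  inferInstance

instance (priority := 900) preservesFiniteColimits_push (i : Z ⟶ X) [IsClosedImmersion i] :
    PreservesFiniteColimits (Scheme.Modules.pushforward i) :=
  haveI : (Scheme.Modules.pushforward i).PreservesHomology :=
    H16Derived.ProjFormula.preservesHomology_push i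
  Functor.preservesFiniteColimits_of_preservesHomology _

/-- `i_*` on derived categories. -/
noncomputable abbrev pushD (i : Z ⟶ X) [IsClosedImmersion i] : DCoh.D Z ⥤ DCoh.D X :=
  (Scheme.Modules.pushforward i).mapDerivedCategory

/-- `i_*` of a complex. -/
noncomputable def pushDQ (i : Z ⟶ X) [IsClosedImmersion i] (F : CochainComplex Z.Modules ℤ) :
    (pushD i).obj (DerivedCategory.Q.obj F) ≅
      DerivedCategory.Q.obj (((Scheme.Modules.pushforward i).mapHomologicalComplex _).obj F) :=
  (Scheme.Modules.pushforward i).mapDerivedCategoryFactors.app F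

/-- `i_*` of a module in degree zero. -/
noncomputable def pushDInD (i : Z ⟶ X) [IsClosedImmersion i] (M : Z.Modules) :
    (pushD i).obj (DCoh.inD Z M) ≅ DCoh.inD X ((Scheme.Modules.pushforward i).obj M) :=
  ((Scheme.Modules.pushforward i).mapDerivedCategorySingleFunctor 0).app M

/-- Cohomology commutes with `i_*`. -/
noncomputable def hdPushD (i : Z ⟶ X) [IsClosedImmersion i] (K : DCoh.D Z) (n : ℤ) :
    DCoh.HD ((pushD i).obj K) n ≅ (Scheme.Modules.pushforward i).obj (DCoh.HD K n) :=
  haveI : (Scheme.Modules.pushforward i).PreservesHomology :=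
    H16Derived.ProjFormula.preservesHomology_push i
  (DerivedCategory.homologyFunctor X.Modules n).mapIso
      ((pushD i).mapIso (DerivedCategory.Q.objObjPreimageIso K).symm ≪≫ pushDQ i _) ≪≫
    (DerivedCategory.homologyFunctorFactors X.Modules n).app _ ≪≫
    ((DerivedCategory.Q.objPreimage K).sc n).mapHomologyIso (Scheme.Modules.pushforward i) ≪≫
    (Scheme.Modules.pushforward i).mapIso
      (((DerivedCategory.homologyFunctorFactors Z.Modules n).app _).symm ≪≫
        (DerivedCategory.homologyFunctor Z.Modules n).mapIso (DerivedCategory.Q.objObjPreimageIso K))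

theorem isLE_pushD (i : Z ⟶ X) [IsClosedImmersion i] (K : DCoh.D Z) (n : ℤ) [K.IsLE n] :
    ((pushD i).obj K).IsLE n :=
  (DerivedCategory.isLE_iff _ _).2 fun j hj => IsZero.of_iso
    ((Scheme.Modules.pushforward i).map_isZero (DerivedCategory.isZero_of_isLE K n j hj)) (hdPushD i K j)

theorem isZero_of_isZero_push (i : Z ⟶ X) [IsClosedImmersion i] {M : Z.Modules}
    (h : IsZero ((Scheme.Modules.pushforward i).obj M)) : IsZero M :=
  haveI : IsIso ((Scheme.Modules.pullbackPushforwardAdjunction i).counit.app M) :=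
    H16Derived.ProjFormula.isIso_counit_of_isClosedImmersion i M
  IsZero.of_iso ((Scheme.Modules.pullback i).map_isZero h)
    (asIso ((Scheme.Modules.pullbackPushforwardAdjunction i).counit.app M)).symm

theorem isLE_of_isLE_pushD (i : Z ⟶ X) [IsClosedImmersion i] (K : DCoh.D Z) (n : ℤ)
    [((pushD i).obj K).IsLE n] : K.IsLE n :=
  (DerivedCategory.isLE_iff _ _).2 fun j hj => isZero_of_isZero_push i (IsZero.of_iso
    (DerivedCategory.isZero_of_isLE ((pushD i).obj K) n j hj) (hdPushD i K j).symm)

/-- `i_*` commutes with restriction to opens. -/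
noncomputable def rdPushD (i : Z ⟶ X) [IsClosedImmersion i] (W : X.Opens) (K : DCoh.D Z) :
    (rd W.ι).obj ((pushD i).obj K) ≅ (pushD (i ∣_ W)).obj ((rd (i ⁻¹ᵁ W).ι).obj K) :=
  (rd W.ι).mapIso ((pushD i).mapIso (DerivedCategory.Q.objObjPreimageIso K).symm ≪≫ pushDQ i _) ≪≫
    (rdQ W.ι).app _ ≪≫
    DerivedCategory.Q.mapIso ((NatIso.mapHomologicalComplex (pushRestrictNatIso i W)
      (ComplexShape.up ℤ)).app (DerivedCategory.Q.objPreimage K)) ≪≫
    (pushDQ (i ∣_ W) (((Scheme.Modules.restrictFunctor (i ⁻¹ᵁ W).ι).mapHomologicalComplex _).obj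
      (DerivedCategory.Q.objPreimage K))).symm ≪≫
    (pushD (i ∣_ W)).mapIso ((rdQ (i ⁻¹ᵁ W).ι).symm.app _ ≪≫
      (rd (i ⁻¹ᵁ W).ι).mapIso (DerivedCategory.Q.objObjPreimageIso K))

/-- The direct image of the structure sheaf is pseudo-coherent. -/
def PCStr (i : Z ⟶ X) : Prop :=
  ∀ m : ℤ, DCoh.IsPseudoCoherentD m
    (DCoh.inD X ((Scheme.Modules.pushforward i).obj (Coh.structureModule Z)))

theorem PCStr.restrict {i : Z ⟶ X} [IsClosedImmersion i] (h : PCStr i) (W : X.Opens) :
    PCStr (i ∣_ W) := fun m => by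
  refine isPseudoCoherentD_of_iso ?_ (isPseudoCoherentD_rd W.ι (h m))
  exact rdInD W.ι _ ≪≫ (DerivedCategory.singleFunctor _ 0).mapIso
    ((pushRestrictNatIso i W).app _ ≪≫
      (Scheme.Modules.pushforward (i ∣_ W)).mapIso (Scheme.Modules.restrictUnitIso (i ⁻¹ᵁ W).ι))

end Groth.Agent.H8Props.PushPC
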