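import Mathlib
import Groth.Prelude.Def_EGA4b

/-!
# J-2 schemes (helper8)
-/

set_option autoImplicit false
universe u
open AlgebraicGeometry CategoryTheory

namespace Groth.Agent.H8Props.J2Scheme

lemma regular_iff_of_isLocalization {R : Type u} [CommRing R] (p : Ideal R) [p.IsPrime]
    (A B : Type u) [CommRing A] [CommRing B] [Algebra R A] [Algebra R B]
    [IsLocalization.AtPrime A p] [IsLocalization.AtPrime B p] :
    IsRegularLocalRing A ↔ IsRegularLocalRing B := by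
  constructor <;> intro h
  · exact IsRegularLocalRing.of_ringEquiv (IsLocalization.algEquiv p.primeCompl A B).toRingEquiv
  · exact IsRegularLocalRing.of_ringEquiv (IsLocalization.algEquiv p.primeCompl B A).toRingEquiv

/-- The regular locus of a scheme. -/
def regSet (Y : Scheme.{u}) : Set Y := {y : Y | IsRegularLocalRing (Y.presheaf.stalk y)}

lemma preimage_regSet {Y : Scheme.{u}} {U : Y.Opens} (hU : IsAffineOpen U) :
    hU.fromSpec ⁻¹' regSet Y = EGA4.regLocus Γ(Y, U) := by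
  refine Set.ext fun (p : PrimeSpectrum Γ(Y, U)) ↦ ?_
  have hy : hU.fromSpec p ∈ U := by rw [← SetLike.mem_coe, ← hU.range_fromSpec]; exact ⟨p, rfl⟩
  let _ : Algebra Γ(Y, U) (Y.presheaf.stalk (hU.fromSpec p)) :=
    (Y.presheaf.germ U _ hy).hom.toAlgebra
  have : IsLocalization.AtPrime (Y.presheaf.stalk (hU.fromSpec p)) p.asIdeal :=
    hU.isLocalization_stalk' p hy
  exact regular_iff_of_isLocalization p.asIdeal _ _

lemma isOpen_regLocus_of_isJ2_scheme {X : Scheme.{u}}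
    (h : ∀ (Y : Scheme.{u}) (g : Y ⟶ X), LocallyOfFiniteType g → IsOpen (regSet Y))
    {U : X.Opens} (hU : IsAffineOpen U) : EGA4.IsJ2 Γ(X, U) := by
  intro T _ _ hT
  let g : Spec (CommRingCat.of T) ⟶ X :=
    Spec.map (CommRingCat.ofHom (algebraMap Γ(X, U) T)) ≫ hU.fromSpec
  have hg : LocallyOfFiniteType g := by
    have : LocallyOfFiniteType (Spec.map (CommRingCat.ofHom (algebraMap Γ(X, U) T))) := by
      rw [HasRingHomProperty.Spec_iff (P := @LocallyOfFiniteType)]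
      exact RingHom.finiteType_algebraMap.mpr hT
    infer_instance
  have key : regSet (Spec (CommRingCat.of T)) = EGA4.regLocus T := by
    refine Set.ext fun (p : PrimeSpectrum T) ↦ ?_
    exact regular_iff_of_isLocalization (R := T) p.asIdeal
      ((Spec.structureSheaf T).presheaf.stalk p) (Localization.AtPrime p.asIdeal)
  rw [← key]
  exact h _ g hg

lemma isOpen_regSet_of_cover {X : Scheme.{u}}
    (h : ∀ x : X, ∃ U : X.affineOpens, x ∈ (U : X.Opens) ∧ EGA4.IsJ2 Γ(X, U))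
    (Y : Scheme.{u}) (g : Y ⟶ X) (hg : LocallyOfFiniteType g) : IsOpen (regSet Y) := by
  rw [isOpen_iff_forall_mem_open]
  intro y hy
  obtain ⟨V, hyV, hV⟩ := h (g y)
  obtain ⟨U, hU, hyU, hUV⟩ := exists_isAffineOpen_mem_and_subset (x := y) (U := g ⁻¹ᵁ V.1) hyV
  have hft := HasRingHomProperty.appLE @LocallyOfFiniteType g hg V ⟨U, hU⟩ hUV
  let _ := (g.appLE V.1 U hUV).hom.toAlgebra
  have hopen : IsOpen (hU.fromSpec ⁻¹' regSet Y) := by
    rw [preimage_regSet hU]; exact hV Γ(Y, U) hft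
  refine ⟨hU.fromSpec '' (hU.fromSpec ⁻¹' regSet Y), Set.image_preimage_subset _ _,
    hU.fromSpec.isOpenEmbedding.isOpenMap _ hopen, ?_⟩
  rw [Set.image_preimage_eq_inter_range, hU.range_fromSpec]
  exact ⟨hy, hyU⟩

theorem j2_iff (X : Scheme.{u}) :
    ((∀ (Y : Scheme.{u}) (g : Y ⟶ X), LocallyOfFiniteType g → IsOpen (regSet Y)) ↔
      ∀ U : X.affineOpens, EGA4.IsJ2 Γ(X, U)) ∧
    ((∀ (Y : Scheme.{u}) (g : Y ⟶ X), LocallyOfFiniteType g → IsOpen (regSet Y)) ↔
      ∀ x : X, ∃ U : X.affineOpens, x ∈ (U : X.Opens) ∧ EGA4.IsJ2 Γ(X, U)) := by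
  have haff : ∀ x : X, ∃ U : X.affineOpens, x ∈ (U : X.Opens) := fun x ↦ by
    obtain ⟨U, hU, hxU, -⟩ := exists_isAffineOpen_mem_and_subset (x := x) (U := ⊤) trivial
    exact ⟨⟨U, hU⟩, hxU⟩
  refine ⟨⟨fun h U ↦ isOpen_regLocus_of_isJ2_scheme h U.2, fun h ↦ isOpen_regSet_of_cover fun x ↦ ?_⟩,
    ⟨fun h x ↦ ?_, isOpen_regSet_of_cover⟩⟩
  · obtain ⟨U, hU⟩ := haff x
    exact ⟨U, hU, h U⟩
  · obtain ⟨U, hU⟩ := haff x
    exact ⟨U, hU, isOpen_regLocus_of_isJ2_scheme h U.2⟩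

end Groth.Agent.H8Props.J2Scheme
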