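import Groth.Agent.H8Props.PushClosedPC

/-!
# Pseudo-coherence from cohomology sheaves and from terms
-/

set_option autoImplicit false
set_option linter.style.haveILetI false
set_option backward.isDefEq.respectTransparency false

universe u

open CategoryTheory CategoryTheory.Limits AlgebraicGeometry Pretriangulated

attribute [local instance] HasDerivedCategory.standard

namespace Groth.Agent.H8Props.PushPC

open H16Derived.KFlat.Stalk H16Derived.KFlat

variable {X : Scheme.{u}}

/-- A pseudo-coherent module placed in degree `b`. -/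
theorem pc_single {N : X.Modules} {m : ℤ} (b : ℤ) (h : DCoh.IsPseudoCoherentD (m - b) (DCoh.inD X N)) :
    DCoh.IsPseudoCoherentD m ((DerivedCategory.singleFunctor X.Modules b).obj N) :=
  isPseudoCoherentD_of_iso (singleShiftIso N b) (isPseudoCoherentD_shift h (-b) m (by omega))

/-- Bounded above objects whose cohomology sheaves are pseudo-coherent to the right orders. -/
theorem pc_of_homology (m : ℤ) (k : ℕ) :
    ∀ {K : DCoh.D X}, K.IsLE (m - 1 + k) →
      (∀ i, DCoh.IsPseudoCoherentD (m - i) (DCoh.inD X (DCoh.HD K i))) →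
        DCoh.IsPseudoCoherentD m K := by
  induction k with
  | zero =>
    intro K hK _
    haveI := hK
    exact isPseudoCoherentD_of_isLE (m - 1 + ((0 : ℕ) : ℤ)) m (by omega)
  | succ k ih =>
    intro K hK h
    obtain ⟨n, hn⟩ : ∃ n : ℤ, n = m + k := ⟨_, rfl⟩
    haveI : K.IsLE n := by
      have e : m - 1 + ((k + 1 : ℕ) : ℤ) = n := by omega
      rwa [e] at hK
    obtain ⟨A, B, hA, hB, f, g, w, hT⟩ :=
      (DerivedCategory.TStructure.t).exists_triangle K (n - 1) n (by omega)
    haveI : DerivedCategory.IsLE A (n - 1) := ⟨hA⟩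
    haveI : DerivedCategory.IsGE B n := ⟨hB⟩
    let H := DerivedCategory.homologyFunctor X.Modules
    have hg : Approx (n - 1) g := (approx_iff (rot_of_distTriang _ hT) (n - 1)).2
      ((DerivedCategory.TStructure.t).isLE_shift A (n - 1) 1 (n - 1 - 1))
    haveI : DerivedCategory.IsLE B n := (DerivedCategory.isLE_iff _ _).2 fun i hi => by
      haveI := hg.1 i (by omega)
      exact (DerivedCategory.isZero_of_isLE K n i hi).of_iso (asIso ((H i).map g)).symm
    obtain ⟨N, ⟨eN⟩⟩ := B.exists_iso_singleFunctor_obj_of_isGE_of_isLE n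
    haveI := hg.1 n (by omega)
    let eH : DCoh.HD K n ≅ N := asIso ((H n).map g) ≪≫ (H n).mapIso eN ≪≫ hdSingle N n
    have hBpc : DCoh.IsPseudoCoherentD m B :=
      isPseudoCoherentD_of_iso eN.symm (pc_single n
        (isPseudoCoherentD_of_iso ((DerivedCategory.singleFunctor X.Modules 0).mapIso eH) (h n)))
    refine pc_obj₂ hT (ih (by
      have e : m - 1 + (k : ℤ) = n - 1 := by omega
      rw [e]; exact ⟨hA⟩) fun i => ?_) hBpc
    by_cases hi : i ≤ n - 1
    · have hfi : IsIso ((H i).map f) := by
        haveI : Mono ((H i).map f) :=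
          (DerivedCategory.HomologySequence.mono_homologyMap_mor₁_iff _ hT (i - 1) i (by omega)).2
            ((DerivedCategory.isZero_of_isGE B n (i - 1) (by omega)).eq_of_src _ _)
        haveI : Epi ((H i).map f) :=
          (DerivedCategory.HomologySequence.epi_homologyMap_mor₁_iff _ hT i).2
            ((DerivedCategory.isZero_of_isGE B n i (by omega)).eq_of_tgt _ _)
        exact isIso_of_mono_of_epi _
      exact isPseudoCoherentD_of_iso ((DerivedCategory.singleFunctor X.Modules 0).mapIso
        (asIso ((H i).map f)).symm) (h i)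
    · exact isPseudoCoherentD_of_isPerfect (isPerfect_inD (isFinLocFree_of_isZero
        (DerivedCategory.isZero_of_isLE A (n - 1) i (by omega)))) _

/-- Bounded above complexes whose terms are pseudo-coherent to the right orders. -/
theorem pc_of_termwise (m : ℤ) (k : ℕ) :
    ∀ {F : CochainComplex X.Modules ℤ}, (∀ i, m - 1 + k < i → IsZero (F.X i)) →
      (∀ i, DCoh.IsPseudoCoherentD (m - i) (DCoh.inD X (F.X i))) →
        DCoh.IsPseudoCoherentD m (DerivedCategory.Q.obj F) := by
  induction k with
  | zero =>
    intro F hF _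
    haveI : CochainComplex.IsStrictlyLE F (m - 1) :=
      (CochainComplex.isStrictlyLE_iff _ _).2 fun i hi => hF i (by omega)
    exact isPseudoCoherentD_of_isLE (m - 1) m (by omega)
  | succ k ih =>
    intro F hF h
    obtain ⟨n, hn⟩ : ∃ n : ℤ, n = m + k := ⟨_, rfl⟩
    let S := Brutal.S F n
    have hS : S.ShortExact := Brutal.shortExact F n
    refine pc_obj₂ (DerivedCategory.triangleOfSES_distinguished hS) ?_ (ih (fun i hi => ?_) fun i => ?_)
    · haveI : CochainComplex.IsStrictlyLE (Brutal.geq F n) n :=
        (CochainComplex.isStrictlyLE_iff _ _).2 fun i hi => by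
          haveI := Brutal.isIso_ι_f F n (show n ≤ i by omega)
          exact (hF i (by omega)).of_iso (asIso ((Brutal.ι F n).f i))
      haveI : CochainComplex.IsStrictlyGE (Brutal.geq F n) n :=
        (CochainComplex.isStrictlyGE_iff _ _).2 fun i hi => Brutal.isZero_geq F n hi
      obtain ⟨N, ⟨e⟩⟩ := CochainComplex.exists_iso_single (Brutal.geq F n) n
      haveI := Brutal.isIso_ι_f F n (le_refl n)
      have eN : N ≅ F.X n := (HomologicalComplex.singleObjXSelf (ComplexShape.up ℤ) n N).symm ≪≫
        (HomologicalComplex.eval _ _ n).mapIso e.symm ≪≫ asIso ((Brutal.ι F n).f n)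
      exact isPseudoCoherentD_of_iso
        ((DerivedCategory.singleFunctorIsoCompQ X.Modules n).app N ≪≫ DerivedCategory.Q.mapIso e.symm)
        (pc_single n (isPseudoCoherentD_of_iso ((DerivedCategory.singleFunctor X.Modules 0).mapIso eN.symm) (h n)))
    · exact Brutal.isZero_cokernel F n (show n ≤ i by omega)
    · by_cases hi : i < n
      · haveI : IsIso (S.g.f i) := Brutal.isIso_cokernel_π F n hi
        exact isPseudoCoherentD_of_iso
          ((DerivedCategory.singleFunctor X.Modules 0).mapIso (asIso (S.g.f i))) (h i)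
      · exact isPseudoCoherentD_of_isPerfect (isPerfect_inD (isFinLocFree_of_isZero
          (Brutal.isZero_cokernel F n (not_lt.1 hi)))) _

end Groth.Agent.H8Props.PushPC
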