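import Groth.Agent.H8Props.RelPCCharts
import Groth.Agent.H8Props.PCCriteria
import Groth.Agent.H8Props.PseudoCoh.Morphism

/-!
# Relative and absolute pseudo-coherence
-/

set_option autoImplicit false
set_option linter.style.haveILetI false
set_option backward.isDefEq.respectTransparency false

universe u

open CategoryTheory CategoryTheory.Limits AlgebraicGeometry Pretriangulated

attribute [local instance] HasDerivedCategory.standard

namespace Groth.Agent.H8Props.RelPC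

open H16Derived.KFlat.Stalk PushPC

variable {X P S : Scheme.{u}}

/-- A chart on every pair, with the test, gives relative pseudo-coherence. -/
theorem rel_of_charts (f : X ⟶ S) [LocallyOfFiniteType f] (m : ℤ) (K : DCoh.D X)
    (h : ∀ (U : X.affineOpens) (V : S.affineOpens) (e : (U : X.Opens) ≤ f ⁻¹ᵁ (V : S.Opens)) (n : ℕ)
      (φ : MvPolynomial (Fin n) Γ(S, (V : S.Opens)) →+* Γ(X, (U : X.Opens))),
      DerSch.IsChart f (U : X.Opens) (V : S.Opens) e φ →
        DerSch.ChartPC m K (U : X.Opens) (V : S.Opens) φ) :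
    DerSch.IsPseudoCoherentRel f m K :=
  (rel_iff_forall f m K).2 fun U V e => by
    obtain ⟨n, φ, hφ⟩ := exists_isChart f _ _ e (f.finiteType_appLE V.2 U.2 e)
    exact ⟨n, φ, hφ, h U V e n φ hφ⟩

/-- Relative pseudo-coherence from the cohomology sheaves. -/
theorem rel_of_homology (f : X ⟶ S) (m : ℤ) (E : DCoh.D X) (b : ℤ) [E.IsLE b]
    (h : ∀ i : ℤ, DerSch.IsPseudoCoherentRel f (m - i) (DCoh.inD X (DCoh.HD E i))) :
    DerSch.IsPseudoCoherentRel f m E := by
  haveI : LocallyOfFiniteType f := (h 0).1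
  refine rel_of_charts f m E fun U V e n φ hφ => ?_
  haveI := isClosedImmersion_chartImm U.2 φ hφ.1
  let g := DerSch.chartImm (U : X.Opens) φ
  rw [chartPC_iff]
  haveI : ((rd (U : X.Opens).ι).obj E).IsLE b := isLE_rd _ E b
  haveI := isLE_pushD g ((rd (U : X.Opens).ι).obj E) b
  refine pc_of_homology m (b - (m - 1)).toNat ((DerivedCategory.isLE_iff _ _).2 fun j hj =>
    DerivedCategory.isZero_of_isLE _ b j (by omega)) fun i => ?_
  exact isPseudoCoherentD_of_iso ((pushD g).mapIso (rdInD _ _) ≪≫ pushDInD g _ ≪≫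
      (DerivedCategory.singleFunctor _ 0).mapIso
        (hdPushD g _ i ≪≫ (Scheme.Modules.pushforward g).mapIso (homologyRdIso (U : X.Opens).ι E i)).symm)
    ((chartPC_iff φ _ _).1 (chartPC_of_rel (h i) U.2 V.2 e φ hφ))

/-- Relative pseudo-coherence from the terms. -/
theorem rel_of_termwise (f : X ⟶ S) (m : ℤ) (F : CochainComplex X.Modules ℤ) (b : ℤ)
    (hb : ∀ i : ℤ, b < i → IsZero (F.X i))
    (h : ∀ i : ℤ, DerSch.IsPseudoCoherentRel f (m - i) (DCoh.inD X (F.X i))) :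
    DerSch.IsPseudoCoherentRel f m (DCoh.toD X F) := by
  haveI : LocallyOfFiniteType f := (h 0).1
  refine rel_of_charts f m _ fun U V e n φ hφ => ?_
  haveI := isClosedImmersion_chartImm U.2 φ hφ.1
  let g := DerSch.chartImm (U : X.Opens) φ
  rw [chartPC_iff]
  refine isPseudoCoherentD_of_iso ((pushD g).mapIso ((rdQ (U : X.Opens).ι).app F) ≪≫ pushDQ g _).symm ?_
  refine pc_of_termwise m (b - (m - 1)).toNat (fun i hi => ?_) fun i => ?_
  · exact (Scheme.Modules.pushforward g).map_isZero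
      ((Scheme.Modules.restrictFunctor (U : X.Opens).ι).map_isZero (hb i (by omega)))
  · exact isPseudoCoherentD_of_iso ((pushD g).mapIso (rdInD _ _) ≪≫ pushDInD g _)
      ((chartPC_iff φ _ _).1 (chartPC_of_rel (h i) U.2 V.2 e φ hφ))

/-- Charts of the morphism are closed immersions with pseudo-coherent structure sheaf. -/
def PCMor (g : P ⟶ S) : Prop :=
  ∀ (W : P.affineOpens) (V : S.affineOpens) (e : (W : P.Opens) ≤ g ⁻¹ᵁ (V : S.Opens)) (n : ℕ)
    (φ : MvPolynomial (Fin n) Γ(S, (V : S.Opens)) →+* Γ(P, (W : P.Opens))),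
    DerSch.IsChart g (W : P.Opens) (V : S.Opens) e φ → PCStr (DerSch.chartImm (W : P.Opens) φ)

/-- The direct image of the structure sheaf along an isomorphism. -/
theorem pcStr_of_isIso (j : X ⟶ P) [IsIso j] : PCStr j := fun m => by
  refine isPseudoCoherentD_of_isPerfect (isPerfect_inD ?_) m
  refine (isFinLocFree_iff _).2 fun p => ⟨j.opensRange, ⟨(inv j) p, congr($(IsIso.inv_hom_id j) p)⟩, ?_⟩
  let k := j.isoOpensRange.inv
  refine IsFreeFin.of_iso ?_ (IsFreeFin.pullback k (isFreeFin_structureModule (X := X)))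
  exact (Scheme.Modules.pullback k).mapIso ((asIso (Scheme.Modules.restrictAdjunction j).counit).app _).symm ≪≫
    (Scheme.Modules.pullback k).mapIso ((Scheme.Modules.restrictFunctorIsoPullback j).app _) ≪≫
    (Scheme.Modules.pullbackComp k j ≪≫
      Scheme.Modules.pullbackCongr j.isoOpensRange_inv_comp).app _

/-- Flat morphisms locally of finite presentation have such charts. -/
theorem pcMor_of_flat (g : P ⟶ S) [Flat g] [LocallyOfFinitePresentation g] : PCMor g := by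
  intro W V e n φ hφ
  haveI : IsIso (W : P.Opens).toSpecΓ := by
    rw [← W.2.isoSpec_hom]
    infer_instance
  haveI : IsClosedImmersion (Spec.map (CommRingCat.ofHom φ)) :=
    IsClosedImmersion.spec_of_surjective _ hφ.1
  letI := (g.appLE (V : S.Opens) (W : P.Opens) e).hom.toAlgebra
  let ψ : MvPolynomial (Fin n) Γ(S, (V : S.Opens)) →ₐ[Γ(S, (V : S.Opens))] Γ(P, (W : P.Opens)) :=
    { φ with commutes' := fun a => congr($(hφ.2) a) }
  let d := MvPolynomial.renameEquiv Γ(S, (V : S.Opens)) (Equiv.ulift.{u} (α := Fin n))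
  have h1 := PseudoCoh.rfp_of_isPseudoCoherentHom
    (PseudoCoh.isPseudoCoherentMor_of_flat g W V W.2 V.2 e) (ψ.comp d.toAlgHom)
    (hφ.1.comp d.surjective)
  have h2 : PseudoCoh.RFP φ := PseudoCoh.RFP.of_comp (PseudoCoh.rfp_of_bijective _ d.bijective) h1
  intro m
  have h3 := pcStr_specMap φ hφ.1 h2
  let j := (W : P.Opens).toSpecΓ
  let i := Spec.map (CommRingCat.ofHom φ)
  refine isPseudoCoherentD_of_iso
    ((pushDInD i _) ≪≫ (DerivedCategory.singleFunctor _ 0).mapIso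
      ((Scheme.Modules.pushforwardComp j i).app _)) ?_
  exact (pc_pushD_iff i h3 _ m).1 (pcStr_of_isIso j m)

/-- For a morphism with such charts, absolute and relative pseudo-coherence agree. -/
theorem rel_iff_abs (g : P ⟶ S) [LocallyOfFiniteType g] (hg : PCMor g) (m : ℤ) (E : DCoh.D P) :
    DerSch.IsPseudoCoherentRel g m E ↔ DCoh.IsPseudoCoherentD m E := by
  constructor
  · intro h
    refine isPseudoCoherentD_of_rd fun p => ?_
    obtain ⟨V, hV, hpV, -⟩ := S.isBasis_affineOpens.exists_subset_of_mem_open (Set.mem_univ (g p)) isOpen_univ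
    obtain ⟨V, hV', rfl⟩ := hV
    obtain ⟨W, hW, hpW, hle⟩ := P.isBasis_affineOpens.exists_subset_of_mem_open hpV (g ⁻¹ᵁ V).2
    obtain ⟨W, hW', rfl⟩ := hW
    obtain ⟨n, φ, hφ⟩ := exists_isChart g W V hle (g.finiteType_appLE hV' hW' hle)
    haveI := isClosedImmersion_chartImm hW' φ hφ.1
    exact ⟨W, hpW, (pc_pushD_iff _ (hg ⟨W, hW'⟩ ⟨V, hV'⟩ hle n φ hφ) _ m).2
      ((chartPC_iff φ m E).1 (chartPC_of_rel h hW' hV' hle φ hφ))⟩
  · intro h
    refine rel_of_charts g m E fun W V e n φ hφ => ?_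
    haveI := isClosedImmersion_chartImm W.2 φ hφ.1
    rw [chartPC_iff]
    exact (pc_pushD_iff _ (hg W V e n φ hφ) _ m).1 (isPseudoCoherentD_rd _ h)

/-- Relative pseudo-coherence through a closed immersion. -/
theorem rel_comp_iff_abs (i : X ⟶ P) [IsClosedImmersion i] (g : P ⟶ S) [LocallyOfFiniteType g]
    (hg : PCMor g) (m : ℤ) (E : DCoh.D X) :
    DerSch.IsPseudoCoherentRel (i ≫ g) m E ↔ DCoh.IsPseudoCoherentD m ((pushD i).obj E) := by
  -- charts of `i ≫ g` on the preimages of affine opens of `P`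
  have key : ∀ (W : P.Opens) (hW : IsAffineOpen W) (V : S.Opens) (hV : IsAffineOpen V)
      (e : W ≤ g ⁻¹ᵁ V), ∃ (n : ℕ) (φ : MvPolynomial (Fin n) Γ(S, V) →+* Γ(X, i ⁻¹ᵁ W)),
        DerSch.IsChart (i ≫ g) (i ⁻¹ᵁ W) V (fun x hx => e hx) φ ∧
          (DerSch.ChartPC m E (i ⁻¹ᵁ W) V φ ↔
            DCoh.IsPseudoCoherentD m ((rd W.ι).obj ((pushD i).obj E))) := by
    intro W hW V hV e
    obtain ⟨n, φ, hφ⟩ := exists_isChart g W V e (g.finiteType_appLE hV hW e)
    have hs : Function.Surjective (i.app W) := i.app_surjective W hW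
    have hc : Function.Surjective ((i.app W).hom.comp φ) := hs.comp hφ.1
    refine ⟨n, (i.app W).hom.comp φ, ⟨hc, ?_⟩, ?_⟩
    · rw [RingHom.comp_assoc, hφ.2]
      have e' : g.appLE V W e ≫ i.app W = (i ≫ g).appLE V (i ⁻¹ᵁ W) (fun x hx => e hx) := by
        rw [i.app_eq_appLE]
        exact Scheme.Hom.appLE_comp_appLE i g V W (i ⁻¹ᵁ W) e le_rfl
      exact congrArg CommRingCat.Hom.hom e'
    haveI := isClosedImmersion_chartImm hW φ hφ.1
    haveI := isClosedImmersion_chartImm (hW.preimage i) _ hc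
    have hcomp : (i ∣_ W) ≫ DerSch.chartImm W φ = DerSch.chartImm (i ⁻¹ᵁ W) ((i.app W).hom.comp φ) := by
      simp only [DerSch.chartImm]
      rw [← Category.assoc, ← Scheme.Opens.toSpecΓ_naturality, Category.assoc, ← Spec.map_comp]
      rfl
    rw [chartPC_iff]
    refine Iff.trans ⟨isPseudoCoherentD_of_iso (pushDComp _ _ _ hcomp _),
      isPseudoCoherentD_of_iso (pushDComp _ _ _ hcomp _).symm⟩ ?_
    rw [← pc_pushD_iff _ (hg ⟨W, hW⟩ ⟨V, hV⟩ e n φ hφ)]
    exact ⟨isPseudoCoherentD_of_iso (rdPushD i W E).symm, isPseudoCoherentD_of_iso (rdPushD i W E)⟩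
  constructor
  · intro h
    refine isPseudoCoherentD_of_rd fun p => ?_
    obtain ⟨V, hV, hpV, -⟩ := S.isBasis_affineOpens.exists_subset_of_mem_open (Set.mem_univ (g p)) isOpen_univ
    obtain ⟨V, hV', rfl⟩ := hV
    obtain ⟨W, hW, hpW, hle⟩ := P.isBasis_affineOpens.exists_subset_of_mem_open hpV (g ⁻¹ᵁ V).2
    obtain ⟨W, hW', rfl⟩ := hW
    obtain ⟨n, φ, hφ, hiff⟩ := key W hW' V hV' hle
    exact ⟨W, hpW, hiff.1 (chartPC_of_rel h (hW'.preimage i) hV' (fun x hx => hle hx) φ hφ)⟩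
  · intro h
    refine ⟨inferInstance, Set.univ, eq_top_iff.2 fun y _ => ?_, fun V _ => ?_⟩
    · obtain ⟨W, hW, hyW, -⟩ := S.isBasis_affineOpens.exists_subset_of_mem_open (Set.mem_univ y) isOpen_univ
      obtain ⟨W, hW', rfl⟩ := hW
      exact TopologicalSpace.Opens.mem_iSup.2
        ⟨⟨W, hW'⟩, TopologicalSpace.Opens.mem_iSup.2 ⟨trivial, hyW⟩⟩
    refine ⟨{U | ∃ W : P.affineOpens, (W : P.Opens) ≤ g ⁻¹ᵁ (V : S.Opens) ∧
      (U : X.Opens) = i ⁻¹ᵁ (W : P.Opens)}, le_antisymm (iSup₂_le ?_) ?_, ?_⟩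
    · rintro U ⟨W, hle, hU⟩
      rw [hU]
      exact fun x hx => hle hx
    · intro x hx
      obtain ⟨W, hW, hxW, hle⟩ := P.isBasis_affineOpens.exists_subset_of_mem_open hx (g ⁻¹ᵁ (V : S.Opens)).2
      obtain ⟨W, hW', rfl⟩ := hW
      exact TopologicalSpace.Opens.mem_iSup.2 ⟨⟨i ⁻¹ᵁ W, hW'.preimage i⟩,
        TopologicalSpace.Opens.mem_iSup.2 ⟨⟨⟨W, hW'⟩, hle, rfl⟩, hxW⟩⟩
    · rintro ⟨U, hU'⟩ ⟨W, hle, hU⟩ e
      dsimp only at hU
      subst hU
      obtain ⟨n, φ, hφ, hiff⟩ := key W W.2 V V.2 hle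
      exact ⟨n, φ, hφ, hiff.2 (isPseudoCoherentD_rd _ h)⟩

/-- Pseudo-coherence of the structure sheaf relative to the morphism gives such charts. -/
theorem pcMor_of_isNPseudoCoherent (g : P ⟶ S) (h : ∀ n : ℤ, DerSch.IsNPseudoCoherent g n) :
    PCMor g := fun W V e n φ hφ m => by
  haveI := isClosedImmersion_chartImm W.2 φ hφ.1
  refine isPseudoCoherentD_of_iso ?_ ((chartPC_iff φ m _).1 (chartPC_of_rel (h m) W.2 V.2 e φ hφ))
  exact (pushD _).mapIso ((rd (W : P.Opens).ι).mapIso (inDIsoQ (Coh.structureModule P)).symm ≪≫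
      rdInD _ _ ≪≫ (DerivedCategory.singleFunctor _ 0).mapIso
        (Scheme.Modules.restrictUnitIso (W : P.Opens).ι)) ≪≫ pushDInD _ _

end Groth.Agent.H8Props.RelPC
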