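import Mathlib

/-!
# Geometric properties of fibres do not depend on field extensions (helper8)
-/

set_option autoImplicit false
universe u
open CategoryTheory AlgebraicGeometry Limits

namespace Groth.Agent.H8Props.GeometricDescent

/-- A property descends along surjective flat quasi-compact morphisms. -/
def Descends (P : ObjectProperty Scheme.{u}) : Prop :=
  ∀ ⦃W W' : Scheme.{u}⦄ (h : W' ⟶ W) [Surjective h] [Flat h] [QuasiCompact h], P W' → P W

lemma descends_irreducibleSpace : Descends.{u} (IrreducibleSpace ·) := by
  intro W W' h _ _ _ hW'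
  have : IrreducibleSpace W' := hW'
  have : Nonempty W := Nonempty.map h (inferInstance : Nonempty W')
  rw [irreducibleSpace_def, Set.top_eq_univ, ← h.surjective.range_eq, ← Set.image_univ]
  exact (IrreducibleSpace.isIrreducible_univ _).image _ h.continuous.continuousOn

lemma descends_connectedSpace : Descends.{u} (ConnectedSpace ·) := by
  intro W W' h _ _ _ hW'
  have : ConnectedSpace W' := hW'
  rw [connectedSpace_iff_univ, ← h.surjective.range_eq]
  exact isConnected_range h.continuous

lemma descends_isReduced : Descends.{u} IsReduced := by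
  intro W W' h _ _ _ hW'
  have : IsReduced W' := hW'
  have : ∀ w, _root_.IsReduced (W.presheaf.stalk w) := fun w ↦ by
    obtain ⟨w', rfl⟩ := h.surjective w
    let _ := (h.stalkMap w').hom.toAlgebra
    have : Module.Flat (W.presheaf.stalk (h w')) (W'.presheaf.stalk w') := Flat.stalkMap h w'
    have : IsLocalHom (algebraMap (W.presheaf.stalk (h w')) (W'.presheaf.stalk w')) :=
      inferInstanceAs (IsLocalHom (h.stalkMap w').hom)
    have := Module.FaithfullyFlat.of_flat_of_isLocalHom (A := W.presheaf.stalk (h w'))
      (B := W'.presheaf.stalk w')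
    exact isReduced_of_injective (algebraMap _ (W'.presheaf.stalk w'))
      (FaithfulSMul.algebraMap_injective _ _)
  exact isReduced_of_isReduced_stalk W

variable {P : ObjectProperty Scheme.{u}}

lemma exists_compositum {k K L : Type u} [Field k] [Field K] [Field L] (φ : k →+* K) (ψ : k →+* L) :
    ∃ (Ω : Type u) (_ : Field Ω) (a : K →+* Ω) (b : L →+* Ω), a.comp φ = b.comp ψ := by
  let _ := φ.toAlgebra
  let _ := ψ.toAlgebra
  have : Nontrivial (TensorProduct k K L) := inferInstance
  obtain ⟨m, hm⟩ := Ideal.exists_maximal (TensorProduct k K L)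
  exact ⟨_, Ideal.Quotient.field m, (Ideal.Quotient.mk m).comp Algebra.TensorProduct.includeLeftRingHom,
    (Ideal.Quotient.mk m).comp Algebra.TensorProduct.includeRight.toRingHom, by
      rw [RingHom.comp_assoc, RingHom.comp_assoc]
      congr 1
      ext x
      show (algebraMap k K x) ⊗ₜ[k] (1 : L) = (1 : K) ⊗ₜ[k] (algebraMap k L x)
      rw [Algebra.algebraMap_eq_smul_one, Algebra.algebraMap_eq_smul_one, TensorProduct.smul_tmul]⟩

/-- Geometric properties descend along field extensions. -/
theorem geometrically_of_isPullback (hP : Descends P) {k L : Type u} [Field k] [Field L]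
    {X X' : Scheme.{u}} {f : X ⟶ Spec (.of k)} {q : X' ⟶ Spec (.of L)} {p : X' ⟶ X}
    {ψ : Spec (.of L) ⟶ Spec (.of k)} (sq : IsPullback p q f ψ) (hq : geometrically P q) :
    geometrically P f := by
  intro K _ y Z fst snd h
  obtain ⟨φ, rfl⟩ := Spec.map_surjective y
  obtain ⟨ψ, rfl⟩ := Spec.map_surjective ψ
  obtain ⟨Ω, _, a, b, hab⟩ := exists_compositum φ.hom ψ.hom
  let A := Spec.map (CommRingCat.ofHom a)
  have : Surjective A := ⟨fun x ↦
    ⟨Classical.arbitrary _, Subsingleton.elim (α := PrimeSpectrum K) _ _⟩⟩
  have : Flat A := by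
    rw [HasRingHomProperty.Spec_iff (P := @Flat)]
    algebraize [a]
    exact inferInstanceAs (Module.Flat K Ω)
  have hW := (IsPullback.of_hasPullback snd A).paste_horiz h
  have hcomp : A ≫ Spec.map φ = Spec.map (CommRingCat.ofHom b) ≫ Spec.map ψ := by
    rw [← Spec.map_comp, ← Spec.map_comp]
    congr 1
    ext x
    exact DFunLike.congr_fun hab x
  rw [hcomp] at hW
  let l : pullback snd A ⟶ X' := sq.lift (pullback.fst snd A ≫ fst)
    (pullback.snd snd A ≫ Spec.map (CommRingCat.ofHom b)) (by rw [Category.assoc]; exact hW.w)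
  have hl : IsPullback l (pullback.snd snd A) q (Spec.map (CommRingCat.ofHom b)) := by
    refine IsPullback.of_right ?_ (sq.lift_snd _ _ _) sq
    rwa [IsPullback.lift_fst]
  exact hP (pullback.fst snd A) (hq _ _ _ hl)

theorem fiber_iff (hP : Descends P) {X Y X' Y' : Scheme.{u}} (f : X ⟶ Y) (g : Y' ⟶ Y)
    (f' : X' ⟶ Y') (g' : X' ⟶ X) (hc : IsPullback g' f' f g) (y' : Y') :
    geometrically P (f'.fiberToSpecResidueField y') ↔
      geometrically P (f.fiberToSpecResidueField (g y')) := by
  have hbig : IsPullback (pullback.fst f' (Y'.fromSpecResidueField y') ≫ g')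
      (f'.fiberToSpecResidueField y') f
      (Spec.map (g.residueFieldMap y') ≫ Y.fromSpecResidueField (g y')) := by
    rw [Scheme.Hom.SpecMap_residueFieldMap_fromSpecResidueField]
    exact (IsPullback.of_hasPullback f' (Y'.fromSpecResidueField y')).paste_horiz hc
  let l : f'.fiber y' ⟶ f.fiber (g y') :=
    pullback.lift (pullback.fst _ _ ≫ g')
      (f'.fiberToSpecResidueField y' ≫ Spec.map (g.residueFieldMap y'))
      (by rw [Category.assoc]; exact hbig.w)
  have sq : IsPullback l (f'.fiberToSpecResidueField y') (f.fiberToSpecResidueField (g y'))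
      (Spec.map (g.residueFieldMap y')) := by
    refine IsPullback.of_right ?_ (pullback.lift_snd _ _ _) (IsPullback.of_hasPullback _ _)
    erw [pullback.lift_fst]; exact hbig
  exact ⟨geometrically_of_isPullback hP sq,
    fun h ↦ MorphismProperty.of_isPullback (P := geometrically P) sq h⟩

end Groth.Agent.H8Props.GeometricDescent
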