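import Groth.Agent.H8Props.RpushAffine
import Groth.Agent.H8Props.RingRelPCLocal
import Groth.Agent.H8Props.PseudoCoh.PerfectMap
import Groth.Agent.H8Props.PseudoCoh.PerfectModule
import Groth.Prelude.Def_MoreMor

/-!
# Direct image of the structure sheaf along perfect closed immersions
-/

set_option autoImplicit false
set_option linter.style.haveILetI false
set_option backward.isDefEq.respectTransparency false

universe u

open CategoryTheory CategoryTheory.Limits AlgebraicGeometry Pretriangulated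

attribute [local instance] HasDerivedCategory.standard

namespace Groth.Agent.H8Props.PerfectPush

open H16Derived.KFlat.Stalk PushPC RpushAffine PseudoCoh

theorem isPerfectModule_of_surjective {A B : Type u} [CommRing A] [CommRing B] [Algebra A B]
    (hs : Function.Surjective (algebraMap A B)) (h : MoreMor.IsPerfectHom A B) :
    DRing.IsPerfectModule A B := by
  obtain ⟨hpc, d, hd⟩ := isPerfectHom_iff.mp h
  let α : MvPolynomial (Fin 0) A →ₐ[A] B := MvPolynomial.aeval Fin.elim0
  have hα : Function.Surjective α := fun b => by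
    obtain ⟨a, rfl⟩ := hs b
    exact ⟨MvPolynomial.C a, MvPolynomial.aeval_C _ a⟩
  have h1 : RFP (α.toRingHom.comp MvPolynomial.C) :=
    RFP.comp (rfp_of_bijective _ ⟨MvPolynomial.C_injective _ _, MvPolynomial.C_surjective _⟩)
      (RingRelPC.rfp_pres hpc α hα)
  have e : α.toRingHom.comp MvPolynomial.C = algebraMap A B :=
    RingHom.ext fun a => MvPolynomial.aeval_C _ a
  rw [e] at h1
  exact isPerfectModule_iff.mpr ⟨rfp_algebraMap.mp h1, d, hd⟩

/-- Comparison of `(i_* 𝒪)|_W` with the direct image to the spectrum of sections. -/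
noncomputable def pushUnitChartIso {U W P Q : Scheme.{u}} (f : U ⟶ W) (a : W ⟶ P) (b : U ⟶ Q)
    (g : Q ⟶ P) [IsIso a] [IsIso b] (hsq : b ≫ g = f ≫ a) :
    (Scheme.Modules.restrictFunctor a).obj
        ((Scheme.Modules.pushforward g).obj (Coh.structureModule Q)) ≅
      (Scheme.Modules.pushforward f).obj (Coh.structureModule U) :=
  (Scheme.Modules.restrictFunctor a).mapIso
      ((Scheme.Modules.pushforward g).mapIso (pushStructureIso b).symm ≪≫
        (Scheme.Modules.pushforwardComp b g).app _ ≪≫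
        (Scheme.Modules.pushforwardCongr hsq).app _ ≪≫
        ((Scheme.Modules.pushforwardComp f a).app _).symm) ≪≫
    (asIso (Scheme.Modules.restrictAdjunction a).counit).app _

theorem isPerfect_push_unit_of_isAffineOpen {Z X : Scheme.{u}} (i : Z ⟶ X) [IsClosedImmersion i]
    (hi : MoreMor.IsPerfectMor i) (W : X.Opens) (hW : IsAffineOpen W) :
    DCoh.IsPerfect (DCoh.inD (W : Scheme.{u})
      ((Scheme.Modules.pushforward (i ∣_ W)).obj (Coh.structureModule (i ⁻¹ᵁ W : Scheme.{u})))) := by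
  have hU : IsAffineOpen (i ⁻¹ᵁ W) := hW.preimage i
  letI := (i.app W).hom.toAlgebra
  haveI : IsIso W.toSpecΓ := by
    rw [← hW.isoSpec_hom]
    infer_instance
  haveI : IsIso (i ⁻¹ᵁ W).toSpecΓ := by
    rw [← hU.isoSpec_hom]
    infer_instance
  have hB : DRing.IsPerfectModule Γ(X, W) Γ(Z, i ⁻¹ᵁ W) := by
    refine isPerfectModule_of_surjective ?_ ?_
    · exact i.app_surjective W hW
    · have := hi (i ⁻¹ᵁ W) W hU hW le_rfl
      rwa [Scheme.Hom.appLE_eq_app] at this
  have hP := isPerfect_of_iso pushUnitTildeIso.symm ((perfect_tilde_iff _).2 hB)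
  have hsq : (i ⁻¹ᵁ W).toSpecΓ ≫
      Spec.map (CommRingCat.ofHom (algebraMap Γ(X, W) Γ(Z, i ⁻¹ᵁ W))) = (i ∣_ W) ≫ W.toSpecΓ :=
    Scheme.Opens.toSpecΓ_naturality i W
  exact isPerfect_of_iso (rdInD W.toSpecΓ _ ≪≫
    (DerivedCategory.singleFunctor _ 0).mapIso (pushUnitChartIso (i ∣_ W) _ _ _ hsq))
    (isPerfect_rd W.toSpecΓ hP)

theorem isPerfect_push_unit {Z X : Scheme.{u}} (i : Z ⟶ X) [IsClosedImmersion i]
    (hi : MoreMor.IsPerfectMor i) :
    DCoh.IsPerfect (DCoh.inD X ((Scheme.Modules.pushforward i).obj (Coh.structureModule Z))) := by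
  refine isPerfect_of_rd fun x => ?_
  obtain ⟨W, hxW, hW⟩ : ∃ W : X.Opens, x ∈ W ∧ IsAffineOpen W := by
    obtain ⟨W, hW, hxW, -⟩ :=
      X.isBasis_affineOpens.exists_subset_of_mem_open (Set.mem_univ x) isOpen_univ
    obtain ⟨W, hW', rfl⟩ := hW
    exact ⟨W, hxW, hW'⟩
  refine ⟨W, hxW, isPerfect_of_iso ?_ (isPerfect_push_unit_of_isAffineOpen i hi W hW)⟩
  let e₁ : (Scheme.Modules.pushforward (i ∣_ W)).obj (Coh.structureModule (i ⁻¹ᵁ W : Scheme.{u})) ≅
      ((Scheme.Modules.pushforward i).obj (Coh.structureModule Z)).restrict W.ι :=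
    (Scheme.Modules.pushforward (i ∣_ W)).mapIso (Scheme.Modules.restrictUnitIso (i ⁻¹ᵁ W).ι).symm ≪≫
      ((pushRestrictNatIso i W).app _).symm
  exact (DerivedCategory.singleFunctor (W : Scheme.{u}).Modules 0).mapIso e₁ ≪≫ (rdInD W.ι _).symm

end Groth.Agent.H8Props.PerfectPush
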