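import Groth.Agent.H8Props.FibreCriterionLocal
import Groth.Agent.H13Flat.Algebra
import Mathlib.AlgebraicGeometry.Morphisms.FinitePresentation
import Mathlib.RingTheory.FinitePresentation

/-!
# The fibrewise criterion of flatness, in general

`X → Y → S` with `X → S` flat and both locally of finite presentation: if the map of fibres is flat
at a point, so is `X → Y`, and `Y → S` is flat at the image.
-/

set_option autoImplicit false
set_option linter.style.haveILetI false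
set_option synthInstance.maxHeartbeats 200000
set_option maxHeartbeats 1600000
universe u

open AlgebraicGeometry CategoryTheory CategoryTheory.Limits TopologicalSpace
open scoped TensorProduct

namespace Groth.Agent.H8Props.FibreCriterion

theorem exists_affine_nhd {X : Scheme.{u}} (x : X) (O : X.Opens) (hx : x ∈ O) :
    ∃ U : X.Opens, IsAffineOpen U ∧ x ∈ U ∧ U ≤ O := by
  obtain ⟨U, hU, hxU, hUO⟩ := Opens.isBasis_iff_nbhd.mp X.isBasis_affineOpens hx
  exact ⟨U, hU, hxU, hUO⟩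

/-- Flatness at a point is stable under base change. -/
theorem flat_stalkMap_baseChange {X Y X' Y' : Scheme.{u}} {f : X ⟶ Y} {f' : X' ⟶ Y'} {gX : X' ⟶ X}
    {gY : Y' ⟶ Y} (hX : IsPullback gX f' f gY) (x : X') (h : (f.stalkMap (gX x)).hom.Flat) :
    (f'.stalkMap x).hom.Flat := by
  let j := X.fromSpecStalk (gX x)
  haveI : Flat (Spec.map (f.stalkMap (gX x))) := (HasRingHomProperty.Spec_iff (P := @Flat)).mpr h
  haveI : Flat (j ≫ f) := by
    rw [show j ≫ f = Spec.map (f.stalkMap (gX x)) ≫ Y.fromSpecStalk (f (gX x)) from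
      (Scheme.SpecMap_stalkMap_fromSpecStalk f).symm]
    infer_instance
  let p := pullback.fst gX j
  have hbig : IsPullback (pullback.snd gX j) (p ≫ f') (j ≫ f) gY :=
    (IsPullback.of_hasPullback gX j).flip.paste_vert hX
  haveI : Flat (p ≫ f') := MorphismProperty.of_isPullback hbig ‹_›
  obtain ⟨w, hw⟩ : x ∈ Set.range p := by
    rw [Scheme.Pullback.range_fst]
    show gX x ∈ Set.range (X.fromSpecStalk (gX x))
    rw [Scheme.range_fromSpecStalk]
    exact specializes_rfl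
  rw [← hw]
  exact (S4656.result p f' w (Flat.stalkMap p w)).mp (Flat.stalkMap (p ≫ f') w)

theorem exists_desc {R P A T : Type u} [CommRing R] [CommRing P] [CommRing A] [CommRing T]
    [Algebra R P] [Algebra R A] [Algebra R T] (φ : P →ₐ[R] A) (hφ : Function.Surjective φ)
    (b : P →ₐ[R] T) (h : RingHom.ker φ ≤ RingHom.ker b) :
    ∃ d : A →ₐ[R] T, ∀ p, d (φ p) = b p :=
  ⟨AlgHom.liftOfSurjective φ hφ b h, AlgHom.liftOfSurjective_apply φ hφ b h⟩

attribute [local instance] Algebra.TensorProduct.rightAlgebra in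
/-- A presentation with relations from a model over `R₀` is the base change of that model. -/
theorem isPushout_model {R A R₀ : Type u} [CommRing R] [CommRing A] [CommRing R₀] [Algebra R A]
    [Algebra R₀ R] [Algebra R₀ A] [IsScalarTower R₀ R A] {n : ℕ}
    (φ : MvPolynomial (Fin n) R →ₐ[R] A) (hφ : Function.Surjective φ)
    (N : Ideal (MvPolynomial (Fin n) R₀))
    (hN : RingHom.ker φ ≤ N.map (MvPolynomial.map (algebraMap R₀ R)))
    [Algebra (MvPolynomial (Fin n) R₀ ⧸ N) A] [IsScalarTower R₀ (MvPolynomial (Fin n) R₀ ⧸ N) A]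
    (hcomp : ∀ p : MvPolynomial (Fin n) R₀,
      algebraMap (MvPolynomial (Fin n) R₀ ⧸ N) A (Ideal.Quotient.mk N p) =
      φ (MvPolynomial.map (algebraMap R₀ R) p)) :
    Algebra.IsPushout R₀ R (MvPolynomial (Fin n) R₀ ⧸ N) A := by
  let back : MvPolynomial (Fin n) R →ₐ[R] R ⊗[R₀] (MvPolynomial (Fin n) R₀ ⧸ N) :=
    MvPolynomial.aeval fun i => (1 : R) ⊗ₜ[R₀] Ideal.Quotient.mk N (MvPolynomial.X i)
  have hback : ∀ p, back (MvPolynomial.map (algebraMap R₀ R) p) = 1 ⊗ₜ Ideal.Quotient.mk N p := by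
    intro p
    induction p using MvPolynomial.induction_on with
    | C r =>
      rw [MvPolynomial.map_C, ← MvPolynomial.algebraMap_eq, AlgHom.commutes,
        Algebra.TensorProduct.algebraMap_apply, Algebra.algebraMap_self, RingHom.id_apply,
        Algebra.algebraMap_eq_smul_one r, TensorProduct.smul_tmul, ← Algebra.algebraMap_eq_smul_one]
      rfl
    | add p q hp hq => simp only [map_add, hp, hq, TensorProduct.tmul_add]
    | mul_X p i hp =>
      simp only [map_mul, MvPolynomial.map_X, back, MvPolynomial.aeval_X] at hp ⊢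
      rw [hp, Algebra.TensorProduct.tmul_mul_tmul, mul_one]
  have hker : RingHom.ker φ ≤ RingHom.ker back := by
    refine hN.trans (Ideal.map_le_iff_le_comap.mpr fun q hq => ?_)
    rw [Ideal.mem_comap, RingHom.mem_ker, hback,
      show Ideal.Quotient.mk N q = 0 from Ideal.Quotient.eq_zero_iff_mem.mpr hq,
      TensorProduct.tmul_zero]
  obtain ⟨bwd, hbwd⟩ : ∃ d : A →ₐ[R] R ⊗[R₀] (MvPolynomial (Fin n) R₀ ⧸ N), ∀ p, d (φ p) = back p := by
    clear hback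
    clear_value back
    exact exists_desc (T := R ⊗[R₀] (MvPolynomial (Fin n) R₀ ⧸ N)) φ hφ back hker
  let fwd : R ⊗[R₀] (MvPolynomial (Fin n) R₀ ⧸ N) →ₐ[R] A :=
    Algebra.TensorProduct.lift (Algebra.ofId R A) (IsScalarTower.toAlgHom R₀ _ A)
      fun _ _ => .all _ _
  let e : R ⊗[R₀] (MvPolynomial (Fin n) R₀ ⧸ N) ≃ₐ[R] A := AlgEquiv.ofAlgHom fwd bwd
    (by
      refine AlgHom.ext fun a => ?_
      obtain ⟨p, rfl⟩ := hφ a
      rw [AlgHom.comp_apply, hbwd, AlgHom.id_apply]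
      refine congrFun (congrArg DFunLike.coe (?_ : fwd.comp back = φ)) p
      refine MvPolynomial.algHom_ext fun i => ?_
      simp only [AlgHom.comp_apply, back, MvPolynomial.aeval_X, fwd, Algebra.TensorProduct.lift_tmul,
        map_one, one_mul, IsScalarTower.coe_toAlgHom']
      rw [hcomp, MvPolynomial.map_X])
    (by
      refine Algebra.TensorProduct.ext' fun r b => ?_
      obtain ⟨p, rfl⟩ := Ideal.Quotient.mk_surjective b
      rw [AlgHom.comp_apply, AlgHom.id_apply, show fwd (r ⊗ₜ Ideal.Quotient.mk N p) =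
        algebraMap R A r * φ (MvPolynomial.map (algebraMap R₀ R) p) from by
          simp only [fwd, Algebra.TensorProduct.lift_tmul, IsScalarTower.coe_toAlgHom', hcomp]; rfl,
        map_mul, AlgHom.commutes, hbwd, hback, Algebra.TensorProduct.algebraMap_apply,
        Algebra.TensorProduct.tmul_mul_tmul, mul_one, one_mul]
      rfl)
  refine Algebra.IsPushout.of_equiv (S' := R ⊗[R₀] (MvPolynomial (Fin n) R₀ ⧸ N)) (h := TensorProduct.isPushout) e (RingHom.ext fun b => ?_)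
  show fwd (1 ⊗ₜ b) = algebraMap _ A b
  simp [fwd]

/-- The squares of spectra given by a model of rings. -/
theorem model_squares {X Y S : Scheme.{u}} [IsAffine X] [IsAffine Y] [IsAffine S]
    (f : X ⟶ Y) (g : Y ⟶ S) (R₀ A₀ B₀ : Type u) [CommRing R₀] [IsNoetherianRing R₀] [CommRing A₀]
    [CommRing B₀] [Algebra R₀ A₀] [Algebra R₀ B₀] [Algebra.FiniteType R₀ A₀] [Algebra.FiniteType R₀ B₀]
    [Module.Flat R₀ B₀] [Algebra R₀ Γ(S, ⊤)] [Algebra A₀ Γ(Y, ⊤)] [Algebra B₀ Γ(X, ⊤)]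
    [Algebra Γ(S, ⊤) Γ(Y, ⊤)] [Algebra Γ(S, ⊤) Γ(X, ⊤)]
    [Algebra R₀ Γ(Y, ⊤)] [Algebra R₀ Γ(X, ⊤)]
    [IsScalarTower R₀ Γ(S, ⊤) Γ(Y, ⊤)] [IsScalarTower R₀ A₀ Γ(Y, ⊤)]
    [IsScalarTower R₀ Γ(S, ⊤) Γ(X, ⊤)] [IsScalarTower R₀ B₀ Γ(X, ⊤)]
    [Algebra.IsPushout R₀ Γ(S, ⊤) A₀ Γ(Y, ⊤)] [Algebra.IsPushout R₀ Γ(S, ⊤) B₀ Γ(X, ⊤)]
    (θ : A₀ →ₐ[R₀] B₀) (hcompat : (algebraMap B₀ Γ(X, ⊤)).comp θ.toRingHom =
      f.appTop.hom.comp (algebraMap A₀ Γ(Y, ⊤)))
    (hgY : algebraMap Γ(S, ⊤) Γ(Y, ⊤) = g.appTop.hom := by rfl)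
    (hgX : algebraMap Γ(S, ⊤) Γ(X, ⊤) = (f ≫ g).appTop.hom := by rfl) :
    ∃ (X₀ Y₀ S₀ : Scheme.{u}) (f₀ : X₀ ⟶ Y₀) (g₀ : Y₀ ⟶ S₀) (a : S ⟶ S₀) (aY : Y ⟶ Y₀) (aX : X ⟶ X₀),
      IsPullback aY g g₀ a ∧ IsPullback aX f f₀ aY ∧ Flat (f₀ ≫ g₀) ∧ LocallyOfFiniteType f₀ ∧
        LocallyOfFiniteType g₀ ∧ IsLocallyNoetherian S₀ := by
  have hpA := (isPullback_SpecMap_of_isPushout _ _ _ _
    (CommRingCat.isPushout_of_isPushout R₀ Γ(S, ⊤) A₀ Γ(Y, ⊤))).flip
  have hpB := (isPullback_SpecMap_of_isPushout _ _ _ _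
    (CommRingCat.isPushout_of_isPushout R₀ Γ(S, ⊤) B₀ Γ(X, ⊤))).flip
  let f₀ := Spec.map (CommRingCat.ofHom θ.toRingHom)
  let g₀ := Spec.map (CommRingCat.ofHom (algebraMap R₀ A₀))
  let a := S.isoSpec.hom ≫ Spec.map (CommRingCat.ofHom (algebraMap R₀ Γ(S, ⊤)))
  let aY := Y.isoSpec.hom ≫ Spec.map (CommRingCat.ofHom (algebraMap A₀ Γ(Y, ⊤)))
  let aX := X.isoSpec.hom ≫ Spec.map (CommRingCat.ofHom (algebraMap B₀ Γ(X, ⊤)))
  have hθ : f₀ ≫ g₀ = Spec.map (CommRingCat.ofHom (algebraMap R₀ B₀)) := by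
    rw [← Spec.map_comp]
    exact congrArg Spec.map (CommRingCat.hom_ext θ.comp_algebraMap)
  have hY : IsPullback aY g g₀ a := by
    refine hpA.of_iso Y.isoSpec.symm (Iso.refl _) S.isoSpec.symm (Iso.refl _) ?_ ?_ ?_ ?_
    · simp [aY]
    · rw [hgY]; exact Scheme.isoSpec_inv_naturality g
    · simp [g₀]
    · simp [a]
  have hXS : IsPullback aX (f ≫ g) (f₀ ≫ g₀) a := by
    rw [hθ]
    refine hpB.of_iso X.isoSpec.symm (Iso.refl _) S.isoSpec.symm (Iso.refl _) ?_ ?_ ?_ ?_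
    · simp [aX]
    · rw [hgX]; exact Scheme.isoSpec_inv_naturality (f ≫ g)
    · simp
    · simp [a]
  have hsq : aX ≫ f₀ = f ≫ aY := by
    simp only [aX, aY, f₀, Category.assoc, ← Spec.map_comp]
    rw [← Scheme.isoSpec_hom_naturality_assoc, ← Spec.map_comp]
    exact congrArg (fun k => X.isoSpec.hom ≫ Spec.map k) (CommRingCat.hom_ext hcompat)
  haveI : LocallyOfFiniteType g₀ := (HasRingHomProperty.Spec_iff (P := @LocallyOfFiniteType)).mpr
    (RingHom.finiteType_algebraMap.mpr inferInstance)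
  haveI : LocallyOfFiniteType (f₀ ≫ g₀) := hθ ▸ (HasRingHomProperty.Spec_iff (P := @LocallyOfFiniteType)).mpr
    (RingHom.finiteType_algebraMap.mpr inferInstance)
  exact ⟨_, _, _, f₀, g₀, a, aY, aX, hY, IsPullback.of_bot hXS hsq hY,
    hθ ▸ (HasRingHomProperty.Spec_iff (P := @Flat)).mpr (RingHom.flat_algebraMap_iff.mpr inferInstance),
    locallyOfFiniteType_of_comp f₀ g₀, inferInstance, inferInstance⟩

open H13Flat in
/-- A flat pair `R → A → B` of finite presentation comes from a Noetherian one by base change. -/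
theorem exists_flat_model {X Y S : Scheme.{u}} [IsAffine X] [IsAffine Y] [IsAffine S]
    (f : X ⟶ Y) (g : Y ⟶ S) [LocallyOfFinitePresentation g] [LocallyOfFinitePresentation (f ≫ g)]
    [Flat (f ≫ g)] :
    ∃ (X₀ Y₀ S₀ : Scheme.{u}) (f₀ : X₀ ⟶ Y₀) (g₀ : Y₀ ⟶ S₀) (a : S ⟶ S₀) (aY : Y ⟶ Y₀) (aX : X ⟶ X₀),
      IsPullback aY g g₀ a ∧ IsPullback aX f f₀ aY ∧ Flat (f₀ ≫ g₀) ∧ LocallyOfFiniteType f₀ ∧
        LocallyOfFiniteType g₀ ∧ IsLocallyNoetherian S₀ := by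
  classical
  letI := g.appTop.hom.toAlgebra
  letI := f.appTop.hom.toAlgebra
  letI : Algebra Γ(S, ⊤) Γ(X, ⊤) := (f ≫ g).appTop.hom.toAlgebra
  haveI : IsScalarTower Γ(S, ⊤) Γ(Y, ⊤) Γ(X, ⊤) :=
    IsScalarTower.of_algebraMap_eq' (congrArg CommRingCat.Hom.hom (Scheme.Hom.comp_appTop f g))
  haveI : Algebra.FinitePresentation Γ(S, ⊤) Γ(Y, ⊤) :=
    (HasRingHomProperty.iff_of_isAffine (P := @LocallyOfFinitePresentation) (f := g)).mp ‹_›
  haveI : Algebra.FinitePresentation Γ(S, ⊤) Γ(X, ⊤) :=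
    (HasRingHomProperty.iff_of_isAffine (P := @LocallyOfFinitePresentation) (f := f ≫ g)).mp ‹_›
  haveI : Module.Flat Γ(S, ⊤) Γ(X, ⊤) :=
    (HasRingHomProperty.iff_of_isAffine (P := @Flat) (f := f ≫ g)).mp ‹_›
  obtain ⟨m, φA, hφA, ⟨GA, hGA⟩⟩ := Algebra.FinitePresentation.out (R := Γ(S, ⊤)) (A := Γ(Y, ⊤))
  obtain ⟨k, ψ, hψ, -⟩ := Algebra.FinitePresentation.out (R := Γ(S, ⊤)) (A := Γ(X, ⊤))
  let φB : MvPolynomial (Fin (m + k)) Γ(S, ⊤) →ₐ[Γ(S, ⊤)] Γ(X, ⊤) := MvPolynomial.aeval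
    (Fin.append (fun i => algebraMap Γ(Y, ⊤) Γ(X, ⊤) (φA (MvPolynomial.X i)))
      fun j => ψ (MvPolynomial.X j))
  have hA : φB.comp (MvPolynomial.rename (Fin.castAdd k)) =
      (IsScalarTower.toAlgHom Γ(S, ⊤) Γ(Y, ⊤) Γ(X, ⊤)).comp φA := by
    refine MvPolynomial.algHom_ext fun i => ?_
    simp [φB]
  have hB : φB.comp (MvPolynomial.rename (Fin.natAdd m)) = ψ := by
    refine MvPolynomial.algHom_ext fun i => ?_
    simp [φB]
  have hφB : Function.Surjective φB := fun b => by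
    obtain ⟨p, rfl⟩ := hψ b
    exact ⟨_, congrFun (congrArg DFunLike.coe hB) p⟩
  obtain ⟨GB, hGB⟩ := Algebra.FinitePresentation.ker_fG_of_surjective φB hφB
  let G : Finset (MvPolynomial (Fin (m + k)) Γ(S, ⊤)) :=
    GB ∪ GA.image (MvPolynomial.rename (Fin.castAdd k))
  have hG : RingHom.ker φB.toRingHom = Ideal.span (G : Set (MvPolynomial (Fin (m + k)) Γ(S, ⊤))) := by
    rw [Finset.coe_union, Ideal.span_union, hGB, eq_comm, sup_eq_left, Ideal.span_le]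
    intro p hp
    obtain ⟨q, hq, rfl⟩ := Finset.mem_image.mp hp
    have h0 : φA q = 0 := (hGA.le (Ideal.subset_span hq) : q ∈ RingHom.ker φA)
    show φB (MvPolynomial.rename _ q) = 0
    rw [show φB (MvPolynomial.rename _ q) = algebraMap Γ(Y, ⊤) Γ(X, ⊤) (φA q) from
      congrFun (congrArg DFunLike.coe hA) q, h0, map_zero]
  let C := GA.biUnion MvPolynomial.coeffs ∪ G.biUnion MvPolynomial.coeffs
  let R₁ := Algebra.adjoin ℤ (C : Set Γ(S, ⊤))
  have hin : ∀ {d : ℕ} (p : MvPolynomial (Fin d) Γ(S, ⊤)), p.coeffs ⊆ C →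
      ∀ R' : Subalgebra ℤ Γ(S, ⊤), R₁ ≤ R' → p ∈ Set.range (incl R') := fun p hp R' hR' =>
    MvPolynomial.mem_range_map_iff_coeffs_subset.2 fun a ha =>
      ⟨⟨a, hR' (Algebra.subset_adjoin (Finset.mem_coe.2 (hp ha)))⟩, rfl⟩
  have hGR : ∀ R' : Subalgebra ℤ Γ(S, ⊤), R₁ ≤ R' →
      (G : Set (MvPolynomial (Fin (m + k)) Γ(S, ⊤))) ⊆ Set.range (incl R') := fun R' hR' p hp =>
    hin p (fun a ha => Finset.mem_union_right _ (Finset.mem_biUnion.2 ⟨p, hp, ha⟩)) R' hR'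
  have hGAR : ∀ R' : Subalgebra ℤ Γ(S, ⊤), R₁ ≤ R' →
      (GA : Set (MvPolynomial (Fin m) Γ(S, ⊤))) ⊆ Set.range (incl R') := fun R' hR' p hp =>
    hin p (fun a ha => Finset.mem_union_left _ (Finset.mem_biUnion.2 ⟨p, hp, ha⟩)) R' hR'
  have hflat : Module.Flat Γ(S, ⊤)
      (MvPolynomial (Fin (m + k)) Γ(S, ⊤) ⧸ Ideal.span (G : Set (MvPolynomial (Fin (m + k)) Γ(S, ⊤)))) :=
    Module.Flat.of_linearEquiv
      ((Ideal.quotientEquivAlgOfEq Γ(S, ⊤) hG.symm).trans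
        (Ideal.quotientKerAlgEquivOfSurjective hφB)).toLinearEquiv
  obtain ⟨R₀, hle, hR₀, H⟩ := exists_stage_inf_le (Subalgebra.fg_adjoin_finset C) (hGR R₁ le_rfl)
    ((flat_quotient_iff _).1 hflat)
  let NA := stageIdeal (GA : Set (MvPolynomial (Fin m) Γ(S, ⊤))) R₀
  let NB := stageIdeal (G : Set (MvPolynomial (Fin (m + k)) Γ(S, ⊤))) R₀
  let A₀ := MvPolynomial (Fin m) R₀ ⧸ NA
  let B₀ := MvPolynomial (Fin (m + k)) R₀ ⧸ NB
  haveI : Module.Flat R₀ B₀ := (flat_quotient_iff NB).2 (H R₀ le_rfl hR₀)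
  haveI : IsNoetherianRing R₀ := isNoetherianRing_stage hR₀
  have hren : ∀ p : MvPolynomial (Fin m) R₀,
      incl R₀ (MvPolynomial.rename (Fin.castAdd k) p) = MvPolynomial.rename (Fin.castAdd k) (incl R₀ p) :=
    fun p => MvPolynomial.map_rename _ _ _
  let θ : A₀ →ₐ[R₀] B₀ := Ideal.Quotient.liftₐ NA
    ((Ideal.Quotient.mkₐ R₀ NB).comp (MvPolynomial.rename (Fin.castAdd k))) fun p hp => by
      refine (Ideal.span_le (I := RingHom.ker (((Ideal.Quotient.mkₐ R₀ NB).comp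
        (MvPolynomial.rename (Fin.castAdd k))).toRingHom))).mpr ?_ hp
      intro q hq
      refine Ideal.Quotient.eq_zero_iff_mem.mpr (Ideal.subset_span ?_)
      show incl R₀ (MvPolynomial.rename (Fin.castAdd k) q) ∈ (G : Set _)
      rw [hren]
      exact Finset.mem_coe.2 (Finset.mem_union_right _ (Finset.mem_image.2 ⟨_, hq, rfl⟩))
  let uA : A₀ →+* Γ(Y, ⊤) := Ideal.Quotient.lift NA (φA.toRingHom.comp (incl R₀)) fun p hp => by
    refine (Ideal.span_le (I := RingHom.ker (φA.toRingHom.comp (incl R₀)))).mpr ?_ hp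
    intro q hq
    exact hGA.le (Ideal.subset_span hq)
  let uB : B₀ →+* Γ(X, ⊤) := Ideal.Quotient.lift NB (φB.toRingHom.comp (incl R₀)) fun p hp => by
    refine (Ideal.span_le (I := RingHom.ker (φB.toRingHom.comp (incl R₀)))).mpr ?_ hp
    intro q hq
    exact hG.ge (Ideal.subset_span hq)
  letI : Algebra A₀ Γ(Y, ⊤) := uA.toAlgebra
  letI : Algebra B₀ Γ(X, ⊤) := uB.toAlgebra
  haveI : IsScalarTower R₀ A₀ Γ(Y, ⊤) := IsScalarTower.of_algebraMap_eq (R := R₀) (S := A₀) (A := Γ(Y, ⊤)) fun r => by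
    show algebraMap Γ(S, ⊤) Γ(Y, ⊤) (r : Γ(S, ⊤)) = φA (incl R₀ (MvPolynomial.C r))
    rw [show incl R₀ (MvPolynomial.C r) = MvPolynomial.C (r : Γ(S, ⊤)) from MvPolynomial.map_C _ r]
    exact (φA.commutes _).symm
  haveI : IsScalarTower R₀ B₀ Γ(X, ⊤) := IsScalarTower.of_algebraMap_eq (R := R₀) (S := B₀) (A := Γ(X, ⊤)) fun r => by
    show algebraMap Γ(S, ⊤) Γ(X, ⊤) (r : Γ(S, ⊤)) = φB (incl R₀ (MvPolynomial.C r))
    rw [show incl R₀ (MvPolynomial.C r) = MvPolynomial.C (r : Γ(S, ⊤)) from MvPolynomial.map_C _ r]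
    exact (φB.commutes _).symm
  have hN : ∀ {d : ℕ} (H : Set (MvPolynomial (Fin d) Γ(S, ⊤))), H ⊆ Set.range (incl R₀) →
      Ideal.span H ≤ (stageIdeal H R₀).map (incl R₀) := fun H hH => by
    rw [Ideal.span_le]
    intro p hp
    obtain ⟨q, rfl⟩ := hH hp
    exact Ideal.mem_map_of_mem _ (Ideal.subset_span hp)
  haveI : Algebra.IsPushout R₀ Γ(S, ⊤) A₀ Γ(Y, ⊤) :=
    isPushout_model φA hφA NA (hGA.ge.trans (hN _ (hGAR R₀ hle))) fun _ => rfl
  haveI : Algebra.IsPushout R₀ Γ(S, ⊤) B₀ Γ(X, ⊤) :=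
    isPushout_model φB hφB NB (hG.le.trans (hN _ (hGR R₀ hle))) fun _ => rfl
  have hcompat : uB.comp θ.toRingHom = (algebraMap Γ(Y, ⊤) Γ(X, ⊤)).comp uA := by
    refine Ideal.Quotient.ringHom_ext (RingHom.ext fun p => ?_)
    show φB (incl R₀ (MvPolynomial.rename (Fin.castAdd k) p)) =
      algebraMap Γ(Y, ⊤) Γ(X, ⊤) (φA (incl R₀ p))
    rw [hren]
    exact congrFun (congrArg DFunLike.coe hA) _
  haveI : Algebra.FinitePresentation R₀ A₀ :=
    Algebra.FinitePresentation.quotient (IsNoetherian.noetherian NA)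
  haveI : Algebra.FinitePresentation R₀ B₀ :=
    Algebra.FinitePresentation.quotient (IsNoetherian.noetherian NB)
  exact model_squares f g R₀ A₀ B₀ θ hcompat

/-- The fibrewise criterion of flatness at a point. -/
theorem flat_stalkMap_of_fiberMap {X Y S : Scheme.{u}} (f : X ⟶ Y) (g : Y ⟶ S)
    [LocallyOfFinitePresentation g] [LocallyOfFinitePresentation (f ≫ g)] [Flat (f ≫ g)]
    (s : S) (z : (f ≫ g).fiber s) (h : ((MoreMor.fiberMap f g s).stalkMap z).hom.Flat) :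
    (f.stalkMap ((f ≫ g).fiberι s z)).hom.Flat ∧
      (g.stalkMap (f ((f ≫ g).fiberι s z))).hom.Flat := by
  have hs : g (f ((f ≫ g).fiberι s z)) = s := ((f ≫ g).range_fiberι s).subset (Set.mem_range_self z)
  set x := (f ≫ g).fiberι s z with hx
  obtain ⟨U, hU, hsU, -⟩ := exists_affine_nhd s ⊤ trivial
  obtain ⟨V, hV, hxV, hVU⟩ := exists_affine_nhd (f x) (g ⁻¹ᵁ U)
    (show g (f x) ∈ U by rw [hs]; exact hsU)
  obtain ⟨W, hW, hxW, hWV⟩ := exists_affine_nhd x (f ⁻¹ᵁ V) hxV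
  haveI : IsAffine W.toScheme := hW
  haveI : IsAffine V.toScheme := hV
  haveI : IsAffine U.toScheme := hU
  let f' := f.resLE V W hWV
  let g' := g.resLE U V hVU
  have hf' : W.ι ≫ f = f' ≫ V.ι := (Scheme.Hom.resLE_comp_ι f hWV).symm
  have hg' : V.ι ≫ g = g' ≫ U.ι := (Scheme.Hom.resLE_comp_ι g hVU).symm
  have hfg : (f' ≫ g') ≫ U.ι = W.ι ≫ f ≫ g := by rw [Category.assoc, ← hg', ← reassoc_of% hf']
  have hle : W ≤ (f ≫ g) ⁻¹ᵁ U := fun y hy => hVU (hWV hy)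
  have hres : f' ≫ g' = (f ≫ g).resLE U W hle := by
    rw [← cancel_mono U.ι, hfg, Scheme.Hom.resLE_comp_ι]
  haveI : LocallyOfFinitePresentation g' := inferInstance
  haveI : LocallyOfFinitePresentation (f' ≫ g') := hres ▸ inferInstance
  haveI : Flat (f' ≫ g') := hres ▸ inferInstance
  let x' : W.toScheme := ⟨x, hxW⟩
  let s' : U.toScheme := (f' ≫ g') x'
  have hs' : U.ι s' = s := by
    show U.ι ((f' ≫ g') x') = s
    rw [← Scheme.Hom.comp_apply, hfg, Scheme.Hom.comp_apply]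
    exact hs
  let z' : (f' ≫ g').fiber s' := (f' ≫ g').asFiber x'
  have hz' : (f' ≫ g').fiberι s' z' = x' := (f' ≫ g').fiberι_asFiber x'
  have h' : ((MoreMor.fiberMap f' g' s').stalkMap z').hom.Flat := by
    refine flat_fiberMap_of_openImmersion f g f' g' U.ι V.ι W.ι hg' hf' s' z' ?_
    rw [hz']
    have key : ∀ t : S, t = s → ∀ w : (f ≫ g).fiber t, (f ≫ g).fiberι t w = x →
        ((MoreMor.fiberMap f g t).stalkMap w).hom.Flat := by
      rintro t rfl w hw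
      obtain rfl : w = z := ((f ≫ g).fiberι _).isEmbedding.injective hw
      exact h
    exact key _ hs'
  obtain ⟨X₀, Y₀, S₀, f₀, g₀, a, aY, aX, hY, hX, hflat, hlf, hlg, hN⟩ := exists_flat_model f' g'
  obtain ⟨z₀, hz₀, h₀⟩ := flat_fiberMap_descend hY hX s' z' h'
  obtain ⟨hfl₀, hgl₀⟩ := flat_stalkMap_of_fiberMap_of_noetherian f₀ g₀ (a s') z₀ (Flat.stalkMap _ _) h₀
  rw [hz₀, hz'] at hfl₀ hgl₀
  have hfl := flat_stalkMap_baseChange hX x' hfl₀
  have hgl : (g'.stalkMap (f' x')).hom.Flat := by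
    refine flat_stalkMap_baseChange hY (f' x') ?_
    have e : aY (f' x') = f₀ (aX x') := by
      rw [← Scheme.Hom.comp_apply, ← hX.w, Scheme.Hom.comp_apply]
    exact e.symm ▸ hgl₀
  constructor
  · have h1 : ((W.ι ≫ f).stalkMap x').hom.Flat :=
      flat_stalkMap_congr hf'.symm x' ((S4656.result f' V.ι x' hfl).mpr (Flat.stalkMap _ _))
    exact (S4656.result W.ι f x' (Flat.stalkMap _ _)).mp h1
  · have h1 : ((V.ι ≫ g).stalkMap (f' x')).hom.Flat :=
      flat_stalkMap_congr hg'.symm _ ((S4656.result g' U.ι (f' x') hgl).mpr (Flat.stalkMap _ _))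
    have h2 := (S4656.result V.ι g (f' x') (Flat.stalkMap _ _)).mp h1
    have e : V.ι (f' x') = f x := by rw [← Scheme.Hom.comp_apply, ← hf']; rfl
    rwa [e] at h2

end Groth.Agent.H8Props.FibreCriterion
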