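import Groth.Agent.S6940
import Groth.Agent.S12898
import Groth.Agent.H8Props.RelPCRing
import Groth.Agent.H16Derived.QCohD.Lpull
import Groth.Agent.H16Derived.QCohD.RpushUnb

/-!
# Derived direct image of quasi-coherent complexes along morphisms of affine schemes
-/

set_option autoImplicit false
set_option linter.style.haveILetI false
set_option backward.isDefEq.respectTransparency false

universe u

open CategoryTheory CategoryTheory.Limits AlgebraicGeometry Pretriangulated

attribute [local instance] HasDerivedCategory.standard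

namespace Groth.Agent.H8Props.RpushAffine

open H16Derived.KFlat.Stalk PushPC

/-- Two right adjoints, compared through fully faithful functors. -/
theorem nonempty_iso_of_adjoints {C D C' D' : Type*} [Category C] [Category D] [Category C']
    [Category D'] {L : C ⥤ D} {R : D ⥤ C} {L' : C' ⥤ D'} {R' : D' ⥤ C'} (a : L ⊣ R) (a' : L' ⊣ R')
    (F : C ⥤ C') (G : D ⥤ D') [F.Full] [F.Faithful] [G.Full] [G.Faithful]
    (σ : L ⋙ G ≅ F ⋙ L') (M : D) (N : C) (e : R'.obj (G.obj M) ≅ F.obj N) :
    Nonempty (N ≅ R.obj M) := by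
  let T : ∀ P : C, (P ⟶ N) ≃ (P ⟶ R.obj M) := fun P =>
    ((Functor.FullyFaithful.ofFullyFaithful F).homEquiv.trans <|
      (Iso.homCongr (Iso.refl (F.obj P)) e.symm).trans <|
      (a'.homEquiv (F.obj P) (G.obj M)).symm.trans <|
      (Iso.homCongr (σ.app P).symm (Iso.refl (G.obj M))).trans <|
      (Functor.FullyFaithful.ofFullyFaithful G).homEquiv.symm.trans (a.homEquiv P M))
  refine ⟨Yoneda.ext _ _ (fun {P} u => T P u) (fun {P} v => (T P).symm v) (fun u => (T _).symm_apply_apply u)
    (fun v => (T _).apply_symm_apply v) (fun {P P'} g u => ?_)⟩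
  let G' := Functor.FullyFaithful.ofFullyFaithful G
  let w : ∀ (P : C), (P ⟶ N) → (G.obj (L.obj P) ⟶ G.obj M) := fun P u =>
    σ.hom.app P ≫ (a'.homEquiv (F.obj P) (G.obj M)).symm (F.map u ≫ e.inv)
  have hT : ∀ (P : C) (u : P ⟶ N), T P u = a.homEquiv P M (G'.preimage (w P u)) := fun P u => by
    refine congrArg (fun t => a.homEquiv P M (G'.preimage t)) ?_
    show σ.hom.app P ≫ (a'.homEquiv (F.obj P) (G.obj M)).symm (𝟙 _ ≫ F.map u ≫ e.inv) ≫ 𝟙 _ = _
    rw [Category.id_comp, Category.comp_id]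
  have hw : w P' (g ≫ u) = G.map (L.map g) ≫ w P u := by
    show σ.hom.app P' ≫ (a'.homEquiv (F.obj P') (G.obj M)).symm (F.map (g ≫ u) ≫ e.inv) = _
    rw [Functor.map_comp, Category.assoc, a'.homEquiv_naturality_left_symm]
    exact (σ.hom.naturality_assoc g _).symm
  rw [hT, hT, ← a.homEquiv_naturality_left]
  refine congrArg (a.homEquiv P' M) (G'.map_injective ?_)
  rw [Functor.FullyFaithful.map_preimage, Functor.map_comp, Functor.FullyFaithful.map_preimage]
  exact hw

variable {A B : Type u} [CommRing A] [CommRing B] (φ : A →+* B)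

/-- Derived direct image of `M~` is the `~` of the restriction of scalars. -/
theorem nonempty_rpush_tilde [PreservesFiniteLimits (tilde.functor (CommRingCat.of A))]
    [PreservesFiniteLimits (tilde.functor (CommRingCat.of B))]
    [DCoh.HasRpush (Spec.map (CommRingCat.ofHom φ))] (M : Dual.D B) :
    Nonempty ((DCoh.Rpush (Spec.map (CommRingCat.ofHom φ))).obj
        ((DCoh.tildeD (CommRingCat.of B)).obj M) ≅
      (DCoh.tildeD (CommRingCat.of A)).obj ((DRing.restrictD φ).obj M)) := by
  haveI := hasLpull (Spec.map (CommRingCat.ofHom φ))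
  haveI := H4DR.TorAmp.hasLBaseChange φ
  haveI := (H16Derived.QCohD.full_faithful (CommRingCat.of A)).1
  haveI := (H16Derived.QCohD.full_faithful (CommRingCat.of A)).2
  haveI := (H16Derived.QCohD.full_faithful (CommRingCat.of B)).1
  haveI := (H16Derived.QCohD.full_faithful (CommRingCat.of B)).2
  obtain ⟨N, ⟨e⟩⟩ := H16Derived.QCohD.exists_tildeD_iso (R := CommRingCat.of A)
    (H16Derived.QCohD.isQCohD_rpush (Spec.map (CommRingCat.ofHom φ))
      (H16Derived.QCohD.isQCohD_tildeD (CommRingCat.of B) M))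
  obtain ⟨a⟩ := S12898.result φ
  obtain ⟨i⟩ := nonempty_iso_of_adjoints a (lpullRpushAdj (Spec.map (CommRingCat.ofHom φ)))
    (DCoh.tildeD (CommRingCat.of A)) (DCoh.tildeD (CommRingCat.of B))
    (H16Derived.QCohD.lpullTildeIso φ) M N e.symm
  exact ⟨e.symm ≪≫ (DCoh.tildeD (CommRingCat.of A)).mapIso i⟩

/-- `M~` in degree zero. -/
noncomputable def inDTildeIso [PreservesFiniteLimits (tilde.functor (CommRingCat.of A))]
    (N : ModuleCat.{u} A) :
    (DCoh.tildeD (CommRingCat.of A)).obj ((DerivedCategory.singleFunctor (ModuleCat.{u} A) 0).obj N) ≅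
      DCoh.inD _ ((tilde.functor (CommRingCat.of A)).obj N) :=
  ((tilde.functor (CommRingCat.of A)).mapDerivedCategorySingleFunctor 0).app N

/-- The direct image of the structure sheaf is the `~` of the module `B`. -/
noncomputable def pushUnitTildeIso [PreservesFiniteLimits (tilde.functor (CommRingCat.of A))]
    [Algebra A B] :
    DCoh.inD _ ((Scheme.Modules.pushforward (Spec.map (CommRingCat.ofHom (algebraMap A B)))).obj
        (Coh.structureModule (Spec (CommRingCat.of B)))) ≅
      (DCoh.tildeD (CommRingCat.of A)).obj (Dual.inD A B) :=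
  let g := Spec.map (CommRingCat.ofHom (algebraMap A B))
  let M := (Scheme.Modules.pushforward g).obj (Coh.structureModule (Spec (CommRingCat.of B)))
  haveI : (Coh.structureModule (Spec (CommRingCat.of B))).IsQuasicoherent :=
    H10Coh.isQuasicoherent_unit
  haveI : M.IsQuasicoherent := H10Coh.isQuasicoherent_pushforward_of_isAffineHom g _
  let N : ModuleCat.{u} A := (moduleSpecΓFunctor (R := CommRingCat.of A)).obj M
  let e : ModuleCat.of A B ≅ N := (LinearEquiv.toModuleIso
    ({ toFun := fun b => (Scheme.ΓSpecIso (CommRingCat.of B)).inv b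
       map_add' := fun a b => map_add _ a b
       map_smul' := fun a b => by
        show (Scheme.ΓSpecIso (CommRingCat.of B)).inv (a • b) = _
        rw [Algebra.smul_def, map_mul]
        refine Eq.trans ?_ (Scheme.Modules.smul_Spec_def (M := M) (U := ⊤) a _).symm
        have e := congr($(Scheme.ΓSpecIso_inv_naturality (CommRingCat.ofHom (algebraMap A B))) a)
        rw [Subsingleton.elim ((⊤ : (Spec (CommRingCat.of A)).Opens).leTop.op) (𝟙 _),
          CategoryTheory.Functor.map_id]
        refine Eq.trans ?_ (rfl : _ = (g.appTop.hom ((Scheme.ΓSpecIso (CommRingCat.of A)).inv a)) *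
          ((Scheme.ΓSpecIso (CommRingCat.of B)).inv b : Γ(Spec (CommRingCat.of B), ⊤))).symm
        exact congrArg (· * _) e
       invFun := fun x => (Scheme.ΓSpecIso (CommRingCat.of B)).hom x
       left_inv := fun b => congr($((Scheme.ΓSpecIso (CommRingCat.of B)).inv_hom_id) b)
       right_inv := fun x => congr($((Scheme.ΓSpecIso (CommRingCat.of B)).hom_inv_id) x) } : B ≃ₗ[A] N))
  (DerivedCategory.singleFunctor _ 0).mapIso (H10Coh.tildeIso (R := CommRingCat.of A) M).symm ≪≫
    (DerivedCategory.singleFunctor _ 0).mapIso ((tilde.functor (CommRingCat.of A)).mapIso e.symm) ≪≫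
    (inDTildeIso (ModuleCat.of A B)).symm

/-- A pseudo-coherent direct image of the structure sheaf gives a pseudo-coherent module. -/
theorem isPseudoCoherentModule'_of_push [PreservesFiniteLimits (tilde.functor (CommRingCat.of A))]
    [Algebra A B] (h : ∀ m : ℤ, DCoh.IsPseudoCoherentD m (DCoh.inD _
      ((Scheme.Modules.pushforward (Spec.map (CommRingCat.ofHom (algebraMap A B)))).obj
        (Coh.structureModule (Spec (CommRingCat.of B)))))) :
    DRing.IsPseudoCoherentModule' A B :=
  (H4DR.PCoh.pc'_iff).2 fun m =>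
    (pc_tilde_iff _ m).1 (isPseudoCoherentD_of_iso pushUnitTildeIso (h m))

/-- Pseudo-coherence and derived direct image along a morphism of affine schemes with pseudo-coherent
module of sections. -/
theorem pc_rpush_spec_iff [Algebra A B]
    [DCoh.HasRpush (Spec.map (CommRingCat.ofHom (algebraMap A B)))]
    (hB : DRing.IsPseudoCoherentModule' A B) (K : DCoh.D (Spec (CommRingCat.of B)))
    (hK : DCoh.IsQCohD K) (m : ℤ) :
    DCoh.IsPseudoCoherentD m K ↔
      DCoh.IsPseudoCoherentD m ((DCoh.Rpush (Spec.map (CommRingCat.ofHom (algebraMap A B)))).obj K) := by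
  obtain ⟨M, ⟨e⟩⟩ := H16Derived.QCohD.exists_tildeD_iso (R := CommRingCat.of B) hK
  obtain ⟨i⟩ := nonempty_rpush_tilde (algebraMap A B) M
  have j := (DCoh.Rpush (Spec.map (CommRingCat.ofHom (algebraMap A B)))).mapIso e.symm ≪≫ i
  rw [show DCoh.IsPseudoCoherentD m K ↔ _ from
      ⟨isPseudoCoherentD_of_iso e.symm, isPseudoCoherentD_of_iso e⟩, pc_tilde_iff,
    (S6940.result hB M m).1, ← pc_tilde_iff]
  exact ⟨isPseudoCoherentD_of_iso j.symm, isPseudoCoherentD_of_iso j⟩

section Affine

variable {X Y : Scheme.{u}}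

/-- `Ri_* = i_*` for a closed immersion. -/
theorem nonempty_rpush_closed (i : X ⟶ Y) [IsClosedImmersion i] [DCoh.HasRpush i] (K : DCoh.D X) :
    Nonempty ((DCoh.Rpush i).obj K ≅ (pushD i).obj K) := by
  haveI := H16Derived.KFlat.Stalk.isGrothendieckAbelian_modules (X := X)
  obtain ⟨N, j, hN⟩ := H16Derived.KInjRes.exists_resolution_functor (A := X.Modules)
  haveI := (hN (DerivedCategory.Q.objPreimage K)).2.1
  haveI := (hN (DerivedCategory.Q.objPreimage K)).2.2.1
  exact ⟨(DCoh.Rpush i).mapIso (DerivedCategory.Q.objObjPreimageIso K).symm ≪≫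
    H16Derived.ProjFormula.rpushObjIsoOfClosed i (j.app (DerivedCategory.Q.objPreimage K)) ≪≫
    (pushDQ i _).symm ≪≫ (pushD i).mapIso (DerivedCategory.Q.objObjPreimageIso K)⟩

/-- Derived direct image along an isomorphism respects pseudo-coherence. -/
theorem pc_rpush_isIso_iff (a : X ⟶ Y) [IsIso a] [DCoh.HasRpush a] (K : DCoh.D X) (m : ℤ) :
    DCoh.IsPseudoCoherentD m K ↔ DCoh.IsPseudoCoherentD m ((DCoh.Rpush a).obj K) := by
  obtain ⟨e⟩ := nonempty_rpush_closed a K
  rw [pc_pushD_iff a (RelPC.pcStr_of_isIso a) K m]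
  exact ⟨isPseudoCoherentD_of_iso e.symm, isPseudoCoherentD_of_iso e⟩

/-- The direct image of the structure sheaf along an isomorphism. -/
noncomputable def pushStructureIso (b : X ⟶ Y) [IsIso b] :
    (Scheme.Modules.pushforward b).obj (Coh.structureModule X) ≅ Coh.structureModule Y :=
  (Scheme.Modules.pushforward b).mapIso (Scheme.Modules.restrictUnitIso b).symm ≪≫
    (haveI : IsIso ((Scheme.Modules.restrictAdjunction b).unit.app (Coh.structureModule Y)) := by
      refine Scheme.Modules.Hom.isIso_iff_isIso_app.2 fun U => ?_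
      rw [Scheme.Modules.restrictAdjunction_unit_app_app]
      have hU : b ''ᵁ b ⁻¹ᵁ U = U :=
        le_antisymm (b.image_preimage_le U) fun y hy =>
          ⟨(inv b) y, by
            show b ((inv b) y) ∈ U
            rwa [show b ((inv b) y) = y from congr($(IsIso.inv_hom_id b) y)],
            congr($(IsIso.inv_hom_id b) y)⟩
      rw [show (homOfLE (b.image_preimage_le U)).op = eqToHom (congrArg Opposite.op hU.symm) from
        Subsingleton.elim _ _]
      infer_instance
    (asIso ((Scheme.Modules.restrictAdjunction b).unit.app (Coh.structureModule Y))).symm)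

theorem nonempty_rpush_congr {p q : X ⟶ Y} (h : p = q) [DCoh.HasRpush p] [DCoh.HasRpush q] :
    Nonempty (DCoh.Rpush p ≅ DCoh.Rpush q) := by
  subst h
  exact ⟨Iso.refl _⟩

/-- Pseudo-coherence and derived direct image along a morphism of affine schemes with pseudo-coherent
direct image of the structure sheaf. -/
theorem pc_rpush_affine_iff [IsAffine X] [IsAffine Y] (f : X ⟶ Y) [DCoh.HasRpush f]
    (hO : ∀ m : ℤ, DCoh.IsPseudoCoherentD m
      (DCoh.inD Y ((Scheme.Modules.pushforward f).obj (Coh.structureModule X))))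
    (K : DCoh.D X) (hK : DCoh.IsQCohD K) (m : ℤ) :
    DCoh.IsPseudoCoherentD m K ↔ DCoh.IsPseudoCoherentD m ((DCoh.Rpush f).obj K) := by
  letI := f.appTop.hom.toAlgebra
  let a : Y ⟶ Spec (CommRingCat.of Γ(Y, ⊤)) := Y.isoSpec.hom
  let b : X ⟶ Spec (CommRingCat.of Γ(X, ⊤)) := X.isoSpec.hom
  let g : Spec (CommRingCat.of Γ(X, ⊤)) ⟶ Spec (CommRingCat.of Γ(Y, ⊤)) :=
    Spec.map (CommRingCat.ofHom (algebraMap Γ(Y, ⊤) Γ(X, ⊤)))
  haveI : IsIso a := inferInstanceAs (IsIso Y.isoSpec.hom)
  haveI : IsIso b := inferInstanceAs (IsIso X.isoSpec.hom)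
  have hsq : b ≫ g = f ≫ a := Scheme.isoSpec_hom_naturality f
  haveI := H16Derived.QCohD.hasRpush a
  haveI := H16Derived.QCohD.hasRpush b
  haveI := H16Derived.QCohD.hasRpush g
  haveI := H16Derived.QCohD.hasRpush (b ≫ g)
  haveI := H16Derived.QCohD.hasRpush (f ≫ a)
  have hB : DRing.IsPseudoCoherentModule' Γ(Y, ⊤) Γ(X, ⊤) := by
    refine isPseudoCoherentModule'_of_push fun k => ?_
    refine isPseudoCoherentD_of_iso ?_ ((pc_pushD_iff a (RelPC.pcStr_of_isIso a) _ k).1 (hO k))
    exact pushDInD a _ ≪≫ (DerivedCategory.singleFunctor _ 0).mapIso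
      ((Scheme.Modules.pushforwardComp f a).app _ ≪≫
        (Scheme.Modules.pushforwardCongr hsq).symm.app _ ≪≫
        ((Scheme.Modules.pushforwardComp b g).app _).symm ≪≫
        (Scheme.Modules.pushforward g).mapIso (pushStructureIso b))
  have hbK : DCoh.IsQCohD ((DCoh.Rpush b).obj K) := H16Derived.QCohD.isQCohD_rpush b hK
  rw [pc_rpush_isIso_iff b K m, pc_rpush_spec_iff hB _ hbK m,
    pc_rpush_isIso_iff a ((DCoh.Rpush f).obj K) m]
  obtain ⟨e1⟩ := nonempty_rpushCompIso b g
  obtain ⟨e2⟩ := nonempty_rpushCompIso f a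
  obtain ⟨e3⟩ := nonempty_rpush_congr hsq
  let e := (e1 ≪≫ e3 ≪≫ e2.symm).app K
  exact ⟨isPseudoCoherentD_of_iso e, isPseudoCoherentD_of_iso e.symm⟩

/-- A finite morphism with pseudo-coherent direct image of the structure sheaf. -/
theorem pc_rpush_finite_iff (f : X ⟶ Y) [IsAffineHom f] [DCoh.HasRpush f]
    (hO : ∀ m : ℤ, DCoh.IsPseudoCoherentD m
      (DCoh.inD Y ((Scheme.Modules.pushforward f).obj (Coh.structureModule X))))
    (K : DCoh.D X) (hK : DCoh.IsQCohD K) (m : ℤ) :
    DCoh.IsPseudoCoherentD m K ↔ DCoh.IsPseudoCoherentD m ((DCoh.Rpush f).obj K) := by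
  have key : ∀ W : Y.Opens, IsAffineOpen W →
      (DCoh.IsPseudoCoherentD m ((rd (f ⁻¹ᵁ W).ι).obj K) ↔
        DCoh.IsPseudoCoherentD m ((rd W.ι).obj ((DCoh.Rpush f).obj K))) := by
    intro W hW
    haveI : IsAffine W := hW
    haveI : IsAffine (f ⁻¹ᵁ W : X.Opens) := hW.preimage f
    haveI := H16Derived.QCohD.hasRpush (f ∣_ W)
    obtain ⟨e⟩ := nonempty_restrictD_rpush_iso f W
    refine (pc_rpush_affine_iff (f ∣_ W) (fun k => ?_) _ (H16Derived.QCohD.isQCohD_rd _ hK) m).trans
      ⟨isPseudoCoherentD_of_iso (e.app K).symm, isPseudoCoherentD_of_iso (e.app K)⟩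
    refine isPseudoCoherentD_of_iso ?_ (isPseudoCoherentD_rd W.ι (hO k))
    exact rdInD W.ι _ ≪≫ (DerivedCategory.singleFunctor _ 0).mapIso
      ((pushRestrictNatIso f W).app _ ≪≫
        (Scheme.Modules.pushforward (f ∣_ W)).mapIso (Scheme.Modules.restrictUnitIso (f ⁻¹ᵁ W).ι))
  constructor
  · intro h
    refine isPseudoCoherentD_of_rd fun y => ?_
    obtain ⟨W, hW, hyW, -⟩ :=
      Y.isBasis_affineOpens.exists_subset_of_mem_open (Set.mem_univ y) isOpen_univ
    obtain ⟨W, hW', rfl⟩ := hW
    exact ⟨W, hyW, (key W hW').1 (isPseudoCoherentD_rd _ h)⟩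
  · intro h
    refine isPseudoCoherentD_of_rd fun x => ?_
    obtain ⟨W, hW, hxW, -⟩ :=
      Y.isBasis_affineOpens.exists_subset_of_mem_open (Set.mem_univ (f x)) isOpen_univ
    obtain ⟨W, hW', rfl⟩ := hW
    exact ⟨f ⁻¹ᵁ W, hxW, (key W hW').2 (isPseudoCoherentD_rd _ h)⟩

end Affine

end Groth.Agent.H8Props.RpushAffine
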