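import Groth.Agent.H8Props.RelPCGen
import Groth.Agent.H8Props.RelPCLocal

/-!
# Locality of relative pseudo-coherence
-/

set_option autoImplicit false
set_option linter.style.haveILetI false
set_option backward.isDefEq.respectTransparency false

universe u

open CategoryTheory CategoryTheory.Limits AlgebraicGeometry Pretriangulated

attribute [local instance] HasDerivedCategory.standard

namespace Groth.Agent.H8Props.RelPC

open H16Derived.KFlat.Stalk PushPC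

variable {X Y : Scheme.{u}}

/-- Localising the constants. -/
theorem away_map_C {R S : Type u} [CommRing R] [CommRing S] [Algebra R S] (r : R)
    [IsLocalization.Away r S] (n : ℕ) :
    letI : Algebra (MvPolynomial (Fin n) R) (MvPolynomial (Fin n) S) := MvPolynomial.algebraMvPolynomial
    IsLocalization.Away (MvPolynomial.C r : MvPolynomial (Fin n) R) (MvPolynomial (Fin n) S) := by
  letI : Algebra (MvPolynomial (Fin n) R) (MvPolynomial (Fin n) S) := MvPolynomial.algebraMvPolynomial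
  have h := MvPolynomial.isLocalization (σ := Fin n) (Submonoid.powers r) S
  rwa [Submonoid.map_powers] at h

/-- A chart over a basic open of the base gives a chart over the base. -/
theorem exists_chart_base (f : X ⟶ Y) {U : X.Opens} (hU : IsAffineOpen U) {V : Y.Opens}
    (hV : IsAffineOpen V) (r : Γ(Y, V)) (h : U ≤ f ⁻¹ᵁ Y.basicOpen r) (h' : U ≤ f ⁻¹ᵁ V) {n : ℕ}
    (φ : MvPolynomial (Fin n) Γ(Y, Y.basicOpen r) →+* Γ(X, U))
    (hφ : DerSch.IsChart f U (Y.basicOpen r) h φ) :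
    ∃ ψ : MvPolynomial (Fin (n + 1)) Γ(Y, V) →+* Γ(X, U), DerSch.IsChart f U V h' ψ ∧
      ∀ (m : ℤ) (K : DCoh.D X),
        DerSch.ChartPC m K U V ψ ↔ DerSch.ChartPC m K U (Y.basicOpen r) φ := by
  letI : Algebra (MvPolynomial (Fin n) Γ(Y, V)) (MvPolynomial (Fin n) Γ(Y, Y.basicOpen r)) :=
    MvPolynomial.algebraMvPolynomial
  haveI := hV.isLocalization_basicOpen r
  haveI := away_map_C (S := Γ(Y, Y.basicOpen r)) r n
  obtain ⟨s, hs, hs', hsC⟩ := exists_presentation_away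
    (MvPolynomial.C r : MvPolynomial (Fin n) Γ(Y, V)) (MvPolynomial (Fin n) Γ(Y, Y.basicOpen r))
  have hψ : Function.Surjective (φ.comp s) := hφ.1.comp hs
  refine ⟨φ.comp s, ⟨hψ, ?_⟩, fun m K => ?_⟩
  · rw [RingHom.comp_assoc, hsC]
    refine RingHom.ext fun a => ?_
    show φ (algebraMap (MvPolynomial (Fin n) Γ(Y, V)) (MvPolynomial (Fin n) Γ(Y, Y.basicOpen r))
      (MvPolynomial.C a)) = _
    rw [MvPolynomial.algebraMap_def, MvPolynomial.map_C]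
    refine (congr($(hφ.2) _)).trans ?_
    exact congr($(f.map_appLE (e := h) (homOfLE (Y.basicOpen_le r)).op) a)
  · rw [← cpc_iff_chartPC hU _ hψ, ← cpc_iff_chartPC hU φ hφ.1, cpc_comp_iff hU φ hφ.1 s hs hs']

/-- The map induced on a basic open. -/
theorem exists_localized {U : X.Opens} (hU : IsAffineOpen U) {P : Type u} [CommRing P]
    (φ : P →+* Γ(X, U)) (hφ : Function.Surjective φ) (h : P) {U' : X.Opens}
    (hU' : U' = X.basicOpen (φ h)) :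
    ∃ φ' : Localization.Away h →+* Γ(X, U'), Function.Surjective φ' ∧
      φ'.comp (algebraMap P (Localization.Away h)) =
        (X.presheaf.map (homOfLE (hU' ▸ X.basicOpen_le (φ h) : U' ≤ U)).op).hom.comp φ := by
  subst hU'
  haveI := hU.isLocalization_basicOpen (φ h)
  let lam := IsLocalization.Away.map (Localization.Away h) Γ(X, X.basicOpen (φ h)) φ h
  have hlam : ∀ x, lam (algebraMap P (Localization.Away h) x) =
      algebraMap Γ(X, U) Γ(X, X.basicOpen (φ h)) (φ x) := fun x => IsLocalization.map_eq _ x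
  refine ⟨lam, fun z => ?_, RingHom.ext hlam⟩
  obtain ⟨⟨b, ⟨_, k, rfl⟩⟩, hz⟩ := IsLocalization.surj (Submonoid.powers (φ h)) z
  obtain ⟨x, rfl⟩ := hφ b
  refine ⟨IsLocalization.mk' _ x (⟨h ^ k, k, rfl⟩ : Submonoid.powers h), ?_⟩
  have hu : IsUnit (algebraMap Γ(X, U) Γ(X, X.basicOpen (φ h)) (φ h ^ k)) :=
    IsLocalization.map_units _ (⟨_, k, rfl⟩ : Submonoid.powers (φ h))
  refine hu.mul_right_cancel ?_
  rw [hz, ← map_pow φ, ← hlam, ← map_mul, IsLocalization.mk'_spec, hlam]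

/-- A chart restricts to basic opens. -/
theorem exists_chart_basicOpen (f : X ⟶ Y) {U : X.Opens} (hU : IsAffineOpen U) {V : Y.Opens}
    (h : U ≤ f ⁻¹ᵁ V) {n : ℕ} (φ : MvPolynomial (Fin n) Γ(Y, V) →+* Γ(X, U))
    (hφ : DerSch.IsChart f U V h φ) (g : Γ(X, U)) {U' : X.Opens} (hU' : U' = X.basicOpen g)
    (h' : U' ≤ f ⁻¹ᵁ V) :
    ∃ ψ : MvPolynomial (Fin (n + 1)) Γ(Y, V) →+* Γ(X, U'), DerSch.IsChart f U' V h' ψ ∧
      ∀ (m : ℤ) (K : DCoh.D X), DerSch.ChartPC m K U V φ → DerSch.ChartPC m K U' V ψ := by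
  subst hU'
  obtain ⟨p, rfl⟩ := hφ.1 g
  obtain ⟨φ', hφ', hcomp⟩ := exists_localized hU φ hφ.1 p rfl
  obtain ⟨s, hs, hs', hsC⟩ := exists_presentation_away p (Localization.Away p)
  have hψ : Function.Surjective (φ'.comp s) := hφ'.comp hs
  refine ⟨φ'.comp s, ⟨hψ, ?_⟩, fun m K hK => ?_⟩
  · rw [RingHom.comp_assoc, hsC, ← RingHom.comp_assoc, hcomp, RingHom.comp_assoc, hφ.2]
    exact congrArg CommRingCat.Hom.hom (f.appLE_map h (homOfLE (X.basicOpen_le _)).op)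
  · rw [← cpc_iff_chartPC (hU.basicOpen _) _ hψ,
      cpc_comp_iff (hU.basicOpen _) φ' hφ' s hs hs']
    exact cpc_localize p φ φ' hφ.1 hU rfl hcomp m K ((cpc_iff_chartPC hU φ hφ.1 m K).2 hK)

/-- The test can be checked on a cover by basic opens. -/
theorem chartPC_of_cover {U : X.Opens} (hU : IsAffineOpen U) {V : Y.Opens} {n : ℕ}
    (φ : MvPolynomial (Fin n) Γ(Y, V) →+* Γ(X, U)) (hφ : Function.Surjective φ) (m : ℤ) (K : DCoh.D X)
    (h : ∀ u ∈ U, ∃ g : Γ(X, U), u ∈ X.basicOpen g ∧ ∃ (k : ℕ)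
      (ψ : MvPolynomial (Fin k) Γ(Y, V) →+* Γ(X, X.basicOpen g)),
        Function.Surjective ψ ∧ (ψ.comp MvPolynomial.C) =
          (X.presheaf.map (homOfLE (X.basicOpen_le g)).op).hom.comp (φ.comp MvPolynomial.C) ∧
        DerSch.ChartPC m K (X.basicOpen g) V ψ) :
    DerSch.ChartPC m K U V φ := by
  rw [← cpc_iff_chartPC hU φ hφ]
  intro _
  refine isPseudoCoherentD_of_local fun x => ?_
  by_cases hx : x ∈ Set.range (cimm U φ)
  · obtain ⟨u, rfl⟩ := hx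
    obtain ⟨g, hu, k, ψ, hψ, hψC, hK⟩ := h u.1 u.2
    obtain ⟨p, rfl⟩ := hφ g
    obtain ⟨φ', hφ', hcomp⟩ := exists_localized hU φ hφ p rfl
    obtain ⟨s, hs, hs', hsC⟩ := exists_presentation_away p (Localization.Away p)
    have hC : ψ.comp MvPolynomial.C = (φ'.comp s).comp MvPolynomial.C := by
      rw [hψC, RingHom.comp_assoc, hsC, ← RingHom.comp_assoc, ← RingHom.comp_assoc, hcomp]
    have h1 := chartPC_congr_chart (hU.basicOpen _) ψ hψ (φ'.comp s) (hφ'.comp hs) hC m K hK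
    rw [← cpc_iff_chartPC (hU.basicOpen _) _ (hφ'.comp hs : Function.Surjective (φ'.comp s)),
      cpc_comp_iff (hU.basicOpen _) φ' hφ' s hs hs'] at h1
    refine exists_hasApprox_of_cpc p φ φ' hφ hU rfl hφ' hcomp m K h1 _ ?_
    have e : u ∈ U.toSpecΓ ⁻¹ᵁ PrimeSpectrum.basicOpen (φ p) := by
      rw [toSpecΓ_preimage]
      exact hu
    exact e
  · obtain ⟨W, hW, hK⟩ := exists_pc_of_notMem (cimm U φ) ((rd U.ι).obj K) m hx
    obtain ⟨W', hW', hA⟩ := (isPseudoCoherentD_iff _ _).1 hK ⟨x, hW⟩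
    exact ⟨_, W'.ι ≫ W.ι, inferInstance, ⟨⟨⟨x, hW⟩, hW'⟩, rfl⟩, hA.of_rd⟩

/-- A chart over an affine open gives one over a basic open containing the image. -/
theorem exists_chart_of_le_basicOpen (f : X ⟶ Y) {U : X.Opens} (hU : IsAffineOpen U) {V : Y.Opens}
    (hV : IsAffineOpen V) (r : Γ(Y, V)) {W : Y.Opens} (hW : W = Y.basicOpen r) (h : U ≤ f ⁻¹ᵁ V)
    (h' : U ≤ f ⁻¹ᵁ W) {n : ℕ} (φ : MvPolynomial (Fin n) Γ(Y, V) →+* Γ(X, U))
    (hφ : DerSch.IsChart f U V h φ) :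
    ∃ ψ : MvPolynomial (Fin n) Γ(Y, W) →+* Γ(X, U), DerSch.IsChart f U W h' ψ ∧
      ∀ (m : ℤ) (K : DCoh.D X), DerSch.ChartPC m K U V φ → DerSch.ChartPC m K U W ψ := by
  subst hW
  letI : Algebra (MvPolynomial (Fin n) Γ(Y, V)) (MvPolynomial (Fin n) Γ(Y, Y.basicOpen r)) :=
    MvPolynomial.algebraMvPolynomial
  haveI := hV.isLocalization_basicOpen r
  haveI := away_map_C (S := Γ(Y, Y.basicOpen r)) r n
  let ψ : MvPolynomial (Fin n) Γ(Y, Y.basicOpen r) →+* Γ(X, U) :=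
    MvPolynomial.eval₂Hom (f.appLE (Y.basicOpen r) U h').hom fun i => φ (MvPolynomial.X i)
  have hC : ∀ a, φ (MvPolynomial.C a) = f.appLE V U h a := fun a => congr($(hφ.2) a)
  have hres : ∀ a, f.appLE (Y.basicOpen r) U h' (Y.presheaf.map (homOfLE (Y.basicOpen_le r)).op a) =
      f.appLE V U h a := fun a => congr($(f.map_appLE (e := h') (homOfLE (Y.basicOpen_le r)).op) a)
  have hcomp : ψ.comp (algebraMap (MvPolynomial (Fin n) Γ(Y, V))
      (MvPolynomial (Fin n) Γ(Y, Y.basicOpen r))) = φ := by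
    refine MvPolynomial.ringHom_ext (fun a => ?_) fun i => ?_
    · rw [RingHom.comp_apply, MvPolynomial.algebraMap_def, MvPolynomial.map_C, hC]
      simp only [ψ, MvPolynomial.eval₂Hom_C]
      exact hres a
    · rw [RingHom.comp_apply, MvPolynomial.algebraMap_def, MvPolynomial.map_X]
      simp [ψ]
  have hψ : Function.Surjective ψ := fun z => by
    obtain ⟨y, rfl⟩ := hφ.1 z
    exact ⟨_, congr($hcomp y)⟩
  refine ⟨ψ, ⟨hψ, RingHom.ext fun a => MvPolynomial.eval₂Hom_C _ _ _⟩, fun m K hK => ?_⟩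
  have hU' : U = X.basicOpen (φ (MvPolynomial.C r)) := by
    rw [hC, Scheme.basicOpen_appLE]
    exact (inf_eq_left.2 h').symm
  rw [← cpc_iff_chartPC hU ψ hψ]
  refine cpc_localize (MvPolynomial.C r) φ ψ hφ.1 hU hU' ?_ m K ((cpc_iff_chartPC hU φ hφ.1 m K).2 hK)
  rw [hcomp, Subsingleton.elim (homOfLE _).op (𝟙 (Opposite.op U)), CategoryTheory.Functor.map_id]
  rfl

/-- A chart of a finite type map between affine opens. -/
theorem exists_isChart (f : X ⟶ Y) (U : X.Opens) (V : Y.Opens) (h : U ≤ f ⁻¹ᵁ V)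
    (hft : (f.appLE V U h).hom.FiniteType) :
    ∃ (n : ℕ) (φ : MvPolynomial (Fin n) Γ(Y, V) →+* Γ(X, U)), DerSch.IsChart f U V h φ := by
  letI := (f.appLE V U h).hom.toAlgebra
  obtain ⟨n, φ, hφ⟩ := Algebra.FiniteType.iff_quotient_mvPolynomial''.mp
    (show Algebra.FiniteType Γ(Y, V) Γ(X, U) from hft)
  exact ⟨n, φ.toRingHom, hφ, RingHom.ext fun a => φ.commutes a⟩

/-- Every point has a chart over every affine open with the test. -/
theorem exists_chart_near {f : X ⟶ Y} {m : ℤ} {K : DCoh.D X} (hK : DerSch.IsPseudoCoherentRel f m K)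
    {U : X.Opens} (hU : IsAffineOpen U) {V : Y.Opens} (hV : IsAffineOpen V) (h : U ≤ f ⁻¹ᵁ V)
    (u : X) (hu : u ∈ U) :
    ∃ g : Γ(X, U), u ∈ X.basicOpen g ∧ ∃ (k : ℕ) (ψ : MvPolynomial (Fin k) Γ(Y, V) →+* Γ(X, X.basicOpen g)),
      DerSch.IsChart f (X.basicOpen g) V ((X.basicOpen_le g).trans h) ψ ∧
        DerSch.ChartPC m K (X.basicOpen g) V ψ := by
  obtain ⟨-, 𝒱, h𝒱, hV'⟩ := hK
  obtain ⟨V₀, hV₀, huV⟩ : ∃ V₀ ∈ 𝒱, f u ∈ (V₀ : Y.Opens) := by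
    simpa using h𝒱.ge (TopologicalSpace.Opens.mem_top (f u))
  obtain ⟨𝒰, h𝒰, hU'⟩ := hV' V₀ hV₀
  obtain ⟨U₀, hU₀, huU⟩ : ∃ U₀ ∈ 𝒰, u ∈ (U₀ : X.Opens) := by
    simpa using h𝒰.ge (show u ∈ f ⁻¹ᵁ (V₀ : Y.Opens) from huV)
  obtain ⟨n, φ, hφ, hc⟩ := hU' U₀ hU₀ (h𝒰 ▸ le_iSup₂_of_le U₀ hU₀ le_rfl)
  obtain ⟨r, r₀, hr, hur⟩ := exists_basicOpen_le_affine_inter hV V₀.2 (f u) ⟨h hu, huV⟩
  obtain ⟨g₁, hg₁, hug₁⟩ := hU.exists_basicOpen_le
    (V := (U₀ : X.Opens) ⊓ f ⁻¹ᵁ Y.basicOpen r) ⟨u, huU, hur⟩ hu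
  obtain ⟨g₂, g₀, hg, hug₂⟩ := exists_basicOpen_le_affine_inter (hU.basicOpen g₁) U₀.2 u ⟨hug₁, huU⟩
  obtain ⟨g, hgg⟩ := IsAffineOpen.basicOpen_basicOpen_is_basicOpen hU g₁ g₂
  have hD : X.basicOpen g = X.basicOpen g₀ := hgg.trans hg
  have hleW : X.basicOpen g ≤ f ⁻¹ᵁ Y.basicOpen r :=
    hgg ▸ ((X.basicOpen_le g₂).trans (hg₁.trans inf_le_right))
  have hle₀ : X.basicOpen g ≤ f ⁻¹ᵁ (V₀ : Y.Opens) :=
    (hD ▸ X.basicOpen_le g₀).trans (h𝒰 ▸ le_iSup₂_of_le U₀ hU₀ le_rfl)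
  obtain ⟨ψ₁, hψ₁, h₁⟩ := exists_chart_basicOpen f U₀.2 _ φ hφ g₀ hD hle₀
  obtain ⟨ψ₂, hψ₂, h₂⟩ := exists_chart_of_le_basicOpen f (hU.basicOpen g) V₀.2 r₀ hr hle₀ hleW ψ₁ hψ₁
  obtain ⟨ψ₃, hψ₃, h₃⟩ := exists_chart_base f (hU.basicOpen g) hV r hleW
    ((X.basicOpen_le g).trans h) ψ₂ hψ₂
  exact ⟨g, hgg.symm ▸ hug₂, _, ψ₃, hψ₃, (h₃ m K).2 (h₂ m K (h₁ m K hc))⟩

/-- The test on every pair of affine opens and every chart. -/
theorem chartPC_of_rel {f : X ⟶ Y} {m : ℤ} {K : DCoh.D X} (hK : DerSch.IsPseudoCoherentRel f m K)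
    {U : X.Opens} (hU : IsAffineOpen U) {V : Y.Opens} (hV : IsAffineOpen V) (h : U ≤ f ⁻¹ᵁ V)
    {n : ℕ} (φ : MvPolynomial (Fin n) Γ(Y, V) →+* Γ(X, U)) (hφ : DerSch.IsChart f U V h φ) :
    DerSch.ChartPC m K U V φ := by
  refine chartPC_of_cover hU φ hφ.1 m K fun u hu => ?_
  obtain ⟨g, hug, k, ψ, hψ, hc⟩ := exists_chart_near hK hU hV h u hu
  refine ⟨g, hug, k, ψ, hψ.1, ?_, hc⟩
  rw [hψ.2, hφ.2]
  exact (congrArg CommRingCat.Hom.hom (f.appLE_map h (homOfLE (X.basicOpen_le g)).op)).symm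

/-- Relative pseudo-coherence tested on all pairs of affine opens. -/
theorem rel_iff_forall (f : X ⟶ Y) [LocallyOfFiniteType f] (m : ℤ) (K : DCoh.D X) :
    DerSch.IsPseudoCoherentRel f m K ↔
      ∀ (U : X.affineOpens) (V : Y.affineOpens) (h : (U : X.Opens) ≤ f ⁻¹ᵁ (V : Y.Opens)),
        ∃ (n : ℕ) (φ : MvPolynomial (Fin n) Γ(Y, (V : Y.Opens)) →+* Γ(X, (U : X.Opens))),
          DerSch.IsChart f (U : X.Opens) (V : Y.Opens) h φ ∧
            DerSch.ChartPC m K (U : X.Opens) (V : Y.Opens) φ := by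
  constructor
  · intro hK U V h
    obtain ⟨n, φ, hφ⟩ := exists_isChart f _ _ h (f.finiteType_appLE V.2 U.2 h)
    exact ⟨n, φ, hφ, chartPC_of_rel hK U.2 V.2 h φ hφ⟩
  · intro hK
    refine ⟨inferInstance, Set.univ, ?_, fun V _ =>
      ⟨{U | (U : X.Opens) ≤ f ⁻¹ᵁ (V : Y.Opens)}, ?_, fun U _ h => hK U V h⟩⟩
    · refine eq_top_iff.2 fun y _ => ?_
      obtain ⟨W, hW, hyW, -⟩ := Y.isBasis_affineOpens.exists_subset_of_mem_open
        (Set.mem_univ y) isOpen_univ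
      obtain ⟨W', hW', rfl⟩ := hW
      exact TopologicalSpace.Opens.mem_iSup.2
        ⟨⟨W', hW'⟩, TopologicalSpace.Opens.mem_iSup.2 ⟨trivial, hyW⟩⟩
    · refine le_antisymm (iSup₂_le fun U hU => hU) fun x hx => ?_
      obtain ⟨W, hW, hxW, hWle⟩ := X.isBasis_affineOpens.exists_subset_of_mem_open hx (f ⁻¹ᵁ (V : Y.Opens)).2
      obtain ⟨W', hW', rfl⟩ := hW
      exact TopologicalSpace.Opens.mem_iSup.2 ⟨⟨W', hW'⟩, TopologicalSpace.Opens.mem_iSup.2 ⟨hWle, hxW⟩⟩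

end Groth.Agent.H8Props.RelPC
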