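import Mathlib
import Groth.Agent.H19Grp.SchDense

/-!
# Opens whose complement has depth at least one are scheme-theoretically dense (helper8)
-/

set_option autoImplicit false
universe u
open CategoryTheory AlgebraicGeometry

namespace Groth.Agent.H8Props.SchDenseDepth

/-- If outside `U` the maximal ideal of every local ring contains a regular element, then the inclusion
of `U` has trivial kernel. -/
theorem ker_ι_eq_bot {X : Scheme.{u}} (U : X.Opens)
    (hZ : ∀ z : X, z ∉ U → ∃ a ∈ IsLocalRing.maximalIdeal (X.presheaf.stalk z),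
      IsSMulRegular (X.presheaf.stalk z) a) : U.ι.ker = ⊥ := by
  refine Groth.Agent.H19Grp.ker_opens_ι_eq_bot U fun V ↦ ?_
  rw [injective_iff_map_eq_zero]
  intro a ha
  refine TopCat.Presheaf.section_ext X.sheaf V a 0 fun z hz ↦ ?_
  show X.presheaf.germ V z hz a = X.presheaf.germ V z hz 0
  rw [map_zero]
  obtain ⟨W, hW, hzW, hWV'⟩ := exists_isAffineOpen_mem_and_subset (x := z) (U := V) hz
  have hWV : W ≤ V := hWV'
  rw [show X.presheaf.germ V z hz = X.presheaf.map (homOfLE hWV).op ≫ X.presheaf.germ W z hzW from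
    (X.presheaf.germ_res (homOfLE hWV) z hzW).symm]
  show X.presheaf.germ W z hzW (X.presheaf.map (homOfLE hWV).op a) = 0
  suffices h : X.presheaf.map (homOfLE hWV).op a = 0 by rw [h, map_zero]
  set b := X.presheaf.map (homOfLE hWV).op a with hbdef
  by_contra hb
  have hann : Submodule.annihilator (Ideal.span {b}) ≠ ⊤ := by
    intro h
    have h1 : (1 : Γ(X, W)) ∈ Submodule.annihilator (Ideal.span {b}) := h ▸ trivial
    rw [Submodule.mem_annihilator] at h1
    exact hb (by simpa using h1 b (Ideal.mem_span_singleton_self b))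
  obtain ⟨q, hq⟩ := Ideal.nonempty_minimalPrimes hann
  have := hq.1.1
  let y : Spec Γ(X, W) := ⟨q, hq.1.1⟩
  have hyW : hW.fromSpec y ∈ W := by
    rw [← SetLike.mem_coe, ← hW.range_fromSpec]; exact ⟨y, rfl⟩
  let _ : Algebra Γ(X, W) (X.presheaf.stalk (hW.fromSpec y)) :=
    (X.presheaf.germ W _ hyW).hom.toAlgebra
  have : IsLocalization.AtPrime (X.presheaf.stalk (hW.fromSpec y)) q :=
    hW.isLocalization_stalk' y hyW
  -- the germ at `q` is nonzero
  have hby : algebraMap Γ(X, W) (X.presheaf.stalk (hW.fromSpec y)) b ≠ 0 := by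
    intro h
    rw [IsLocalization.map_eq_zero_iff q.primeCompl] at h
    obtain ⟨⟨s, hs⟩, hsb⟩ := h
    refine hs (hq.1.2 (Submodule.mem_annihilator.mpr fun c hc ↦ ?_))
    obtain ⟨d, rfl⟩ := Ideal.mem_span_singleton'.mp hc
    rw [smul_eq_mul, mul_left_comm, show s * b = 0 from hsb, mul_zero]
  have hyU : hW.fromSpec y ∉ U := by
    intro hyU
    apply hby
    show X.presheaf.germ W _ hyW b = 0
    rw [hbdef, TopCat.Presheaf.germ_res_apply, ← TopCat.Presheaf.germ_res_apply X.presheaf
      (homOfLE (inf_le_left : V ⊓ U ≤ V)) (hW.fromSpec y) ⟨hWV hyW, hyU⟩, ha, map_zero]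
  obtain ⟨r, hr, hreg⟩ := hZ _ hyU
  rw [← IsLocalization.AtPrime.map_eq_maximalIdeal q (X.presheaf.stalk (hW.fromSpec y)),
    ← IsLocalization.AtPrime.radical_map_of_mem_minimalPrimes _ q _ hq] at hr
  obtain ⟨n, hn⟩ := hr
  apply hby
  refine (hreg.pow n) ?_
  show r ^ n • _ = r ^ n • (0 : X.presheaf.stalk (hW.fromSpec y))
  rw [smul_zero, smul_eq_mul]
  have : (Submodule.annihilator (Ideal.span {b})).map (algebraMap Γ(X, W)
      (X.presheaf.stalk (hW.fromSpec y))) ≤
      LinearMap.ker (LinearMap.mulRight _ (algebraMap Γ(X, W) _ b)) := by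
    rw [Ideal.map_le_iff_le_comap]
    intro c hc
    rw [Submodule.mem_annihilator] at hc
    show algebraMap Γ(X, W) (X.presheaf.stalk (hW.fromSpec y)) c * algebraMap Γ(X, W) _ b = 0
    rw [← map_mul, ← smul_eq_mul, hc b (Ideal.mem_span_singleton_self b), map_zero]
  exact this hn

end Groth.Agent.H8Props.SchDenseDepth
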