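import Groth.Agent.H11Ample.RelPullback
import Groth.Agent.H11Ample.RelComp
import Groth.Agent.H11Proj.PnGlobal
import Groth.Agent.H11Ample.ImmersionPn
import Groth.Agent.H7Lim.ThickeningAmple
import Groth.Prelude.Def_MoreMor
import Groth.Agent.H8Props.AmpleBatch
import Groth.Agent.H8Props.DivisorSection

/-!
# Ample modules: bases, embeddings, products, thickenings, families
-/

set_option autoImplicit false
set_option linter.style.haveILetI false
set_option backward.isDefEq.respectTransparency false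

noncomputable section

universe u

open CategoryTheory CategoryTheory.Limits AlgebraicGeometry Opposite TopologicalSpace
open Groth.Agent.H11Tilde Groth.Agent.H11Ample

namespace Groth.Agent.H8Props.Ample

variable {X Y S : Scheme.{u}}

theorem exists_family_section_of_ampleOn [CompactSpace X] [QuasiSeparatedSpace X]
    {L : X.Modules} (hL' : PicF.IsInvertible L) {M : X.Modules} (hM : PicF.IsInvertible M) (t : Γ(M, ⊤))
    (hAm₀ : AmpleOn L (gen M t)) {x : X} (hx : x ∈ gen M t) :
    ∃ (P : X.Modules) (v : Γ(P, ⊤)), PicF.IsInvertible P ∧ x ∈ gen P v ∧ IsAffineOpen (gen P v) := by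
  let t₁ : Γ(CohB1.tensorPow M 1, ⊤) := spow t 1
  have et₁ : gen (CohB1.tensorPow M 1) t₁ = gen M t := gen_spow hM t 1 one_pos
  let G := gen (CohB1.tensorPow M 1) t₁
  let e : Γ(M, G) := M.presheaf.map (homOfLE (le_top : G ≤ ⊤)).op t
  have he : IsGen M e := by
    have := (isGen_gen (L := M) t).res et₁.le
    rwa [H10Coh.mres_mres] at this
  have hAm : AmpleOn L G := by
    rw [show G = gen M t from et₁]
    exact hAm₀
  have hxG : x ∈ G := et₁.ge hx
  obtain ⟨k, u, A, hk, hxA, hA, hAG, hchar⟩ := exists_section_of_ampleOn hL' hAm hxG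
  let F := CohB1.tensorPow L k
  have hF : PicF.IsInvertible F := isInvertible_tensorPow hL' k
  obtain ⟨N, hN⟩ := exists_extend (F := F) hM (H28Mero.isQCoh_of_isInvertible hF) 1 0 t₁ (tm u (spow e 0))
  obtain ⟨v, hv⟩ := hN N le_rfl
  have hv' := hv G le_rfl e u 1 he (H10Coh.mres_self _ _ _) (by rw [one_smul]; exact spow_res le_top t 1)
  rw [one_pow, one_smul] at hv'
  let P := CohB1.tensorMod F (CohB1.tensorPow M (0 + N * 1))
  have hP : PicF.IsInvertible P := isInvertible_tensor hF (isInvertible_tensorPow hM _)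
  refine ⟨CohB1.tensorMod P M, tm v t, isInvertible_tensor hP hM, ?_, ?_⟩ <;>
    rw [gen_tm hP hM, ← et₁] <;>
    (have hon : gen P v ⊓ G = A := by
      ext z
      refine ⟨fun hz => ?_, fun hz => ⟨?_, hAG hz⟩⟩
      · obtain ⟨B, l, hzB, hl⟩ := exists_gen hF z
        let B' := B ⊓ G
        have hl' := hl.res (inf_le_left : B' ≤ B)
        obtain ⟨a, ha⟩ := exists_coeff hl' (F.presheaf.map (homOfLE (inf_le_right : B' ≤ G)).op u)
        have hpl := isGen_tm hl' (isGen_spow (he.res (inf_le_right : B' ≤ G)) (0 + N * 1))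
        refine (hchar B' inf_le_right _ a hl' ha z ⟨hzB, hz.2⟩).2
          ((mem_gen_iff_mem_basicOpen hpl ?_ ⟨hzB, hz.2⟩).1 hz.1)
        rw [← tm_smul_left, ← ha, ← spow_res, ← tm_res, ← hv', H10Coh.mres_mres]
      · obtain ⟨B, l, hzB, hl⟩ := exists_gen hF z
        let B' := B ⊓ G
        have hl' := hl.res (inf_le_left : B' ≤ B)
        obtain ⟨a, ha⟩ := exists_coeff hl' (F.presheaf.map (homOfLE (inf_le_right : B' ≤ G)).op u)
        have hpl := isGen_tm hl' (isGen_spow (he.res (inf_le_right : B' ≤ G)) (0 + N * 1))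
        refine (mem_gen_iff_mem_basicOpen hpl ?_ ⟨hzB, hAG hz⟩).2
          ((hchar B' inf_le_right _ a hl' ha z ⟨hzB, hAG hz⟩).1 hz)
        rw [← tm_smul_left, ← ha, ← spow_res, ← tm_res, ← hv', H10Coh.mres_mres]
     rw [hon]) <;> assumption

theorem hasAmpleFamily_of_cover {ι : Type*} [Finite ι] (L : ι → X.Modules) (hL : ∀ i, PicF.IsInvertible (L i))
    (M : ι → X.Modules) (hM : ∀ i, PicF.IsInvertible (M i)) (t : ∀ i, Γ(M i, ⊤))
    (hcov : ∀ x, ∃ i, x ∈ gen (M i) (t i)) (hamp : ∀ i, AmpleOn (L i) (gen (M i) (t i))) :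
    MoreMor.HasAmpleFamily X := by
  haveI : CompactSpace X := ⟨by
    have : (Set.univ : Set X) = ⋃ i, (gen (M i) (t i) : Set X) :=
      (Set.eq_univ_of_forall fun x => Set.mem_iUnion.2 (hcov x)).symm
    rw [this]
    exact isCompact_iUnion fun i => (hamp i).isCompact⟩
  haveI : QuasiSeparatedSpace X := quasiSeparatedSpace_of_gen_cover hM t hcov
    fun i => quasiSeparatedSpace_of_isAmple (hamp i)
  refine ⟨inferInstance, fun x => ?_⟩
  obtain ⟨i, hi⟩ := hcov x
  obtain ⟨P, v, hP, hxv, hv⟩ := exists_family_section_of_ampleOn (hL i) (hM i) (t i) (hamp i) hi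
  refine ⟨P, 1, homOfGlobal _ (spow v 1), hP, le_rfl, ?_, ?_⟩
  · change x ∈ gen (CohB1.tensorPow P 1) (spow v 1)
    rw [gen_spow hP v 1 one_pos]; exact hxv
  · change IsAffineOpen (gen (CohB1.tensorPow P 1) (spow v 1))
    rw [gen_spow hP v 1 one_pos]; exact hv

theorem hasAmpleFamily_of_effCartier {m : ℕ} (D : Fin m → X.IdealSheafData)
    (hD : ∀ i, BlowUp.IsEffCartierIdeal (D i)) (hcap : ⋂ i, ((D i).support : Set ↑X) = ∅)
    (L : Fin m → X.Modules) (hL : ∀ i, PicF.IsInvertible (L i))
    (hamp : ∀ i, AmpleOn (L i) (D i).support.compl) : MoreMor.HasAmpleFamily X := by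
  choose M t hM ht using fun i => DivisorSection.exists_invertible_section (hD i)
  refine hasAmpleFamily_of_cover L hL M hM t (fun x => ?_) fun i => (ht i).symm ▸ hamp i
  by_contra hc
  push Not at hc
  refine (Set.eq_empty_iff_forall_notMem.1 hcap x) (Set.mem_iInter.2 fun i => ?_)
  have := hc i
  rw [ht i] at this
  exact not_not.1 this

end Groth.Agent.H8Props.Ample
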