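import Mathlib.Algebra.TrivSqZeroExt.Basic
import Mathlib.RingTheory.Idempotents
import Mathlib.RingTheory.Flat.FaithfullyFlat.Algebra
import Mathlib.RingTheory.LocalProperties.Basic
import Mathlib.RingTheory.Localization.Away.Basic
import Mathlib.RingTheory.RingHom.Flat
import Groth.Agent.H1CAlg.ProjDescent

/-!
# Splitting a square-zero extension that is locally split with locally projective kernel (helper8)

The ring-theoretic core of "formally smooth is local on the source": let `I` be a square-zero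
ideal of `A` and `π : B → A/I` a surjection of `A`-algebras with square-zero kernel (to be the
first order neighbourhood of a section). If lifting problems out of `B` are solvable locally on
`Spec A`, then `π` lifts to an `A`-algebra map `B → A`. Projectivity descent is used.
-/

set_option autoImplicit false

universe u

open TensorProduct

namespace Groth.Agent.H8Props.FormallySmoothAlg

section

variable {A : Type u} [CommRing A] (I : Ideal A) {B : Type u} [CommRing B] [Algebra A B]
  (π : B →ₐ[A] A ⧸ I)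

/-- Lifting problems out of `B` over the algebra `R` are solvable. -/
def LiftsAt (R : Type u) [CommRing R] [Algebra A R] : Prop :=
  ∀ (J J1 : Ideal R) (hle : J ≤ J1), J1 ^ 2 = ⊥ → ∀ (ε : (A ⧸ I) →ₐ[A] R ⧸ J1)
    (θ : B →ₐ[A] R ⧸ J), (∀ x, Ideal.Quotient.factor hle (θ x) = ε (π x)) →
    ∃ ψ : B →ₐ[A] R, ∀ x, Ideal.Quotient.mk J (ψ x) = θ x

/-- Lifting problems out of `B` are solvable wherever `g` is invertible. -/
def LiftsAway (g : A) : Prop :=
  ∀ (R : Type u) [CommRing R] [Algebra A R], IsUnit (algebraMap A R g) → LiftsAt I π R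

variable {I π}

/-- Solvability of lifting problems is inherited by finite products. -/
theorem liftsAt_of_idempotents {ι : Type u} [Fintype ι] (g : ι → A) (H : ∀ i, LiftsAway I π (g i))
    {R : Type u} [CommRing R] [Algebra A R] (e : ι → R) (he : CompleteOrthogonalIdempotents e)
    (hu : ∀ i, ∃ v, algebraMap A R (g i) * v * e i = e i) : LiftsAt I π R := by
  classical
  intro J J1 hle hJ1 ε θ hθ
  let K : ι → Ideal R := fun i => Ideal.span {1 - e i}
  have hmk : ∀ i, Ideal.Quotient.mk (K i) (e i) = 1 := fun i => by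
    rw [← map_one (Ideal.Quotient.mk (K i)), Ideal.Quotient.eq]
    exact Ideal.mem_span_singleton'.mpr ⟨-1, by ring⟩
  have hmk0 : ∀ i j, i ≠ j → Ideal.Quotient.mk (K i) (e j) = 0 := fun i j hij => by
    rw [Ideal.Quotient.eq_zero_iff_mem]
    exact Ideal.mem_span_singleton'.mpr ⟨e j, by rw [mul_sub, mul_one, he.ortho hij.symm, sub_zero]⟩
  have hmul : ∀ i a b, Ideal.Quotient.mk (K i) a = Ideal.Quotient.mk (K i) b → e i * a = e i * b := by
    intro i a b h
    obtain ⟨c, hc⟩ := Ideal.mem_span_singleton'.mp (Ideal.Quotient.eq.mp h)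
    rw [← sub_eq_zero, ← mul_sub, ← hc]
    linear_combination -c * (he.idem i).eq
  let Φ : R →ₐ[A] ∀ i, R ⧸ K i := Pi.algHom A _ fun i => Ideal.Quotient.mkₐ A (K i)
  have hΦ : Function.Bijective Φ := by
    refine ⟨fun a b h => ?_, fun r => ?_⟩
    · calc a = ∑ i, e i * a := by rw [← Finset.sum_mul, he.complete, one_mul]
        _ = ∑ i, e i * b := Finset.sum_congr rfl fun i _ => hmul i a b (congrFun h i)
        _ = b := by rw [← Finset.sum_mul, he.complete, one_mul]
    · choose s hs using fun i => Ideal.Quotient.mk_surjective (r i)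
      refine ⟨∑ i, e i * s i, funext fun j => ?_⟩
      show Ideal.Quotient.mk (K j) (∑ i, e i * s i) = r j
      rw [map_sum, Finset.sum_eq_single j]
      · rw [map_mul, hmk, one_mul, hs]
      · intro i _ hij
        rw [map_mul, hmk0 j i hij.symm, zero_mul]
      · simp
  have key : ∀ i, ∃ ψ : B →ₐ[A] R ⧸ K i, ∀ x r, Ideal.Quotient.mk J r = θ x →
      ψ x - Ideal.Quotient.mk (K i) r ∈ J.map (Ideal.Quotient.mk (K i)) := by
    intro i
    have hu' : IsUnit (algebraMap A (R ⧸ K i) (g i)) := by
      obtain ⟨v, hv⟩ := hu i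
      refine IsUnit.of_mul_eq_one (Ideal.Quotient.mk (K i) v) ?_
      have := congrArg (Ideal.Quotient.mk (K i)) hv
      rwa [map_mul, map_mul, hmk, mul_one] at this
    let μ := Ideal.Quotient.mkₐ A (K i)
    have hle' : J.map μ ≤ J1.map μ := Ideal.map_mono hle
    have hJ1' : J1.map μ ^ 2 = ⊥ := by rw [← Ideal.map_pow, hJ1, Ideal.map_bot]
    let ε' := (Ideal.quotientMapₐ (J1.map μ) μ Ideal.le_comap_map).comp ε
    let θ' := (Ideal.quotientMapₐ (J.map μ) μ Ideal.le_comap_map).comp θ
    have hθ' : ∀ x, Ideal.Quotient.factor hle' (θ' x) = ε' (π x) := by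
      intro x
      obtain ⟨r, hr⟩ := Ideal.Quotient.mk_surjective (θ x)
      have := hθ x
      rw [← hr, Ideal.Quotient.factor_mk] at this
      simp only [θ', ε', AlgHom.comp_apply, ← hr, ← this]
      rfl
    obtain ⟨ψ, hψ⟩ := H i (R ⧸ K i) hu' (J.map μ) (J1.map μ) hle' hJ1' ε' θ' hθ'
    refine ⟨ψ, fun x r hr => ?_⟩
    rw [← Ideal.Quotient.eq]
    show Ideal.Quotient.mk (J.map μ) (ψ x) = _
    rw [hψ x]
    simp only [θ', AlgHom.comp_apply, ← hr]
    rfl
  choose ψ hψ using key
  let E := AlgEquiv.ofBijective Φ hΦ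
  refine ⟨E.symm.toAlgHom.comp (Pi.algHom A _ ψ), fun x => ?_⟩
  obtain ⟨r, hr⟩ := Ideal.Quotient.mk_surjective (θ x)
  rw [← hr, Ideal.Quotient.eq]
  set d := E.symm.toAlgHom.comp (Pi.algHom A _ ψ) x - r with hd
  have hdi : ∀ i, ∃ j ∈ J, Ideal.Quotient.mk (K i) j = Ideal.Quotient.mk (K i) d := by
    intro i
    have h1 : Ideal.Quotient.mk (K i) (E.symm (Pi.algHom A _ ψ x)) = ψ i x :=
      congrFun (E.apply_symm_apply (Pi.algHom A _ ψ x)) i
    have := hψ i x r hr
    rw [← h1, ← map_sub] at this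
    exact (Ideal.mem_map_iff_of_surjective _ Ideal.Quotient.mk_surjective).mp this
  choose j hj hj' using hdi
  have : d = ∑ i, e i * j i := by
    calc d = ∑ i, e i * d := by rw [← Finset.sum_mul, he.complete, one_mul]
      _ = _ := Finset.sum_congr rfl fun i _ => hmul i _ _ (hj' i).symm
  rw [this]
  exact J.sum_mem fun i _ => J.mul_mem_left _ (hj i)

/-- Derivations of `B` lift along surjections of modules over an algebra where lifting problems are
solvable. -/
theorem exists_lift_derivation (T : Type u) [CommRing T] [Algebra A T] [Algebra (A ⧸ I) T]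
    [IsScalarTower A (A ⧸ I) T] {M N : Type u} [AddCommGroup M] [Module T M] [Module Tᵐᵒᵖ M]
    [IsCentralScalar T M] [AddCommGroup N] [Module T N] [Module Tᵐᵒᵖ N] [IsCentralScalar T N]
    [Module A M] [IsScalarTower A T M] [Module A N] [IsScalarTower A T N]
    (hlift : LiftsAt I π (TrivSqZeroExt T M)) (F : M →ₗ[T] N) (hF : Function.Surjective F)
    (δ : B →ₗ[A] N) (h0 : ∀ a, δ (algebraMap A B a) = 0)
    (hδ : ∀ x y, δ (x * y) =
      algebraMap (A ⧸ I) T (π x) • δ y + algebraMap (A ⧸ I) T (π y) • δ x) :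
    ∃ δ' : B →ₗ[A] M, (∀ a, δ' (algebraMap A B a) = 0) ∧ ∀ x, F (δ' x) = δ x := by
  let mapF : TrivSqZeroExt T M →ₐ[A] TrivSqZeroExt T N := (TrivSqZeroExt.map F).restrictScalars A
  let J : Ideal (TrivSqZeroExt T M) := RingHom.ker mapF
  let J1 : Ideal (TrivSqZeroExt T M) := RingHom.ker (TrivSqZeroExt.fstHom A T M)
  have hle : J ≤ J1 := fun r hr => by
    have h1 : TrivSqZeroExt.map F r = 0 := hr
    show r.fst = 0
    rw [← TrivSqZeroExt.fst_map F r, h1, TrivSqZeroExt.fst_zero]
  have hJ1 : J1 ^ 2 = ⊥ := by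
    rw [pow_two, eq_bot_iff, Ideal.mul_le]
    intro x hx y hy
    have hx' : x.fst = 0 := hx
    have hy' : y.fst = 0 := hy
    rw [Ideal.mem_bot]
    refine TrivSqZeroExt.ext ?_ ?_
    · rw [TrivSqZeroExt.fst_mul, hx', zero_mul, TrivSqZeroExt.fst_zero]
    · rw [TrivSqZeroExt.snd_mul, hx', hy', zero_smul, MulOpposite.op_zero, zero_smul, add_zero,
        TrivSqZeroExt.snd_zero]
  have hmapF : Function.Surjective mapF := fun n => by
    obtain ⟨m, hm⟩ := hF n.snd
    refine ⟨TrivSqZeroExt.inl n.fst + TrivSqZeroExt.inr m, ?_⟩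
    show TrivSqZeroExt.map F _ = n
    refine TrivSqZeroExt.ext ?_ ?_
    · simp
    · simp [hm]
  let E := Ideal.quotientKerAlgEquivOfSurjective hmapF
  let ψN : B →ₐ[A] TrivSqZeroExt T N := AlgHom.ofLinearMap
    { toFun := fun x => TrivSqZeroExt.inl (algebraMap (A ⧸ I) T (π x)) + TrivSqZeroExt.inr (δ x)
      map_add' := fun x y => by
        refine TrivSqZeroExt.ext ?_ ?_ <;> simp
      map_smul' := fun a x => by
        refine TrivSqZeroExt.ext ?_ ?_
        · simp [Algebra.smul_def, TrivSqZeroExt.algebraMap_eq_inl', IsScalarTower.algebraMap_apply A (A ⧸ I) T]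
        · simp }
    (by
      refine TrivSqZeroExt.ext ?_ ?_
      · simp
      · simpa using h0 1)
    (fun x y => by
      refine TrivSqZeroExt.ext ?_ ?_
      · simp
      · simp [hδ])
  let ε : (A ⧸ I) →ₐ[A] TrivSqZeroExt T M ⧸ J1 := (Ideal.Quotient.mkₐ A J1).comp
    ((IsScalarTower.toAlgHom A T _).comp (IsScalarTower.toAlgHom A (A ⧸ I) T))
  have key : ∀ (x : B) r, Ideal.Quotient.mk J r = E.symm (ψN x) → mapF r = ψN x := fun x r hr => by
    have := congrArg E hr
    rwa [E.apply_symm_apply] at this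
  obtain ⟨ψ, hψ⟩ := hlift J J1 hle hJ1 ε (E.symm.toAlgHom.comp ψN) fun x => by
    obtain ⟨r, hr⟩ := Ideal.Quotient.mk_surjective (E.symm (ψN x))
    show Ideal.Quotient.factor hle (E.symm (ψN x)) = _
    have h1 : TrivSqZeroExt.map F r = ψN x := key x r hr
    rw [← hr, Ideal.Quotient.factor_mk]
    show Ideal.Quotient.mk J1 r = Ideal.Quotient.mk J1 (TrivSqZeroExt.inl (algebraMap (A ⧸ I) T (π x)))
    rw [Ideal.Quotient.eq]
    show (r - TrivSqZeroExt.inl (algebraMap (A ⧸ I) T (π x))).fst = 0
    rw [TrivSqZeroExt.fst_sub, ← TrivSqZeroExt.fst_map F r, h1]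
    simp [ψN]
  refine ⟨(TrivSqZeroExt.sndHom T M).restrictScalars A ∘ₗ ψ.toLinearMap, fun a => ?_, fun x => ?_⟩
  · simp [TrivSqZeroExt.algebraMap_eq_inl']
  · have h1 : TrivSqZeroExt.map F (ψ x) = ψN x := key x _ (hψ x)
    show F (ψ x).snd = δ x
    rw [← TrivSqZeroExt.snd_map, h1]
    simp [ψN]

/-- Lifting problems over trivial square-zero extensions of a product of localisations are
solvable. -/
theorem liftsAt_pi (s : Finset A) (H : ∀ g : s, LiftsAway I π g.1) (M : Type u) [AddCommGroup M]
    [Module (∀ g : s, Localization.Away (Ideal.Quotient.mk I g.1)) M]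
    [Module (∀ g : s, Localization.Away (Ideal.Quotient.mk I g.1))ᵐᵒᵖ M]
    [IsCentralScalar (∀ g : s, Localization.Away (Ideal.Quotient.mk I g.1)) M]
    [Module A M] [IsScalarTower A (∀ g : s, Localization.Away (Ideal.Quotient.mk I g.1)) M] :
    LiftsAt I π (TrivSqZeroExt (∀ g : s, Localization.Away (Ideal.Quotient.mk I g.1)) M) := by
  classical
  refine liftsAt_of_idempotents (fun g : s => g.1) H
    (fun g => TrivSqZeroExt.inl (Pi.single g 1))
    (by exact (CompleteOrthogonalIdempotents.single fun g : s => Localization.Away (Ideal.Quotient.mk I g.1)).map (TrivSqZeroExt.inlHom _ M)) fun g =>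
      ⟨TrivSqZeroExt.inl (Pi.single g (IsLocalization.Away.invSelf (Ideal.Quotient.mk I g.1))), ?_⟩
  rw [TrivSqZeroExt.algebraMap_eq_inl', ← TrivSqZeroExt.inl_mul, ← TrivSqZeroExt.inl_mul]
  refine congrArg _ (funext fun h => ?_)
  obtain rfl | hne := eq_or_ne h g
  · simp [IsScalarTower.algebraMap_apply A (A ⧸ I) (Localization.Away (Ideal.Quotient.mk I h.1))]
  · simp [hne]

/-- The base change of the module of derivations of `B` to an algebra where lifting problems are
solvable is projective. -/
theorem projective_tensor (T : Type u) [CommRing T] [Algebra A T] [Algebra (A ⧸ I) T]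
    [IsScalarTower A (A ⧸ I) T] {P : Type u} [AddCommGroup P] [Module A P] [Module (A ⧸ I) P]
    [IsScalarTower A (A ⧸ I) P] (D : B →ₗ[A] P) (hDs : Function.Surjective D)
    (hker : ∀ x, D x = 0 → x ∈ LinearMap.range (Algebra.linearMap A B))
    (hD0 : ∀ a, D (algebraMap A B a) = 0)
    (hD : ∀ x y a c, π x = Ideal.Quotient.mk I a → π y = Ideal.Quotient.mk I c →
      D (x * y) = a • D y + c • D x)
    (hT : ∀ (M : Type u) [AddCommGroup M] [Module T M] [Module Tᵐᵒᵖ M] [IsCentralScalar T M]
      [Module A M] [IsScalarTower A T M], LiftsAt I π (TrivSqZeroExt T M)) :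
    Module.Projective T (T ⊗[A ⧸ I] P) := by
  refine Module.Projective.of_lifting_property'' fun F hF => ?_
  let φ : P →ₗ[A] T ⊗[A ⧸ I] P := (TensorProduct.mk (A ⧸ I) T P 1).restrictScalars A
  obtain ⟨δ', h0, hδ'⟩ := exists_lift_derivation T (hT _) F hF (φ ∘ₗ D)
    (fun a => by simp [hD0]) fun x y => by
      obtain ⟨a, ha⟩ := Ideal.Quotient.mk_surjective (π x)
      obtain ⟨c, hc⟩ := Ideal.Quotient.mk_surjective (π y)
      have e : ∀ (r : A) (z : T ⊗[A ⧸ I] P),
          algebraMap (A ⧸ I) T (Ideal.Quotient.mk I r) • z = r • z := fun r z => by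
        rw [← Ideal.Quotient.algebraMap_eq, ← IsScalarTower.algebraMap_apply A (A ⧸ I) T, algebraMap_smul]
      rw [LinearMap.comp_apply, LinearMap.comp_apply, LinearMap.comp_apply,
        hD x y a c ha.symm hc.symm, map_add, map_smul, map_smul,
        show π x = Ideal.Quotient.mk I a from ha.symm, show π y = Ideal.Quotient.mk I c from hc.symm, e, e]
  let q : (B ⧸ LinearMap.range (Algebra.linearMap A B)) →ₗ[A] P :=
    (LinearMap.range (Algebra.linearMap A B)).liftQ D (by rintro _ ⟨a, rfl⟩; exact hD0 a)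
  have hq : Function.Bijective q := by
    refine ⟨(injective_iff_map_eq_zero q).mpr fun z hz => ?_, fun p => ?_⟩
    · obtain ⟨x, rfl⟩ := Submodule.mkQ_surjective _ z
      exact (Submodule.Quotient.mk_eq_zero _).mpr (hker x hz)
    · obtain ⟨x, rfl⟩ := hDs p
      exact ⟨Submodule.mkQ _ x, rfl⟩
  let qe := LinearEquiv.ofBijective q hq
  let dψ : P →ₗ[A] (T ⊗[A ⧸ I] P) →₀ T :=
    ((LinearMap.range (Algebra.linearMap A B)).liftQ δ' (by rintro _ ⟨a, rfl⟩; exact h0 a)) ∘ₗ qe.symm.toLinearMap
  have hdψ : ∀ x, dψ (D x) = δ' x := fun x => by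
    have : qe.symm (D x) = Submodule.Quotient.mk x :=
      qe.injective (by rw [qe.apply_symm_apply]; rfl)
    show _ = _
    simp only [dψ, LinearMap.comp_apply, LinearEquiv.coe_coe, this]
    rfl
  let h := (dψ.extendScalarsOfSurjective (Ideal.Quotient.mk_surjective (I := I))).liftBaseChange T
  refine ⟨h, TensorProduct.AlgebraTensorModule.curry_injective ?_⟩
  ext p
  obtain ⟨x, rfl⟩ := hDs p
  simpa [h, hdψ, φ] using hδ' x

/-- A square-zero extension with locally solvable lifting problems has a section. -/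
theorem exists_section (hI : I ^ 2 = ⊥) (hπ : Function.Surjective π)
    (hK : RingHom.ker π ^ 2 = ⊥) (S : Set A) (hS : Ideal.span S = ⊤)
    (H : ∀ g ∈ S, LiftsAway I π g) :
    ∃ σ : B →ₐ[A] A, ∀ x, Ideal.Quotient.mk I (σ x) = π x := by
  classical
  obtain ⟨s, hsS, hs⟩ := (Ideal.span_eq_top_iff_finite S).mp hS
  have hπm : ∀ a : A, π (algebraMap A B a) = Ideal.Quotient.mk I a := fun a => π.commutes a
  have hIK : ∀ a ∈ I, algebraMap A B a ∈ RingHom.ker π := fun a ha => by
    rw [RingHom.mem_ker, hπm]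
    exact Ideal.Quotient.eq_zero_iff_mem.mpr ha
  have hKK : ∀ x y, x ∈ RingHom.ker π → y ∈ RingHom.ker π → x * y = 0 := fun x y hx hy => by
    have := Ideal.mul_mem_mul hx hy
    rw [← pow_two, hK] at this
    exact this
  -- the structure map is injective
  have hinj : Function.Injective (algebraMap A B) := by
    rw [injective_iff_map_eq_zero]
    intro a ha
    have haI : a ∈ I := by rw [← Ideal.Quotient.eq_zero_iff_mem, ← hπm, ha, map_zero]
    suffices key : ∀ g : s, ∃ n : ℕ, g.1 ^ n * a = 0 by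
      choose n hn using key
      let N : Ideal A := LinearMap.ker (LinearMap.toSpanSingleton A A a)
      have htop : Ideal.span (s : Set A) ≤ N.radical :=
        Ideal.span_le.mpr fun g hg => ⟨n ⟨g, hg⟩, by simpa [N] using hn ⟨g, hg⟩⟩
      rw [hs, top_le_iff, Ideal.radical_eq_top] at htop
      have : (1 : A) ∈ N := by rw [htop]; trivial
      simpa [N] using this
    intro g
    suffices algebraMap A (Localization.Away g.1) a = 0 by
      obtain ⟨⟨_, n, rfl⟩, hn⟩ := (IsLocalization.map_eq_zero_iff (Submonoid.powers g.1) _ a).mp this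
      exact ⟨n, hn⟩
    let R := Localization.Away g.1
    let J := I.map (algebraMap A R)
    have hJ : J ^ 2 = ⊥ := by rw [← Ideal.map_pow, hI, Ideal.map_bot]
    let ε : (A ⧸ I) →ₐ[A] R ⧸ J := Ideal.Quotient.liftₐ I (Algebra.ofId A (R ⧸ J)) fun b hb => by
      show algebraMap A (R ⧸ J) b = 0
      rw [← Ideal.Quotient.mk_algebraMap, Ideal.Quotient.eq_zero_iff_mem]
      exact Ideal.mem_map_of_mem _ hb
    obtain ⟨ψ, -⟩ := H g (hsS g.2) R (IsLocalization.Away.algebraMap_isUnit g.1) J J le_rfl hJ ε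
      (ε.comp π) fun x => by
        obtain ⟨r, hr⟩ := Ideal.Quotient.mk_surjective ((ε.comp π) x)
        rw [← hr, Ideal.Quotient.factor_mk]
        exact hr
    show algebraMap A R a = 0
    rw [← ψ.commutes, ha, map_zero]
  -- the module `P = B / A` and the universal derivation
  let M1 : Submodule A B := LinearMap.range (Algebra.linearMap A B)
  let P := B ⧸ M1
  let D : B →ₗ[A] P := M1.mkQ
  have hD0 : ∀ a, D (algebraMap A B a) = 0 := fun a =>
    (Submodule.Quotient.mk_eq_zero M1).mpr ⟨a, rfl⟩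
  have hsub : ∀ x a, π x = Ideal.Quotient.mk I a → x - algebraMap A B a ∈ RingHom.ker π :=
    fun x a h => by rw [RingHom.mem_ker, map_sub, hπm, h, sub_self]
  have hD : ∀ x y a c, π x = Ideal.Quotient.mk I a → π y = Ideal.Quotient.mk I c →
      D (x * y) = a • D y + c • D x := by
    intro x y a c hx hy
    have h0 := hKK _ _ (hsub x a hx) (hsub y c hy)
    have h1 : x * y = a • y + c • x - algebraMap A B (a * c) := by
      rw [Algebra.smul_def, Algebra.smul_def, map_mul]; linear_combination h0
    rw [h1, map_sub, map_add, map_smul, map_smul, hD0, sub_zero]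
  have htorsP : Module.IsTorsionBySet A P I := by
    rintro p ⟨i, hi⟩
    obtain ⟨x, rfl⟩ := M1.mkQ_surjective p
    obtain ⟨a, ha⟩ := Ideal.Quotient.mk_surjective (π x)
    show i • D x = 0
    have h0 : (i : A) • x = algebraMap A B (i * a) := by
      rw [Algebra.smul_def, map_mul]
      linear_combination hKK _ _ (hIK i hi) (hsub x a ha.symm)
    rw [← map_smul, h0, hD0]
  letI : Module (A ⧸ I) P := htorsP.module
  have : IsScalarTower A (A ⧸ I) P := htorsP.isScalarTower
  -- `P` is projective over `A/I`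
  have H' : ∀ g : s, LiftsAway I π g.1 := fun g => H g (hsS g.2)
  let T := ∀ g : s, Localization.Away (Ideal.Quotient.mk I g.1)
  have : Module.Flat (A ⧸ I) T := Module.Flat.of_linearEquiv
    (DFinsupp.linearEquivFunOnFintype (R := A ⧸ I)).symm
  have : Module.FaithfullyFlat (A ⧸ I) T := by
    refine Module.FaithfullyFlat.of_comap_surjective fun p => ?_
    have htop : Ideal.span (Ideal.Quotient.mk I '' (s : Set A)) = ⊤ := by
      rw [← Ideal.map_span, hs, Ideal.map_top]
    obtain ⟨g, hg⟩ : ∃ g : s, Ideal.Quotient.mk I g.1 ∉ p.asIdeal := by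
      by_contra! hall
      refine p.isPrime.ne_top (top_le_iff.mp (htop ▸ Ideal.span_le.mpr ?_))
      rintro _ ⟨g, hg, rfl⟩
      exact hall ⟨g, hg⟩
    have hmem : p ∈ Set.range (PrimeSpectrum.comap
        (algebraMap (A ⧸ I) (Localization.Away (Ideal.Quotient.mk I g.1)))) := by
      rw [PrimeSpectrum.localization_away_comap_range _ (Ideal.Quotient.mk I g.1)]
      exact hg
    obtain ⟨q, rfl⟩ := hmem
    exact ⟨PrimeSpectrum.comap (Pi.evalRingHom _ g) q, rfl⟩
  have : Module.Projective T (T ⊗[A ⧸ I] P) :=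
    projective_tensor T D M1.mkQ_surjective (fun x hx => (Submodule.Quotient.mk_eq_zero M1).mp hx) hD0 hD
      fun M => liftsAt_pi s H' M
  have : Module.Projective (A ⧸ I) P :=
    Groth.Agent.H1CAlg.projective_of_baseChange (A ⧸ I) T P
  -- a section of `ker π → P`
  let K : Submodule A B := (RingHom.ker π).restrictScalars A
  have htorsK : Module.IsTorsionBySet A K I := by
    rintro ⟨k, hk⟩ ⟨i, hi⟩
    refine Subtype.ext ?_
    show (i : A) • k = 0
    rw [Algebra.smul_def]
    exact hKK _ _ (hIK i hi) hk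
  letI : Module (A ⧸ I) K := htorsK.module
  have : IsScalarTower A (A ⧸ I) K := htorsK.isScalarTower
  have hsurjA := Ideal.Quotient.mk_surjective (I := I)
  obtain ⟨t, ht⟩ := Module.projective_lifting_property
    ((D ∘ₗ K.subtype).extendScalarsOfSurjective hsurjA) (LinearMap.id : P →ₗ[A ⧸ I] P) (fun p => by
      obtain ⟨x, rfl⟩ := M1.mkQ_surjective p
      obtain ⟨a, ha⟩ := Ideal.Quotient.mk_surjective (π x)
      refine ⟨⟨x - algebraMap A B a, hsub x a ha.symm⟩, ?_⟩
      show D (x - algebraMap A B a) = D x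
      rw [map_sub, hD0, sub_zero])
  have htD : ∀ p, D (t p : B) = p := fun p => DFunLike.congr_fun ht p
  let τ : B → B := fun x => (t (D x) : B)
  have hτker : ∀ x, τ x ∈ RingHom.ker π := fun x => (t (D x)).2
  have hτsmul : ∀ (a : A) p, ((t (a • p) : K) : B) = algebraMap A B a * t p := fun a p => by
    rw [← algebraMap_smul (A ⧸ I) a p, map_smul, algebraMap_smul, Submodule.coe_smul, Algebra.smul_def]
  let η : B →ₐ[A] B :=
    AlgHom.ofLinearMap
      { toFun := fun x => x - τ x
        map_add' := fun x y => by simp [τ]; abel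
        map_smul' := fun a x => by
          show a • x - τ (a • x) = a • (x - τ x)
          simp only [τ]
          rw [map_smul, hτsmul, ← Algebra.smul_def, smul_sub] }
      (by
        show (1 : B) - τ 1 = 1
        have : D 1 = 0 := by rw [← map_one (algebraMap A B)]; exact hD0 1
        simp [τ, this])
      (fun x y => by
        obtain ⟨a, ha⟩ := Ideal.Quotient.mk_surjective (π x)
        obtain ⟨c, hc⟩ := Ideal.Quotient.mk_surjective (π y)
        show x * y - τ (x * y) = (x - τ x) * (y - τ y)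
        have h1 := hKK _ _ (hsub x a ha.symm) (hτker y)
        have h2 := hKK _ _ (hsub y c hc.symm) (hτker x)
        have h3 := hKK _ _ (hτker x) (hτker y)
        have h4 : τ (x * y) = algebraMap A B a * τ y + algebraMap A B c * τ x := by
          simp only [τ]
          rw [hD x y a c ha.symm hc.symm, map_add, Submodule.coe_add, hτsmul, hτsmul]
        rw [h4]
        linear_combination h1 + h2 - h3)
  have hη : ∀ x, η x ∈ (Algebra.ofId A B).range := fun x => by
    have h0 : D (η x) = 0 := by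
      show D (x - τ x) = 0
      rw [map_sub, htD, sub_self]
    exact (Submodule.Quotient.mk_eq_zero M1).mp h0
  let e := AlgEquiv.ofInjective (Algebra.ofId A B) hinj
  refine ⟨e.symm.toAlgHom.comp (η.codRestrict _ hη), fun x => ?_⟩
  have h1 : algebraMap A B ((e.symm.toAlgHom.comp (η.codRestrict _ hη)) x) = η x :=
    congrArg Subtype.val (e.apply_symm_apply ⟨η x, hη x⟩)
  rw [← hπm, h1]
  show π (x - τ x) = π x
  rw [map_sub, RingHom.mem_ker.mp (hτker x), sub_zero]

end

end Groth.Agent.H8Props.FormallySmoothAlg
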