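import Mathlib.AlgebraicGeometry.Morphisms.Smooth
import Mathlib.AlgebraicGeometry.IdealSheaf.Functorial
import Mathlib.AlgebraicGeometry.Morphisms.Immersion
import Groth.Prelude.Def_MoreMor
import Groth.Agent.H7Lim.Thickening
import Groth.Agent.H8Props.FormallySmoothAlg

/-!
# Formal smoothness of morphisms of schemes is affine-local (helper8)

For a lifting problem `(a, b)` over the square-zero thickening `Spec (A/I) ⊆ Spec A` we form the
first order neighbourhood of the section `Spec (A/I) ⟶ X ×_Y Spec A`, which is affine, and feed it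
to `FormallySmoothAlg.exists_section`.
-/

set_option autoImplicit false
set_option backward.isDefEq.respectTransparency.types false

universe u

open CategoryTheory AlgebraicGeometry Limits TopologicalSpace

namespace Groth.Agent.H8Props.FormallySmoothScheme

theorem comap_mk_surjective {R : Type u} [CommRing R] {J : Ideal R} (hJ : J ^ 2 = ⊥) :
    Function.Surjective (Spec.map (CommRingCat.ofHom (Ideal.Quotient.mk J))).base := fun p => by
  have hp : p ∈ Set.range (PrimeSpectrum.comap (Ideal.Quotient.mk J)) := by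
    rw [range_comap_of_surjective _ _ Ideal.Quotient.mk_surjective, Ideal.mk_ker]
    intro x hx
    exact p.2.mem_of_pow_mem 2
      (by have := Ideal.pow_mem_pow hx 2; rw [hJ, Ideal.mem_bot] at this; simp [this])
  exact hp

theorem app_mul_eq_zero {R : Type u} [CommRing R] {J : Ideal R} (hJ : J ^ 2 = ⊥)
    (O : (Spec (CommRingCat.of R)).Opens) (x y : Γ(Spec (CommRingCat.of R), O))
    (hx : (Spec.map (CommRingCat.ofHom (Ideal.Quotient.mk J))).app O x = 0)
    (hy : (Spec.map (CommRingCat.ofHom (Ideal.Quotient.mk J))).app O y = 0) : x * y = 0 := by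
  set j := Spec.map (CommRingCat.ofHom (Ideal.Quotient.mk J)) with hj
  have : IsClosedImmersion j := IsClosedImmersion.spec_of_surjective _ Ideal.Quotient.mk_surjective
  have hj2 : j.ker * j.ker = ⊥ := by
    refine Scheme.IdealSheafData.ext_of_isAffine ?_
    simp only [Scheme.IdealSheafData.ideal_mul, Pi.mul_apply, Scheme.IdealSheafData.ideal_bot,
      Pi.bot_apply, Scheme.Hom.ker_apply, eq_bot_iff]
    refine Ideal.mul_le.mpr fun s hs t ht => ?_
    rw [Ideal.mem_bot]
    have key : ∀ z : Γ(Spec (CommRingCat.of R), ⊤), j.appTop.hom z = 0 →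
        (Scheme.ΓSpecIso _).hom.hom z ∈ J := fun z hz => by
      rw [← Ideal.Quotient.eq_zero_iff_mem]
      have := congr_arg (fun g => g.hom z)
        (Scheme.ΓSpecIso_naturality (CommRingCat.ofHom (Ideal.Quotient.mk J)))
      simp only [CommRingCat.hom_comp, RingHom.comp_apply, CommRingCat.hom_ofHom] at this
      rw [← this]
      show (Scheme.ΓSpecIso _).hom.hom (j.appTop.hom z) = 0
      rw [hz, map_zero]
    apply (ConcreteCategory.bijective_of_isIso (Scheme.ΓSpecIso (CommRingCat.of R)).hom).1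
    rw [map_mul, map_zero]
    have := Ideal.mul_mem_mul (key s hs) (key t ht)
    rwa [← pow_two, hJ, Ideal.mem_bot] at this
  refine Groth.Agent.H7Lim.sq_zero_of_locally j (fun W z hz => ?_) O x y hx hy
  obtain ⟨B, hB, hzB, hBW⟩ := exists_isAffineOpen_mem_and_subset hz
  refine ⟨B, hBW, hzB, fun s t hs ht => ?_⟩
  have h := congr_arg (fun K : (Spec (CommRingCat.of R)).IdealSheafData => K.ideal ⟨B, hB⟩) hj2
  simp only [Scheme.IdealSheafData.ideal_mul, Pi.mul_apply, Scheme.IdealSheafData.ideal_bot,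
    Pi.bot_apply, Scheme.Hom.ker_apply] at h
  have := Ideal.mul_mem_mul (I := RingHom.ker (j.app B).hom) (J := RingHom.ker (j.app B).hom) hs ht
  rwa [h, Ideal.mem_bot] at this

/-- The first order neighbourhood of the graph of a lifting problem. -/
theorem exists_neighbourhood {X Y : Scheme.{u}} (f : X ⟶ Y) {A : Type u} [CommRing A] (I : Ideal A)
    (hI : I ^ 2 = ⊥) (a : Spec (CommRingCat.of (A ⧸ I)) ⟶ X) (b : Spec (CommRingCat.of A) ⟶ Y)
    (w : Spec.map (CommRingCat.ofHom (Ideal.Quotient.mk I)) ≫ b = a ≫ f) :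
    ∃ (B : CommRingCat.{u}) (φ : CommRingCat.of A ⟶ B) (π : B ⟶ CommRingCat.of (A ⧸ I))
      (q : Spec B ⟶ X),
      φ ≫ π = CommRingCat.ofHom (Ideal.Quotient.mk I) ∧ q ≫ f = Spec.map φ ≫ b ∧
      Spec.map π ≫ q = a ∧ Function.Surjective π.hom ∧ RingHom.ker π.hom ^ 2 = ⊥ ∧
      (∀ (R : CommRingCat.{u}) (ψ₁ ψ₂ : B ⟶ R), φ ≫ ψ₁ = φ ≫ ψ₂ →
        Spec.map ψ₁ ≫ q = Spec.map ψ₂ ≫ q → ψ₁ = ψ₂) ∧
      (∀ (R : Type u) [CommRing R] (J1 : Ideal R), J1 ^ 2 = ⊥ →
        ∀ (ρ : CommRingCat.of A ⟶ CommRingCat.of R)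
          (ε : CommRingCat.of (A ⧸ I) ⟶ CommRingCat.of (R ⧸ J1)),
          CommRingCat.ofHom (Ideal.Quotient.mk I) ≫ ε = ρ ≫ CommRingCat.ofHom (Ideal.Quotient.mk J1) →
          ∀ h : Spec (CommRingCat.of R) ⟶ X, h ≫ f = Spec.map ρ ≫ b →
            Spec.map (CommRingCat.ofHom (Ideal.Quotient.mk J1)) ≫ h = Spec.map ε ≫ a →
            ∃ ψ : B ⟶ CommRingCat.of R, φ ≫ ψ = ρ ∧ Spec.map ψ ≫ q = h) := by
  let T := Spec (CommRingCat.of (A ⧸ I))
  let i : T ⟶ Spec (CommRingCat.of A) := Spec.map (CommRingCat.ofHom (Ideal.Quotient.mk I))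
  have : IsClosedImmersion i := IsClosedImmersion.spec_of_surjective _ Ideal.Quotient.mk_surjective
  let s : T ⟶ pullback f b := pullback.lift a i w.symm
  have : IsImmersion (s ≫ pullback.snd f b) := by rw [pullback.lift_snd]; infer_instance
  have : IsImmersion s := IsImmersion.of_comp s (pullback.snd f b)
  let W := s.coborderRange
  let s' : T ⟶ W := s.liftCoborder
  let Q := s'.ker
  let Q2 := Q ^ 2
  have hQ : Q2 ≤ Q := fun U => by
    simp only [Q2, Scheme.IdealSheafData.ideal_pow, Pi.pow_apply]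
    exact Ideal.pow_le_self two_ne_zero
  let Z := Q2.subscheme
  let z : T ⟶ Z := IsClosedImmersion.lift Q2.subschemeι s' (by rw [Scheme.IdealSheafData.ker_subschemeι]; exact hQ)
  have hz : z ≫ Q2.subschemeι = s' := IsClosedImmersion.lift_fac _ _ _
  have : IsClosedImmersion (z ≫ Q2.subschemeι) := by rw [hz]; infer_instance
  have : IsClosedImmersion z := IsClosedImmersion.of_comp z Q2.subschemeι
  have hzs : Function.Surjective z := by
    intro y
    have hy : Q2.subschemeι y ∈ (Q2.support : Set W) := by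
      rw [← Scheme.IdealSheafData.range_subschemeι]; exact ⟨y, rfl⟩
    rw [show Q2.support = Q.support from Scheme.IdealSheafData.support_pow Q 2 two_ne_zero,
      Scheme.Hom.support_ker, closure_eq_iff_isClosed.mpr s'.isClosedEmbedding.isClosed_range] at hy
    obtain ⟨x, hx⟩ := hy
    refine ⟨x, Q2.subschemeι.isClosedEmbedding.injective ?_⟩
    show (z ≫ Q2.subschemeι) x = _
    rw [hz, hx]
  have : IsAffine Z := Groth.Agent.H7Lim.isAffine_of_surjective_closedImmersion z hzs
  let e := Z.isoSpec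
  obtain ⟨π₀, hπ₀⟩ := Spec.map_surjective (z ≫ e.hom)
  have hπ₀s : Function.Surjective π₀.hom := by
    have : IsClosedImmersion (Spec.map π₀) := by rw [hπ₀]; infer_instance
    have hs := (IsClosedImmersion.isAffine_surjective_of_isAffine (Spec.map π₀)).2
    intro x
    obtain ⟨y, hy⟩ := hs ((Scheme.ΓSpecIso _).inv.hom x)
    refine ⟨(Scheme.ΓSpecIso _).hom.hom y, ?_⟩
    have := congr_arg (fun g => g.hom y) (Scheme.ΓSpecIso_naturality π₀)
    simp only [CommRingCat.hom_comp, RingHom.comp_apply] at this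
    rw [← this]
    show (Scheme.ΓSpecIso _).hom.hom ((Spec.map π₀).appTop.hom y) = x
    rw [hy]
    simp [← CommRingCat.comp_apply]
  let K := RingHom.ker π₀.hom ^ 2
  let m : Z ⟶ pullback f b := Q2.subschemeι ≫ W.ι
  have : Mono m := by simp only [m]; infer_instance
  have hzm : z ≫ m = s := by
    simp only [m]; rw [← Category.assoc, hz]; exact s.liftCoborder_ι
  let B := CommRingCat.of (Γ(Z, ⊤) ⧸ K)
  let mk : Γ(Z, ⊤) ⟶ B := CommRingCat.ofHom (Ideal.Quotient.mk K)
  have : IsClosedImmersion (Spec.map mk) := IsClosedImmersion.spec_of_surjective _ Ideal.Quotient.mk_surjective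
  let q' : Spec B ⟶ pullback f b := Spec.map mk ≫ e.inv ≫ m
  have : Mono q' := by simp only [q']; infer_instance
  have hKle : K ≤ RingHom.ker π₀.hom := Ideal.pow_le_self two_ne_zero
  let π : B ⟶ CommRingCat.of (A ⧸ I) :=
    CommRingCat.ofHom (Ideal.Quotient.lift K π₀.hom fun x hx => hKle hx)
  have hπmk : mk ≫ π = π₀ := by ext x; rfl
  obtain ⟨φ, hφ⟩ := Spec.map_surjective (q' ≫ pullback.snd f b)
  have hπq : Spec.map π ≫ q' = s := by
    simp only [q']
    rw [← Category.assoc, ← Spec.map_comp, hπmk, hπ₀, Category.assoc, e.hom_inv_id_assoc, hzm]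
  refine ⟨B, φ, π, q' ≫ pullback.fst f b, ?_, ?_, ?_, ?_, ?_, ?_, ?_⟩
  · apply Spec.map_injective
    rw [Spec.map_comp, hφ, ← Category.assoc, hπq, pullback.lift_snd]
  · rw [Category.assoc, pullback.condition, ← Category.assoc, hφ]
  · rw [← Category.assoc, hπq, pullback.lift_fst]
  · exact Ideal.Quotient.lift_surjective_of_surjective _ _ hπ₀s
  · show RingHom.ker (Ideal.Quotient.lift K π₀.hom _) ^ 2 = ⊥
    rw [Ideal.ker_quotient_lift, ← Ideal.map_pow, Ideal.map_quotient_self]
  · intro R ψ₁ ψ₂ h1 h2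
    apply Spec.map_injective
    rw [← cancel_mono q']
    apply pullback.hom_ext
    · simpa [Category.assoc] using h2
    · simp only [Category.assoc]
      rw [← hφ, ← Spec.map_comp, ← Spec.map_comp, h1]
  · intro R _ J1 hJ1 ρ ε hcomp h hf hh
    let j : Spec (CommRingCat.of (R ⧸ J1)) ⟶ Spec (CommRingCat.of R) :=
      Spec.map (CommRingCat.ofHom (Ideal.Quotient.mk J1))
    let h' : Spec (CommRingCat.of R) ⟶ pullback f b := pullback.lift h (Spec.map ρ) hf
    have hjh : j ≫ h' = Spec.map ε ≫ s := by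
      apply pullback.hom_ext
      · simp only [h', s, j, Category.assoc, pullback.lift_fst]; exact hh
      · simp only [h', s, j, i, Category.assoc, pullback.lift_snd, ← Spec.map_comp, hcomp]
    have hrange : Set.range h' ⊆ Set.range W.ι := by
      rintro _ ⟨p, rfl⟩
      obtain ⟨p', rfl⟩ := comap_mk_surjective hJ1 p
      refine ⟨(Spec.map ε ≫ s') p', ?_⟩
      show ((Spec.map ε ≫ s') ≫ W.ι) p' = (j ≫ h') p'
      rw [Category.assoc, show s' ≫ W.ι = s from s.liftCoborder_ι, hjh]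
    let h'' : Spec (CommRingCat.of R) ⟶ W := IsOpenImmersion.lift W.ι h' hrange
    have hh'' : h'' ≫ W.ι = h' := IsOpenImmersion.lift_fac _ _ _
    have hjh'' : j ≫ h'' = Spec.map ε ≫ s' := by
      rw [← cancel_mono W.ι, Category.assoc, hh'', hjh, Category.assoc,
        show s' ≫ W.ι = s from s.liftCoborder_ι]
    have hQh : Q2 ≤ h''.ker := by
      refine Scheme.IdealSheafData.le_ofIdeals_iff.mpr fun V => ?_
      have h1 : Q.ideal V ≤ RingHom.ker ((j ≫ h'').app V).hom := by
        rw [hjh'']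
        exact ((Scheme.Hom.le_ker_comp (Spec.map ε) s' : _) V).trans (Scheme.Hom.ideal_ker_le _ V)
      simp only [Q2, Scheme.IdealSheafData.ideal_pow, Pi.pow_apply, pow_two]
      refine Ideal.mul_le.mpr fun x hx y hy => ?_
      have h2 := h1 hx
      have h3 := h1 hy
      rw [RingHom.mem_ker, Scheme.Hom.comp_app] at h2 h3
      rw [RingHom.mem_ker, map_mul]
      exact app_mul_eq_zero hJ1 _ _ _ h2 h3
    let h3 : Spec (CommRingCat.of R) ⟶ Z :=
      IsClosedImmersion.lift Q2.subschemeι h'' (by rwa [Scheme.IdealSheafData.ker_subschemeι])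
    have hh3 : h3 ≫ m = h' := by
      simp only [m, h3, ← Category.assoc, IsClosedImmersion.lift_fac, hh'']
    obtain ⟨ψ₀, hψ₀⟩ := Spec.map_surjective (h3 ≫ e.hom)
    have hψπ : ψ₀ ≫ CommRingCat.ofHom (Ideal.Quotient.mk J1) = π₀ ≫ ε := by
      apply Spec.map_injective
      rw [Spec.map_comp, Spec.map_comp, hψ₀, hπ₀, ← Category.assoc, ← Category.assoc, cancel_mono,
        ← cancel_mono m, Category.assoc, Category.assoc, hh3, hzm]
      exact hjh
    have hker : K ≤ RingHom.ker ψ₀.hom := by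
      have : RingHom.ker π₀.hom ≤ J1.comap ψ₀.hom := fun x hx => by
        rw [Ideal.mem_comap, ← Ideal.Quotient.eq_zero_iff_mem]
        have := congr_arg (fun g => g.hom x) hψπ
        simp only [CommRingCat.hom_comp, RingHom.comp_apply, CommRingCat.hom_ofHom] at this
        rw [this, RingHom.mem_ker.mp hx, map_zero]
      refine (Ideal.pow_right_mono this 2).trans ((Ideal.le_comap_pow _ _).trans ?_)
      rw [hJ1]
      exact fun x hx => hx
    refine ⟨CommRingCat.ofHom (Ideal.Quotient.lift K ψ₀.hom fun x hx => hker hx), ?_⟩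
    have hq' : Spec.map (CommRingCat.ofHom (Ideal.Quotient.lift K ψ₀.hom fun x hx => hker hx)) ≫ q' = h' := by
      simp only [q']
      rw [← Category.assoc, ← Spec.map_comp]
      have : mk ≫ CommRingCat.ofHom (Ideal.Quotient.lift K ψ₀.hom fun x hx => hker hx) = ψ₀ := by
        ext x; rfl
      rw [this, hψ₀, Category.assoc, e.hom_inv_id_assoc, hh3]
    refine ⟨?_, ?_⟩
    · apply Spec.map_injective
      rw [Spec.map_comp, hφ, ← Category.assoc, hq', pullback.lift_snd]
    · rw [← Category.assoc, hq', pullback.lift_fst]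

/-- Lifting through a pair of affine charts. -/
theorem exists_lift_chart {X Y : Scheme.{u}} (f : X ⟶ Y) {U : X.Opens} {V : Y.Opens}
    (hU : IsAffineOpen U) (hV : IsAffineOpen V) (hUV : U ≤ f ⁻¹ᵁ V)
    (hfs : letI := (f.appLE V U hUV).hom.toAlgebra; Algebra.FormallySmooth Γ(Y, V) Γ(X, U))
    {R : Type u} [CommRing R] (J : Ideal R) (hJ : J ^ 2 = ⊥)
    (a : Spec (CommRingCat.of (R ⧸ J)) ⟶ X) (b : Spec (CommRingCat.of R) ⟶ Y)
    (w : Spec.map (CommRingCat.ofHom (Ideal.Quotient.mk J)) ≫ b = a ≫ f)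
    (ha : ∀ p, a p ∈ U) (hb : ∀ p, b p ∈ V) :
    ∃ l : Spec (CommRingCat.of R) ⟶ X,
      Spec.map (CommRingCat.ofHom (Ideal.Quotient.mk J)) ≫ l = a ∧ l ≫ f = b := by
  obtain ⟨α, hα⟩ := Spec.map_surjective (IsOpenImmersion.lift hU.fromSpec a
    (by rw [hU.range_fromSpec]; rintro _ ⟨p, rfl⟩; exact ha p))
  obtain ⟨β, hβ⟩ := Spec.map_surjective (IsOpenImmersion.lift hV.fromSpec b
    (by rw [hV.range_fromSpec]; rintro _ ⟨p, rfl⟩; exact hb p))
  have hα' : Spec.map α ≫ hU.fromSpec = a := by rw [hα, IsOpenImmersion.lift_fac]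
  have hβ' : Spec.map β ≫ hV.fromSpec = b := by rw [hβ, IsOpenImmersion.lift_fac]
  have hcomm : f.appLE V U hUV ≫ α = β ≫ CommRingCat.ofHom (Ideal.Quotient.mk J) := by
    apply Spec.map_injective
    rw [Spec.map_comp, Spec.map_comp, ← cancel_mono hV.fromSpec, Category.assoc, Category.assoc,
      IsAffineOpen.SpecMap_appLE_fromSpec f hV hU hUV, ← Category.assoc, hα', hβ', w]
  letI := (f.appLE V U hUV).hom.toAlgebra
  letI : Algebra Γ(Y, V) R := β.hom.toAlgebra
  let α' : Γ(X, U) →ₐ[Γ(Y, V)] R ⧸ J :=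
    { α.hom with commutes' := fun r => ConcreteCategory.congr_hom hcomm r }
  obtain ⟨l, hl⟩ := Algebra.FormallySmooth.comp_surjective Γ(Y, V) Γ(X, U) J hJ α'
  refine ⟨Spec.map (CommRingCat.ofHom l.toRingHom) ≫ hU.fromSpec, ?_, ?_⟩
  · have : CommRingCat.ofHom l.toRingHom ≫ CommRingCat.ofHom (Ideal.Quotient.mk J) = α := by
      ext x; exact DFunLike.congr_fun hl x
    rw [← Category.assoc, ← Spec.map_comp, this, hα']
  · have : f.appLE V U hUV ≫ CommRingCat.ofHom l.toRingHom = β := by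
      ext x; exact l.commutes x
    rw [Category.assoc, ← IsAffineOpen.SpecMap_appLE_fromSpec f hV hU hUV, ← Category.assoc,
      ← Spec.map_comp, this, hβ']

/-- Formal smoothness can be checked on affine charts. -/
theorem isFormallySmoothHom_of_charts {X Y : Scheme.{u}} (f : X ⟶ Y)
    (H : ∀ x : X, ∃ (U : X.Opens) (V : Y.Opens) (_ : IsAffineOpen U) (_ : IsAffineOpen V)
      (hUV : U ≤ f ⁻¹ᵁ V), x ∈ U ∧
      (letI := (f.appLE V U hUV).hom.toAlgebra; Algebra.FormallySmooth Γ(Y, V) Γ(X, U))) :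
    MoreMor.IsFormallySmoothHom f := by
  intro A _ I hI a b w
  obtain ⟨B, φ, π, q, hφπ, hqf, hπq, hπs, hπ2, hmono, huf⟩ := exists_neighbourhood f I hI a b w
  letI : Algebra A B := φ.hom.toAlgebra
  let π' : B →ₐ[A] A ⧸ I := { π.hom with commutes' := fun r => ConcreteCategory.congr_hom hφπ r }
  let S : Set A := {g | ∃ (U : X.Opens) (V : Y.Opens) (_ : IsAffineOpen U) (_ : IsAffineOpen V)
    (hUV : U ≤ f ⁻¹ᵁ V),
    (letI := (f.appLE V U hUV).hom.toAlgebra; Algebra.FormallySmooth Γ(Y, V) Γ(X, U)) ∧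
    (∀ p : PrimeSpectrum (A ⧸ I), Ideal.Quotient.mk I g ∉ p.asIdeal → a p ∈ U) ∧
    ∀ p : PrimeSpectrum A, g ∉ p.asIdeal → b p ∈ V}
  have hS : Ideal.span S = ⊤ := by
    by_contra hne
    obtain ⟨M, hM, hle⟩ := Ideal.exists_le_maximal _ hne
    obtain ⟨p', hp'⟩ := comap_mk_surjective hI (⟨M, hM.isPrime⟩ : PrimeSpectrum A)
    obtain ⟨U, V, hU, hV, hUV, hpU, hfs⟩ := H (a p')
    have hi : IsClosedImmersion (Spec.map (CommRingCat.ofHom (Ideal.Quotient.mk I))) :=
      IsClosedImmersion.spec_of_surjective _ Ideal.Quotient.mk_surjective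
    have hopen : IsOpenMap (Spec.map (CommRingCat.ofHom (Ideal.Quotient.mk I))).base :=
      (isHomeomorph_iff_isEmbedding_surjective.mpr
        ⟨(Scheme.Hom.isClosedEmbedding _).isEmbedding, comap_mk_surjective hI⟩).isOpenMap
    obtain ⟨_, ⟨_, ⟨g, rfl⟩, rfl⟩, hgM, hgsub⟩ := PrimeSpectrum.isBasis_basic_opens.exists_subset_of_mem_open
      (show (⟨M, hM.isPrime⟩ : PrimeSpectrum A) ∈
        (Spec.map (CommRingCat.ofHom (Ideal.Quotient.mk I))) '' (a ⁻¹ᵁ U : Set _) from
          ⟨p', hpU, hp'⟩) (hopen _ (a ⁻¹ᵁ U).2)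
    refine hgM (hle (Ideal.subset_span ?_))
    refine ⟨U, V, hU, hV, hUV, hfs, fun p hp => ?_, fun p hp => ?_⟩
    · obtain ⟨r, hr, he⟩ := hgsub (show PrimeSpectrum.comap (Ideal.Quotient.mk I) p ∈
        (PrimeSpectrum.basicOpen g : Set _) from hp)
      have : r = p := (Scheme.Hom.isClosedEmbedding
        (Spec.map (CommRingCat.ofHom (Ideal.Quotient.mk I)))).injective he
      exact this ▸ hr
    · obtain ⟨r, hr, rfl⟩ := hgsub (show p ∈ (PrimeSpectrum.basicOpen g : Set _) from hp)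
      show (Spec.map (CommRingCat.ofHom (Ideal.Quotient.mk I)) ≫ b) r ∈ V
      rw [w]
      exact hUV hr
  have hlifts : ∀ g ∈ S, FormallySmoothAlg.LiftsAway I π' g := by
    rintro g ⟨U, V, hU, hV, hUV, hfs, haU, hbV⟩ R _ _ hg J J1 hle hJ1 ε θ hθ
    have hJ : J ^ 2 = ⊥ := eq_bot_iff.mpr ((Ideal.pow_right_mono hle 2).trans hJ1.le)
    let ρ : CommRingCat.of A ⟶ CommRingCat.of R := CommRingCat.ofHom (algebraMap A R)
    let θc : B ⟶ CommRingCat.of (R ⧸ J) := CommRingCat.ofHom θ.toRingHom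
    have hθc : φ ≫ θc = ρ ≫ CommRingCat.ofHom (Ideal.Quotient.mk J) := by
      ext x
      exact θ.commutes x
    let fac : CommRingCat.of (R ⧸ J) ⟶ CommRingCat.of (R ⧸ J1) :=
      CommRingCat.ofHom (Ideal.Quotient.factor hle)
    let εc : CommRingCat.of (A ⧸ I) ⟶ CommRingCat.of (R ⧸ J1) := CommRingCat.ofHom ε.toRingHom
    have hfac : θc ≫ fac = π ≫ εc := by ext x; exact hθ x
    have hεc : CommRingCat.ofHom (Ideal.Quotient.mk I) ≫ εc =
        ρ ≫ CommRingCat.ofHom (Ideal.Quotient.mk J1) := by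
      ext x
      exact ε.commutes x
    have hmkfac : CommRingCat.ofHom (Ideal.Quotient.mk J) ≫ fac =
        CommRingCat.ofHom (Ideal.Quotient.mk J1) := by ext x; rfl
    obtain ⟨l, hl, hlf⟩ := exists_lift_chart f hU hV hUV hfs J hJ (Spec.map θc ≫ q)
      (Spec.map ρ ≫ b) (by rw [Category.assoc, hqf, ← Category.assoc, ← Category.assoc,
        ← Spec.map_comp, ← Spec.map_comp, hθc])
      (fun p => by
        obtain ⟨p1, hp1⟩ := comap_mk_surjective hJ1 (Spec.map (CommRingCat.ofHom (Ideal.Quotient.mk J)) p)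
        have hp : Spec.map fac p1 = p := (IsClosedImmersion.spec_of_surjective
          (CommRingCat.ofHom (Ideal.Quotient.mk J)) Ideal.Quotient.mk_surjective).isClosedEmbedding.injective (by
            rw [← hp1, ← hmkfac, Spec.map_comp]; rfl)
        rw [← hp]
        show (Spec.map fac ≫ Spec.map θc ≫ q) p1 ∈ U
        rw [← Category.assoc, ← Spec.map_comp, hfac, Spec.map_comp, Category.assoc, hπq]
        refine haU _ fun hmem => ?_
        have : Ideal.Quotient.mk J1 (algebraMap A R g) ∈ p1.asIdeal := by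
          have h1 := ConcreteCategory.congr_hom hεc g
          exact h1 ▸ hmem
        exact p1.isPrime.ne_top (Ideal.eq_top_of_isUnit_mem _ this (hg.map _)))
      (fun p => by
        refine hbV _ fun hmem => ?_
        exact p.isPrime.ne_top (Ideal.eq_top_of_isUnit_mem _ hmem hg))
    obtain ⟨ψ, hψφ, hψq⟩ := huf R J1 hJ1 ρ εc hεc l hlf (by
      rw [← hmkfac, Spec.map_comp, Category.assoc, hl, ← Category.assoc, ← Spec.map_comp, hfac,
        Spec.map_comp, Category.assoc, hπq])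
    refine ⟨{ ψ.hom with commutes' := fun r => ConcreteCategory.congr_hom hψφ r }, fun x => ?_⟩
    have := hmono _ (ψ ≫ CommRingCat.ofHom (Ideal.Quotient.mk J)) θc
      (by rw [← Category.assoc, hψφ, hθc])
      (by rw [Spec.map_comp, Category.assoc, hψq, hl])
    exact ConcreteCategory.congr_hom this x
  obtain ⟨σ, hσ⟩ := FormallySmoothAlg.exists_section (I := I) (π := π') hI hπs hπ2 S hS hlifts
  refine ⟨Spec.map (CommRingCat.ofHom σ.toRingHom) ≫ q, ?_, ?_⟩
  · have : CommRingCat.ofHom σ.toRingHom ≫ CommRingCat.ofHom (Ideal.Quotient.mk I) = π := by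
      ext x; exact hσ x
    rw [← Category.assoc, ← Spec.map_comp, this, hπq]
  · have : φ ≫ CommRingCat.ofHom σ.toRingHom = 𝟙 _ := by ext x; exact σ.commutes x
    rw [Category.assoc, hqf, ← Category.assoc, ← Spec.map_comp, this, Spec.map_id, Category.id_comp]

/-- Formally smooth morphisms induce formally smooth ring maps on affine opens. -/
theorem formallySmooth_appLE {X Y : Scheme.{u}} (f : X ⟶ Y) (hf : MoreMor.IsFormallySmoothHom f)
    {U : X.Opens} {V : Y.Opens} (hU : IsAffineOpen U) (hV : IsAffineOpen V) (hUV : U ≤ f ⁻¹ᵁ V) :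
    letI := (f.appLE V U hUV).hom.toAlgebra
    Algebra.FormallySmooth Γ(Y, V) Γ(X, U) := by
  letI := (f.appLE V U hUV).hom.toAlgebra
  refine Algebra.FormallySmooth.of_comp_surjective fun R _ _ J hJ g => ?_
  let gc : Γ(X, U) ⟶ CommRingCat.of (R ⧸ J) := CommRingCat.ofHom g.toRingHom
  let ρ : Γ(Y, V) ⟶ CommRingCat.of R := CommRingCat.ofHom (algebraMap Γ(Y, V) R)
  have hgc : f.appLE V U hUV ≫ gc = ρ ≫ CommRingCat.ofHom (Ideal.Quotient.mk J) := by
    ext x; exact g.commutes x
  obtain ⟨l, hl, hlf⟩ := hf R J hJ (Spec.map gc ≫ hU.fromSpec) (Spec.map ρ ≫ hV.fromSpec) (by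
    rw [Category.assoc, ← IsAffineOpen.SpecMap_appLE_fromSpec f hV hU hUV, ← Category.assoc,
      ← Category.assoc, ← Spec.map_comp, ← Spec.map_comp, hgc])
  obtain ⟨m, hm⟩ := Spec.map_surjective (IsOpenImmersion.lift hU.fromSpec l (by
    rintro _ ⟨p, rfl⟩
    obtain ⟨p', rfl⟩ := comap_mk_surjective hJ p
    exact ⟨Spec.map gc p', (congrArg (fun k : Spec (CommRingCat.of (R ⧸ J)) ⟶ X => k p') hl).symm⟩))
  have hm' : Spec.map m ≫ hU.fromSpec = l := by rw [hm, IsOpenImmersion.lift_fac]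
  rw [← hm', ← Category.assoc, cancel_mono, ← Spec.map_comp, Spec.map_inj] at hl
  rw [← hm', Category.assoc, ← IsAffineOpen.SpecMap_appLE_fromSpec f hV hU hUV, ← Category.assoc,
    cancel_mono, ← Spec.map_comp, Spec.map_inj] at hlf
  exact ⟨{ m.hom with commutes' := fun r => ConcreteCategory.congr_hom hlf r },
    AlgHom.ext fun x => ConcreteCategory.congr_hom hl x⟩

theorem isFormallySmoothHom_iff {X Y : Scheme.{u}} (f : X ⟶ Y) :
    MoreMor.IsFormallySmoothHom f ↔ ∀ (U : X.Opens) (V : Y.Opens) (_ : IsAffineOpen U)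
      (_ : IsAffineOpen V) (hUV : U ≤ f ⁻¹ᵁ V),
      letI := (f.appLE V U hUV).hom.toAlgebra
      Algebra.FormallySmooth Γ(Y, V) Γ(X, U) := by
  refine ⟨fun hf U V hU hV hUV => formallySmooth_appLE f hf hU hV hUV,
    fun H => isFormallySmoothHom_of_charts f fun x => ?_⟩
  obtain ⟨V, hV, hxV, -⟩ := exists_isAffineOpen_mem_and_subset (x := f x) (U := ⊤) trivial
  obtain ⟨U, hU, hxU, hUV⟩ := exists_isAffineOpen_mem_and_subset (x := x) (U := f ⁻¹ᵁ V) hxV
  exact ⟨U, V, hU, hV, hUV, hxU, H U V hU hV hUV⟩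

end Groth.Agent.H8Props.FormallySmoothScheme
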