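import Groth.Agent.H8Props.FieldDimRing
import Groth.Agent.H28Top.Dim
import Groth.Prelude.Def_Flat
import Mathlib.AlgebraicGeometry.Morphisms.FiniteType
import Mathlib.AlgebraicGeometry.Morphisms.Preimmersion
import Mathlib.AlgebraicGeometry.Pullbacks
import Mathlib.AlgebraicGeometry.Noetherian
import Mathlib.RingTheory.Spectrum.Prime.Topology
import Mathlib.RingTheory.Spectrum.Prime.RingHom

/-!
# Dimension theory of schemes locally of finite type over a field
-/

set_option autoImplicit false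
set_option linter.style.haveILetI false
universe u

open AlgebraicGeometry CategoryTheory CategoryTheory.Limits TopologicalSpace Topology

namespace Groth.Agent.H8Props.FieldDim

/-- The dimension of the closure of a point. -/
noncomputable def cdim {X : Type*} [TopologicalSpace X] (x : X) : WithBot ℕ∞ :=
  topologicalKrullDim (closure ({x} : Set X))

section Top

variable {X Y : Type u} [TopologicalSpace X] [TopologicalSpace Y]

theorem dim_range {j : X → Y} (hj : IsEmbedding j) :
    topologicalKrullDim (Set.range j) = topologicalKrullDim X :=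
  (IsHomeomorph.topologicalKrullDim_eq _ hj.toHomeomorph.isHomeomorph).symm

theorem dim_mono {S T : Set Y} (h : S ⊆ T) : topologicalKrullDim S ≤ topologicalKrullDim T :=
  (IsEmbedding.inclusion h).isInducing.topologicalKrullDim_le

theorem dim_preimage {j : X → Y} (hj : IsEmbedding j) (S : Set Y) :
    topologicalKrullDim (j ⁻¹' S) = topologicalKrullDim (S ∩ Set.range j : Set Y) := by
  have h : IsEmbedding (fun x : j ⁻¹' S => j x) := hj.comp IsEmbedding.subtypeVal
  rw [← dim_range h]
  have e : (Set.range fun x : j ⁻¹' S => j x) = S ∩ Set.range j := ?_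
  · rw [e]
  ext y
  constructor
  · rintro ⟨⟨x, hx⟩, rfl⟩; exact ⟨hx, x, rfl⟩
  · rintro ⟨hy, x, rfl⟩; exact ⟨⟨x, hy⟩, rfl⟩

/-- The dimension is the supremum of the dimensions of the closures of the points. -/
theorem dim_eq_iSup_cdim [QuasiSober X] : topologicalKrullDim X = ⨆ x : X, cdim x :=
  H28Top.dim_eq_iSup_of_subset (fun x => closure {x}) fun Z =>
    ⟨Z.2.genericPoint, (Z.2.closure_genericPoint Z.3).symm.subset⟩

end Top

variable {k : Type u} [Field k] {Z : Scheme.{u}} (f : Z ⟶ Spec (CommRingCat.of k))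

theorem finiteType_of_chart [LocallyOfFiniteType f] {A : Type u} [CommRing A] [Algebra k A]
    (j : Spec (CommRingCat.of A) ⟶ Z) [IsOpenImmersion j]
    (hj : j ≫ f = Spec.map (CommRingCat.ofHom (algebraMap k A))) : Algebra.FiniteType k A := by
  have h : LocallyOfFiniteType (Spec.map (CommRingCat.ofHom (algebraMap k A))) := hj ▸ inferInstance
  exact RingHom.finiteType_algebraMap.mp
    ((HasRingHomProperty.Spec_iff (P := @LocallyOfFiniteType)).mp h)

theorem exists_algebra_chart {A : Type u} [CommRing A] (j : Spec (CommRingCat.of A) ⟶ Z) :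
    ∃ alg : Algebra k A, j ≫ f = Spec.map (CommRingCat.ofHom (@algebraMap k A _ _ alg)) :=
  ⟨(Spec.preimage (j ≫ f)).hom.toAlgebra, (Spec.map_preimage _).symm⟩

omit f in
theorem dim_closure_inter_range {A : Type u} [CommRing A] (j : Spec (CommRingCat.of A) ⟶ Z)
    [IsOpenImmersion j] (p : PrimeSpectrum A) :
    topologicalKrullDim (closure ({j p} : Set Z) ∩ Set.range j : Set Z) =
      ringKrullDim (A ⧸ p.asIdeal) := by
  have he : IsEmbedding (fun q => j (PrimeSpectrum.comap (Ideal.Quotient.mk p.asIdeal) q)) :=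
    j.isOpenEmbedding.isEmbedding.comp
      (PrimeSpectrum.isClosedEmbedding_comap_of_surjective _ _ Ideal.Quotient.mk_surjective).isEmbedding
  rw [← PrimeSpectrum.topologicalKrullDim_eq_ringKrullDim, ← dim_range he]
  have h1 : Set.range (PrimeSpectrum.comap (Ideal.Quotient.mk p.asIdeal)) = closure {p} := by
    rw [range_comap_of_surjective _ _ Ideal.Quotient.mk_surjective, Ideal.mk_ker,
      PrimeSpectrum.closure_singleton]
  have h2 : j '' (closure {p}) = closure {j p} ∩ Set.range j := by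
    rw [j.isOpenEmbedding.isEmbedding.closure_eq_preimage_closure_image,
      Set.image_preimage_eq_inter_range]
    erw [Set.image_singleton]
  have h3 : closure ({j p} : Set Z) ∩ Set.range j =
      Set.range (fun q => j (PrimeSpectrum.comap (Ideal.Quotient.mk p.asIdeal) q)) :=
    h2.symm.trans ((congrArg (j '' ·) h1.symm).trans (Set.range_comp _ _).symm)
  rw [h3]

/-- Dimension of a closure seen in a principal open subset of a chart. -/
theorem dim_closure_inter_image_basicOpen [LocallyOfFiniteType f] {A : Type u} [CommRing A]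
    (j : Spec (CommRingCat.of A) ⟶ Z) [IsOpenImmersion j] (p : PrimeSpectrum A) (a : A)
    (ha : a ∉ p.asIdeal) :
    topologicalKrullDim (closure ({j p} : Set Z) ∩ j '' ((PrimeSpectrum.basicOpen a : Opens (PrimeSpectrum A)) : Set (PrimeSpectrum A)) : Set Z) =
      ringKrullDim (A ⧸ p.asIdeal) := by
  obtain ⟨alg, hj⟩ := exists_algebra_chart f j
  haveI := finiteType_of_chart f j hj
  let B := Localization.Away a
  let j' : Spec (CommRingCat.of B) ⟶ Z := Spec.map (CommRingCat.ofHom (algebraMap A B)) ≫ j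
  haveI : IsOpenImmersion (Spec.map (CommRingCat.ofHom (algebraMap A B))) :=
    IsOpenImmersion.of_isLocalization a
  have hr : Set.range (PrimeSpectrum.comap (algebraMap A B)) = (PrimeSpectrum.basicOpen a : Set _) :=
    PrimeSpectrum.localization_away_comap_range B a
  obtain ⟨q, hq⟩ : p ∈ Set.range (PrimeSpectrum.comap (algebraMap A B)) := hr ▸ ha
  have h1 := dim_closure_inter_range j' q
  have hq' : j' q = j p := by rw [← hq]; rfl
  have hrange : Set.range j' = j '' ((PrimeSpectrum.basicOpen a : Opens (PrimeSpectrum A)) : Set (PrimeSpectrum A)) := by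
    show Set.range (j ∘ PrimeSpectrum.comap (algebraMap A B)) = _
    exact (Set.range_comp _ _).trans (congrArg (Set.image j) hr)
  rw [hq', hrange] at h1
  rw [h1, dim_quotient_localization_away k A B a q.asIdeal, ← hq]
  rfl

/-- Any affine neighbourhood computes the dimension of the closure of a point. -/
theorem cdim_eq_inter [LocallyOfFiniteType f] (z : Z) {V : Z.Opens} (hV : IsAffineOpen V)
    (hz : z ∈ V) : cdim z = topologicalKrullDim (closure ({z} : Set Z) ∩ V : Set Z) := by
  have key : ∀ {W : Z.Opens} (hW : IsAffineOpen W) (hzW : z ∈ W) (g : Γ(Z, W)),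
      z ∈ Z.basicOpen g → topologicalKrullDim (closure ({z} : Set Z) ∩ Z.basicOpen g : Set Z) =
        topologicalKrullDim (closure ({z} : Set Z) ∩ W : Set Z) := by
    intro W hW hzW g hg
    obtain ⟨p, hp⟩ : z ∈ Set.range hW.fromSpec := by rw [hW.range_fromSpec]; exact hzW
    have himg : hW.fromSpec '' ((PrimeSpectrum.basicOpen g : Opens (PrimeSpectrum Γ(Z, W))) : Set (PrimeSpectrum Γ(Z, W))) = (Z.basicOpen g : Set Z) :=
      congrArg SetLike.coe (hW.fromSpec_image_basicOpen g)
    have hgp : g ∉ p.asIdeal := by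
      have : z ∈ hW.fromSpec '' ((PrimeSpectrum.basicOpen g : Opens (PrimeSpectrum Γ(Z, W))) : Set (PrimeSpectrum Γ(Z, W))) := by rw [himg]; exact hg
      obtain ⟨p', hp', he⟩ := this
      exact hW.fromSpec.isOpenEmbedding.injective (he.trans hp.symm) ▸ hp'
    have h1 := dim_closure_inter_image_basicOpen f (A := Γ(Z, W)) hW.fromSpec p g hgp
    have h2 := dim_closure_inter_range (A := Γ(Z, W)) hW.fromSpec p
    erw [himg, hp] at h1
    erw [hW.range_fromSpec, hp] at h2
    exact h1.trans h2.symm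
  have inv : ∀ {W : Z.Opens}, IsAffineOpen W → z ∈ W →
      topologicalKrullDim (closure ({z} : Set Z) ∩ W : Set Z) =
        topologicalKrullDim (closure ({z} : Set Z) ∩ V : Set Z) := by
    intro W hW hzW
    obtain ⟨a, b, hab, hza⟩ := exists_basicOpen_le_affine_inter hW hV z ⟨hzW, hz⟩
    rw [← key hW hzW a hza, ← key hV hz b (hab ▸ hza), hab]
  refine le_antisymm ?_ (dim_mono Set.inter_subset_left)
  refine H28Top.dim_le_of_chains fun s => ?_
  obtain ⟨x, hx⟩ := s.head.isIrreducible.nonempty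
  obtain ⟨W, (hW : IsAffineOpen W), hxW, -⟩ := Opens.isBasis_iff_nbhd.mp Z.isBasis_affineOpens
    (show x.1 ∈ (⊤ : Z.Opens) from trivial)
  have hzW : z ∈ W := (specializes_iff_mem_closure.mpr x.2).mem_open W.2 hxW
  refine (H28Top.chain_le_dim_of_isOpen s (W.2.preimage continuous_subtype_val) ⟨x, hx, hxW⟩).trans ?_
  rw [← inv hW hzW, dim_preimage IsEmbedding.subtypeVal, Subtype.range_coe, Set.inter_comm]
  rfl

theorem cdim_eq_chart [LocallyOfFiniteType f] {A : Type u} [CommRing A]
    (j : Spec (CommRingCat.of A) ⟶ Z) [IsOpenImmersion j] (p : PrimeSpectrum A) :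
    cdim (j p) = ringKrullDim (A ⧸ p.asIdeal) := by
  rw [cdim_eq_inter f (j p) (isAffineOpen_opensRange j) ⟨p, rfl⟩]
  exact dim_closure_inter_range j p

/-- `cdim` is a natural number, the transcendence degree of the residue field. -/
theorem exists_trdeg [LocallyOfFiniteType f] {L : Type u} [Field L]
    (e : Spec (CommRingCat.of L) ⟶ Z) [IsPreimmersion e] [Algebra k L]
    (he : e ≫ f = Spec.map (CommRingCat.ofHom (algebraMap k L)))
    (x : Spec (CommRingCat.of L)) : ∃ s : ℕ, cdim (e x) = s ∧ Algebra.trdeg k L = s := by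
  obtain ⟨W, (hW : IsAffineOpen W), hxW, -⟩ := Opens.isBasis_iff_nbhd.mp Z.isBasis_affineOpens
    (show e x ∈ (⊤ : Z.Opens) from trivial)
  have hsub : Set.range e ⊆ Set.range hW.fromSpec := by
    rintro _ ⟨y, rfl⟩
    rw [hW.range_fromSpec, Subsingleton.elim (α := PrimeSpectrum L) y x]
    exact hxW
  let e' := IsOpenImmersion.lift hW.fromSpec e hsub
  have hfac : e' ≫ hW.fromSpec = e := IsOpenImmersion.lift_fac _ _ _
  haveI : IsPreimmersion (e' ≫ hW.fromSpec) := hfac ▸ inferInstance
  haveI := IsPreimmersion.of_comp e' hW.fromSpec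
  obtain ⟨θ, hθ⟩ : ∃ θ : Γ(Z, W) ⟶ CommRingCat.of L, e' = Spec.map θ :=
    ⟨Spec.preimage e', (Spec.map_preimage _).symm⟩
  have hθs : θ.hom.SurjectiveOnStalks := by
    have : IsPreimmersion (Spec.map θ) := hθ ▸ inferInstance
    exact ((IsPreimmersion.SpecMap_iff θ).mp this).2
  obtain ⟨alg, hj⟩ := exists_algebra_chart f (A := Γ(Z, W)) hW.fromSpec
  haveI := finiteType_of_chart f (A := Γ(Z, W)) hW.fromSpec hj
  have hcomp : θ.hom.comp (algebraMap k Γ(Z, W)) = algebraMap k L := by
    have h : Spec.map θ ≫ hW.fromSpec ≫ f = Spec.map (CommRingCat.ofHom (algebraMap k L)) := by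
      rw [← hθ, ← Category.assoc, hfac, he]
    erw [hj, ← Spec.map_comp] at h
    exact congrArg CommRingCat.Hom.hom (Spec.map_injective h)
  set p := RingHom.ker θ.hom with hp
  haveI : p.IsPrime := RingHom.ker_isPrime θ.hom
  letI : Algebra (Γ(Z, W) ⧸ p) L := (Ideal.Quotient.lift p θ.hom fun a ha => ha).toAlgebra
  haveI : IsScalarTower k (Γ(Z, W) ⧸ p) L :=
    IsScalarTower.of_algebraMap_eq fun c => (RingHom.congr_fun hcomp c).symm
  have hinj : Function.Injective (algebraMap (Γ(Z, W) ⧸ p) L) :=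
    RingHom.lift_injective_of_ker_le_ideal p (fun a ha => ha) le_rfl
  haveI : FaithfulSMul (Γ(Z, W) ⧸ p) L := (faithfulSMul_iff_algebraMap_injective _ _).mpr hinj
  haveI : Algebra.IsAlgebraic (Γ(Z, W) ⧸ p) L := by
    refine ⟨fun l => ?_⟩
    obtain ⟨a, r, c, hc, hr, hl⟩ :=
      RingHom.surjectiveOnStalks_iff_forall_ideal.mp hθs ⊥ bot_ne_top l
    rw [mul_assoc] at hl
    have hl' := mul_left_cancel₀ (show c ≠ 0 from fun h => hc (by simp [h])) hl
    refine ⟨Polynomial.C (Ideal.Quotient.mk p r) * Polynomial.X -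
      Polynomial.C (Ideal.Quotient.mk p a), ?_, ?_⟩
    · intro h0
      have h1 := congrArg (fun g => Polynomial.coeff g 1) h0
      have h2 : r ∈ p := Ideal.Quotient.eq_zero_iff_mem.mp (by simpa using h1)
      exact hr (by rw [Ideal.mem_bot]; exact h2)
    · simp only [map_sub, map_mul, Polynomial.aeval_C, Polynomial.aeval_X]
      show θ.hom r * l - θ.hom a = 0
      rw [hl', sub_self]
  haveI : Algebra.FiniteType k (Γ(Z, W) ⧸ p) :=
    Algebra.FiniteType.trans (R := k) (S := Γ(Z, W)) inferInstance inferInstance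
  obtain ⟨s, hs, hs'⟩ := exists_dim_trdeg k (Γ(Z, W) ⧸ p)
  refine ⟨s, ?_, ?_⟩
  · rw [← hfac, hθ, Scheme.Hom.comp_apply]
    refine ((cdim_eq_chart f (A := Γ(Z, W)) hW.fromSpec (PrimeSpectrum.comap θ.hom x)).trans ?_)
    rw [← hs]
    have hx0 : (x.asIdeal : Ideal L) = ⊥ := (Ideal.eq_bot_or_top _).resolve_right x.2.ne_top
    refine ringKrullDim_eq_of_ringEquiv (Ideal.quotEquivOfEq ?_)
    show x.asIdeal.comap θ.hom = p
    rw [hx0]; rfl
  · have := trdeg_add_eq k (Γ(Z, W) ⧸ p) (A := L)
    rw [trdeg_eq_zero_iff.2 (inferInstance : Algebra.IsAlgebraic (Γ(Z, W) ⧸ p) L), add_zero, hs'] at this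
    exact this.symm

theorem exists_nat_cdim [LocallyOfFiniteType f] (z : Z) : ∃ s : ℕ, cdim z = s := by
  let φ := Spec.preimage (Z.fromSpecResidueField z ≫ f)
  letI := φ.hom.toAlgebra
  obtain ⟨s, hs, -⟩ := exists_trdeg f (L := Z.residueField z) (Z.fromSpecResidueField z)
    (Spec.map_preimage _).symm (IsLocalRing.closedPoint _)
  exact ⟨s, by rw [← hs]; erw [Scheme.fromSpecResidueField_apply]⟩

/-- A strict specialization has smaller dimension. -/
theorem cdim_lt [LocallyOfFiniteType f] {x y : Z} (h : x ⤳ y) (hne : x ≠ y) : cdim y < cdim x := by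
  obtain ⟨W, (hW : IsAffineOpen W), hyW, -⟩ := Opens.isBasis_iff_nbhd.mp Z.isBasis_affineOpens
    (show y ∈ (⊤ : Z.Opens) from trivial)
  obtain ⟨q, rfl⟩ : y ∈ Set.range hW.fromSpec := by rw [hW.range_fromSpec]; exact hyW
  obtain ⟨p, rfl⟩ : x ∈ Set.range hW.fromSpec := by
    rw [hW.range_fromSpec]; exact h.mem_open W.2 hyW
  obtain ⟨alg, hj⟩ := exists_algebra_chart f (A := Γ(Z, W)) hW.fromSpec
  haveI := finiteType_of_chart f (A := Γ(Z, W)) hW.fromSpec hj
  erw [cdim_eq_chart f (A := Γ(Z, W)) hW.fromSpec q, cdim_eq_chart f (A := Γ(Z, W)) hW.fromSpec p]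
  haveI : q.asIdeal.IsPrime := q.2
  haveI : p.asIdeal.IsPrime := p.2
  refine dim_quotient_lt k _ p.asIdeal q.asIdeal (lt_of_le_of_ne
    ((PrimeSpectrum.le_iff_specializes p q).mpr (hW.fromSpec.isOpenEmbedding.isInducing.specializes_iff.mp h))
    fun e => hne (by rw [PrimeSpectrum.ext e]))

/-- The local dimension is the maximal dimension of the irreducible sets through the point. -/
theorem localDim_eq [LocallyOfFiniteType f] (z : Z) :
    FlatMor.localDim Z z = ⨆ η : {η : Z // η ⤳ z}, cdim η.1 := by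
  classical
  refine le_antisymm ?_ (iSup_le fun η => le_iInf fun U => ?_)
  · obtain ⟨W, (hW : IsAffineOpen W), hzW, -⟩ := Opens.isBasis_iff_nbhd.mp Z.isBasis_affineOpens
      (show z ∈ (⊤ : Z.Opens) from trivial)
    obtain ⟨p, hp⟩ : z ∈ Set.range hW.fromSpec := by rw [hW.range_fromSpec]; exact hzW
    obtain ⟨alg, hj⟩ := exists_algebra_chart f (A := Γ(Z, W)) hW.fromSpec
    haveI := finiteType_of_chart f (A := Γ(Z, W)) hW.fromSpec hj
    haveI : IsNoetherianRing Γ(Z, W) := Algebra.FiniteType.isNoetherianRing k _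
    let bad : Finset (Ideal Γ(Z, W)) :=
      (minimalPrimes.finite_of_isNoetherianRing Γ(Z, W)).toFinset.filter fun q => ¬ q ≤ p.asIdeal
    obtain ⟨a, haI, hap⟩ : ∃ a ∈ bad.inf id, a ∉ p.asIdeal := by
      refine SetLike.not_le_iff_exists.mp fun h => ?_
      obtain ⟨q, hq, hqp⟩ := p.2.inf_le'.mp h
      exact (Finset.mem_filter.mp hq).2 hqp
    let U : Z.Opens := hW.fromSpec ''ᵁ PrimeSpectrum.basicOpen a
    have hzU : z ∈ U := ⟨p, hap, hp⟩
    refine (H28Top.localDim_le z (U := U) hzU).trans ?_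
    haveI : QuasiSober (U : Set Z) := U.2.isOpenEmbedding_subtypeVal.quasiSober
    rw [H28Top.dim_eq_iSup_of_subset (X := (U : Set Z))
      (fun η : {η : Z // η ⤳ z} => Subtype.val ⁻¹' closure ({η.1} : Set Z)) fun C => ?_]
    · refine iSup_mono fun η => ?_
      rw [dim_preimage IsEmbedding.subtypeVal]
      exact dim_mono Set.inter_subset_left
    · obtain ⟨r, hra, hr⟩ := C.2.genericPoint.2
      haveI : r.asIdeal.IsPrime := r.2
      obtain ⟨q, hq, hqr⟩ := Ideal.exists_minimalPrimes_le (I := (⊥ : Ideal Γ(Z, W)))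
        (J := r.asIdeal) bot_le
      have hqp : q ≤ p.asIdeal := by
        by_contra hnot
        have hmem : q ∈ bad := Finset.mem_filter.mpr
          ⟨(Set.Finite.mem_toFinset _).mpr hq, hnot⟩
        exact hra (hqr (Finset.inf_le (f := id) hmem haI))
      let q' : PrimeSpectrum Γ(Z, W) := ⟨q, hq.1.1⟩
      refine ⟨⟨hW.fromSpec q', ?_⟩, fun c hc => ?_⟩
      · rw [← hp]
        exact ((PrimeSpectrum.le_iff_specializes q' p).mp hqp).map hW.fromSpec.continuous
      · replace hc : c ∈ closure {C.2.genericPoint} := (C.2.closure_genericPoint C.3).symm.subset hc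
        have h1 : hW.fromSpec q' ⤳ C.2.genericPoint.1 := by
          rw [← hr]
          exact ((PrimeSpectrum.le_iff_specializes q' r).mp hqr).map hW.fromSpec.continuous
        exact (h1.trans ((specializes_iff_mem_closure.mpr hc).map continuous_subtype_val)).mem_closure
  · obtain ⟨W, (hW : IsAffineOpen W), hzW, hWU⟩ := Opens.isBasis_iff_nbhd.mp Z.isBasis_affineOpens U.2
    rw [cdim_eq_inter f η.1 hW (η.2.mem_open W.2 hzW)]
    exact dim_mono (Set.inter_subset_right.trans hWU)

section BaseChange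

variable {K : Type u} [Field K] [Algebra k K] {Z' : Scheme.{u}} (g : Z' ⟶ Z)
  (f' : Z' ⟶ Spec (CommRingCat.of K))

theorem baseChange_point [LocallyOfFiniteType f]
    (hc : IsPullback g f' f (Spec.map (CommRingCat.ofHom (algebraMap k K)))) (z' : Z') :
    cdim z' ≤ cdim (g z') ∧
      ∀ η, η ⤳ g z' → ∃ η', η' ⤳ z' ∧ g η' = η ∧ cdim η' = cdim η := by
  haveI : LocallyOfFiniteType f' := MorphismProperty.of_isPullback hc ‹_›
  obtain ⟨W, (hW : IsAffineOpen W), hzW, -⟩ := Opens.isBasis_iff_nbhd.mp Z.isBasis_affineOpens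
    (show g z' ∈ (⊤ : Z.Opens) from trivial)
  obtain ⟨alg, hj⟩ := exists_algebra_chart f (A := Γ(Z, W)) hW.fromSpec
  haveI := finiteType_of_chart f (A := Γ(Z, W)) hW.fromSpec hj
  let P := pullback g hW.fromSpec
  have h1 : IsPullback (pullback.snd g hW.fromSpec) (pullback.fst g hW.fromSpec ≫ f')
      (Spec.map (CommRingCat.ofHom (algebraMap k Γ(Z, W))))
      (Spec.map (CommRingCat.ofHom (algebraMap k K))) := by
    have := (IsPullback.of_hasPullback g hW.fromSpec).flip.paste_vert hc
    erw [hj] at this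
    exact this
  have h2 : IsPullback (Spec.map (CommRingCat.ofHom
      (Algebra.TensorProduct.includeRight : Γ(Z, W) →ₐ[k] TensorProduct k K Γ(Z, W)).toRingHom))
      (Spec.map (CommRingCat.ofHom (algebraMap K (TensorProduct k K Γ(Z, W)))))
      (Spec.map (CommRingCat.ofHom (algebraMap k Γ(Z, W))))
      (Spec.map (CommRingCat.ofHom (algebraMap k K))) :=
    (isPullback_SpecMap_of_isPushout _ _ _ _ (CommRingCat.isPushout_tensorProduct k K Γ(Z, W))).flip
  let e := h2.isoIsPullback _ _ h1
  let j' : Spec (CommRingCat.of (TensorProduct k K Γ(Z, W))) ⟶ Z' := e.hom ≫ pullback.fst g hW.fromSpec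
  have hcomm : j' ≫ g = Spec.map (CommRingCat.ofHom
      (Algebra.TensorProduct.includeRight : Γ(Z, W) →ₐ[k] TensorProduct k K Γ(Z, W)).toRingHom) ≫
      hW.fromSpec := by
    simp only [j', Category.assoc]
    rw [pullback.condition, ← Category.assoc]
    exact congrArg (· ≫ hW.fromSpec) (h2.isoIsPullback_hom_fst _ _ h1)
  haveI : IsOpenImmersion j' := inferInstanceAs (IsOpenImmersion (e.hom ≫ pullback.fst g hW.fromSpec))
  have hrange : z' ∈ Set.range j' := by
    have : z' ∈ Set.range (pullback.fst g hW.fromSpec) := by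
      rw [Scheme.Pullback.range_fst]
      show g z' ∈ Set.range hW.fromSpec
      rw [hW.range_fromSpec]; exact hzW
    obtain ⟨w, hw⟩ := this
    exact ⟨e.inv w, by simp [j', hw]⟩
  obtain ⟨Q, hQ⟩ := hrange
  have hgQ : ∀ Q, g (j' Q) = hW.fromSpec (PrimeSpectrum.comap
      (Algebra.TensorProduct.includeRight : Γ(Z, W) →ₐ[k] TensorProduct k K Γ(Z, W)).toRingHom Q) :=
    fun Q => by rw [← Scheme.Hom.comp_apply, hcomm]; rfl
  subst hQ
  refine ⟨?_, fun η hη => ?_⟩
  · rw [hgQ, cdim_eq_chart f' j' Q]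
    erw [cdim_eq_chart f (A := Γ(Z, W)) hW.fromSpec]
    haveI : Q.asIdeal.IsPrime := Q.2
    exact dim_quotient_le_comap k K Q.asIdeal
  · obtain ⟨p, rfl⟩ : η ∈ Set.range hW.fromSpec := by
      rw [hW.range_fromSpec]; exact hη.mem_open W.2 hzW
    rw [hgQ] at hη
    have hle := (PrimeSpectrum.le_iff_specializes p _).mpr
      (hW.fromSpec.isOpenEmbedding.isInducing.specializes_iff.mp hη)
    haveI : Q.asIdeal.IsPrime := Q.2
    haveI : p.asIdeal.IsPrime := p.2
    obtain ⟨q, hq, hqQ, hqp, hd⟩ := exists_le_comap_eq k K p.asIdeal Q.asIdeal hle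
    refine ⟨j' ⟨q, hq⟩, ((PrimeSpectrum.le_iff_specializes ⟨q, hq⟩ Q).mp hqQ).map j'.continuous, ?_, ?_⟩
    · exact (hgQ ⟨q, hq⟩).trans (congrArg _ (PrimeSpectrum.ext hqp))
    · rw [cdim_eq_chart f' j' ⟨q, hq⟩]
      erw [cdim_eq_chart f (A := Γ(Z, W)) hW.fromSpec]
      exact hd

/-- Local dimension is invariant under extensions of the base field. -/
theorem localDim_baseChange [LocallyOfFiniteType f]
    (hc : IsPullback g f' f (Spec.map (CommRingCat.ofHom (algebraMap k K)))) (z' : Z') :
    FlatMor.localDim Z' z' = FlatMor.localDim Z (g z') := by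
  haveI : LocallyOfFiniteType f' := MorphismProperty.of_isPullback hc ‹_›
  rw [localDim_eq f', localDim_eq f]
  refine le_antisymm (iSup_le fun η => ?_) (iSup_le fun η => ?_)
  · exact le_iSup_of_le ⟨g η.1, η.2.map g.continuous⟩ (baseChange_point f g f' hc η.1).1
  · obtain ⟨η', h, -, hd⟩ := (baseChange_point f g f' hc z').2 η.1 η.2
    exact le_iSup_of_le ⟨η', h⟩ hd.ge

/-- Dimension is invariant under extensions of the base field. -/
theorem dim_baseChange [LocallyOfFiniteType f]
    (hc : IsPullback g f' f (Spec.map (CommRingCat.ofHom (algebraMap k K)))) :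
    topologicalKrullDim Z' = topologicalKrullDim Z := by
  rw [dim_eq_iSup_cdim, dim_eq_iSup_cdim]
  refine le_antisymm (iSup_le fun z' => ?_) (iSup_le fun z => ?_)
  · exact le_iSup_of_le (g z') (baseChange_point f g f' hc z').1
  · haveI : Surjective (Spec.map (CommRingCat.ofHom (algebraMap k K))) :=
      ⟨Function.surjective_to_subsingleton (α := PrimeSpectrum K) (β := PrimeSpectrum k) _⟩
    haveI : Surjective g := MorphismProperty.of_isPullback hc.flip ‹_›
    obtain ⟨z', rfl⟩ := g.surjective z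
    obtain ⟨η', -, -, hd⟩ := (baseChange_point f g f' hc z').2 _ specializes_rfl
    exact le_iSup_of_le η' hd.ge

end BaseChange

end Groth.Agent.H8Props.FieldDim
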