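import Mathlib.AlgebraicGeometry.AffineScheme
import Mathlib.RingTheory.Regular.RegularSequence
import Mathlib.RingTheory.Ideal.MinimalPrime.Localization
import Mathlib.RingTheory.Localization.AtPrime.Basic

/-!
# Extension of functions across loci where the local rings have a regular sequence of length two
-/

set_option autoImplicit false

universe u

open IsLocalRing Pointwise

namespace Groth.Agent.H8Props.HartogsTwo

theorem pair_of_isWeaklyRegular {S : Type u} [CommRing S] {a b : S}
    (h : RingTheory.Sequence.IsWeaklyRegular S [a, b]) (N : ℕ) :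
    (∀ u, a ^ N * u = 0 → u = 0) ∧ ∀ u, a ^ N ∣ b ^ N * u → a ^ N ∣ u := by
  rw [RingTheory.Sequence.isWeaklyRegular_cons_iff] at h
  have h1 := ((RingTheory.Sequence.isWeaklyRegular_cons_iff _ _ _).mp h.2).1
  have ha : ∀ n u, a ^ n * u = 0 → u = 0 := by
    intro n u hu
    refine (h.1.pow n).right_eq_zero_of_smul ?_
    simpa [smul_eq_mul] using hu
  have hb : ∀ u, a ∣ b * u → a ∣ u := by
    rintro u ⟨w, hw⟩
    have h2 : b • (Submodule.Quotient.mk u : QuotSMulTop a S) = 0 := by
      rw [← Submodule.Quotient.mk_smul, Submodule.Quotient.mk_eq_zero, smul_eq_mul, hw]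
      exact Submodule.smul_mem_pointwise_smul w a ⊤ Submodule.mem_top
    have h3 := h1.right_eq_zero_of_smul h2
    rw [Submodule.Quotient.mk_eq_zero, Submodule.mem_smul_pointwise_iff_exists] at h3
    obtain ⟨v, -, rfl⟩ := h3
    exact Dvd.intro v rfl
  have hbn : ∀ n u, a ∣ b ^ n * u → a ∣ u := by
    intro n
    induction n with
    | zero => simp
    | succ n ih => exact fun u hu => ih u (hb _ (by rwa [pow_succ', mul_assoc] at hu))
  refine ⟨ha N, ?_⟩
  generalize b ^ N = B, hbn N = hB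
  induction N with
  | zero => simp
  | succ n ih =>
    rintro u ⟨w, hw⟩
    obtain ⟨v, rfl⟩ := hB u ⟨a ^ n * w, by rw [hw, pow_succ']; ring⟩
    have : B * v = a ^ n * w := by
      refine sub_eq_zero.mp (ha 1 _ ?_)
      rw [pow_one]
      linear_combination hw
    rw [pow_succ']
    exact mul_dvd_mul_left a (ih v ⟨w, this⟩)

variable {R : Type u} [CommRing R] {ι : Type*} [Finite ι] (f : ι → R)

/-- Every prime containing all `f i` has depth at least two (witnessed by a regular sequence). -/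
def HasPairs : Prop :=
  ∀ (p : Ideal R) [p.IsPrime], (∀ i, f i ∈ p) →
    ∃ a b : Localization.AtPrime p, a ∈ maximalIdeal (Localization.AtPrime p) ∧
      b ∈ maximalIdeal (Localization.AtPrime p) ∧
      RingTheory.Sequence.IsWeaklyRegular (Localization.AtPrime p) [a, b]

theorem pow_mem_map_of_mem_minimalPrimes {I p : Ideal R} [p.IsPrime] (hp : p ∈ I.minimalPrimes)
    {a : Localization.AtPrime p} (ha : a ∈ maximalIdeal (Localization.AtPrime p)) :
    ∃ N : ℕ, ∀ M ≥ N, a ^ M ∈ I.map (algebraMap R (Localization.AtPrime p)) := by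
  have : a ∈ (I.map (algebraMap R (Localization.AtPrime p))).radical := by
    rw [Ideal.radical_eq_sInf, Submodule.mem_sInf]
    rintro J ⟨hIJ, hJ⟩
    have hle : Ideal.comap (algebraMap R (Localization.AtPrime p)) J ≤ p := fun r hr =>
      (IsLocalization.AtPrime.to_map_mem_maximal_iff (Localization.AtPrime p) p r).mp
        (le_maximalIdeal hJ.ne_top hr)
    have hpJ : p ≤ Ideal.comap (algebraMap R (Localization.AtPrime p)) J :=
      hp.2 ⟨Ideal.IsPrime.comap _ , Ideal.map_le_iff_le_comap.mp hIJ⟩ hle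
    have : maximalIdeal (Localization.AtPrime p) ≤ J := by
      rw [← IsLocalization.AtPrime.map_eq_maximalIdeal p (Localization.AtPrime p)]
      exact Ideal.map_le_iff_le_comap.mpr hpJ
    exact this ha
  obtain ⟨N, hN⟩ := this
  exact ⟨N, fun M hM => Ideal.pow_mem_of_pow_mem _ hN hM⟩

theorem exists_repr {I p : Ideal R} [p.IsPrime] {z : Localization.AtPrime p}
    (hz : z ∈ I.map (algebraMap R (Localization.AtPrime p))) :
    ∃ g ∈ I, ∃ t : p.primeCompl, z * algebraMap R _ (t : R) = algebraMap R _ g := by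
  obtain ⟨⟨⟨g, hg⟩, t⟩, h⟩ := (IsLocalization.mem_map_algebraMap_iff p.primeCompl _).mp hz
  exact ⟨g, hg, t, h⟩

theorem eq_zero_of_forall_pow_mul (h : HasPairs f) {r : R} (hr : ∀ i, ∃ n : ℕ, f i ^ n * r = 0) :
    r = 0 := by
  by_contra hne
  let I : Ideal R := (⊥ : Submodule R R).colon {r}
  have hI : I ≠ ⊤ := by
    rw [Ne, Ideal.eq_top_iff_one, Submodule.mem_colon_singleton, one_smul, Submodule.mem_bot]
    exact hne
  obtain ⟨M, hM, hle⟩ := Ideal.exists_le_maximal I hI
  obtain ⟨p, hp, -⟩ := Ideal.exists_minimalPrimes_le hle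
  have := hp.1.1
  have hf : ∀ i, f i ∈ p := fun i => by
    obtain ⟨n, hn⟩ := hr i
    exact hp.1.1.mem_of_pow_mem n (hp.1.2 (by
      rw [Submodule.mem_colon_singleton, Submodule.mem_bot, smul_eq_mul]; exact hn))
  obtain ⟨a, b, ha, hb, hreg⟩ := h p hf
  obtain ⟨N, hN⟩ := pow_mem_map_of_mem_minimalPrimes hp ha
  obtain ⟨g, hg, t, hgt⟩ := exists_repr (hN N le_rfl)
  rw [Submodule.mem_colon_singleton, Submodule.mem_bot, smul_eq_mul] at hg
  have h0 : algebraMap R (Localization.AtPrime p) r = 0 := by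
    refine (pair_of_isWeaklyRegular hreg N).1 _ ?_
    refine (IsLocalization.map_units (Localization.AtPrime p) t).mul_left_eq_zero.mp ?_
    rw [mul_right_comm, hgt, ← map_mul, hg, map_zero]
  obtain ⟨v, hv⟩ := (IsLocalization.map_eq_zero_iff p.primeCompl _ r).mp h0
  exact v.2 (hp.1.2 (by rw [Submodule.mem_colon_singleton, Submodule.mem_bot, smul_eq_mul]; exact hv))

theorem exists_extension (h : HasPairs f) (c : ι → R) (n : ι → ℕ)
    (hc : ∀ i j, ∃ m : ℕ, (f i * f j) ^ m * (c i * f j ^ n j - c j * f i ^ n i) = 0) :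
    ∃ r : R, ∀ i, ∃ m : ℕ, f i ^ m * (f i ^ n i * r - c i) = 0 := by
  classical
  haveI := Fintype.ofFinite ι
  let I : Ideal R :=
    { carrier := {g | ∃ d, ∀ i, ∃ m : ℕ, f i ^ m * (f i ^ n i * d - g * c i) = 0}
      zero_mem' := ⟨0, fun i => ⟨0, by simp⟩⟩
      add_mem' := by
        rintro g g' ⟨d, hd⟩ ⟨d', hd'⟩
        refine ⟨d + d', fun i => ?_⟩
        obtain ⟨m, hm⟩ := hd i
        obtain ⟨m', hm'⟩ := hd' i
        refine ⟨m + m', ?_⟩
        linear_combination f i ^ m' * hm + f i ^ m * hm'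
      smul_mem' := by
        rintro a g ⟨d, hd⟩
        refine ⟨a * d, fun i => ?_⟩
        obtain ⟨m, hm⟩ := hd i
        refine ⟨m, ?_⟩
        rw [smul_eq_mul]
        linear_combination a * hm }
  suffices h1 : (1 : R) ∈ I by
    obtain ⟨d, hd⟩ := h1
    exact ⟨d, fun i => by simpa using hd i⟩
  by_contra hne
  have hI : I ≠ ⊤ := fun e => hne (e ▸ Submodule.mem_top)
  obtain ⟨M, hM, hle⟩ := Ideal.exists_le_maximal I hI
  obtain ⟨p, hp, -⟩ := Ideal.exists_minimalPrimes_le hle
  have := hp.1.1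
  have hf : ∀ j, f j ∈ p := fun j => by
    choose m hm using fun i => hc i j
    refine hp.1.1.mem_of_pow_mem (Finset.univ.sup m + n j) (hp.1.2 ?_)
    refine ⟨f j ^ Finset.univ.sup m * c j, fun i => ⟨m i, ?_⟩⟩
    obtain ⟨e, he⟩ := Nat.le.dest (Finset.le_sup (f := m) (Finset.mem_univ i))
    rw [← he]
    linear_combination -f j ^ e * hm i
  obtain ⟨a, b, ha, hb, hreg⟩ := h p hf
  obtain ⟨N₁, hN₁⟩ := pow_mem_map_of_mem_minimalPrimes hp ha
  obtain ⟨N₂, hN₂⟩ := pow_mem_map_of_mem_minimalPrimes hp hb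
  obtain ⟨hA, hB⟩ := pair_of_isWeaklyRegular hreg (max N₁ N₂)
  obtain ⟨g, ⟨dg, hdg⟩, tg, hgt⟩ := exists_repr (hN₁ (max N₁ N₂) (le_max_left _ _))
  obtain ⟨g', ⟨dg', hdg'⟩, tg', hgt'⟩ := exists_repr (hN₂ (max N₁ N₂) (le_max_right _ _))
  have hu := IsLocalization.map_units (Localization.AtPrime p) tg
  have hu' := IsLocalization.map_units (Localization.AtPrime p) tg'
  have hz : g * dg' - g' * dg = 0 := eq_zero_of_forall_pow_mul f h fun i => by
    obtain ⟨m, hm⟩ := hdg i
    obtain ⟨m', hm'⟩ := hdg' i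
    refine ⟨m + m' + n i, ?_⟩
    linear_combination g * f i ^ m * hm' - g' * f i ^ m' * hm
  -- in the local ring, `dg` is a multiple of `g`
  have hdiv : a ^ max N₁ N₂ ∣ algebraMap R (Localization.AtPrime p) dg := by
    refine hB _ ?_
    have := congrArg (algebraMap R (Localization.AtPrime p)) hz
    rw [map_sub, map_zero, map_mul, map_mul, ← hgt, ← hgt', sub_eq_zero] at this
    obtain ⟨w, hw⟩ := hu'
    refine ⟨algebraMap R _ (tg : R) * algebraMap R _ dg' * ↑w⁻¹, ?_⟩
    rw [← hw] at this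
    linear_combination (-↑w⁻¹ : Localization.AtPrime p) * this -
      (b ^ max N₁ N₂ * algebraMap R _ dg) * w.inv_mul
  obtain ⟨w, hw⟩ := hdiv
  obtain ⟨⟨d, t⟩, hdt⟩ := IsLocalization.surj p.primeCompl (w * ↑hu.unit⁻¹)
  have h0 : algebraMap R (Localization.AtPrime p) ((t : R) * dg - g * d) = 0 := by
    rw [map_sub, map_mul, map_mul, hw, ← hgt, ← hdt]
    have h1 := hu.unit.inv_mul
    rw [hu.unit_spec] at h1
    linear_combination -a ^ max N₁ N₂ * w * algebraMap R (Localization.AtPrime p) (t : R) * h1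
  obtain ⟨v, hv⟩ := (IsLocalization.map_eq_zero_iff p.primeCompl _ _).mp h0
  have key : ∀ i, ∃ m : ℕ, ∃ s : p.primeCompl,
      (s : R) * (f i ^ m * (v * t * c i - v * d * f i ^ n i)) = 0 := fun i => by
    obtain ⟨m, hm⟩ := hdg i
    set E := f i ^ m * ((v : R) * t * c i - v * d * f i ^ n i)
    have hE : g * E = 0 := by
      linear_combination -(v : R) * t * hm + f i ^ (m + n i) * hv
    have hE' : algebraMap R (Localization.AtPrime p) E = 0 := by
      refine hA _ ?_
      refine hu.mul_left_eq_zero.mp ?_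
      rw [mul_right_comm, hgt, ← map_mul, hE, map_zero]
    obtain ⟨s, hs⟩ := (IsLocalization.map_eq_zero_iff p.primeCompl _ _).mp hE'
    exact ⟨m, s, hs⟩
  choose m s hs using key
  let S : p.primeCompl := (∏ i, s i) * v * t
  refine S.2 (hp.1.2 ⟨(∏ i, s i : p.primeCompl) * (v : R) * d, fun i => ⟨m i, ?_⟩⟩)
  obtain ⟨e, he⟩ : (s i : R) ∣ ((∏ i, s i : p.primeCompl) : R) := by
    rw [Submonoid.coe_finsetProd]
    exact Finset.dvd_prod_of_mem _ (Finset.mem_univ i)
  simp only [S, Submonoid.coe_mul, he]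
  linear_combination -(e : R) * hs i

end Groth.Agent.H8Props.HartogsTwo

namespace Groth.Agent.H8Props.HartogsTwo

open AlgebraicGeometry CategoryTheory TopologicalSpace Opposite

variable {X : Scheme.{u}} {V W : X.Opens}

theorem map_map_apply {A B C : X.Opens} (i : B ≤ A) (j : C ≤ B) (r : Γ(X, A)) :
    X.presheaf.map (homOfLE j).op (X.presheaf.map (homOfLE i).op r) =
      X.presheaf.map (homOfLE (j.trans i)).op r :=
  (congr($(X.presheaf.map_comp (homOfLE i).op (homOfLE j).op) r)).symm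

/-- Restriction from an affine open `V` to a quasi-compact open `W ≤ V` is bijective if every local
ring at a point of `V` outside `W` has a regular sequence of length two. -/
theorem bijective_restrict (hV : IsAffineOpen V) (hWV : W ≤ V) (hW : IsCompact (W : Set X))
    (hZ : ∀ z : X, z ∈ V → z ∉ W → ∃ a b : X.presheaf.stalk z,
      a ∈ maximalIdeal (X.presheaf.stalk z) ∧ b ∈ maximalIdeal (X.presheaf.stalk z) ∧
        RingTheory.Sequence.IsWeaklyRegular (X.presheaf.stalk z) [a, b]) :
    Function.Bijective (X.presheaf.map (homOfLE hWV).op).hom := by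
  classical
  have hcov : ∀ x : W, ∃ f : Γ(X, V), X.basicOpen f ≤ W ∧ (x : X) ∈ X.basicOpen f := fun x =>
    hV.exists_basicOpen_le x (hWV x.2)
  choose F hFW hFx using hcov
  obtain ⟨s, hs⟩ := hW.elim_finite_subcover (fun x : W => (X.basicOpen (F x) : Set X))
    (fun x => (X.basicOpen (F x)).2) fun x hx => Set.mem_iUnion.mpr ⟨⟨x, hx⟩, hFx ⟨x, hx⟩⟩
  let f : s → Γ(X, V) := fun x => F x
  have hle : ∀ i, X.basicOpen (f i) ≤ W := fun i => hFW i
  have hcover : W ≤ iSup fun i => X.basicOpen (f i) := fun x hx => by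
    obtain ⟨y, hy, hxy⟩ := Set.mem_iUnion₂.mp (hs hx)
    exact Opens.mem_iSup.mpr ⟨⟨y, hy⟩, hxy⟩
  have hpairs : HasPairs f := by
    intro p hp hfp
    obtain ⟨z, hzV, hzp⟩ : ∃ z, ∃ hz : z ∈ V, (hV.primeIdealOf ⟨z, hz⟩) = ⟨p, hp⟩ := by
      refine ⟨hV.fromSpec ⟨p, hp⟩, by rw [← SetLike.mem_coe, ← hV.range_fromSpec]; exact ⟨_, rfl⟩,
        hV.fromSpec.isOpenEmbedding.injective ?_⟩
      rw [hV.fromSpec_primeIdealOf]
    have hzW : z ∉ W := by
      intro hzW
      obtain ⟨i, hi⟩ := Opens.mem_iSup.mp (hcover hzW)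
      have : hV.primeIdealOf ⟨z, hzV⟩ ∈ PrimeSpectrum.basicOpen (f i) := by
        rw [← hV.fromSpec_preimage_basicOpen]
        show hV.fromSpec (hV.primeIdealOf ⟨z, hzV⟩) ∈ X.basicOpen (f i)
        rwa [hV.fromSpec_primeIdealOf]
      rw [hzp] at this
      exact this (hfp i)
    obtain ⟨a, b, ha, hb, hab⟩ := hZ z hzV hzW
    letI := X.presheaf.algebra_section_stalk ⟨z, hzV⟩
    have : IsLocalization.AtPrime (X.presheaf.stalk z) p := by
      convert hV.isLocalization_stalk ⟨z, hzV⟩
      rw [hzp]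
    let e : X.presheaf.stalk z ≃+* Localization.AtPrime p :=
      (IsLocalization.algEquiv p.primeCompl (X.presheaf.stalk z) (Localization.AtPrime p)).toRingEquiv
    refine ⟨e a, e b, ?_, ?_, ?_⟩
    · rwa [mem_maximalIdeal, mem_nonunits_iff, isUnit_map_iff, ← mem_nonunits_iff, ← mem_maximalIdeal]
    · rwa [mem_maximalIdeal, mem_nonunits_iff, isUnit_map_iff, ← mem_nonunits_iff, ← mem_maximalIdeal]
    · exact (e.toAddEquiv.isWeaklyRegular_congr (by simp [List.forall₂_cons])).mp hab
  have hloc := fun g : Γ(X, V) => hV.isLocalization_basicOpen g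
  constructor
  · refine (injective_iff_map_eq_zero _).mpr fun r hr => eq_zero_of_forall_pow_mul f hpairs fun i => ?_
    have := hloc (f i)
    have h0 : algebraMap Γ(X, V) Γ(X, X.basicOpen (f i)) r = 0 := by
      show X.presheaf.map (homOfLE (X.basicOpen_le (f i))).op r = 0
      rw [← map_map_apply hWV (hle i) r]
      erw [hr, map_zero]
    obtain ⟨⟨_, n, rfl⟩, hn⟩ :=
      (IsLocalization.map_eq_zero_iff (Submonoid.powers (f i)) _ r).mp h0
    exact ⟨n, hn⟩
  · intro σ
    have hsurj : ∀ i, ∃ (n : ℕ) (a : Γ(X, V)), X.presheaf.map (homOfLE (hle i)).op σ *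
        X.presheaf.map (homOfLE (X.basicOpen_le (f i))).op (f i) ^ n =
          X.presheaf.map (homOfLE (X.basicOpen_le (f i))).op a := fun i =>
      have := hloc (f i)
      IsLocalization.Away.surj (f i) _
    choose n c hc using hsurj
    have hcompat : ∀ i j, ∃ m : ℕ, (f i * f j) ^ m * (c i * f j ^ n j - c j * f i ^ n i) = 0 := by
      intro i j
      have := hloc (f i * f j)
      have hi : X.basicOpen (f i * f j) ≤ X.basicOpen (f i) := by
        rw [Scheme.basicOpen_mul]; exact inf_le_left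
      have hj : X.basicOpen (f i * f j) ≤ X.basicOpen (f j) := by
        rw [Scheme.basicOpen_mul]; exact inf_le_right
      have ei := congrArg (X.presheaf.map (homOfLE hi).op).hom (hc i)
      have ej := congrArg (X.presheaf.map (homOfLE hj).op).hom (hc j)
      simp only [map_mul, map_pow, map_map_apply] at ei ej
      have h0 : algebraMap Γ(X, V) Γ(X, X.basicOpen (f i * f j))
          (c i * f j ^ n j - c j * f i ^ n i) = 0 := by
        show X.presheaf.map (homOfLE (X.basicOpen_le _)).op (c i * f j ^ n j - c j * f i ^ n i) = 0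
        rw [map_sub, map_mul, map_mul, map_pow, map_pow, ← ei, ← ej]
        ring
      obtain ⟨⟨_, m, rfl⟩, hm⟩ :=
        (IsLocalization.map_eq_zero_iff (Submonoid.powers (f i * f j)) _ _).mp h0
      exact ⟨m, hm⟩
    obtain ⟨r, hr⟩ := exists_extension f hpairs c n hcompat
    refine ⟨r, X.sheaf.eq_of_locally_eq' (fun i => X.basicOpen (f i)) W (fun i => homOfLE (hle i))
      hcover _ _ fun i => ?_⟩
    have := hloc (f i)
    obtain ⟨m, hm⟩ := hr i
    have hu : IsUnit (algebraMap Γ(X, V) Γ(X, X.basicOpen (f i)) (f i)) :=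
      IsLocalization.Away.algebraMap_isUnit (f i)
    have h1 := congrArg (algebraMap Γ(X, V) Γ(X, X.basicOpen (f i))) hm
    rw [map_zero, map_mul, map_pow, (hu.pow m).mul_right_eq_zero, map_sub, map_mul, map_pow,
      sub_eq_zero] at h1
    refine Eq.trans (map_map_apply hWV (hle i) r) ((hu.pow (n i)).mul_left_cancel ?_)
    refine Eq.trans h1 ?_
    exact (hc i).symm.trans (mul_comm _ _)

end Groth.Agent.H8Props.HartogsTwo
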