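import Groth.Agent.H8Props.FieldDimFormula
import Mathlib.AlgebraicGeometry.Morphisms.UniversallyOpen
import Groth.Agent.H17.Dim
import Groth.Prelude.Def_Cyc

/-!
# Dimension along flat morphisms of pure relative dimension
-/

set_option autoImplicit false
set_option linter.style.haveILetI false
universe u

open AlgebraicGeometry CategoryTheory CategoryTheory.Limits TopologicalSpace Topology

namespace Groth.Agent.H8Props.FieldDim

theorem coe_natCast (n : ℕ) : ((n : ℕ∞) : WithBot ℕ∞) = (n : WithBot ℕ∞) := rfl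

theorem iSup_add_le {ι : Sort*} (a : ι → WithBot ℕ∞) (d : ℕ) (M : WithBot ℕ∞)
    (h : ∀ i, a i + d ≤ M) : (⨆ i, a i) + d ≤ M := by
  match M with
  | ⊥ =>
    have : ⨆ i, a i = ⊥ := iSup_eq_bot.mpr fun i => by
      rcases (WithBot.add_eq_bot.mp (le_bot_iff.mp (h i))) with h1 | h1
      · exact h1
      · exact absurd h1 (WithBot.natCast_ne_bot d)
    rw [this, WithBot.bot_add]
  | (⊤ : ℕ∞) => exact le_top
  | ((m : ℕ) : ℕ∞) =>
    have hb : ∀ i, a i ≠ ⊥ → a i ≤ ((m - d : ℕ) : WithBot ℕ∞) ∧ d ≤ m := by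
      intro i hi
      obtain ⟨e, he⟩ := WithBot.ne_bot_iff_exists.mp hi
      have h' := h i
      rw [← he] at h' ⊢
      cases e with
      | top =>
        rw [← coe_natCast, ← WithBot.coe_add, top_add] at h'
        simp at h'
        rw [← coe_natCast, ← WithBot.coe_top] at h'
        exact absurd (WithBot.coe_injective h') (ENat.natCast_ne_top m)
      | coe e =>
        simp only [coe_natCast] at h' ⊢
        have : e + d ≤ m := by exact_mod_cast h'
        exact ⟨by exact_mod_cast (show e ≤ m - d by omega), by omega⟩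
    by_cases hall : ∀ i, a i = ⊥
    · rw [iSup_eq_bot.mpr hall, WithBot.bot_add]; exact bot_le
    · obtain ⟨i₀, hi₀⟩ := not_forall.mp hall
      have hle : ⨆ i, a i ≤ ((m - d : ℕ) : WithBot ℕ∞) := iSup_le fun i => by
        by_cases hi : a i = ⊥
        · rw [hi]; exact bot_le
        · exact (hb i hi).1
      refine (add_le_add_left hle _).trans (le_of_eq ?_)
      have := (hb i₀ hi₀).2
      rw [coe_natCast]
      exact_mod_cast Nat.sub_add_cancel this

theorem ringKrullDim_stalk_fiber_eq {X Y : Scheme.{u}} (f : X ⟶ Y) {y : Y} (w : f.fiber y) :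
    f (f.fiberι y w) = y ∧ ringKrullDim ((f.fiber y).presheaf.stalk w) =
      ringKrullDim ((f.fiber (f (f.fiberι y w))).presheaf.stalk (f.asFiber (f.fiberι y w))) := by
  have hy : f (f.fiberι y w) = y := (f.range_fiberι y).subset (Set.mem_range_self w)
  refine ⟨hy, ?_⟩
  generalize hx : f.fiberι y w = x at hy
  subst hy
  have : w = f.asFiber x :=
    (f.fiberι _).isEmbedding.injective (hx.trans (f.fiberι_asFiber x).symm)
  rw [this]

theorem dim_opens_eq (X : Scheme.{u}) (U : X.Opens) :
    topologicalKrullDim (U : Set X) = ⨆ u : U, ringKrullDim (X.presheaf.stalk u.1) := by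
  show topologicalKrullDim U.toScheme = _
  rw [H17.topologicalKrullDim_eq_krullDim_specialization U.toScheme]
  erw [Order.krullDim_eq_iSup_coheight]
  refine iSup_congr fun u => ?_
  rw [AlgebraicGeometry.ringKrullDim_stalk_eq_coheight]
  exact WithBot.coe_eq_coe.mpr (coheight_eq_of_isOpenImmersion (f := U.ι) (x := u)).symm

theorem exists_le_dim_image {X Y : Scheme.{u}} [IsLocallyNoetherian X] [IsLocallyNoetherian Y]
    (f : X ⟶ Y) [Flat f] [LocallyOfFiniteType f] (d : ℕ) (hd : Cyc.HasRelDim f d) (U : X.Opens) :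
    topologicalKrullDim (U : Set X) = topologicalKrullDim (f '' U : Set Y) + d := by
  haveI : LocallyOfFinitePresentation f := inferInstance
  let V : Y.Opens := ⟨f '' U, f.isOpenMap U U.2⟩
  show _ = topologicalKrullDim (V : Set Y) + _
  rw [dim_opens_eq X U, dim_opens_eq Y V]
  have key : ∀ x : X, ringKrullDim (X.presheaf.stalk x) = ringKrullDim (Y.presheaf.stalk (f x)) +
      ringKrullDim ((f.fiber (f x)).presheaf.stalk (f.asFiber x)) := by
    intro x
    letI : Algebra (Y.presheaf.stalk (f x)) (X.presheaf.stalk x) := (f.stalkMap x).hom.toAlgebra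
    haveI : IsLocalHom (algebraMap (Y.presheaf.stalk (f x)) (X.presheaf.stalk x)) :=
      inferInstanceAs (IsLocalHom (f.stalkMap x).hom)
    haveI : Module.Flat (Y.presheaf.stalk (f x)) (X.presheaf.stalk x) := Flat.stalkMap f x
    rw [← ringKrullDim_eq_of_ringEquiv (FibreStalk.asFiberStalkEquiv f x)]
    exact H02CA.ringKrullDim_eq_add_of_flat (Y.presheaf.stalk (f x)) (X.presheaf.stalk x)
  have hpure : ∀ (y : Y) (u : f.fiber y), ∃ s : ℕ, cdim u = s ∧
      ringKrullDim ((f.fiber y).presheaf.stalk u) + cdim u = d := by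
    intro y u
    haveI := locallyOfFiniteType_fiberToSpec f y
    obtain ⟨s, hs⟩ := exists_nat_cdim (k := Y.residueField y) (f.fiberToSpecResidueField y) u
    refine ⟨s, hs, ?_⟩
    rw [← localDim_eq_stalk_add_cdim (k := Y.residueField y) (f.fiberToSpecResidueField y) u]
    exact localDim_eq_of_pure (k := Y.residueField y) (f.fiberToSpecResidueField y) u d (hd y)
  refine le_antisymm (iSup_le fun u => ?_) (iSup_add_le _ d _ fun v => ?_)
  · rw [key u.1]
    obtain ⟨s, hs, h⟩ := hpure _ (f.asFiber u.1)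
    refine add_le_add ?_ ?_
    · exact le_iSup (fun v : V => ringKrullDim (Y.presheaf.stalk v.1)) ⟨f u.1, u.1, u.2, rfl⟩
    · rw [← h, hs]
      exact le_add_of_nonneg_right (by exact_mod_cast Nat.zero_le s)
  · obtain ⟨x, hxU, hxv⟩ := v.2
    let O : Set (f.fiber v.1) := f.fiberι v.1 ⁻¹' U
    have hne : O.Nonempty := by
      obtain ⟨w, hw⟩ : x ∈ Set.range (f.fiberι v.1) := by rw [f.range_fiberι]; exact hxv
      exact ⟨w, show f.fiberι v.1 w ∈ U from hw ▸ hxU⟩
    obtain ⟨w, hwU, hwc⟩ := nonempty_inter_closedPoints hne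
      (U.2.preimage (f.fiberι v.1).continuous).isLocallyClosed
    obtain ⟨s, hs, h⟩ := hpure _ w
    have hs0 : cdim w = 0 := by
      have hc : closure ({w} : Set (f.fiber v.1)) = {w} := closure_eq_iff_isClosed.mpr hwc
      refine le_antisymm ?_ (hs ▸ by exact_mod_cast Nat.zero_le s)
      rw [cdim, hc]
      exact topologicalKrullDim_zero_of_discreteTopology _
    rw [hs0, add_zero] at h
    obtain ⟨hfw, hst⟩ := ringKrullDim_stalk_fiber_eq f w
    refine le_iSup_of_le ⟨f.fiberι v.1 w, hwU⟩ ?_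
    rw [key, ← h, hst]
    exact le_of_eq (congrArg (· + _) (congrArg (fun y => ringKrullDim (Y.presheaf.stalk y)) hfw.symm))

theorem localDim_eq_add_of_relDim {X Y : Scheme.{u}} [IsLocallyNoetherian X] [IsLocallyNoetherian Y]
    (f : X ⟶ Y) [Flat f] [LocallyOfFiniteType f] (d : ℕ) (hd : Cyc.HasRelDim f d) (x : X) :
    FlatMor.localDim X x = FlatMor.localDim Y (f x) + d := by
  haveI : LocallyOfFinitePresentation f := inferInstance
  refine le_antisymm ?_ (le_iInf fun U => ?_)
  · obtain ⟨V, hV, hVd⟩ := H28Top.exists_localDim_eq (f x)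
    rw [← hVd]
    refine (H28Top.localDim_le (X := X) x (U := f ⁻¹ᵁ V) hV).trans ?_
    rw [exists_le_dim_image f d hd (f ⁻¹ᵁ V)]
    gcongr
    exact dim_mono (Set.image_preimage_subset f V)
  · rw [exists_le_dim_image f d hd U.1]
    gcongr
    exact H28Top.localDim_le (X := Y) (f x) (U := ⟨f '' U.1, f.isOpenMap U.1 U.1.2⟩) ⟨x, U.2, rfl⟩

end Groth.Agent.H8Props.FieldDim
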