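import Mathlib.RingTheory.Etale.Weakly
import Mathlib.RingTheory.Ideal.Pure
import Mathlib.RingTheory.Nilpotent.Lemmas
import Mathlib.RingTheory.LocalRing.ResidueField.Ideal

/-!
# Weakly étale algebras over reduced rings are reduced
-/

set_option autoImplicit false

universe u

open TensorProduct

namespace Groth.Agent.H8Props.WeakEtaleReduced

/-- Over a von Neumann regular ring every module is flat. -/
theorem flat_of_forall_exists_mul_mul_eq {A : Type u} [CommRing A] (hA : ∀ a : A, ∃ a', a * a' * a = a)
    (M : Type u) [AddCommGroup M] [Module A M] : Module.Flat A M := by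
  rw [Module.Flat.iff_lTensor_injective]
  intro I hI
  obtain ⟨e, he, rfl⟩ : ∃ e, IsIdempotentElem e ∧ I = Ideal.span {e} := by
    rw [← Ideal.isIdempotentElem_iff_of_fg I hI]
    refine le_antisymm Ideal.mul_le_left fun a ha => ?_
    obtain ⟨a', ha'⟩ := hA a
    rw [← ha']
    exact Ideal.mul_mem_mul (I.mul_mem_right _ ha) ha
  set ε : (Ideal.span {e} : Ideal A) := ⟨e, Ideal.mem_span_singleton_self e⟩
  have hdec : ∀ z : M ⊗[A] (Ideal.span {e} : Ideal A), ∃ m : M, z = m ⊗ₜ ε := by
    intro z
    induction z using TensorProduct.induction_on with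
    | zero => exact ⟨0, by simp⟩
    | tmul m j =>
      obtain ⟨c, hc⟩ := Ideal.mem_span_singleton'.mp j.2
      have : j = c • ε := Subtype.ext hc.symm
      exact ⟨c • m, by rw [this, TensorProduct.tmul_smul, TensorProduct.smul_tmul']⟩
    | add a b ha hb =>
      obtain ⟨m, rfl⟩ := ha
      obtain ⟨n, rfl⟩ := hb
      exact ⟨m + n, by rw [TensorProduct.add_tmul]⟩
  rw [injective_iff_map_eq_zero]
  intro z hz
  obtain ⟨m, rfl⟩ := hdec z
  have h0 : e • m = 0 := by
    have := congrArg (TensorProduct.rid A M) hz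
    rwa [LinearMap.lTensor_tmul, TensorProduct.rid_tmul, map_zero] at this
  have hε : ε = e • ε := Subtype.ext he.symm
  rw [hε, TensorProduct.tmul_smul, TensorProduct.smul_tmul', h0, TensorProduct.zero_tmul]

theorem eq_zero_of_sq_eq_zero {A B : Type u} [CommRing A] [CommRing B] [Algebra A B]
    [Algebra.WeaklyEtale A B] (hA : ∀ a : A, ∃ a', a * a' * a = a) {b : B} (hb : b ^ 2 = 0) :
    b = 0 := by
  let μ := Algebra.TensorProduct.lmul' A (S := B)
  have hpure : (RingHom.ker μ.toRingHom).Pure := by
    letI := μ.toRingHom.toAlgebra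
    have hf : Module.Flat (B ⊗[A] B) B := Algebra.WeaklyEtale.flat_lmul' A B
    have hs : Function.Surjective μ := fun x => ⟨x ⊗ₜ 1, by simp [μ]⟩
    exact Module.Flat.of_linearEquiv (Ideal.quotientKerAlgEquivOfSurjective
      (f := Algebra.ofId (B ⊗[A] B) B) hs).toLinearEquiv
  obtain ⟨y, hy, hxy⟩ := Ideal.exists_eq_mul_of_pure
    (show b ⊗ₜ[A] (1 : B) - 1 ⊗ₜ b ∈ RingHom.ker μ.toRingHom by
      rw [RingHom.mem_ker]; simp [μ])
  let J : Submodule A B := (Ideal.span {b}).restrictScalars A
  have := flat_of_forall_exists_mul_mul_eq hA (B ⧸ J)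
  let mb : B →ₗ[A] J := (LinearMap.mulRight A b).codRestrict J fun s =>
    Ideal.mem_span_singleton'.mpr ⟨s, rfl⟩
  let L : B ⊗[A] B →ₗ[A] J ⊗[A] (B ⧸ J) := TensorProduct.map mb J.mkQ
  -- the contraction `(b) ⊗ B/(b) → B`, well defined as `b² = 0`
  have hJJ : ∀ u : B, u ∈ J → ∀ v ∈ J, u * v = 0 := by
    intro u hu v hv
    obtain ⟨p, rfl⟩ := Ideal.mem_span_singleton'.mp hu
    obtain ⟨q, rfl⟩ := Ideal.mem_span_singleton'.mp hv
    linear_combination p * q * hb
  let Ψ : J ⊗[A] (B ⧸ J) →ₗ[A] B := TensorProduct.lift <| LinearMap.mk₂ A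
    (fun (u : J) c => J.liftQ (LinearMap.mulLeft A (u : B)) (fun v hv => hJJ _ u.2 v hv) c)
    (fun u u' c => by
      obtain ⟨c, rfl⟩ := J.mkQ_surjective c
      show (↑(u + u') : B) * c = (u : B) * c + (u' : B) * c
      simp [add_mul])
    (fun r u c => by
      obtain ⟨c, rfl⟩ := J.mkQ_surjective c
      show (↑(r • u) : B) * c = r • ((u : B) * c)
      simp)
    (fun u c c' => map_add _ c c') (fun r u c => map_smul _ r c)
  have hΨ : ∀ z, Ψ (L z) = b * μ z := by
    intro z
    induction z using TensorProduct.induction_on with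
    | zero => simp
    | tmul s t =>
      show (s * b) * t = b * (s * t)
      ring
    | add a c ha hc => simp [ha, hc, mul_add]
  have hincl : ∀ z, (J.subtype.rTensor (B ⧸ J)) (L z) = (J.mkQ.lTensor B) (z * (b ⊗ₜ 1)) := by
    intro z
    induction z using TensorProduct.induction_on with
    | zero => simp
    | tmul s t =>
      rw [Algebra.TensorProduct.tmul_mul_tmul, mul_one]
      rfl
    | add a c ha hc => simp [ha, hc, add_mul]
  have hkill : ∀ z : B ⊗[A] B, (J.mkQ.lTensor B) (z * (1 ⊗ₜ b)) = 0 := by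
    intro z
    induction z using TensorProduct.induction_on with
    | zero => simp
    | tmul s t =>
      rw [Algebra.TensorProduct.tmul_mul_tmul, LinearMap.lTensor_tmul]
      have : J.mkQ (t * b) = 0 :=
        (Submodule.Quotient.mk_eq_zero J).mpr (Ideal.mem_span_singleton'.mpr ⟨t, rfl⟩)
      rw [this, TensorProduct.tmul_zero]
    | add a c ha hc => simp [ha, hc, add_mul]
  have h0 : L (1 - y) = 0 := by
    apply Module.Flat.rTensor_preserves_injective_linearMap (M := B ⧸ J) J.subtype Subtype.val_injective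
    rw [map_zero, hincl]
    have : (1 - y) * (b ⊗ₜ[A] (1 : B)) = (1 - y) * (1 ⊗ₜ b) := by linear_combination hxy
    rw [this, hkill]
  have := hΨ (1 - y)
  rw [h0, map_zero, map_sub, map_one, show μ y = 0 from hy, sub_zero, mul_one] at this
  exact this.symm

theorem isReduced_of_vonNeumann {A B : Type u} [CommRing A] [CommRing B] [Algebra A B]
    [Algebra.WeaklyEtale A B] (hA : ∀ a : A, ∃ a', a * a' * a = a) : IsReduced B := by
  suffices key : ∀ (n : ℕ) (b : B), b ^ n = 0 → b = 0 from ⟨fun b ⟨n, hn⟩ => key n b hn⟩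
  intro n
  induction n using Nat.strong_induction_on with
  | _ n ih =>
    intro b hn
    rcases Nat.lt_or_ge n 2 with h | h
    · interval_cases n
      · simpa using congrArg (· * b) hn
      · simpa using hn
    · refine ih ((n + 1) / 2) (by omega) b (eq_zero_of_sq_eq_zero hA ?_)
      rw [← pow_mul]
      exact pow_eq_zero_of_le (by omega) hn

/-- A weakly étale algebra over a reduced ring is reduced. -/
theorem isReduced_of_weaklyEtale (A B : Type u) [CommRing A] [CommRing B] [Algebra A B]
    [IsReduced A] [Algebra.WeaklyEtale A B] : IsReduced B := by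
  let T := (p : PrimeSpectrum A) → p.asIdeal.ResidueField
  have hinj : Function.Injective (algebraMap A T) := by
    rw [injective_iff_map_eq_zero]
    intro a ha
    have : a ∈ nilradical A := by
      rw [nilradical_eq_sInf, Submodule.mem_sInf]
      intro q hq
      have hq' : Ideal.IsPrime q := hq
      have h1 : algebraMap A (Ideal.ResidueField (q : Ideal A)) a = 0 := congrFun ha ⟨q, hq⟩
      exact Ideal.algebraMap_residueField_eq_zero.mp h1
    exact (mem_nilradical.mp this).eq_zero
  have hT : ∀ a : T, ∃ a', a * a' * a = a := fun a =>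
    ⟨fun p => (a p)⁻¹, funext fun p => show a p * (a p)⁻¹ * a p = a p from
      mul_inv_mul_cancel _⟩
  have : IsReduced (T ⊗[A] B) := isReduced_of_vonNeumann (A := T) hT
  refine isReduced_of_injective
    (Algebra.TensorProduct.includeRight : B →ₐ[A] T ⊗[A] B) ?_
  have h := Module.Flat.rTensor_preserves_injective_linearMap (M := B) (Algebra.linearMap A T) hinj
  intro b c hbc
  apply (TensorProduct.lid A B).symm.injective
  apply h
  simpa using hbc

end Groth.Agent.H8Props.WeakEtaleReduced
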