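import Mathlib.AlgebraicGeometry.Morphisms.WeaklyEtale
import Mathlib.AlgebraicGeometry.Morphisms.Flat
import Mathlib.RingTheory.Etale.Weakly

/-!
# Weakly étale morphisms in terms of affine opens
-/

set_option autoImplicit false
set_option backward.isDefEq.respectTransparency.types false

universe u

open AlgebraicGeometry CategoryTheory Limits TopologicalSpace

namespace Groth.Agent.H8Props.WeakEtaleScheme

theorem weaklyEtale_SpecMap_algebraMap (R S : Type u) [CommRing R] [CommRing S] [Algebra R S] :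
    WeaklyEtale (Spec.map (CommRingCat.ofHom (algebraMap R S))) ↔ Algebra.WeaklyEtale R S := by
  rw [weaklyEtale_iff, Algebra.weaklyEtale_iff, HasRingHomProperty.Spec_iff (P := @Flat),
    diagonal_SpecMap, MorphismProperty.cancel_right_of_respectsIso (P := @Flat),
    HasRingHomProperty.Spec_iff (P := @Flat)]
  exact and_congr RingHom.flat_algebraMap_iff Iff.rfl

theorem weaklyEtale_SpecMap {R S : CommRingCat.{u}} (φ : R ⟶ S) :
    WeaklyEtale (Spec.map φ) ↔ (letI := φ.hom.toAlgebra; Algebra.WeaklyEtale R S) := by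
  letI := φ.hom.toAlgebra
  exact weaklyEtale_SpecMap_algebraMap R S

theorem resLE_eq {X S : Scheme.{u}} (f : X ⟶ S) {U : X.Opens} {V : S.Opens} (hU : IsAffineOpen U)
    (hV : IsAffineOpen V) (e : U ≤ f ⁻¹ᵁ V) :
    hU.isoSpec.inv ≫ f.resLE V U e = Spec.map (f.appLE V U e) ≫ hV.isoSpec.inv := by
  rw [← cancel_mono V.ι, Category.assoc, Category.assoc, Scheme.Hom.resLE_comp_ι,
    IsAffineOpen.isoSpec_inv_ι, ← Category.assoc, IsAffineOpen.isoSpec_inv_ι,
    IsAffineOpen.SpecMap_appLE_fromSpec f hV hU e]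

theorem weaklyEtale_resLE_iff {X S : Scheme.{u}} (f : X ⟶ S) {U : X.Opens} {V : S.Opens}
    (hU : IsAffineOpen U) (hV : IsAffineOpen V) (e : U ≤ f ⁻¹ᵁ V) :
    WeaklyEtale (f.resLE V U e) ↔
      (letI := (f.appLE V U e).hom.toAlgebra; Algebra.WeaklyEtale Γ(S, V) Γ(X, U)) := by
  rw [← weaklyEtale_SpecMap, ← MorphismProperty.cancel_left_of_respectsIso (P := @WeaklyEtale)
    hU.isoSpec.inv, resLE_eq f hU hV e, MorphismProperty.cancel_right_of_respectsIso (P := @WeaklyEtale)]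

instance : MorphismProperty.RespectsRight @WeaklyEtale @IsOpenImmersion :=
  ⟨fun i hi f hf => by
    have : IsOpenImmersion i := hi
    have : WeaklyEtale f := hf
    infer_instance⟩

theorem weaklyEtale_iff_forall_affineOpens {X S : Scheme.{u}} (f : X ⟶ S) :
    WeaklyEtale f ↔ ∀ (U : X.Opens) (V : S.Opens) (_ : IsAffineOpen U) (_ : IsAffineOpen V)
      (hUV : U ≤ f ⁻¹ᵁ V),
      (letI := (f.appLE V U hUV).hom.toAlgebra
       Algebra.WeaklyEtale Γ(S, V) Γ(X, U)) := by
  refine ⟨fun hf U V hU hV e => (weaklyEtale_resLE_iff f hU hV e).mp inferInstance,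
    fun H => IsZariskiLocalAtSource.iff_exists_resLE.mpr fun x => ?_⟩
  obtain ⟨_, ⟨V, hV, rfl⟩, hxV, -⟩ :=
    S.isBasis_affineOpens.exists_subset_of_mem_open (Set.mem_univ (f.base x)) isOpen_univ
  obtain ⟨_, ⟨U, hU, rfl⟩, hxU, e⟩ :=
    X.isBasis_affineOpens.exists_subset_of_mem_open hxV (f ⁻¹ᵁ V).2
  exact ⟨V, U, hxU, e, (weaklyEtale_resLE_iff f hU hV e).mpr (H U V hU hV e)⟩

end Groth.Agent.H8Props.WeakEtaleScheme
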