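import Groth.Agent.S1967
import Groth.Agent.H9WE.Field
import Groth.Agent.H8Props.WeakEtaleScheme
import Groth.Prelude.Def_Pi1
import Mathlib

/-!
# Weakly étale algebras over normal domains are normal
-/

set_option autoImplicit false
set_option linter.style.haveILetI false
set_option backward.isDefEq.respectTransparency false
universe u

open TensorProduct AlgebraicGeometry CategoryTheory CategoryTheory.Limits

namespace Groth.Agent.H8Props.WeakEtaleNormal

theorem isDomain_and_isIntegrallyClosed_of_weaklyEtale (A B : Type u) [CommRing A] [IsDomain A]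
    [IsIntegrallyClosed A] [CommRing B] [IsLocalRing B] [Algebra A B] [Algebra.WeaklyEtale A B] :
    IsDomain B ∧ IsIntegrallyClosed B := by
  let K := FractionRing A
  let T := B ⊗[A] K
  letI : Algebra B T := Algebra.TensorProduct.leftAlgebra
  have hcl : IsIntegrallyClosedIn B T := S1967.result A K B
  have hinj : Function.Injective (algebraMap B T) := Algebra.TensorProduct.includeLeft_injective (R := A) (S := A) (A := B) (B := K)
    (IsFractionRing.injective A K)
  haveI : Nontrivial T := hinj.nontrivial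
  have hV : H9WE.VNR T := (H9WE.vnr_of_weaklyEtale K (K ⊗[A] B)).of_surjective
    (Algebra.TensorProduct.comm A K B).toAlgHom.toRingHom (Algebra.TensorProduct.comm A K B).surjective
  have hidem : ∀ e : T, e * e = e → e = 0 ∨ e = 1 := by
    intro e he
    have hint : IsIntegral B e := ⟨Polynomial.X ^ 2 - Polynomial.X,
      Polynomial.monic_X_pow_sub (lt_of_le_of_lt Polynomial.degree_X_le (by norm_num)),
      by simp [pow_two, he]⟩
    obtain ⟨b, rfl⟩ := hcl.isIntegral_iff.mp hint
    have hb : IsIdempotentElem b := hinj (by rw [map_mul]; exact he)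
    rcases IsLocalRing.isUnit_or_isUnit_one_sub_self b with hu | hu
    · right
      have hb1 : b = 1 := hu.mul_left_cancel (hb.trans (mul_one b).symm)
      rw [hb1, map_one]
    · left
      have hb0 : b = 0 := hu.mul_left_cancel (show (1 - b) * b = (1 - b) * 0 by rw [sub_mul, one_mul, hb, sub_self, mul_zero])
      rw [hb0, map_zero]
  have hfield : IsField T := by
    refine ⟨⟨0, 1, zero_ne_one⟩, mul_comm, fun {a} ha => ?_⟩
    obtain ⟨c, hc⟩ := hV a
    rcases hidem (a * c) (by linear_combination (-c) * hc) with h | h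
    · exact absurd (by rw [mul_assoc, h, mul_zero] at hc; exact hc) ha
    · exact ⟨c, h⟩
  letI := hfield.toField
  haveI : IsDomain B := hinj.isDomain
  have hfrac : ∀ z : T, ∃ (b : B) (s : A), s ≠ 0 ∧ z * algebraMap B T (algebraMap A B s) = algebraMap B T b := by
    intro z
    induction z using TensorProduct.induction_on with
    | zero => exact ⟨0, 1, one_ne_zero, by simp⟩
    | tmul b k =>
      obtain ⟨⟨a, s⟩, hs⟩ := IsLocalization.surj (nonZeroDivisors A) k
      refine ⟨a • b, s, nonZeroDivisors.ne_zero s.2, ?_⟩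
      show (b ⊗ₜ[A] k) * (algebraMap A B s ⊗ₜ[A] 1) = (a • b) ⊗ₜ[A] 1
      rw [Algebra.TensorProduct.tmul_mul_tmul, mul_one, mul_comm b, ← Algebra.smul_def,
        TensorProduct.smul_tmul, TensorProduct.smul_tmul, Algebra.smul_def, mul_comm, hs,
        Algebra.algebraMap_eq_smul_one]
    | add x y hx hy =>
      obtain ⟨b, s, hs, hb⟩ := hx
      obtain ⟨b', s', hs', hb'⟩ := hy
      refine ⟨b * algebraMap A B s' + b' * algebraMap A B s, s * s', mul_ne_zero hs hs', ?_⟩
      simp only [map_add, map_mul, ← hb, ← hb']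
      ring
  haveI : IsFractionRing B T := by
    haveI : FaithfulSMul B T := (faithfulSMul_iff_algebraMap_injective B T).mpr hinj
    refine IsFractionRing.of_field B T fun z => ?_
    obtain ⟨b, s, hs, h⟩ := hfrac z
    refine ⟨b, algebraMap A B s, ?_⟩
    have hne : algebraMap B T (algebraMap A B s) ≠ 0 := by
      intro h0
      have h1 : ((1 : B) ⊗ₜ[A] (algebraMap A K s) : T) = 0 := by
        rw [← h0]
        show (1 : B) ⊗ₜ[A] algebraMap A K s = algebraMap A B s ⊗ₜ[A] (1 : K)
        rw [Algebra.algebraMap_eq_smul_one, Algebra.algebraMap_eq_smul_one, TensorProduct.smul_tmul]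
      have hu : IsUnit ((1 : B) ⊗ₜ[A] (algebraMap A K s) : T) :=
        ((isUnit_iff_ne_zero.mpr ((map_ne_zero_iff _ (IsFractionRing.injective A K)).mpr hs)).map
          (Algebra.TensorProduct.includeRight : K →ₐ[A] T))
      exact hu.ne_zero h1
    rw [← h]
    field_simp
  exact ⟨inferInstance, (isIntegrallyClosed_iff_isIntegrallyClosedIn T).mpr hcl⟩

theorem weaklyEtale_stalkMap {X Y : Scheme.{u}} (f : X ⟶ Y) [WeaklyEtale f] (x : X) :
    letI := (f.stalkMap x).hom.toAlgebra
    Algebra.WeaklyEtale (Y.presheaf.stalk (f x)) (X.presheaf.stalk x) := by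
  haveI : ∀ (Z : Scheme.{u}) (z : Z), WeaklyEtale (Z.fromSpecStalk z) := fun Z z => by
    obtain ⟨U, hU, hzU, -⟩ := TopologicalSpace.Opens.isBasis_iff_nbhd.1 Z.isBasis_affineOpens
      (TopologicalSpace.Opens.mem_top z)
    letI := TopCat.Presheaf.algebra_section_stalk Z.presheaf (⟨z, hzU⟩ : U)
    haveI : IsLocalization.AtPrime (Z.presheaf.stalk z) (hU.primeIdealOf ⟨z, hzU⟩).asIdeal :=
      hU.isLocalization_stalk ⟨z, hzU⟩
    haveI : Flat (Spec.map (Z.presheaf.germ U z hzU)) :=
      Flat.SpecMap_iff.2 ((RingHom.flat_algebraMap_iff (R := Γ(Z, U)) (S := Z.presheaf.stalk z)).2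
        (IsLocalization.flat _ (hU.primeIdealOf ⟨z, hzU⟩).asIdeal.primeCompl))
    haveI : Flat (Z.fromSpecStalk z) := by
      rw [← hU.fromSpecStalk_eq_fromSpecStalk hzU]; unfold IsAffineOpen.fromSpecStalk; infer_instance
    exact { flat_diagonal := inferInstance }
  haveI hcomp : WeaklyEtale (Spec.map (f.stalkMap x) ≫ Y.fromSpecStalk (f x)) := by
    rw [Scheme.SpecMap_stalkMap_fromSpecStalk]; infer_instance
  have hsq : IsPullback (Spec.map (f.stalkMap x)) (𝟙 _) (Y.fromSpecStalk (f x))
      (Spec.map (f.stalkMap x) ≫ Y.fromSpecStalk (f x)) := by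
    refine ⟨⟨by simp⟩, ⟨PullbackCone.IsLimit.mk _ (fun s => s.snd) (fun s => ?_) (fun s => by simp)
      fun s m _ hm => by simpa using hm⟩⟩
    rw [← cancel_mono (Y.fromSpecStalk (f x)), Category.assoc, s.condition]
  have h : WeaklyEtale (Spec.map (f.stalkMap x)) :=
    MorphismProperty.of_isPullback hsq.flip hcomp
  exact (H8Props.WeakEtaleScheme.weaklyEtale_SpecMap (f.stalkMap x)).mp h

theorem isNormalScheme_of_weaklyEtale {X Y : Scheme.{u}} (f : X ⟶ Y) [WeaklyEtale f]
    (hY : Pi1.IsNormalScheme Y) : Pi1.IsNormalScheme X := fun x => by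
  obtain ⟨_, _⟩ := hY (f x)
  letI := (f.stalkMap x).hom.toAlgebra
  haveI := weaklyEtale_stalkMap f x
  exact isDomain_and_isIntegrallyClosed_of_weaklyEtale (Y.presheaf.stalk (f x)) (X.presheaf.stalk x)

end Groth.Agent.H8Props.WeakEtaleNormal
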