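import Groth.Agent.H7Lim.QuasiFiniteFactor
import Groth.Agent.H7Lim.IdealExtension
import Groth.Agent.H7Lim.IdealSystem
import Groth.Agent.H7Lim.DescendUnramified
import Mathlib.AlgebraicGeometry.IdealSheaf.Functorial

/-!
# Immersions of finite presentation are opens of finitely presented closed subschemes; Zariski's main
theorem with a finite factor of finite presentation
-/

set_option autoImplicit false
set_option backward.isDefEq.respectTransparency false
set_option linter.style.haveILetI false

universe u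

open AlgebraicGeometry CategoryTheory Limits TopologicalSpace

namespace Groth.Agent.H8Props.FiniteFactor

theorem surjective_comp₃ {A B C E : CommRingCat.{u}} (a : A ⟶ B) (b : B ⟶ C) (c : C ⟶ E)
    (ha : Function.Surjective a) (hb : Function.Surjective b) (hc : Function.Surjective c) :
    Function.Surjective (a ≫ b ≫ c) := hc.comp (hb.comp ha)

theorem fg_sup {P : Scheme.{u}} {I J : P.IdealSheafData} (hI : ∀ A : P.affineOpens, (I.ideal A).FG)
    (hJ : ∀ A : P.affineOpens, (J.ideal A).FG) (A : P.affineOpens) : ((I ⊔ J).ideal A).FG :=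
  (congrFun Scheme.IdealSheafData.ideal_sup A) ▸ Submodule.FG.sup (hI A) (hJ A)

theorem fg_bot {P : Scheme.{u}} (A : P.affineOpens) : ((⊥ : P.IdealSheafData).ideal A).FG := by
  rw [Scheme.IdealSheafData.ideal_bot]
  exact Submodule.fg_bot

/-- A quasi-compact finitely presented immersion is an open immersion into a closed subscheme of finite
presentation. -/
theorem exists_openImmersion_fp_closed {X P : Scheme.{u}} [CompactSpace P] [QuasiSeparatedSpace P]
    (g : X ⟶ P) [IsImmersion g] [QuasiCompact g] [LocallyOfFinitePresentation g] :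
    ∃ (Z : Scheme.{u}) (z : Z ⟶ P) (j : X ⟶ Z), IsClosedImmersion z ∧ LocallyOfFinitePresentation z ∧
      IsOpenImmersion j ∧ QuasiCompact j ∧ j ≫ z = g := by
  classical
  haveI : CompactSpace X := QuasiCompact.compactSpace_of_compactSpace g
  let I := g.ker
  let W : Set P.affineOpens := {A | A.1 ≤ g.coborderRange}
  have hcov : Set.univ ⊆ ⋃ A : W, g ⁻¹' (A.1.1 : Set P) := by
    intro x _
    have hx : g x ∈ g.coborderRange := by
      have := (g.liftCoborder x).2
      exact (congrArg (fun m : X ⟶ P => m x) g.liftCoborder_ι) ▸ this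
    obtain ⟨_, ⟨A, hA, rfl⟩, hxA, hAW⟩ :=
      P.isBasis_affineOpens.exists_subset_of_mem_open hx g.coborderRange.2
    exact Set.mem_iUnion.2 ⟨⟨⟨A, hA⟩, hAW⟩, hxA⟩
  obtain ⟨s, hs⟩ := isCompact_univ.elim_finite_subcover _ (fun A => A.1.1.2.preimage g.continuous) hcov
  -- the ideal is finitely generated on these affine opens
  have hfg : ∀ A : W, (I.ideal A.1).FG := by
    intro A
    haveI : IsClosedImmersion g.liftCoborder := inferInstance
    have hA' : IsAffineOpen (g.coborderRange.ι ⁻¹ᵁ A.1.1) :=
      A.1.2.preimage_of_isOpenImmersion g.coborderRange.ι (by rw [Scheme.Opens.opensRange_ι]; exact A.2)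
    have hpre : IsAffineOpen (g ⁻¹ᵁ A.1.1) := by
      have := hA'.preimage g.liftCoborder
      rwa [← Scheme.Hom.comp_preimage, g.liftCoborder_ι] at this
    have hsurj : Function.Surjective (g.app A.1.1) := by
      have h1 := g.liftCoborder.app_surjective (g.coborderRange.ι ⁻¹ᵁ A.1.1) hA'
      have h2 : g.app A.1.1 = g.coborderRange.ι.app A.1.1 ≫ g.liftCoborder.app _ ≫
          X.presheaf.map (eqToHom (by rw [← Scheme.Hom.comp_preimage, g.liftCoborder_ι])).op := by
        rw [← Category.assoc, ← Scheme.Hom.comp_app]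
        exact Scheme.Hom.congr_app g.liftCoborder_ι.symm A.1.1
      haveI : IsIso (g.coborderRange.ι.app A.1.1) :=
        g.coborderRange.ι.isIso_app A.1.1 (by rw [Scheme.Opens.opensRange_ι]; exact A.2)
      rw [h2]
      exact surjective_comp₃ _ _ _ (ConcreteCategory.bijective_of_isIso _).surjective h1
        (ConcreteCategory.bijective_of_isIso _).surjective
    have hfp : (g.app A.1.1).hom.FinitePresentation := by
      rw [Scheme.Hom.app_eq_appLE]
      exact g.finitePresentation_appLE A.1.2 hpre le_rfl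
    algebraize [(g.app A.1.1).hom]
    rw [Scheme.Hom.ker_apply]
    exact Algebra.FinitePresentation.ker_fG_of_surjective (Algebra.ofId Γ(P, A.1.1) Γ(X, g ⁻¹ᵁ A.1.1)) hsurj
  choose G hG using fun A : W => (hfg A)
  have hJA : ∀ A : W, ∃ J ≤ I, (∀ B : P.affineOpens, (J.ideal B).FG) ∧ I.ideal A.1 ≤ J.ideal A.1 := fun A => by
    obtain ⟨J, hJ, hfgJ, hGJ⟩ := H7Lim.exists_finiteType_le I A.1 (G A)
      (by rw [← hG A]; exact Ideal.subset_span)
    exact ⟨J, hJ, hfgJ, by rw [← hG A]; exact Ideal.span_le.2 hGJ⟩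
  choose Jf hJfI hJffg hJfle using hJA
  let J : P.IdealSheafData := s.sup Jf
  have hJI : J ≤ I := Finset.sup_le fun A _ => hJfI A
  have hJfg : ∀ A : P.affineOpens, (J.ideal A).FG :=
    Finset.sup_induction (p := fun K : P.IdealSheafData => ∀ A : P.affineOpens, (K.ideal A).FG)
      fg_bot (fun _ hK _ hL => fg_sup hK hL) (fun A _ => hJffg A)
  have hJeq : ∀ A ∈ s, I.ideal A.1 ≤ J.ideal A.1 := fun A hA =>
    (hJfle A).trans ((Finset.le_sup (f := Jf) hA) A.1)
  let U : P.Opens := s.sup fun A => A.1.1
  have hU : ∀ A ∈ s, A.1.1 ≤ U := fun A hA => Finset.le_sup (f := fun A : W => A.1.1) hA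
  have hcomap : I.comap U.ι = J.comap U.ι := by
    refine Scheme.IdealSheafData.ext_of_iSup_eq_top
      (fun A : s => (⟨U.ι ⁻¹ᵁ A.1.1.1, A.1.1.2.preimage_of_isOpenImmersion U.ι
        (by rw [Scheme.Opens.opensRange_ι]; exact hU _ A.2)⟩ : U.toScheme.affineOpens)) ?_ fun A => ?_
    · refine eq_top_iff.2 fun y _ => ?_
      have hy : y.1 ∈ ⨆ A ∈ s, A.1.1 := (Finset.sup_eq_iSup s fun A : W => A.1.1) ▸ y.2
      simp only [Opens.mem_iSup] at hy
      obtain ⟨A, hA, hyA⟩ := hy
      exact Opens.mem_iSup.2 ⟨⟨A, hA⟩, hyA⟩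
    · rw [Scheme.IdealSheafData.ideal_comap_of_isOpenImmersion,
        Scheme.IdealSheafData.ideal_comap_of_isOpenImmersion]
      have e : (⟨U.ι ''ᵁ (U.ι ⁻¹ᵁ A.1.1.1),
          (A.1.1.2.preimage_of_isOpenImmersion U.ι
            (by rw [Scheme.Opens.opensRange_ι]; exact hU _ A.2)).image_of_isOpenImmersion U.ι⟩ : P.affineOpens) =
          A.1.1 := by
        refine Subtype.ext ?_
        show U.ι ''ᵁ (U.ι ⁻¹ᵁ A.1.1.1) = _
        rw [Scheme.Hom.image_preimage_eq_opensRange_inf, Scheme.Opens.opensRange_ι, inf_eq_right.2 (hU _ A.2)]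
      congr 1
      rw [e]
      exact le_antisymm (hJeq _ A.2) (hJI _)
  -- `g` factors through the common restriction to `U`
  haveI : LocallyOfFinitePresentation J.subschemeι :=
    H7Lim.locallyOfFinitePresentation_of_ker_fg _ fun A => by
      rw [Scheme.IdealSheafData.ker_subschemeι]; exact hJfg A
  let j : X ⟶ J.subscheme := g.toImage ≫ Scheme.IdealSheafData.inclusion hJI
  have hj : j ≫ J.subschemeι = g := by
    rw [Category.assoc, Scheme.IdealSheafData.inclusion_subschemeι, Scheme.Hom.toImage_imageι]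
  have hrange : Set.range g ⊆ Set.range U.ι := by
    rw [Scheme.Opens.range_ι]
    rintro _ ⟨x, rfl⟩
    obtain ⟨A, hA, hxA⟩ := Set.mem_iUnion₂.1 (hs (Set.mem_univ x))
    exact hU A hA hxA
  let gU : X ⟶ U.toScheme := IsOpenImmersion.lift U.ι g hrange
  let l : X ⟶ pullback U.ι I.subschemeι := pullback.lift gU g.toImage
    (by rw [IsOpenImmersion.lift_fac]; exact g.toImage_imageι.symm)
  haveI : IsOpenImmersion (l ≫ pullback.snd U.ι I.subschemeι) := by
    rw [pullback.lift_snd]; infer_instance
  haveI : IsOpenImmersion l := IsOpenImmersion.of_comp l (pullback.snd U.ι I.subschemeι)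
  let e : pullback U.ι I.subschemeι ≅ pullback U.ι J.subschemeι :=
    (I.comapIso U.ι).symm ≪≫ eqToIso (congrArg Scheme.IdealSheafData.subscheme hcomap) ≪≫ J.comapIso U.ι
  have hfst : e.hom ≫ pullback.fst U.ι J.subschemeι = pullback.fst U.ι I.subschemeι := by
    have : ∀ {K L : U.toScheme.IdealSheafData} (h : K = L),
        eqToHom (congrArg Scheme.IdealSheafData.subscheme h) ≫ L.subschemeι = K.subschemeι := by
      rintro K _ rfl
      exact Category.id_comp _
    simp only [e, Iso.trans_hom, Iso.symm_hom, eqToIso.hom, Category.assoc,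
      Scheme.IdealSheafData.comapIso_hom_fst, this hcomap, Scheme.IdealSheafData.comapIso_inv_subschemeι]
  have he : e.hom ≫ pullback.snd U.ι J.subschemeι =
      pullback.snd U.ι I.subschemeι ≫ Scheme.IdealSheafData.inclusion hJI := by
    rw [← cancel_mono J.subschemeι, Category.assoc, Category.assoc,
      Scheme.IdealSheafData.inclusion_subschemeι, ← pullback.condition, ← pullback.condition,
      reassoc_of% hfst]
  haveI : IsOpenImmersion j := by
    have : j = l ≫ e.hom ≫ pullback.snd U.ι J.subschemeι := by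
      rw [he, pullback.lift_snd_assoc]
    rw [this]
    infer_instance
  haveI : QuasiSeparatedSpace J.subscheme := quasiSeparatedSpace_of_quasiSeparated J.subschemeι
  exact ⟨_, J.subschemeι, j, inferInstance, inferInstance, inferInstance,
    quasiCompact_of_compactSpace _, hj⟩

/-- Zariski's main theorem with a finite factor of finite presentation. -/
theorem exists_openImmersion_finite_fp {X S : Scheme.{u}} [CompactSpace S] [QuasiSeparatedSpace S]
    (f : X ⟶ S) [LocallyQuasiFinite f] [LocallyOfFinitePresentation f] [QuasiCompact f] [IsSeparated f] :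
    ∃ (T : Scheme.{u}) (j : X ⟶ T) (π : T ⟶ S), IsOpenImmersion j ∧ QuasiCompact j ∧ IsFinite π ∧
      LocallyOfFinitePresentation π ∧ j ≫ π = f := by
  let a := f.toNormalization
  let ν := f.fromNormalization
  haveI : CompactSpace X := QuasiCompact.compactSpace_of_compactSpace f
  let e := a.isoOpensRange
  have he : a.opensRange.ι ≫ ν = e.inv ≫ f := by
    rw [← cancel_epi e.hom, Iso.hom_inv_id_assoc, Scheme.Hom.isoOpensRange_hom_ι_assoc]
    exact f.toNormalization_fromNormalization
  haveI : LocallyOfFiniteType (a.opensRange.ι ≫ ν) := by rw [he]; infer_instance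
  obtain ⟨P, p, b, hp, hbp, himm⟩ := H7Lim.exists_finFp_isImmersion ν a.opensRange (by
    rw [Scheme.Hom.coe_opensRange]; exact isCompact_range a.continuous)
  haveI := hp.1
  haveI := hp.2
  have hab : a ≫ b = e.hom ≫ a.opensRange.ι ≫ b := by rw [Scheme.Hom.isoOpensRange_hom_ι_assoc]
  haveI : IsImmersion (a ≫ b) := by rw [hab]; infer_instance
  have hcomp : (a ≫ b) ≫ p = f := by rw [Category.assoc, hbp]; exact f.toNormalization_fromNormalization
  haveI : QuasiCompact ((a ≫ b) ≫ p) := by rw [hcomp]; infer_instance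
  haveI : QuasiCompact (a ≫ b) := QuasiCompact.of_comp (a ≫ b) p
  haveI : LocallyOfFinitePresentation ((a ≫ b) ≫ p) := by rw [hcomp]; infer_instance
  haveI : LocallyOfFinitePresentation (a ≫ b) := H7Lim.locallyOfFinitePresentation_of_comp (a ≫ b) p
  haveI : CompactSpace P := QuasiCompact.compactSpace_of_compactSpace p
  haveI : QuasiSeparatedSpace P := quasiSeparatedSpace_of_quasiSeparated p
  obtain ⟨Z, z, j, _, _, hj, hjqc, hjz⟩ := exists_openImmersion_fp_closed (a ≫ b)
  exact ⟨Z, j, z ≫ p, hj, hjqc, inferInstance, inferInstance, by rw [← Category.assoc, hjz, hcomp]⟩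

end Groth.Agent.H8Props.FiniteFactor
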