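import Mathlib.RingTheory.Etale.StandardEtale
import Mathlib.FieldTheory.PrimitiveElement
import Mathlib.RingTheory.Polynomial.ScaleRoots
import Mathlib.Algebra.Polynomial.Lifts
import Mathlib.AlgebraicGeometry.Morphisms.Etale
import Mathlib.AlgebraicGeometry.ResidueField

/-!
# Étale neighbourhoods with prescribed separable residue field (helper8)

`exists_etale_generating`: if the field `K` is generated by the image of `R` and `L/K` is finite
separable, some standard étale `R`-algebra maps to `L` with generating image.
`exists_etale_nbhd`: the scheme version.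
-/

set_option autoImplicit false
set_option backward.isDefEq.respectTransparency.types false

universe u

open Polynomial CategoryTheory AlgebraicGeometry

namespace Groth.Agent.H8Props.EtalePrescribedResidue

theorem exists_common_denominator {R K : Type u} [CommRing R] [Field K] [Algebra R K]
    (hfrac : ∀ x : K, ∃ a b : R, algebraMap R K b ≠ 0 ∧ algebraMap R K b * x = algebraMap R K a)
    (s : Finset K) :
    ∃ g : R, algebraMap R K g ≠ 0 ∧ ∀ x ∈ s, ∃ a, algebraMap R K g * x = algebraMap R K a := by
  classical
  induction s using Finset.induction_on with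
  | empty => exact ⟨1, by simp, by simp⟩
  | insert x s hx ih =>
    obtain ⟨g, hg, hgs⟩ := ih
    obtain ⟨a, b, hb, hab⟩ := hfrac x
    refine ⟨g * b, by simp [hg, hb], fun y hy => ?_⟩
    rcases Finset.mem_insert.mp hy with rfl | hy
    · exact ⟨g * a, by rw [map_mul, mul_assoc, hab, map_mul]⟩
    · obtain ⟨c, hc⟩ := hgs y hy
      exact ⟨b * c, by rw [map_mul, map_mul, ← hc]; ring⟩

/-- Ring version: a finite separable extension of the residue field is generated by an étale
algebra. -/
theorem exists_etale_generating {R K L : Type u} [CommRing R] [Field K] [Field L] [Algebra R K]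
    [Algebra K L] [Algebra R L] [IsScalarTower R K L] [FiniteDimensional K L]
    [Algebra.IsSeparable K L]
    (hfrac : ∀ x : K, ∃ a b : R, algebraMap R K b ≠ 0 ∧ algebraMap R K b * x = algebraMap R K a) :
    ∃ (R' : Type u) (_ : CommRing R') (_ : Algebra R R') (_ : Algebra.Etale R R') (ψ : R' →ₐ[R] L),
      Subfield.closure (Set.range ψ) = ⊤ := by
  classical
  obtain ⟨α, hα⟩ := Field.exists_primitive_element K L
  let μ := minpoly K α
  have hint : IsIntegral K α := IsIntegral.of_finite K α
  have hμ : μ.Monic := minpoly.monic hint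
  obtain ⟨g, hg, hgc⟩ := exists_common_denominator hfrac
    ((Finset.range μ.natDegree).image μ.coeff)
  set γ := algebraMap R K g with hγ
  have hlifts : scaleRoots μ γ ∈ lifts (algebraMap R K) := by
    rw [lifts_iff_coeff_lifts]
    intro n
    rw [coeff_scaleRoots]
    rcases lt_trichotomy n μ.natDegree with h | h | h
    · obtain ⟨a, ha⟩ := hgc (μ.coeff n) (Finset.mem_image_of_mem _ (Finset.mem_range.mpr h))
      refine ⟨a * g ^ (μ.natDegree - n - 1), ?_⟩
      obtain ⟨k, hk⟩ : ∃ k, μ.natDegree - n = k + 1 := ⟨μ.natDegree - n - 1, by omega⟩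
      rw [hk, Nat.add_sub_cancel, map_mul, map_pow, ← ha, ← hγ, pow_succ]
      ring
    · subst h
      exact ⟨1, by simp [hμ.coeff_natDegree]⟩
    · exact ⟨0, by simp [coeff_eq_zero_of_natDegree_lt h]⟩
  obtain ⟨F, hF, -, hFm⟩ := lifts_and_degree_eq_and_monic hlifts ((monic_scaleRoots_iff γ).mpr hμ)
  let P : StandardEtalePair R :=
    { f := F, monic_f := hFm, g := derivative F, cond := ⟨1, 0, 1, by simp⟩ }
  let β : L := algebraMap K L γ * α
  have hroot : aeval β (scaleRoots μ γ) = 0 := scaleRoots_aeval_eq_zero (minpoly.aeval K α)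
  have hsep : (scaleRoots μ γ).Separable := by
    have hadj : IntermediateField.adjoin K {β} = IntermediateField.adjoin K {α} := by
      refine le_antisymm (IntermediateField.adjoin_simple_le_iff.mpr ?_) (IntermediateField.adjoin_simple_le_iff.mpr ?_)
      · exact mul_mem (IntermediateField.algebraMap_mem _ _) (IntermediateField.mem_adjoin_simple_self K α)
      · have : α = algebraMap K L γ⁻¹ * β := by
          rw [← mul_assoc, ← map_mul, inv_mul_cancel₀ hg, map_one, one_mul]
        rw [this]
        exact mul_mem (IntermediateField.algebraMap_mem _ _) (IntermediateField.mem_adjoin_simple_self K β)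
    have hβint : IsIntegral K β := IsIntegral.of_finite K β
    have hdeg : (minpoly K β).natDegree = μ.natDegree := by
      rw [← IntermediateField.adjoin.finrank hβint, hadj, IntermediateField.adjoin.finrank hint]
    have heq : scaleRoots μ γ = minpoly K β :=
      (eq_of_monic_of_dvd_of_natDegree_le (minpoly.monic hβint) ((monic_scaleRoots_iff γ).mpr hμ)
        (minpoly.dvd K β hroot) (by rw [natDegree_scaleRoots, hdeg]))
    rw [heq]
    exact Algebra.IsSeparable.isSeparable K β
  have haev : ∀ q : R[X], aeval β q = aeval β (q.map (algebraMap R K)) := fun q => by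
    rw [aeval_map_algebraMap]
  have hmap : P.HasMap β := by
    refine ⟨by show aeval β F = 0; rw [haev, hF, hroot], ?_⟩
    show IsUnit (aeval β (derivative F))
    rw [haev, ← derivative_map, hF]
    exact (hsep.aeval_derivative_ne_zero hroot).isUnit
  refine ⟨P.Ring, inferInstance, inferInstance, inferInstance, P.lift β hmap, ?_⟩
  set S := Subfield.closure (Set.range (P.lift β hmap))
  have hR : ∀ r, algebraMap R L r ∈ S := fun r =>
    Subfield.subset_closure ⟨algebraMap R P.Ring r, AlgHom.commutes _ r⟩
  have hK : ∀ x : K, algebraMap K L x ∈ S := fun x => by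
    obtain ⟨a, b, hb, hab⟩ := hfrac x
    have hx : x = algebraMap R K a / algebraMap R K b := by
      rw [eq_div_iff hb, mul_comm, hab]
    rw [hx, map_div₀, ← IsScalarTower.algebraMap_apply, ← IsScalarTower.algebraMap_apply]
    exact div_mem (hR a) (hR b)
  have hβS : β ∈ S := Subfield.subset_closure ⟨P.X, P.lift_X β hmap⟩
  let T : IntermediateField K L := S.toIntermediateField hK
  have hαT : α ∈ T := by
    have : α = algebraMap K L γ⁻¹ * β := by
      rw [← mul_assoc, ← map_mul, inv_mul_cancel₀ hg, map_one, one_mul]
    rw [this]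
    exact mul_mem (hK _) hβS
  have hT : (⊤ : IntermediateField K L) ≤ T := hα ▸ IntermediateField.adjoin_simple_le_iff.mpr hαT
  rw [eq_top_iff]
  intro x _
  exact hT (IntermediateField.mem_top (x := x))

/-- Scheme version. -/
theorem exists_etale_nbhd (S : Scheme.{u}) (s : S) (k : Type u) [Field k]
    [Algebra (S.residueField s) k] [FiniteDimensional (S.residueField s) k]
    [Algebra.IsSeparable (S.residueField s) k] :
    ∃ (U : Scheme.{u}) (g : U ⟶ S) (u : U) (hu : g u = s), Etale g ∧
      letI := ((S.residueFieldCongr hu).inv ≫ g.residueFieldMap u).hom.toAlgebra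
      Nonempty (k ≃ₐ[S.residueField s] U.residueField u) := by
  obtain ⟨V, hV, hsV, -⟩ := exists_isAffineOpen_mem_and_subset (x := s) (U := ⊤) trivial
  letI : Algebra Γ(S, V) (S.residueField s) := (S.evaluation V s hsV).hom.toAlgebra
  letI : Algebra Γ(S, V) k :=
    ((algebraMap (S.residueField s) k).comp (algebraMap Γ(S, V) (S.residueField s))).toAlgebra
  have : IsScalarTower Γ(S, V) (S.residueField s) k := .of_algebraMap_eq fun _ => rfl
  have hfrac : ∀ x : S.residueField s, ∃ a b : Γ(S, V), algebraMap Γ(S, V) (S.residueField s) b ≠ 0 ∧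
      algebraMap Γ(S, V) (S.residueField s) b * x = algebraMap Γ(S, V) (S.residueField s) a := by
    intro x
    obtain ⟨y, rfl⟩ := S.residue_surjective s x
    letI := TopCat.Presheaf.algebra_section_stalk S.presheaf ⟨s, hsV⟩
    have := hV.isLocalization_stalk ⟨s, hsV⟩
    obtain ⟨⟨a, b⟩, hab⟩ := IsLocalization.surj (hV.primeIdealOf ⟨s, hsV⟩).asIdeal.primeCompl y
    refine ⟨a, b, ?_, ?_⟩
    · have : IsUnit (S.presheaf.germ V s hsV b.1) :=
        IsLocalization.map_units (S.presheaf.stalk s) b
      exact (this.map (S.residue s).hom).ne_zero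
    · have := congrArg (S.residue s).hom hab
      rw [map_mul, mul_comm] at this
      exact this
  obtain ⟨R', _, _, _, ψ, hψ⟩ := exists_etale_generating (R := Γ(S, V)) (K := S.residueField s) (L := k) hfrac
  let U := Spec (CommRingCat.of R')
  let g : U ⟶ S := Spec.map (CommRingCat.ofHom (algebraMap Γ(S, V) R')) ≫ hV.fromSpec
  have : Etale g := by
    have : Etale (Spec.map (CommRingCat.ofHom (algebraMap Γ(S, V) R'))) := by
      rw [HasRingHomProperty.Spec_iff (P := @Etale)]
      exact RingHom.etale_algebraMap.mpr ‹_›
    infer_instance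
  let h : Spec (CommRingCat.of k) ⟶ U := Spec.map (CommRingCat.ofHom ψ.toRingHom)
  let ι : S.residueField s ⟶ CommRingCat.of k := CommRingCat.ofHom (algebraMap (S.residueField s) k)
  have hhg : h ≫ g = Spec.map ι ≫ S.fromSpecResidueField s := by
    have h1 : CommRingCat.ofHom (algebraMap Γ(S, V) R') ≫ CommRingCat.ofHom ψ.toRingHom =
        S.evaluation V s hsV ≫ ι := by
      ext r
      exact ψ.commutes r
    simp only [h, g]
    rw [← Category.assoc, ← Spec.map_comp, h1, Spec.map_comp, Category.assoc]
    congr 1
    rw [Scheme.evaluation, Spec.map_comp, Category.assoc, Scheme.fromSpecResidueField]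
    exact congrArg (Spec.map (S.residue s) ≫ ·) (hV.fromSpecStalk_eq_fromSpecStalk hsV)
  obtain ⟨⟨u, φ⟩, hφ⟩ : ∃ x : Σ u : U, U.residueField u ⟶ CommRingCat.of k,
      Spec.map x.2 ≫ U.fromSpecResidueField x.1 = h :=
    ⟨⟨_, U.descResidueField (Scheme.stalkClosedPointTo h)⟩,
      U.descResidueField_stalkClosedPointTo_fromSpecResidueField k h⟩
  have hu : g u = s := by
    have e1 : h (IsLocalRing.closedPoint k) = u := by
      rw [← hφ]
      show U.fromSpecResidueField u _ = u
      exact U.fromSpecResidueField_apply u _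
    rw [← e1]
    show (h ≫ g) _ = s
    rw [hhg]
    exact S.fromSpecResidueField_apply s _
  refine ⟨U, g, u, hu, inferInstance, ?_⟩
  let ρ := (S.residueFieldCongr hu).inv ≫ g.residueFieldMap u
  letI := ρ.hom.toAlgebra
  have hρ : ρ ≫ φ = ι := by
    apply Spec.map_injective
    rw [← cancel_mono (S.fromSpecResidueField s), ← hhg, ← hφ]
    simp only [ρ, Spec.map_comp, Category.assoc]
    congr 1
    rw [← g.SpecMap_residueFieldMap_fromSpecResidueField]
    congr 1
    rw [← S.residueFieldCongr_fromSpecResidueField hu, ← Category.assoc, ← Spec.map_comp,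
      Iso.hom_inv_id, Spec.map_id, Category.id_comp]
  have hsurj : Function.Surjective φ.hom := by
    obtain ⟨q, hq⟩ := Spec.map_surjective (U.fromSpecResidueField u)
    have hqφ : q ≫ φ = CommRingCat.ofHom ψ.toRingHom := by
      apply Spec.map_injective
      rw [Spec.map_comp, hq, hφ]
    intro x
    have hle : Subfield.closure (Set.range ψ) ≤ φ.hom.fieldRange := by
      rw [Subfield.closure_le]
      rintro _ ⟨r, rfl⟩
      exact ⟨q.hom r, ConcreteCategory.congr_hom hqφ r⟩
    rw [hψ] at hle
    exact hle (Subfield.mem_top x)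
  let Φ : U.residueField u →ₐ[S.residueField s] k :=
    { φ.hom with commutes' := fun r => ConcreteCategory.congr_hom hρ r }
  exact ⟨(AlgEquiv.ofBijective Φ ⟨φ.hom.injective, hsurj⟩).symm⟩

end Groth.Agent.H8Props.EtalePrescribedResidue
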