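import Mathlib
import Groth.Prelude.Def_MoreMor

/-!
# Square-zero thickenings: affine charts and glueing of unique lifts (helper8)

`lift_of_local`: let `t : T ⟶ T'` be a closed immersion, `a : T ⟶ X`, `b : T' ⟶ S`.
If every point of `T'` has an open neighbourhood on all whose affine opens the lifting problem has
exactly one solution, then there is exactly one global solution.
-/

set_option autoImplicit false
universe u
open CategoryTheory AlgebraicGeometry Limits

namespace Groth.Agent.H8Props.Thickening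

variable {T T' X S : Scheme.{u}}

/-- The chart of `T` over an affine open `W` of `T'`. -/
noncomputable def chart (t : T ⟶ T') [IsClosedImmersion t] {W : T'.Opens} (hW : IsAffineOpen W) :
    Spec (CommRingCat.of (Γ(T', W) ⧸ RingHom.ker (t.app W).hom)) ⟶ T :=
  Spec.map (CommRingCat.ofHom
    (RingHom.quotientKerEquivOfSurjective (t.app_surjective W hW)).symm.toRingHom) ≫
    (hW.preimage t).fromSpec

instance (t : T ⟶ T') [IsClosedImmersion t] {W : T'.Opens} (hW : IsAffineOpen W) :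
    IsOpenImmersion (chart t hW) := by
  unfold chart
  have : IsIso (CommRingCat.ofHom
      (RingHom.quotientKerEquivOfSurjective (t.app_surjective W hW)).symm.toRingHom) :=
    (RingHom.quotientKerEquivOfSurjective
      (t.app_surjective W hW)).symm.toCommRingCatIso.isIso_hom
  infer_instance

lemma chart_comp (t : T ⟶ T') [IsClosedImmersion t] {W : T'.Opens} (hW : IsAffineOpen W) :
    chart t hW ≫ t =
      Spec.map (CommRingCat.ofHom (Ideal.Quotient.mk (RingHom.ker (t.app W).hom))) ≫ hW.fromSpec := by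
  unfold chart
  rw [Category.assoc, ← IsAffineOpen.SpecMap_appLE_fromSpec t hW (hW.preimage t) le_rfl,
    ← Category.assoc, ← Spec.map_comp]
  congr 2
  rw [Scheme.Hom.appLE_eq_app]
  ext x
  show (RingHom.quotientKerEquivOfSurjective (t.app_surjective W hW)).symm ((t.app W).hom x) = _
  rw [RingEquiv.symm_apply_eq]
  rfl

lemma range_chart (t : T ⟶ T') [IsClosedImmersion t] {W : T'.Opens} (hW : IsAffineOpen W) :
    Set.range (chart t hW) = (t ⁻¹ᵁ W : Set T) := by
  unfold chart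
  have : IsIso (CommRingCat.ofHom
      (RingHom.quotientKerEquivOfSurjective (t.app_surjective W hW)).symm.toRingHom) :=
    (RingHom.quotientKerEquivOfSurjective
      (t.app_surjective W hW)).symm.toCommRingCatIso.isIso_hom
  simp only [Scheme.Hom.comp_base, TopCat.coe_comp, Set.range_comp]
  rw [Set.range_eq_univ.mpr (Scheme.Hom.surjective _), Set.image_univ, IsAffineOpen.range_fromSpec]

lemma ker_pow_two (t : T ⟶ T') [IsClosedImmersion t] (ht : t.ker * t.ker = ⊥)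
    {W : T'.Opens} (hW : IsAffineOpen W) : RingHom.ker (t.app W).hom ^ 2 = ⊥ := by
  have h := congr_arg (fun J : T'.IdealSheafData ↦ J.ideal ⟨W, hW⟩) ht
  simp only [Scheme.IdealSheafData.ideal_mul, Pi.mul_apply, Scheme.IdealSheafData.ideal_bot,
    Pi.bot_apply, Scheme.Hom.ker_apply] at h
  rw [pow_two]; exact h

/-- `g : P ⟶ X` solves the lifting problem `(a, b)` over `j : P ⟶ T'`. -/
structure IsLift (t : T ⟶ T') (f : X ⟶ S) (a : T ⟶ X) (b : T' ⟶ S) {P : Scheme.{u}}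
    (j : P ⟶ T') (g : P ⟶ X) : Prop where
  comm : g ≫ f = j ≫ b
  restrict : ∀ {Q : Scheme.{u}} (p : Q ⟶ P) (q : Q ⟶ T), p ≫ j = q ≫ t → p ≫ g = q ≫ a

lemma IsLift.precomp {t : T ⟶ T'} {f : X ⟶ S} {a : T ⟶ X} {b : T' ⟶ S} {P R : Scheme.{u}}
    {j : P ⟶ T'} {g : P ⟶ X} (h : IsLift t f a b j g) (k : R ⟶ P) :
    IsLift t f a b (k ≫ j) (k ≫ g) where
  comm := by rw [Category.assoc, h.comm, Category.assoc]
  restrict p q hpq := by
    rw [← Category.assoc]; exact h.restrict _ _ (by rw [Category.assoc, hpq])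

lemma isLift_id_iff {t : T ⟶ T'} {f : X ⟶ S} {a : T ⟶ X} {b : T' ⟶ S} {g : T' ⟶ X} :
    IsLift t f a b (𝟙 T') g ↔ t ≫ g = a ∧ g ≫ f = b := by
  constructor
  · intro h
    exact ⟨by simpa using h.restrict t (𝟙 T) (by simp), by simpa using h.comm⟩
  · rintro ⟨h1, h2⟩
    refine ⟨by simpa using h2, fun p q hpq ↦ ?_⟩
    rw [Category.comp_id] at hpq
    rw [hpq, Category.assoc, h1]

lemma isLift_fromSpec_iff {t : T ⟶ T'} [IsClosedImmersion t] {f : X ⟶ S} {a : T ⟶ X} {b : T' ⟶ S}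
    {W : T'.Opens} (hW : IsAffineOpen W) {g : Spec Γ(T', W) ⟶ X} :
    IsLift t f a b hW.fromSpec g ↔
      Spec.map (CommRingCat.ofHom (Ideal.Quotient.mk (RingHom.ker (t.app W).hom))) ≫ g =
        chart t hW ≫ a ∧ g ≫ f = hW.fromSpec ≫ b := by
  constructor
  · intro h
    exact ⟨h.restrict _ _ (chart_comp t hW).symm, h.comm⟩
  · rintro ⟨h1, h2⟩
    refine ⟨h2, fun p q hpq ↦ ?_⟩
    have hq : Set.range q ⊆ Set.range (chart t hW) := by
      rw [range_chart]
      rintro _ ⟨x, rfl⟩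
      show (q ≫ t) x ∈ (W : Set T')
      rw [← hpq, ← hW.range_fromSpec]
      exact ⟨p x, rfl⟩
    obtain ⟨q', rfl⟩ : ∃ q', q' ≫ chart t hW = q :=
      ⟨IsOpenImmersion.lift _ q hq, IsOpenImmersion.lift_fac _ _ _⟩
    rw [Category.assoc, chart_comp, ← Category.assoc, cancel_mono] at hpq
    rw [hpq, Category.assoc, h1, Category.assoc]

/-- Glueing of unique local lifts. -/
theorem lift_of_local (t : T ⟶ T') (f : X ⟶ S) (a : T ⟶ X) (b : T' ⟶ S)
    (H : ∀ x : T', ∃ W₀ : T'.Opens, x ∈ W₀ ∧ ∀ (W : T'.Opens) (hW : IsAffineOpen W), W ≤ W₀ →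
      ∃! g : Spec Γ(T', W) ⟶ X, IsLift t f a b hW.fromSpec g) :
    ∃! l : T' ⟶ X, t ≫ l = a ∧ l ≫ f = b := by
  choose W₀ hxW₀ hW₀ using H
  -- uniqueness on any open immersion
  have huniq : ∀ {P : Scheme.{u}} (j : P ⟶ T') [IsOpenImmersion j] (g₁ g₂ : P ⟶ X),
      IsLift t f a b j g₁ → IsLift t f a b j g₂ → g₁ = g₂ := by
    intro P j _ g₁ g₂ h₁ h₂
    have hex : ∀ p : P, ∃ U : P.Opens, IsAffineOpen U ∧ p ∈ U ∧ j ''ᵁ U ≤ W₀ (j p) := by
      intro p
      obtain ⟨U, hU, hpU, hUW⟩ := exists_isAffineOpen_mem_and_subset (x := p)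
        (U := j ⁻¹ᵁ W₀ (j p)) (hxW₀ (j p))
      refine ⟨U, hU, hpU, ?_⟩
      rintro _ ⟨y, hy, rfl⟩
      exact hUW hy
    choose U hU hpU hUW using hex
    have hcov : TopologicalSpace.IsOpenCover U := TopologicalSpace.IsOpenCover.mk <|
      top_le_iff.mp fun p _ ↦ TopologicalSpace.Opens.mem_iSup.mpr ⟨p, hpU p⟩
    refine Scheme.Cover.hom_ext (P.openCoverOfIsOpenCover U hcov) g₁ g₂ fun p ↦ ?_
    have hW : IsAffineOpen (j ''ᵁ U p) := (hU p).image_of_isOpenImmersion j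
    let e : (U p).toScheme ≅ Spec Γ(T', j ''ᵁ U p) :=
      IsOpenImmersion.isoOfRangeEq ((U p).ι ≫ j) hW.fromSpec
        (by simp [Set.range_comp, hW.range_fromSpec])
    have he : e.inv ≫ ((U p).ι ≫ j) = hW.fromSpec := IsOpenImmersion.isoOfRangeEq_inv_fac ..
    obtain ⟨g, -, hg⟩ := hW₀ (j p) _ hW (hUW p)
    show (U p).ι ≫ g₁ = (U p).ι ≫ g₂
    rw [← cancel_epi e.inv]
    have k₁ := (h₁.precomp (U p).ι).precomp e.inv
    have k₂ := (h₂.precomp (U p).ι).precomp e.inv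
    rw [he] at k₁ k₂
    exact (hg _ k₁).trans (hg _ k₂).symm
  -- existence
  have hex : ∀ x : T', ∃ W : T'.Opens, ∃ hW : IsAffineOpen W, x ∈ W ∧
      ∃ g, IsLift t f a b hW.fromSpec g := by
    intro x
    obtain ⟨W, hW, hxW, hWW⟩ := exists_isAffineOpen_mem_and_subset (x := x) (U := W₀ x) (hxW₀ x)
    exact ⟨W, hW, hxW, (hW₀ x W hW hWW).exists⟩
  choose W hW hxW g hg using hex
  have hcov : TopologicalSpace.IsOpenCover W := TopologicalSpace.IsOpenCover.mk <|
    top_le_iff.mp fun x _ ↦ TopologicalSpace.Opens.mem_iSup.mpr ⟨x, hxW x⟩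
  let 𝒰 := T'.openCoverOfIsOpenCover W hcov
  let m : ∀ x, 𝒰.X x ⟶ X := fun x ↦ (hW x).isoSpec.hom ≫ g x
  have hm : ∀ x, IsLift t f a b (𝒰.f x) (m x) := fun x ↦ by
    have := (hg x).precomp (hW x).isoSpec.hom
    rwa [show (hW x).isoSpec.hom ≫ (hW x).fromSpec = (W x).ι from
      (hW x).isoSpec_hom_fromSpec] at this
  have hglue : ∀ x y, pullback.fst (𝒰.f x) (𝒰.f y) ≫ m x = pullback.snd _ _ ≫ m y := by
    intro x y
    refine huniq (pullback.fst (𝒰.f x) (𝒰.f y) ≫ 𝒰.f x) _ _ ((hm x).precomp _) ?_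
    rw [pullback.condition]
    exact (hm y).precomp _
  have hl : t ≫ 𝒰.glueMorphisms m hglue = a ∧ 𝒰.glueMorphisms m hglue ≫ f = b := by
    constructor
    · refine Scheme.Cover.hom_ext (𝒰.pullback₁ t) _ _ fun x ↦ ?_
      change pullback.fst t (𝒰.f x) ≫ t ≫ _ = pullback.fst t (𝒰.f x) ≫ a
      rw [← Category.assoc, pullback.condition, Category.assoc]
      erw [𝒰.ι_glueMorphisms m hglue x]
      exact (hm x).restrict _ _ pullback.condition.symm
    · refine Scheme.Cover.hom_ext 𝒰 _ _ fun x ↦ ?_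
      rw [← Category.assoc, 𝒰.ι_glueMorphisms, (hm x).comm]
  exact ⟨_, hl, fun l hl' ↦ huniq (𝟙 T') _ _ (isLift_id_iff.mpr hl') (isLift_id_iff.mpr hl)⟩

end Groth.Agent.H8Props.Thickening
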