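import Mathlib
import Groth.Prelude.Def_MoreMor
import Groth.Agent.H8Props.Thickening

/-!
# Formally étale / smooth morphisms of schemes and ring maps (helper8)
-/

set_option autoImplicit false
universe u
open CategoryTheory AlgebraicGeometry Limits

namespace Groth.Agent.H8Props.FormallyEtale

section Spec

variable {R A : CommRingCat.{u}} (φ : R ⟶ A)

/-- `Spec` turns formally étale ring maps into formally étale morphisms and conversely. -/
theorem isFormallyEtaleHom_SpecMap_iff :
    MoreMor.IsFormallyEtaleHom (Spec.map φ) ↔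
      (letI := φ.hom.toAlgebra; Algebra.FormallyEtale R A) := by
  let _ := φ.hom.toAlgebra
  rw [Algebra.FormallyEtale.iff_comp_bijective]
  constructor
  · intro h B _ _ I hI
    rw [Function.bijective_iff_existsUnique]
    intro g
    obtain ⟨l, ⟨hla, hlb⟩, hu⟩ := h B I hI (Spec.map (CommRingCat.ofHom g.toRingHom))
      (Spec.map (CommRingCat.ofHom (algebraMap R B))) (by
        rw [← Spec.map_comp, ← Spec.map_comp]
        congr 1
        ext r
        exact (g.commutes r).symm)
    obtain ⟨l, rfl⟩ := Spec.map_surjective l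
    rw [← Spec.map_comp, Spec.map_inj] at hla hlb
    refine ⟨{ l.hom with commutes' := fun r ↦ ConcreteCategory.congr_hom hlb r }, ?_, ?_⟩
    · ext x
      exact ConcreteCategory.congr_hom hla x
    · intro m hm
      have := hu (Spec.map (CommRingCat.ofHom m.toRingHom)) ⟨?_, ?_⟩
      · rw [Spec.map_inj] at this
        ext x
        exact ConcreteCategory.congr_hom this x
      · rw [← Spec.map_comp]
        congr 1
        ext x
        exact DFunLike.congr_fun hm x
      · rw [← Spec.map_comp]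
        congr 1
        ext r
        exact m.commutes r
  · intro h B _ I hI a b hab
    obtain ⟨a, rfl⟩ := Spec.map_surjective a
    obtain ⟨b, rfl⟩ := Spec.map_surjective b
    rw [← Spec.map_comp, ← Spec.map_comp, Spec.map_inj] at hab
    let _ : Algebra R B := b.hom.toAlgebra
    let g : A →ₐ[R] B ⧸ I :=
      { a.hom with commutes' := fun r ↦ (ConcreteCategory.congr_hom hab r).symm }
    obtain ⟨l, hl, hu⟩ := (Function.bijective_iff_existsUnique _).mp (h I hI) g
    refine ⟨Spec.map (CommRingCat.ofHom l.toRingHom), ⟨?_, ?_⟩, ?_⟩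
    · rw [← Spec.map_comp]
      congr 1
      ext x
      exact DFunLike.congr_fun hl x
    · rw [← Spec.map_comp]
      congr 1
      ext r
      exact l.commutes r
    · rintro m ⟨hma, hmb⟩
      obtain ⟨m, rfl⟩ := Spec.map_surjective m
      rw [← Spec.map_comp, Spec.map_inj] at hma hmb
      congr 1
      have := hu { m.hom with commutes' := fun r ↦ ConcreteCategory.congr_hom hmb r }
        (AlgHom.ext fun x ↦ ConcreteCategory.congr_hom hma x)
      ext x
      exact DFunLike.congr_fun this x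

end Spec

/-- A morphism out of `Spec B` whose restriction to a square-zero thickened subscheme lands in an
open immersion lifts through it. -/
theorem range_subset_of_sqZero {X U : Scheme.{u}} {B : Type u} [CommRing B] (I : Ideal B)
    (hI : I ^ 2 = ⊥) (i : U ⟶ X) (a : Spec (CommRingCat.of (B ⧸ I)) ⟶ U)
    (l : Spec (CommRingCat.of B) ⟶ X)
    (hl : Spec.map (CommRingCat.ofHom (Ideal.Quotient.mk I)) ≫ l = a ≫ i) :
    Set.range l ⊆ Set.range i := by
  rintro _ ⟨p, rfl⟩
  have hp : p ∈ Set.range (PrimeSpectrum.comap (Ideal.Quotient.mk I)) := by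
    rw [range_comap_of_surjective _ _ Ideal.Quotient.mk_surjective, Ideal.mk_ker]
    intro x hx
    exact p.2.mem_of_pow_mem 2
      (by have := Ideal.pow_mem_pow hx 2; rw [hI, Ideal.mem_bot] at this; simp [this])
  obtain ⟨q, rfl⟩ := hp
  refine ⟨a q, ?_⟩
  show (a ≫ i) q = _
  rw [← hl]
  rfl

section Square

variable {X S U V : Scheme.{u}} (f : X ⟶ S) (φ : U ⟶ V) (i : U ⟶ X) (j : V ⟶ S)
  [IsOpenImmersion i] [IsOpenImmersion j] (h : i ≫ f = φ ≫ j)

include h

/-- Formal étaleness restricts to opens. -/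
theorem isFormallyEtaleHom_of_square (hf : MoreMor.IsFormallyEtaleHom f) :
    MoreMor.IsFormallyEtaleHom φ := by
  intro B _ I hI a b hab
  obtain ⟨l, ⟨hla, hlb⟩, hu⟩ := hf B I hI (a ≫ i) (b ≫ j)
    (by rw [← Category.assoc, hab, Category.assoc, ← h, ← Category.assoc])
  obtain ⟨m, rfl⟩ : ∃ m, m ≫ i = l :=
    ⟨IsOpenImmersion.lift i l (range_subset_of_sqZero I hI i a l hla),
      IsOpenImmersion.lift_fac _ _ _⟩
  refine ⟨m, ⟨?_, ?_⟩, fun m' ⟨hma, hmb⟩ ↦ ?_⟩
  · rwa [← cancel_mono i, Category.assoc]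
  · rwa [← cancel_mono j, Category.assoc, ← h, ← Category.assoc]
  · rw [← cancel_mono i]
    refine hu _ ⟨by rw [← Category.assoc, hma], ?_⟩
    rw [Category.assoc, h, ← Category.assoc, hmb]

/-- If `φ` is formally étale, lifting problems for `f` landing in the opens are uniquely solvable. -/
theorem existsUnique_of_square (hφ : MoreMor.IsFormallyEtaleHom φ) {B : Type u} [CommRing B]
    (I : Ideal B) (hI : I ^ 2 = ⊥) (a : Spec (CommRingCat.of (B ⧸ I)) ⟶ X)
    (b : Spec (CommRingCat.of B) ⟶ S)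
    (hab : Spec.map (CommRingCat.ofHom (Ideal.Quotient.mk I)) ≫ b = a ≫ f)
    (ha : Set.range a ⊆ Set.range i) (hb : Set.range b ⊆ Set.range j) :
    ∃! l : Spec (CommRingCat.of B) ⟶ X,
      Spec.map (CommRingCat.ofHom (Ideal.Quotient.mk I)) ≫ l = a ∧ l ≫ f = b := by
  obtain ⟨a, rfl⟩ : ∃ a', a' ≫ i = a := ⟨_, IsOpenImmersion.lift_fac i a ha⟩
  obtain ⟨b, rfl⟩ : ∃ b', b' ≫ j = b := ⟨_, IsOpenImmersion.lift_fac j b hb⟩
  obtain ⟨l, ⟨hla, hlb⟩, hu⟩ := hφ B I hI a b
    (by rw [← cancel_mono j, Category.assoc, hab, Category.assoc, Category.assoc, h])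
  refine ⟨l ≫ i, ⟨by rw [← Category.assoc, hla],
    by rw [Category.assoc, h, ← Category.assoc, hlb]⟩, fun m ⟨hma, hmb⟩ ↦ ?_⟩
  obtain ⟨m, rfl⟩ : ∃ m', m' ≫ i = m :=
    ⟨IsOpenImmersion.lift i m (range_subset_of_sqZero I hI i a m hma),
      IsOpenImmersion.lift_fac _ _ _⟩
  rw [← Category.assoc, cancel_mono] at hma
  rw [Category.assoc, h, ← Category.assoc, cancel_mono] at hmb
  rw [hu m ⟨hma, hmb⟩]

end Square

/-- A formally étale morphism lifts uniquely along every first order thickening of schemes. -/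
theorem existsUnique_lift {X S : Scheme.{u}} (f : X ⟶ S) (hf : MoreMor.IsFormallyEtaleHom f)
    {T T' : Scheme.{u}} (t : T ⟶ T') [IsClosedImmersion t] (ht : t.ker * t.ker = ⊥)
    (a : T ⟶ X) (b : T' ⟶ S) (w : t ≫ b = a ≫ f) :
    ∃! l : T' ⟶ X, t ≫ l = a ∧ l ≫ f = b := by
  refine Thickening.lift_of_local t f a b fun x ↦ ⟨⊤, Set.mem_univ _, fun W hW _ ↦ ?_⟩
  simp only [Thickening.isLift_fromSpec_iff]
  refine hf _ _ (Thickening.ker_pow_two t ht hW) _ _ ?_
  rw [← Category.assoc, ← Thickening.chart_comp t hW, Category.assoc, Category.assoc, w]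

/-- Formal étaleness can be checked on affine charts: it suffices that every pair of a point `x`
and the image point lies in a pair of affine opens with formally étale ring map. -/
theorem isFormallyEtaleHom_of_charts {X S : Scheme.{u}} (f : X ⟶ S)
    (H : ∀ x : X, ∃ (U : X.Opens) (V : S.Opens) (_ : IsAffineOpen U) (_ : IsAffineOpen V)
      (hUV : U ≤ f ⁻¹ᵁ V), x ∈ U ∧
      (letI := (f.appLE V U hUV).hom.toAlgebra; Algebra.FormallyEtale Γ(S, V) Γ(X, U))) :
    MoreMor.IsFormallyEtaleHom f := by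
  intro A _ I hI a b hab
  set t := Spec.map (CommRingCat.ofHom (Ideal.Quotient.mk I)) with htdef
  have : IsClosedImmersion t :=
    IsClosedImmersion.spec_of_surjective _ Ideal.Quotient.mk_surjective
  have hts : Function.Surjective t.base := fun p ↦ by
    have hp : p ∈ Set.range (PrimeSpectrum.comap (Ideal.Quotient.mk I)) := by
      rw [range_comap_of_surjective _ _ Ideal.Quotient.mk_surjective, Ideal.mk_ker]
      intro x hx
      exact p.2.mem_of_pow_mem 2
        (by have := Ideal.pow_mem_pow hx 2; rw [hI, Ideal.mem_bot] at this; simp [this])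
    exact hp
  have ht2 : t.ker * t.ker = ⊥ := by
    refine Scheme.IdealSheafData.ext_of_isAffine ?_
    simp only [Scheme.IdealSheafData.ideal_mul, Pi.mul_apply, Scheme.IdealSheafData.ideal_bot,
      Pi.bot_apply, Scheme.Hom.ker_apply, eq_bot_iff]
    refine Ideal.mul_le.mpr fun x hx y hy ↦ ?_
    rw [Ideal.mem_bot]
    have key : ∀ z : Γ(Spec (CommRingCat.of A), ⊤), t.appTop.hom z = 0 →
        (Scheme.ΓSpecIso _).hom.hom z ∈ I := fun z hz ↦ by
      rw [← Ideal.Quotient.eq_zero_iff_mem]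
      have := congr_arg (fun g ↦ g.hom z) (Scheme.ΓSpecIso_naturality
        (CommRingCat.ofHom (Ideal.Quotient.mk I)))
      simp only [CommRingCat.hom_comp, RingHom.comp_apply, CommRingCat.hom_ofHom] at this
      rw [← this]
      show (Scheme.ΓSpecIso _).hom.hom (t.appTop.hom z) = 0
      rw [hz, map_zero]
    apply (ConcreteCategory.bijective_of_isIso (Scheme.ΓSpecIso (CommRingCat.of A)).hom).1
    rw [map_mul, map_zero]
    have := Ideal.mul_mem_mul (key x hx) (key y hy)
    rw [← pow_two, hI, Ideal.mem_bot] at this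
    exact this
  refine Thickening.lift_of_local t f a b fun p ↦ ?_
  obtain ⟨q, rfl⟩ := hts p
  obtain ⟨U, V, hU, hV, hUV, hqU, hfe⟩ := H (a q)
  have hopen : IsOpenMap t.base :=
    (IsHomeomorph.isOpenMap (isHomeomorph_iff_isEmbedding_surjective.mpr
      ⟨t.isClosedEmbedding.isEmbedding, hts⟩))
  refine ⟨⟨t '' (a ⁻¹ᵁ U : Set _), hopen _ (a ⁻¹ᵁ U).2⟩, ⟨q, hqU, rfl⟩, fun W hW hWW ↦ ?_⟩
  simp only [Thickening.isLift_fromSpec_iff]
  have hfe' := (isFormallyEtaleHom_SpecMap_iff (f.appLE V U hUV)).mpr hfe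
  have hchart : ∀ y, (Thickening.chart t hW ≫ a) y ∈ U := fun y ↦ by
    have hy : t (Thickening.chart t hW y) ∈ W := by
      have : Thickening.chart t hW y ∈ (t ⁻¹ᵁ W : Set _) := by
        rw [← Thickening.range_chart t hW]; exact ⟨y, rfl⟩
      exact this
    obtain ⟨q', hq', e⟩ := hWW hy
    rw [t.isClosedEmbedding.injective e] at hq'
    exact hq'
  refine existsUnique_of_square f (Spec.map (f.appLE V U hUV)) hU.fromSpec hV.fromSpec
    (IsAffineOpen.SpecMap_appLE_fromSpec f hV hU hUV).symm hfe' _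
    (Thickening.ker_pow_two t ht2 hW) _ _ ?_ ?_ ?_
  · rw [← Category.assoc, ← Thickening.chart_comp t hW, Category.assoc, Category.assoc, hab]
  · rw [hU.range_fromSpec]
    rintro _ ⟨y, rfl⟩
    exact hchart y
  · rw [hV.range_fromSpec]
    rintro _ ⟨y, rfl⟩
    obtain ⟨q', hq', e⟩ := hWW (show hW.fromSpec y ∈ W by
      rw [← SetLike.mem_coe, ← hW.range_fromSpec]; exact ⟨y, rfl⟩)
    show b (hW.fromSpec y) ∈ V
    rw [← e]
    show (t ≫ b) q' ∈ V
    rw [hab]
    exact hUV hq'

/-- Formally étale morphisms induce formally étale ring maps on affine opens. -/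
theorem formallyEtale_appLE {X S : Scheme.{u}} (f : X ⟶ S) (hf : MoreMor.IsFormallyEtaleHom f)
    {U : X.Opens} {V : S.Opens} (hU : IsAffineOpen U) (hV : IsAffineOpen V) (hUV : U ≤ f ⁻¹ᵁ V) :
    letI := (f.appLE V U hUV).hom.toAlgebra
    Algebra.FormallyEtale Γ(S, V) Γ(X, U) :=
  (isFormallyEtaleHom_SpecMap_iff (f.appLE V U hUV)).mp
    (isFormallyEtaleHom_of_square f _ hU.fromSpec hV.fromSpec
      (IsAffineOpen.SpecMap_appLE_fromSpec f hV hU hUV).symm hf)

theorem isFormallyEtaleHom_iff {X S : Scheme.{u}} (f : X ⟶ S) :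
    MoreMor.IsFormallyEtaleHom f ↔ ∀ (U : X.Opens) (V : S.Opens) (_ : IsAffineOpen U)
      (_ : IsAffineOpen V) (hUV : U ≤ f ⁻¹ᵁ V),
      letI := (f.appLE V U hUV).hom.toAlgebra
      Algebra.FormallyEtale Γ(S, V) Γ(X, U) := by
  refine ⟨fun hf U V hU hV hUV ↦ formallyEtale_appLE f hf hU hV hUV, fun H ↦ ?_⟩
  refine isFormallyEtaleHom_of_charts f fun x ↦ ?_
  obtain ⟨V, hV, hxV, -⟩ := exists_isAffineOpen_mem_and_subset (x := f x) (U := ⊤) trivial
  obtain ⟨U, hU, hxU, hUV⟩ := exists_isAffineOpen_mem_and_subset (x := x) (U := f ⁻¹ᵁ V) hxV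
  exact ⟨U, V, hU, hV, hUV, hxU, H U V hU hV hUV⟩

end Groth.Agent.H8Props.FormallyEtale
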