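import Groth.Agent.H8Props.FibreDimSemicont
import Groth.Agent.H8Props.FieldDimEquidim
import Groth.Agent.H8Props.MiracleFlat
import Groth.Agent.H8Props.CMAt
import Groth.Agent.H8Props.FlatApproxAffine
import Groth.Agent.H7Flat.FibreCriterion
import Mathlib.RingTheory.RegularLocalRing.Polynomial

/-!
# Constancy of the fibre dimension near Cohen–Macaulay points of the fibres of a flat morphism
-/

set_option autoImplicit false
set_option linter.style.haveILetI false
universe u

open AlgebraicGeometry CategoryTheory CategoryTheory.Limits TopologicalSpace Topology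
open scoped TensorProduct

namespace Groth.Agent.H8Props.FieldDim

open IsLocalRing in
/-- Fibrewise flatness from miracle flatness: a flat `R`-algebra `T` is flat over an `R`-algebra `S`
if the closed fibre of `S` is regular, that of `T` is Cohen–Macaulay and the dimensions add up. -/
theorem flat_of_fibre_regular_cohenMacaulay {R S T : Type u} [CommRing R] [CommRing S] [CommRing T]
    [IsLocalRing R] [IsLocalRing S] [IsLocalRing T] [IsNoetherianRing S] [IsNoetherianRing T]
    [Algebra R S] [Algebra R T] [Algebra S T] [IsScalarTower R S T]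
    [IsLocalHom (algebraMap R S)] [IsLocalHom (algebraMap S T)] [Module.Flat R T]
    (hreg : IsRegularLocalRing (S ⧸ (maximalIdeal R).map (algebraMap R S)))
    (hcm : LocCoh.IsCohenMacaulayLocalRing (T ⧸ (maximalIdeal R).map (algebraMap R T)))
    (hdim : ringKrullDim (S ⧸ (maximalIdeal R).map (algebraMap R S)) +
        ringKrullDim (T ⧸ (maximalIdeal S).map (algebraMap S T)) ≤
      ringKrullDim (T ⧸ (maximalIdeal R).map (algebraMap R T))) :
    Module.Flat S T := by
  set I := (maximalIdeal R).map (algebraMap R S) with hI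
  have hI' : (maximalIdeal R).map (algebraMap R T) = I.map (algebraMap S T) := by
    rw [hI, Ideal.map_map, ← IsScalarTower.algebraMap_eq]
  rw [hI'] at hcm hdim
  have hIS : I ≤ maximalIdeal S := map_maximalIdeal_le (algebraMap R S)
  haveI : LocCoh.IsCohenMacaulayLocalRing (T ⧸ I.map (algebraMap S T)) := hcm
  haveI : IsRegularLocalRing (S ⧸ I) := hreg
  have hmap : (maximalIdeal (S ⧸ I)).map (algebraMap (S ⧸ I) (T ⧸ I.map (algebraMap S T))) =
      ((maximalIdeal S).map (algebraMap S T)).map (Ideal.Quotient.mk (I.map (algebraMap S T))) := by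
    rw [← map_maximalIdeal_of_surjective _ (Ideal.Quotient.mk_surjective (I := I))]
    have e : (algebraMap (S ⧸ I) (T ⧸ I.map (algebraMap S T))).comp (Ideal.Quotient.mk I) =
        (Ideal.Quotient.mk (I.map (algebraMap S T))).comp (algebraMap S T) := RingHom.ext fun _ => rfl
    calc _ = (maximalIdeal S).map
          ((algebraMap (S ⧸ I) (T ⧸ I.map (algebraMap S T))).comp (Ideal.Quotient.mk I)) :=
        Ideal.map_map _ _
      _ = (maximalIdeal S).map ((Ideal.Quotient.mk (I.map (algebraMap S T))).comp (algebraMap S T)) := by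
        rw [e]
      _ = _ := (Ideal.map_map _ _).symm
  haveI : IsLocalHom (algebraMap (S ⧸ I) (T ⧸ I.map (algebraMap S T))) := by
    refine ((local_hom_TFAE _).out 0 2).mpr ?_
    rw [hmap, ← map_maximalIdeal_of_surjective _
      (Ideal.Quotient.mk_surjective (I := I.map (algebraMap S T)))]
    exact Ideal.map_mono (map_maximalIdeal_le (algebraMap S T))
  haveI : Module.Flat (S ⧸ I) (T ⧸ I.map (algebraMap S T)) := by
    refine MiracleFlat.flat_of_regular_of_cohenMacaulay _ _ (le_of_eq_of_le ?_ hdim)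
    congr 1
    rw [hmap]
    exact ringKrullDim_eq_of_ringEquiv
      (DoubleQuot.quotQuotEquivQuotOfLE (Ideal.map_mono hIS))
  haveI : Module.Flat (S ⧸ I) ((S ⧸ I) ⊗[S] T) :=
    Module.Flat.of_linearEquiv
      (Algebra.TensorProduct.quotIdealMapEquivQuotTensor T I).symm.toLinearEquiv
  exact H7Flat.flat_of_injective_of_flat_quotient (S := T) I
    (ne_top_of_le_ne_top (maximalIdeal.isMaximal S).ne_top hIS)
    (H7Flat.lTensor_map_injective (R := R) (S := S) (M := T) _)

/-- The map to affine space is flat at a Cohen–Macaulay point of the fibre, if the dimensions add up. -/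
theorem flat_stalkMap_of_fibreDimAt_ge {X Y W : Scheme.{u}} (g : X ⟶ Y) (h : Y ⟶ W)
    [LocallyOfFiniteType g] [LocallyOfFiniteType h] [IsLocallyNoetherian W] (x : X)
    (hflat : ((g ≫ h).stalkMap x).hom.Flat)
    (hreg : IsRegularLocalRing
      (Y.presheaf.stalk (g x) ⧸
        (IsLocalRing.maximalIdeal (W.presheaf.stalk (h (g x)))).map (h.stalkMap (g x)).hom))
    (hcm : LocCoh.IsCohenMacaulayLocalRing
      (X.presheaf.stalk x ⧸
        (IsLocalRing.maximalIdeal (W.presheaf.stalk (h (g x)))).map ((g ≫ h).stalkMap x).hom))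
    (hdim : FlatMor.fibreDimAt g x + FlatMor.fibreDimAt h (g x) ≤ FlatMor.fibreDimAt (g ≫ h) x) :
    (g.stalkMap x).hom.Flat := by
  obtain ⟨a, ha, ha'⟩ := fibreDimAt_eq g x
  obtain ⟨b, hb, hb'⟩ := fibreDimAt_eq h (g x)
  obtain ⟨c, hc, hc'⟩ := fibreDimAt_eq (g ≫ h) x
  have hbc : c = b + a := by
    letI iA : Algebra (W.residueField (h (g x))) (Y.residueField (g x)) := (h.residueFieldMap (g x)).hom.toAlgebra
    letI iB : Algebra (Y.residueField (g x)) (X.residueField x) := (g.residueFieldMap x).hom.toAlgebra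
    letI iC : Algebra (W.residueField (h (g x))) (X.residueField x) := ((g ≫ h).residueFieldMap x).hom.toAlgebra
    haveI : IsScalarTower (W.residueField (h (g x))) (Y.residueField (g x)) (X.residueField x) :=
      IsScalarTower.of_algebraMap_eq' (congrArg CommRingCat.Hom.hom (Scheme.residueFieldMap_comp g h x))
    haveI : FaithfulSMul (Y.residueField (g x)) (X.residueField x) :=
      (faithfulSMul_iff_algebraMap_injective _ _).mpr (RingHom.injective _)
    have h1 := trdeg_add_eq (W.residueField (h (g x))) (Y.residueField (g x)) (A := X.residueField x)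
    have e : Algebra.trdeg (W.residueField (h (g x))) (X.residueField x) = (c : Cardinal.{u}) := hc'
    rw [e, ha', hb'] at h1
    exact_mod_cast h1.symm
  haveI : IsLocallyNoetherian Y := LocallyOfFiniteType.isLocallyNoetherian h
  haveI : IsLocallyNoetherian X := LocallyOfFiniteType.isLocallyNoetherian g
  algebraize [(g.stalkMap x).hom, (h.stalkMap (g x)).hom]
  letI : Algebra (W.presheaf.stalk (h (g x))) (X.presheaf.stalk x) := ((g ≫ h).stalkMap x).hom.toAlgebra
  haveI : IsScalarTower (W.presheaf.stalk (h (g x))) (Y.presheaf.stalk (g x)) (X.presheaf.stalk x) :=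
    IsScalarTower.of_algebraMap_eq' (congrArg CommRingCat.Hom.hom (Scheme.Hom.stalkMap_comp g h x))
  haveI : Module.Flat (W.presheaf.stalk (h (g x))) (X.presheaf.stalk x) := hflat
  haveI : IsLocalHom (algebraMap (W.presheaf.stalk (h (g x))) (Y.presheaf.stalk (g x))) :=
    inferInstanceAs (IsLocalHom (h.stalkMap (g x)).hom)
  haveI : IsLocalHom (algebraMap (Y.presheaf.stalk (g x)) (X.presheaf.stalk x)) :=
    inferInstanceAs (IsLocalHom (g.stalkMap x).hom)
  show Module.Flat (Y.presheaf.stalk (g x)) (X.presheaf.stalk x)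
  refine flat_of_fibre_regular_cohenMacaulay (R := W.presheaf.stalk (h (g x))) hreg hcm ?_
  rw [ha, hb, hc, hbc, Nat.cast_add,
    show ∀ p q r s : WithBot ℕ∞, p + q + (r + s) = (r + p) + (s + q) from fun p q r s => by ac_rfl]
    at hdim
  rw [← Nat.cast_add] at hdim
  exact ENat.WithBot.add_le_add_natCast_right_iff.mp hdim

/-- The structure map of affine space: regular fibres and fibre dimension `n`. -/
theorem affineSpace_fibre {R : Type u} [CommRing R] (σ : Type u) [Fintype σ]
    (w : Spec (CommRingCat.of (MvPolynomial σ R))) :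
    let π := Spec.map (CommRingCat.ofHom (algebraMap R (MvPolynomial σ R)))
    FlatMor.fibreDimAt π w = (Fintype.card σ : ℕ) ∧
      IsRegularLocalRing ((Spec (CommRingCat.of (MvPolynomial σ R))).presheaf.stalk w ⧸
        (IsLocalRing.maximalIdeal ((Spec (CommRingCat.of R)).presheaf.stalk (π w))).map (π.stalkMap w).hom) := by
  intro π
  haveI : LocallyOfFiniteType π := (HasRingHomProperty.Spec_iff (P := @LocallyOfFiniteType)).mpr
    (RingHom.finiteType_algebraMap.mpr inferInstance)
  let p : PrimeSpectrum R := π w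
  let K := p.asIdeal.ResidueField
  let e₁ := Arrow.leftFunc.mapIso (Spec.fiberToSpecResidueFieldIso R (MvPolynomial σ R) p)
  let e : π.fiber (π w) ≅ Spec (CommRingCat.of (MvPolynomial σ K)) := e₁ ≪≫ Scheme.Spec.mapIso
    (MvPolynomial.algebraTensorAlgEquiv (σ := σ) R K).symm.toRingEquiv.toCommRingCatIso.op
  haveI : IrreducibleSpace (π.fiber (π w)) :=
    haveI : IrreducibleSpace (Spec (CommRingCat.of (MvPolynomial σ K))) :=
      inferInstanceAs (IrreducibleSpace (PrimeSpectrum (MvPolynomial σ K)))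
    (Scheme.homeoOfIso e).irreducibleSpace_iff.mpr ‹_›
  haveI := locallyOfFiniteType_fiberToSpec π (π w)
  refine ⟨?_, ?_⟩
  · rw [show FlatMor.fibreDimAt π w = FlatMor.localDim (π.fiber (π w)) (π.asFiber w) from rfl,
      localDim_eq_dim_of_irreducible (k := (Spec (CommRingCat.of R)).residueField (π w))
        (π.fiberToSpecResidueField (π w)),
      IsHomeomorph.topologicalKrullDim_eq _ (Scheme.homeoOfIso e).isHomeomorph]
    show topologicalKrullDim (PrimeSpectrum (MvPolynomial σ K)) = _
    rw [PrimeSpectrum.topologicalKrullDim_eq_ringKrullDim, MvPolynomial.ringKrullDim_of_isNoetherianRing,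
      ringKrullDim_eq_zero_of_field, Nat.card_eq_fintype_card, zero_add]
  · let u : PrimeSpectrum (MvPolynomial σ K) := e.hom (π.asFiber w)
    haveI : IsRegularLocalRing ((Spec (CommRingCat.of (MvPolynomial σ K))).presheaf.stalk (e.hom (π.asFiber w))) :=
      IsRegularLocalRing.of_ringEquiv (R := Localization.AtPrime u.asIdeal)
        (Spec.stalkIso (CommRingCat.of (MvPolynomial σ K)) u).commRingCatIsoToRingEquiv.symm
    exact IsRegularLocalRing.of_ringEquiv
      (((asIso (e.hom.stalkMap (π.asFiber w))).commRingCatIsoToRingEquiv).trans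
        (FibreStalk.asFiberStalkEquiv π w).symm)

/-- Flatness of a morphism of affine schemes at a point spreads to the generizations. -/
theorem flat_stalkMap_spec_of_specializes {P A : CommRingCat.{u}} (γ : P ⟶ A) {q' q : PrimeSpectrum A}
    (hsp : (q' : Spec A) ⤳ q) (h : ((Spec.map γ).stalkMap q).hom.Flat) :
    ((Spec.map γ).stalkMap q').hom.Flat := by
  have key : ∀ w : PrimeSpectrum A, ((Spec.map γ).stalkMap w).hom.Flat ↔
      ((algebraMap A (Localization.AtPrime w.asIdeal)).comp γ.hom).Flat := by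
    intro w
    refine (RingHom.Flat.respectsIso.arrow_mk_iso_iff (Scheme.arrowStalkMapSpecIso γ w)).trans ?_
    algebraize [γ.hom]
    let p := (w.comap γ.hom).asIdeal
    letI : Algebra (Localization.AtPrime p) (Localization.AtPrime w.asIdeal) :=
      (Localization.localRingHom p w.asIdeal γ.hom rfl).toAlgebra
    haveI : IsScalarTower P (Localization.AtPrime p) (Localization.AtPrime w.asIdeal) :=
      IsScalarTower.of_algebraMap_eq fun x => (Localization.localRingHom_to_map _ _ _ rfl x).symm
    refine (RingHom.flat_algebraMap_iff (R := Localization.AtPrime p)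
      (S := Localization.AtPrime w.asIdeal)).trans ?_
    rw [show (algebraMap A (Localization.AtPrime w.asIdeal)).comp γ.hom =
        algebraMap P (Localization.AtPrime w.asIdeal) from (IsScalarTower.algebraMap_eq P A _).symm,
      RingHom.flat_algebraMap_iff]
    exact Module.flat_iff_of_isLocalization (Localization.AtPrime p) p.primeCompl _
  rw [key] at h ⊢
  have hle := (PrimeSpectrum.le_iff_specializes q' q).mpr hsp
  let B := Localization.AtPrime q.asIdeal
  let B' := Localization.AtPrime q'.asIdeal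
  let l : B →+* B' := IsLocalization.map B' (RingHom.id A)
    (show q.asIdeal.primeCompl ≤
      q'.asIdeal.primeCompl.comap (RingHom.id A) from fun x hx hxq => hx (hle hxq))
  have hl : l.comp (algebraMap A B) = algebraMap A B' := by
    rw [IsLocalization.map_comp, RingHom.comp_id]
  rw [← hl, RingHom.comp_assoc]
  refine RingHom.Flat.comp h ?_
  algebraize [l]
  haveI : IsScalarTower A B B' := IsScalarTower.of_algebraMap_eq' hl.symm
  exact (Module.flat_iff_of_isLocalization B q.asIdeal.primeCompl B').mpr inferInstance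

/-- Noetherian affine case: the fibre dimension is constant on the generizations of a
Cohen–Macaulay point of a fibre. -/
theorem fibreDimAt_eq_of_specializes_spec {R A : Type u} [CommRing R] [IsNoetherianRing R]
    [CommRing A] [Algebra R A] [Algebra.FiniteType R A] [Module.Flat R A]
    (q q' : Spec (CommRingCat.of A)) (hsp : q' ⤳ q)
    (hcm : LocCoh.IsCohenMacaulayLocalRing
      (((Spec.map (CommRingCat.ofHom (algebraMap R A))).fiber
        (Spec.map (CommRingCat.ofHom (algebraMap R A)) q)).presheaf.stalk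
          ((Spec.map (CommRingCat.ofHom (algebraMap R A))).asFiber q))) :
    FlatMor.fibreDimAt (Spec.map (CommRingCat.ofHom (algebraMap R A))) q' =
      FlatMor.fibreDimAt (Spec.map (CommRingCat.ofHom (algebraMap R A))) q := by
  set φ := Spec.map (CommRingCat.ofHom (algebraMap R A)) with hφ
  haveI : LocallyOfFiniteType φ := (HasRingHomProperty.Spec_iff (P := @LocallyOfFiniteType)).mpr
    (RingHom.finiteType_algebraMap.mpr inferInstance)
  haveI := locallyOfFiniteType_fiberToSpec φ (φ q)
  obtain ⟨n, hn⟩ := exists_nat_localDim (k := (Spec (CommRingCat.of R)).residueField (φ q))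
    (φ.fiberToSpecResidueField (φ q)) (φ.asFiber q)
  have hn : FlatMor.fibreDimAt φ q = n := hn
  obtain ⟨σ, _, γ, hcard, hqf⟩ := exists_quasiFiniteAt_map (R := R) (A := A) q n hn.le
  let G : Spec (CommRingCat.of A) ⟶ Spec (CommRingCat.of (MvPolynomial σ R)) :=
    Spec.map (CommRingCat.ofHom γ.toRingHom)
  let π : Spec (CommRingCat.of (MvPolynomial σ R)) ⟶ Spec (CommRingCat.of R) :=
    Spec.map (CommRingCat.ofHom (algebraMap R (MvPolynomial σ R)))
  have hcomp : G ≫ π = φ := by
    simp only [G, π, hφ, ← Spec.map_comp]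
    congr 1
    exact CommRingCat.hom_ext γ.comp_algebraMap
  haveI : LocallyOfFiniteType (G ≫ π) := hcomp ▸ ‹_›
  haveI : LocallyOfFiniteType G := locallyOfFiniteType_of_comp G π
  haveI : LocallyOfFiniteType π := (HasRingHomProperty.Spec_iff (P := @LocallyOfFiniteType)).mpr
    (RingHom.finiteType_algebraMap.mpr inferInstance)
  have hG0 : FlatMor.fibreDimAt G q ≤ 0 := fibreDimAt_le_zero_of_quasiFiniteAt G hqf
  have hle := (fibreDimAt_comp_le G π q).1
  rw [hcomp, hn, (affineSpace_fibre σ (G q)).1] at hle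
  haveI : Flat φ := (HasRingHomProperty.Spec_iff (P := @Flat)).mpr
    (RingHom.flat_algebraMap_iff.mpr inferInstance)
  replace hcm : MoreMor.IsCMAt φ q := ⟨Flat.stalkMap φ q, hcm⟩
  have hnc : n = Fintype.card σ := le_antisymm
    (by exact_mod_cast hle.trans ((add_le_add_left hG0 _).trans_eq (zero_add _))) hcard
  rw [← hcomp] at hcm ⊢
  have hcm' := (CMAt.isCMAt_iff (G ≫ π) q).mp hcm
  have hflatq : (G.stalkMap q).hom.Flat := by
    refine flat_stalkMap_of_fibreDimAt_ge G π q hcm'.1 (affineSpace_fibre σ (G q)).2 hcm'.2 ?_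
    rw [(affineSpace_fibre σ (G q)).1, hcomp, hn, hnc]
    exact (add_le_add_left hG0 _).trans_eq (zero_add _)
  have hflat' : (G.stalkMap q').hom.Flat := flat_stalkMap_spec_of_specializes _ hsp hflatq
  have hge := (fibreDimAt_comp_le G π q').2 hflat'
  rw [(affineSpace_fibre σ (G q')).1] at hge
  refine le_antisymm (fibreDimAt_le_of_specializes (G ≫ π) hsp) ?_
  rw [hge, hcomp, hn, hnc]
  refine le_add_of_nonneg_left ?_
  obtain ⟨a, ha, -⟩ := fibreDimAt_eq G q'
  rw [ha]
  haveI := isNoetherianRing_fibre_stalk G q'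
  haveI : Nontrivial ((Spec (CommRingCat.of A)).presheaf.stalk q' ⧸
      (IsLocalRing.maximalIdeal _).map (G.stalkMap q').hom) := Ideal.Quotient.nontrivial_iff.mpr
    (ne_top_of_le_ne_top (IsLocalRing.maximalIdeal.isMaximal _).ne_top
      (IsLocalRing.map_maximalIdeal_le (G.stalkMap q').hom))
  exact add_nonneg ringKrullDim_nonneg_of_nontrivial (Nat.cast_nonneg _)

/-- In a Noetherian sober space the closure of an open set consists of specializations of its points. -/
theorem exists_specializes_of_mem_closure {T : Type*} [TopologicalSpace T] [NoetherianSpace T]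
    [QuasiSober T] {V : Set T} (hV : IsOpen V) {x : T} (hx : x ∈ closure V) :
    ∃ y ∈ V, y ⤳ x := by
  obtain ⟨F, hFfin, hFc, hFi, hF⟩ :=
    NoetherianSpace.exists_finite_set_isClosed_irreducible (α := V) (s := Set.univ) isClosed_univ
  have hVeq : V = ⋃ Z ∈ F, Subtype.val '' Z := by
    rw [← Set.image_iUnion₂, ← Set.sUnion_eq_biUnion, ← hF, Set.image_univ, Subtype.range_val]
  rw [hVeq, hFfin.closure_biUnion, Set.mem_iUnion₂] at hx
  obtain ⟨Z, hZ, hxZ⟩ := hx
  have hirr : IsIrreducible (Subtype.val '' Z) := (hFi Z hZ).image _ continuous_subtype_val.continuousOn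
  have hgen := hirr.isGenericPoint_genericPoint_closure
  refine ⟨hirr.genericPoint, ?_, hgen.specializes hxZ⟩
  obtain ⟨w, hw⟩ := (hFi Z hZ).nonempty
  exact (hgen.mem_open_set_iff hV).mpr ⟨w.1, subset_closure ⟨w, hw, rfl⟩, w.2⟩

/-- A point of the fibre is Cohen–Macaulay if and only if it is so in an affine chart. -/
theorem fibre_CM_chart {X S Z T : Scheme.{u}} (f : X ⟶ S) (φ : Z ⟶ T) (v : Z ⟶ X) (w : T ⟶ S)
    [IsOpenImmersion v] [IsOpenImmersion w] (hsq : φ ≫ w = v ≫ f) (q : Z) :
    LocCoh.IsCohenMacaulayLocalRing ((φ.fiber (φ q)).presheaf.stalk (φ.asFiber q)) ↔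
      LocCoh.IsCohenMacaulayLocalRing ((f.fiber (f (v q))).presheaf.stalk (f.asFiber (v q))) := by
  have hI : ∀ h : Z ⟶ S, h = φ ≫ w →
      (IsLocalRing.maximalIdeal (S.presheaf.stalk (h q))).map (h.stalkMap q).hom =
        (IsLocalRing.maximalIdeal (T.presheaf.stalk (φ q))).map (φ.stalkMap q).hom := by
    rintro _ rfl
    rw [Scheme.Hom.stalkMap_comp]
    show Ideal.map ((φ.stalkMap q).hom.comp (w.stalkMap (φ q)).hom)
      (IsLocalRing.maximalIdeal (S.presheaf.stalk (w (φ q)))) = _
    refine (Ideal.map_map _ _).symm.trans (congrArg _ ?_)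
    exact IsLocalRing.map_maximalIdeal_of_surjective _
      (asIso (w.stalkMap (φ q))).commRingCatIsoToRingEquiv.surjective
  have h2 := hI _ hsq.symm
  rw [Scheme.Hom.stalkMap_comp] at h2
  replace h2 : Ideal.map ((v.stalkMap q).hom.comp (f.stalkMap (v q)).hom)
      (IsLocalRing.maximalIdeal (S.presheaf.stalk (f (v q)))) = _ := h2
  have h2 := (Ideal.map_map _ _).trans h2
  let e₀ := (asIso (v.stalkMap q)).commRingCatIsoToRingEquiv
  let e := (FibreStalk.asFiberStalkEquiv f (v q)).symm.trans
    ((Ideal.quotientEquiv _ _ e₀ h2.symm).trans (FibreStalk.asFiberStalkEquiv φ q))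
  exact ⟨fun _ => CMAt.isCohenMacaulayLocalRing_of_ringEquiv e.symm,
    fun _ => CMAt.isCohenMacaulayLocalRing_of_ringEquiv e⟩

/-- Cohen–Macaulayness of the fibres descends along base change. -/
theorem fibre_CM_descend {X S X' S' : Scheme.{u}} {f : X ⟶ S} {f' : X' ⟶ S'} {g : S' ⟶ S}
    {g' : X' ⟶ X} [LocallyOfFiniteType f] (hc : IsPullback g' f' f g) (x' : X')
    (h : LocCoh.IsCohenMacaulayLocalRing ((f'.fiber (f' x')).presheaf.stalk (f'.asFiber x'))) :
    LocCoh.IsCohenMacaulayLocalRing ((f.fiber (f (g' x'))).presheaf.stalk (f.asFiber (g' x'))) := by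
  have hkey : ∀ {s : S} (u : f.fiber s),
      LocCoh.IsCohenMacaulayLocalRing ((f.fiber s).presheaf.stalk u) →
      LocCoh.IsCohenMacaulayLocalRing
        ((f.fiber (f (f.fiberι s u))).presheaf.stalk (f.asFiber (f.fiberι s u))) := by
    intro s u hu
    have hs : f (f.fiberι s u) = s := (f.range_fiberι s).subset (Set.mem_range_self u)
    generalize hx : f.fiberι s u = x at hs ⊢
    subst hs
    obtain rfl : u = f.asFiber x :=
      (f.fiberι _).isEmbedding.injective (hx.trans (f.fiberι_asFiber x).symm)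
    exact hu
  haveI : LocallyOfFiniteType f' := MorphismProperty.of_isPullback hc ‹_›
  haveI := locallyOfFiniteType_fiberToSpec f (g (f' x'))
  haveI := locallyOfFiniteType_fiberToSpec f' (f' x')
  have hsq := isPullback_fiberToSpecResidueField_of_isPullback hc (f' x')
  let Φ : f'.fiber (f' x') ⟶ f.fiber (g (f' x')) := pullback.map _ _ _ _ g' (Spec.map (g.residueFieldMap (f' x'))) g hc.w.symm
    (Scheme.Hom.SpecMap_residueFieldMap_fromSpecResidueField g (f' x')).symm
  let u' : f'.fiber (f' x') := f'.asFiber x'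
  haveI : Flat (Spec.map (g.residueFieldMap (f' x'))) := by
    letI := (g.residueFieldMap (f' x')).hom.toAlgebra
    exact (HasRingHomProperty.Spec_iff (P := @Flat)).mpr
      (show Module.Flat (S.residueField (g (f' x'))) (S'.residueField (f' x')) from inferInstance)
  haveI : Flat Φ := MorphismProperty.of_isPullback hsq.flip ‹_›
  haveI : IsLocallyNoetherian (f.fiber (g (f' x'))) :=
    LocallyOfFiniteType.isLocallyNoetherian (f.fiberToSpecResidueField (g (f' x')))
  haveI : IsLocallyNoetherian (f'.fiber (f' x')) :=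
    LocallyOfFiniteType.isLocallyNoetherian (f'.fiberToSpecResidueField (f' x'))
  have hflat := Flat.stalkMap Φ u'
  letI := (Φ.stalkMap u').hom.toAlgebra
  haveI : Module.Flat ((f.fiber (g (f' x'))).presheaf.stalk (Φ u'))
      ((f'.fiber (f' x')).presheaf.stalk u') := hflat
  haveI : IsLocalHom (algebraMap ((f.fiber (g (f' x'))).presheaf.stalk (Φ u'))
      ((f'.fiber (f' x')).presheaf.stalk u')) := inferInstanceAs (IsLocalHom (Φ.stalkMap u').hom)
  have hdown := ((FlatDepth.isCohenMacaulayLocalRing_iff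
    ((f.fiber (g (f' x'))).presheaf.stalk (Φ u')) ((f'.fiber (f' x')).presheaf.stalk u')).mp h).1
  have hpt : f.fiberι _ (Φ u') = g' x' := by
    erw [← Scheme.Hom.comp_apply, pullback.lift_fst]
    exact congrArg g' (f'.fiberι_asFiber x')
  have := hkey (Φ u') hdown
  rwa [hpt] at this

/-- A maximal point of its fibre is Cohen–Macaulay in its fibre. -/
theorem fibre_CM_of_maximal {X S : Scheme.{u}} (f : X ⟶ S) [LocallyOfFiniteType f] (x : X)
    (hx : ∀ ζ, ζ ⤳ f.asFiber x → ζ = f.asFiber x) :
    LocCoh.IsCohenMacaulayLocalRing ((f.fiber (f x)).presheaf.stalk (f.asFiber x)) := by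
  haveI := locallyOfFiniteType_fiberToSpec f (f x)
  haveI : IsLocallyNoetherian (f.fiber (f x)) :=
    LocallyOfFiniteType.isLocallyNoetherian (f.fiberToSpecResidueField (f x))
  rw [FlatDepth.isCM_iff_dim]
  refine le_antisymm ?_ (FlatDepth.depth_le_dim _)
  have h0 : ringKrullDim ((f.fiber (f x)).presheaf.stalk (f.asFiber x)) = 0 := by
    rw [AlgebraicGeometry.ringKrullDim_stalk_eq_coheight, ← WithBot.coe_zero, WithBot.coe_eq_coe]
    exact Order.coheight_eq_zero.mpr fun b hb =>
      (hx b (Scheme.le_iff_specializes.mp hb)).le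
  rw [h0]
  exact WithBot.coe_le_coe.mpr zero_le

/-- The fibre dimension of a flat morphism locally of finite presentation is constant near a point
which is Cohen–Macaulay in its fibre. -/
theorem eventually_fibreDimAt_eq {X S : Scheme.{u}} (f : X ⟶ S) [Flat f]
    [LocallyOfFinitePresentation f] (x : X)
    (hcm : LocCoh.IsCohenMacaulayLocalRing ((f.fiber (f x)).presheaf.stalk (f.asFiber x))) :
    ∀ᶠ x' in 𝓝 x, FlatMor.fibreDimAt f x' = FlatMor.fibreDimAt f x := by
  obtain ⟨U, (hU : IsAffineOpen U), hxU, -⟩ := Opens.isBasis_iff_nbhd.mp S.isBasis_affineOpens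
    (show f x ∈ (⊤ : S.Opens) from trivial)
  obtain ⟨V, (hV : IsAffineOpen V), hxV, hVU⟩ := Opens.isBasis_iff_nbhd.mp X.isBasis_affineOpens
    (show x ∈ f ⁻¹ᵁ U from hxU)
  obtain ⟨q, rfl⟩ : x ∈ Set.range hV.fromSpec := by rw [hV.range_fromSpec]; exact hxV
  letI := (f.appLE U V hVU).hom.toAlgebra
  haveI : Algebra.FinitePresentation Γ(S, U) Γ(X, V) := f.finitePresentation_appLE hU hV hVU
  haveI : Module.Flat Γ(S, U) Γ(X, V) := f.flat_appLE hU hV hVU
  let φ := Spec.map (CommRingCat.ofHom (algebraMap Γ(S, U) Γ(X, V)))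
  haveI : LocallyOfFiniteType φ := (HasRingHomProperty.Spec_iff (P := @LocallyOfFiniteType)).mpr
    (RingHom.finiteType_algebraMap.mpr inferInstance)
  have hsq : φ ≫ hU.fromSpec = hV.fromSpec ≫ f := IsAffineOpen.SpecMap_appLE_fromSpec f hU hV hVU
  have key : ∀ w, FlatMor.fibreDimAt f (hV.fromSpec w) = FlatMor.fibreDimAt φ w := fun w => by
    rw [← fibreDimAt_openImmersion_comp hV.fromSpec f w, ← hsq]
    exact fibreDimAt_comp_openImmersion φ hU.fromSpec w
  obtain ⟨R₀, B₀, _, _, _, _, g', hR, hfp, hflat, hpb⟩ :=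
    FlatApprox.exists_isPullback_spec Γ(S, U) Γ(X, V)
  haveI : IsNoetherianRing R₀ := Algebra.FiniteType.isNoetherianRing ℤ R₀
  haveI : IsNoetherianRing B₀ := Algebra.FiniteType.isNoetherianRing R₀ B₀
  let φ₀ := Spec.map (CommRingCat.ofHom (algebraMap R₀ B₀))
  haveI : LocallyOfFiniteType φ₀ := (HasRingHomProperty.Spec_iff (P := @LocallyOfFiniteType)).mpr
    (RingHom.finiteType_algebraMap.mpr inferInstance)
  haveI : NoetherianSpace (Spec (CommRingCat.of B₀)) :=
    inferInstanceAs (NoetherianSpace (PrimeSpectrum B₀))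
  have hbc : ∀ w, FlatMor.fibreDimAt φ w = FlatMor.fibreDimAt φ₀ (g' w) :=
    fun w => fibreDimAt_baseChange φ₀ hpb w
  let q₀ := g' q
  have hcm₀ := fibre_CM_descend hpb q ((fibre_CM_chart f φ hV.fromSpec hU.fromSpec hsq q).mpr hcm)
  have hconst : ∀ y, y ⤳ q₀ → FlatMor.fibreDimAt φ₀ y = FlatMor.fibreDimAt φ₀ q₀ :=
    fun y hy => fibreDimAt_eq_of_specializes_spec q₀ y hy hcm₀
  have hnhd : ∀ᶠ y in 𝓝 q₀, FlatMor.fibreDimAt φ₀ y = FlatMor.fibreDimAt φ₀ q₀ := by
    haveI := locallyOfFiniteType_fiberToSpec φ₀ (φ₀ q₀)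
    obtain ⟨n, hn⟩ := exists_nat_localDim (k := (Spec (CommRingCat.of R₀)).residueField (φ₀ q₀))
      (φ₀.fiberToSpecResidueField (φ₀ q₀)) (φ₀.asFiber q₀)
    have hn : FlatMor.fibreDimAt φ₀ q₀ = n := hn
    have h1 : ∀ᶠ y in 𝓝 q₀, FlatMor.fibreDimAt φ₀ y ≤ n :=
      (isOpen_fibreDimAt_le φ₀ n).mem_nhds hn.le
    have h2 : ∀ᶠ y in 𝓝 q₀, ∀ m < n, ¬ FlatMor.fibreDimAt φ₀ y ≤ m := by
      refine (Filter.eventually_all_finite (Set.finite_Iio n)).mpr fun m hm => ?_
      have : q₀ ∉ closure {y | FlatMor.fibreDimAt φ₀ y ≤ m} := fun hmem => by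
        obtain ⟨y, hy, hsp⟩ :=
          exists_specializes_of_mem_closure (isOpen_fibreDimAt_le φ₀ m) hmem
        rw [Set.mem_setOf_eq] at hy
        rw [hconst y hsp, hn, Nat.cast_le] at hy
        exact absurd hy (not_le.mpr hm)
      filter_upwards [isClosed_closure.isOpen_compl.mem_nhds this] with y hy hy'
      exact hy (subset_closure hy')
    filter_upwards [h1, h2] with y hy hy'
    haveI := locallyOfFiniteType_fiberToSpec φ₀ (φ₀ y)
    obtain ⟨m, hm⟩ := exists_nat_localDim (k := (Spec (CommRingCat.of R₀)).residueField (φ₀ y))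
      (φ₀.fiberToSpecResidueField (φ₀ y)) (φ₀.asFiber y)
    have hm : FlatMor.fibreDimAt φ₀ y = m := hm
    rw [hn, hm, Nat.cast_inj]
    rw [hm, Nat.cast_le] at hy
    exact hy.eq_or_lt.resolve_right fun h => hy' m h hm.le
  rw [← hV.fromSpec.isOpenEmbedding.map_nhds_eq, Filter.eventually_map]
  filter_upwards [g'.continuous.continuousAt.preimage_mem_nhds hnhd] with w hw
  rw [key, key, hbc, hbc]
  exact hw

end Groth.Agent.H8Props.FieldDim
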