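import Mathlib.RingTheory.ZariskisMainTheorem
import Mathlib.RingTheory.Valuation.ValuationRing
import Mathlib.RingTheory.AlgebraicIndependent.TranscendenceBasis
import Mathlib.RingTheory.Spectrum.Prime.Jacobson
import Mathlib.AlgebraicGeometry.Morphisms.FiniteType

/-!
# Fibre-generic points over a valuation ring are stable under generization (helper8)
-/

set_option autoImplicit false
set_option backward.isDefEq.respectTransparency.types false

universe u

open MvPolynomial AlgebraicGeometry CategoryTheory

namespace Groth.Agent.H8Props.FibreGeneric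

/-- Over a valuation ring, every polynomial is a constant times one with a coefficient `1`. -/
theorem exists_primitive {R : Type u} [CommRing R] [IsDomain R] [ValuationRing R] {σ : Type*}
    (f : MvPolynomial σ R) :
    f = 0 ∨ ∃ c g, f = C c * g ∧ ∃ m, coeff m g = 1 := by
  classical
  rcases eq_or_ne f 0 with hf | hf
  · exact Or.inl hf
  right
  obtain ⟨m, hm, hdvd⟩ : ∃ m ∈ f.support, ∀ n ∈ f.support, coeff m f ∣ coeff n f := by
    have key : ∀ s : Finset (σ →₀ ℕ), s.Nonempty → ∃ m ∈ s, ∀ n ∈ s, coeff m f ∣ coeff n f := by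
      intro s hs
      induction hs using Finset.Nonempty.cons_induction with
      | singleton a => exact ⟨a, by simp, by simp⟩
      | cons a s ha hs ih =>
        obtain ⟨m, hm, hmd⟩ := ih
        rcases ValuationRing.iff_dvd_total.mp ‹_› |>.total (coeff m f) (coeff a f) with h | h
        · refine ⟨m, Finset.mem_cons_of_mem hm, fun n hn => ?_⟩
          rcases Finset.mem_cons.mp hn with rfl | hn
          · exact h
          · exact hmd n hn
        · refine ⟨a, Finset.mem_cons_self a s, fun n hn => ?_⟩
          rcases Finset.mem_cons.mp hn with rfl | hn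
          · exact dvd_rfl
          · exact h.trans (hmd n hn)
    exact key _ (by rwa [Finset.nonempty_iff_ne_empty, Ne, MvPolynomial.support_eq_empty])
  have hc : coeff m f ≠ 0 := MvPolynomial.mem_support_iff.mp hm
  obtain ⟨g, hg⟩ : C (coeff m f) ∣ f := by
    rw [C_dvd_iff_dvd_coeff]
    intro n
    by_cases hn : n ∈ f.support
    · exact hdvd n hn
    · rw [MvPolynomial.notMem_support_iff.mp hn]; exact dvd_zero _
  refine ⟨coeff m f, g, hg, m, ?_⟩
  have := congrArg (coeff m) hg
  rw [coeff_C_mul] at this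
  exact mul_left_cancel₀ hc (by rw [mul_one]; exact this.symm)

/-- A prime of a polynomial ring over a valuation ring inside an extended prime is extended. -/
theorem eq_map_of_le {R : Type u} [CommRing R] [IsDomain R] [ValuationRing R] {σ : Type*}
    (p : Ideal R) [p.IsPrime] (Pr : Ideal (MvPolynomial σ R)) [Pr.IsPrime] (h : Pr ≤ p.map C) :
    Pr = (Pr.comap C).map C := by
  refine le_antisymm (fun f hf => ?_) (Ideal.map_comap_le)
  rcases exists_primitive f with rfl | ⟨c, g, rfl, m, hm⟩
  · exact zero_mem _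
  have hg : g ∉ Pr := fun hg => by
    have := MvPolynomial.mem_map_C_iff.mp (h hg) m
    rw [hm] at this
    exact Ideal.IsPrime.ne_top' ((Ideal.eq_top_iff_one p).mpr this)
  exact Ideal.mul_mem_right _ _ (Ideal.mem_map_of_mem _ ((Ideal.IsPrime.mem_or_mem ‹_› hf).resolve_right hg))

/-- The ring statement. -/
theorem eq_of_le {R A : Type u} [CommRing R] [IsDomain R] [ValuationRing R] [CommRing A] [Algebra R A]
    [Algebra.FiniteType R A] {Q Q' Q'' : Ideal A} [Q.IsPrime] [Q'.IsPrime] [Q''.IsPrime]
    (hQ : ∀ P : Ideal A, P.IsPrime → P ≤ Q → P.under R = Q.under R → P = Q)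
    (h' : Q' ≤ Q) (h'' : Q'' ≤ Q') (hu : Q''.under R = Q'.under R) : Q'' = Q' := by
  classical
  let p := Q.under R
  let D := A ⧸ Q
  have : Algebra.FiniteType (R ⧸ p) D :=
    Algebra.FiniteType.of_restrictScalars_finiteType R (R ⧸ p) D
  have : FaithfulSMul (R ⧸ p) D :=
    (faithfulSMul_iff_algebraMap_injective _ _).mpr
      (Ideal.quotientMap_injective' (le_refl _))
  obtain ⟨S, hS⟩ := Algebra.FiniteType.out (R := R ⧸ p) (A := D)
  have : Algebra.IsAlgebraic (Algebra.adjoin (R ⧸ p) (S : Set D)) D :=
    ⟨fun x => isAlgebraic_algebraMap (R := Algebra.adjoin (R ⧸ p) (S : Set D)) (A := D)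
      ⟨x, by rw [hS]; trivial⟩⟩
  obtain ⟨t, htS, ht⟩ := exists_isTranscendenceBasis_subset (R := R ⧸ p) (S : Set D)
  choose lift hlift using fun x : t => Ideal.Quotient.mk_surjective (x : D)
  let B := MvPolynomial t R
  letI : Algebra B A := (MvPolynomial.aeval (R := R) lift).toAlgebra
  have : IsScalarTower R B A := .of_algebraMap_eq fun r => ((MvPolynomial.aeval lift).commutes r).symm
  have hfB : Algebra.FiniteType B A := Algebra.FiniteType.of_restrictScalars_finiteType R B A
  -- the map to `D` factors through `(R/p)[t]`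
  have hfac : ∀ f : B, Ideal.Quotient.mk Q (algebraMap B A f) =
      MvPolynomial.aeval (fun x : t => (x : D)) (MvPolynomial.map (Ideal.Quotient.mk p) f) := by
    intro f
    have : (Ideal.Quotient.mk Q).comp (algebraMap B A) =
        (MvPolynomial.aeval (R := R ⧸ p) (fun x : t => (x : D))).toRingHom.comp
          (MvPolynomial.map (Ideal.Quotient.mk p)) := by
      refine MvPolynomial.ringHom_ext (fun r => ?_) fun x => ?_
      · simp [B, RingHom.algebraMap_toAlgebra, D, p]
      · simp [B, RingHom.algebraMap_toAlgebra, hlift]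
    exact DFunLike.congr_fun this f
  have hP0 : Q.under B = p.map C := by
    ext f
    rw [Ideal.mem_comap, ← Ideal.Quotient.eq_zero_iff_mem, hfac, MvPolynomial.mem_map_C_iff]
    constructor
    · intro h n
      have h0 : MvPolynomial.map (Ideal.Quotient.mk p) f = 0 :=
        ht.1 (h.trans (map_zero (MvPolynomial.aeval (R := R ⧸ p) fun x : t => (x : D))).symm)
      have := congrArg (coeff n) h0
      rwa [coeff_map, coeff_zero, Ideal.Quotient.eq_zero_iff_mem] at this
    · intro h
      rw [show MvPolynomial.map (Ideal.Quotient.mk p) f = 0 from MvPolynomial.ext _ _ fun n => by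
        rw [coeff_map, coeff_zero, Ideal.Quotient.eq_zero_iff_mem]; exact h n, map_zero]
  -- maximality in the fibre
  have hmax : ∀ P : Ideal A, P.IsPrime → Q ≤ P → P.under B = Q.under B → P = Q := by
    intro P hP hle hPB
    refine le_antisymm (fun x hx => ?_) hle
    by_contra hxQ
    have halg : IsAlgebraic (Algebra.adjoin (R ⧸ p) (Set.range fun y : t => (y : D))) (Ideal.Quotient.mk Q x) :=
      ht.isAlgebraic.isAlgebraic _
    have hx0 : Ideal.Quotient.mk Q x ≠ 0 := fun h => hxQ (Ideal.Quotient.eq_zero_iff_mem.mp h)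
    obtain ⟨g, hg0, hgx⟩ := halg.exists_nonzero_coeff_and_aeval_eq_zero
      (mem_nonZeroDivisors_of_ne_zero hx0)
    have hmem : ∀ n, ∃ b : B, Ideal.Quotient.mk Q (algebraMap B A b) = (g.coeff n : D) := by
      intro n
      have h1 := (g.coeff n).2
      obtain ⟨h, hh⟩ := (Algebra.adjoin_range_eq_range_aeval (R ⧸ p) (fun y : t => (y : D))).le h1
      obtain ⟨b, rfl⟩ := MvPolynomial.map_surjective (Ideal.Quotient.mk p) Ideal.Quotient.mk_surjective h
      exact ⟨b, (hfac b).trans hh⟩
    choose b hb using hmem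
    have hsum : ∑ n ∈ Finset.range (g.natDegree + 1), algebraMap B A (b n) * x ^ n ∈ Q := by
      rw [← Ideal.Quotient.eq_zero_iff_mem, ← hgx, Polynomial.aeval_eq_sum_range, map_sum]
      refine Finset.sum_congr rfl fun n _ => ?_
      rw [map_mul, map_pow, hb]
      rfl
    have h0 : algebraMap B A (b 0) ∈ P := by
      have h1 := hle hsum
      rw [Finset.sum_range_succ', pow_zero, mul_one] at h1
      have h2 : ∑ k ∈ Finset.range g.natDegree, algebraMap B A (b (k + 1)) * x ^ (k + 1) ∈ P :=
        Submodule.sum_mem _ fun k _ => by rw [pow_succ']; exact P.mul_mem_left _ (P.mul_mem_right _ hx)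
      simpa using P.sub_mem h1 h2
    have h3 : b 0 ∈ Q.under B := hPB ▸ h0
    refine hg0 (Subtype.ext ?_)
    show (g.coeff 0 : D) = 0
    rw [← hb, Ideal.Quotient.eq_zero_iff_mem]
    exact h3
  -- quasi-finiteness at `Q`
  have hqf : Algebra.QuasiFiniteAt B Q := by
    let q : PrimeSpectrum A := ⟨Q, ‹_›⟩
    refine Algebra.QuasiFiniteAt.of_isOpen_singleton_fiber (R := B) q ?_
    let p0 := q.comap (algebraMap B A)
    let e := PrimeSpectrum.preimageHomeomorphFiber B A p0
    refine (e.isOpen_image (s := {⟨q, rfl⟩})).mp ?_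
    erw [Set.image_singleton]
    have : IsNoetherianRing (p0.asIdeal.Fiber A) :=
      Algebra.FiniteType.isNoetherianRing p0.asIdeal.ResidueField _
    have : IsJacobsonRing (p0.asIdeal.Fiber A) :=
      isJacobsonRing_of_finiteType (A := p0.asIdeal.ResidueField)
    refine ((PrimeSpectrum.isOpen_singleton_tfae_of_isNoetherian_of_isJacobsonRing (e ⟨q, rfl⟩)).out 0 2 rfl rfl).mpr ⟨?_, ?_⟩
    · rw [← Set.image_singleton]
      refine (e.isClosed_image (s := {⟨q, rfl⟩})).mpr ?_
      refine closure_subset_iff_isClosed.mp fun z hz => ?_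
      have hs : q ⤳ z.1 := (specializes_iff_mem_closure.mpr hz).map continuous_subtype_val
      refine Subtype.ext (PrimeSpectrum.ext ?_)
      exact hmax _ z.1.2 ((PrimeSpectrum.le_iff_specializes _ _).mpr hs)
        (congrArg PrimeSpectrum.asIdeal z.2)
    · intro a b hab ha
      obtain ⟨a', rfl⟩ := e.surjective a
      obtain ⟨b', rfl⟩ := e.surjective b
      rw [Set.mem_singleton_iff, e.injective.eq_iff] at ha ⊢
      subst ha
      have hs : b'.1 ⤳ q :=
        (e.isInducing.specializes_iff.mp hab).map continuous_subtype_val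
      refine Subtype.ext (PrimeSpectrum.ext ?_)
      refine hQ _ b'.1.2 ((PrimeSpectrum.le_iff_specializes _ _).mpr hs) ?_
      have hb : b'.1.asIdeal.under B = Q.under B := congrArg PrimeSpectrum.asIdeal b'.2
      rw [← Ideal.under_under (B := B) b'.1.asIdeal, hb, Ideal.under_under]
  -- conclusion
  have key : ∀ P : Ideal A, P.IsPrime → P ≤ Q → P.under B = (P.under R).map C := by
    intro P hP hle
    have := eq_map_of_le p (P.under B) (hP0 ▸ Ideal.comap_mono hle)
    rw [this]
    congr 1
    show Ideal.comap C (P.under B) = P.under R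
    rw [← Ideal.under_under (A := R) (B := B) P]
    rfl
  have : Algebra.QuasiFiniteAt B Q' := Algebra.QuasiFiniteAt.of_le h'
  exact Algebra.QuasiFiniteAt.eq_of_le_of_under_eq (R := B) h''
    (by rw [key _ ‹_› (h''.trans h'), key _ ‹_› h', hu])

/-- The scheme statement. -/
theorem fibreGeneric_of_specializes {R : Type u} [CommRing R] [IsDomain R] [ValuationRing R]
    {X : Scheme.{u}} (φ : X ⟶ Spec (CommRingCat.of R)) [LocallyOfFiniteType φ]
    (x x' : X) (hgen : x' ⤳ x) (hx : ∀ y : X, y ⤳ x → φ y = φ x → y = x) :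
    ∀ y : X, y ⤳ x' → φ y = φ x' → y = x' := by
  intro y hy hfy
  obtain ⟨U, hU, hxU, -⟩ := exists_isAffineOpen_mem_and_subset (x := x) (U := ⊤) trivial
  have hx'U : x' ∈ U := hgen.mem_open U.2 hxU
  have hyU : y ∈ U := hy.mem_open U.2 hx'U
  obtain ⟨α, hα⟩ := Spec.map_surjective (hU.fromSpec ≫ φ)
  letI := α.hom.toAlgebra
  have : Algebra.FiniteType R Γ(X, U) := by
    have : LocallyOfFiniteType (Spec.map α) := by rw [hα]; infer_instance
    exact (HasRingHomProperty.Spec_iff (P := @LocallyOfFiniteType)).mp this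
  rw [← SetLike.mem_coe, ← hU.range_fromSpec] at hxU hx'U hyU
  obtain ⟨q, rfl⟩ := hxU
  obtain ⟨q', rfl⟩ := hx'U
  obtain ⟨q'', rfl⟩ := hyU
  have hind := hU.fromSpec.isOpenEmbedding.isInducing
  have hval : ∀ r : Spec Γ(X, U), φ (hU.fromSpec r) = PrimeSpectrum.comap α.hom r := fun r =>
    (congrArg (fun k : Spec Γ(X, U) ⟶ Spec (CommRingCat.of R) => k r) hα).symm
  congr 1
  refine PrimeSpectrum.ext (eq_of_le (R := R) (Q := q.asIdeal) ?_
    ((PrimeSpectrum.le_iff_specializes _ _).mpr (hind.specializes_iff.mp hgen))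
    ((PrimeSpectrum.le_iff_specializes _ _).mpr (hind.specializes_iff.mp hy))
    (congrArg PrimeSpectrum.asIdeal ((hval q'').symm.trans (hfy.trans (hval q')))))
  intro P hP hle hu
  have h1 := hx (hU.fromSpec ⟨P, hP⟩)
    (hind.specializes_iff.mpr ((PrimeSpectrum.le_iff_specializes _ _).mp hle))
    ((hval _).trans ((PrimeSpectrum.ext hu).trans (hval q).symm))
  exact congrArg PrimeSpectrum.asIdeal (hU.fromSpec.isOpenEmbedding.injective h1)

end Groth.Agent.H8Props.FibreGeneric
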