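import Groth.Agent.H8Props.FlatFibreConst
import Groth.Agent.H7Flat.GenericFlatness

/-!
# Consequences of the theory of fibre dimensions
-/

set_option autoImplicit false
set_option linter.style.haveILetI false
universe u

open AlgebraicGeometry CategoryTheory CategoryTheory.Limits TopologicalSpace Topology

namespace Groth.Agent.H8Props.FieldDim

/-- Dimensions of the components of a fibre, seen as a subspace of the source. -/
theorem components_dim_fiber_iff {X Y : Scheme.{u}} (f : X ⟶ Y) (y : Y) (n : WithBot ℕ∞) :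
    (∀ T ∈ irreducibleComponents (f.fiber y), topologicalKrullDim T = n) ↔
      ∀ Z ∈ irreducibleComponents (f ⁻¹' {y}), topologicalKrullDim Z = n := by
  set e := f.fiberHomeo y
  refine ⟨fun h Z hZ => ?_, fun h T hT => ?_⟩
  · have h1 := h _ (preimage_mem_irreducibleComponents hZ e.isOpenEmbedding
      (by rw [e.surjective.range_eq, Set.inter_univ]; exact hZ.1.nonempty))
    rwa [dim_preimage e.isEmbedding, e.surjective.range_eq, Set.inter_univ] at h1
  · have h1 := h _ (preimage_mem_irreducibleComponents hT e.symm.isOpenEmbedding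
      (by rw [e.symm.surjective.range_eq, Set.inter_univ]; exact hT.1.nonempty))
    rwa [dim_preimage e.symm.isEmbedding, e.symm.surjective.range_eq, Set.inter_univ] at h1

/-- Miracle flatness over a field: a morphism from a Cohen–Macaulay to a regular point is flat there
if the dimensions add up. -/
theorem flat_stalkMap_of_localDim_ge {k : Type u} [Field k] {X Y : Scheme.{u}}
    (qX : X ⟶ Spec (CommRingCat.of k)) (qY : Y ⟶ Spec (CommRingCat.of k))
    [LocallyOfFiniteType qX] [LocallyOfFiniteType qY]
    (g : X ⟶ Y) (hg : g ≫ qY = qX) [LocallyOfFiniteType g] (x : X)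
    (hY : IsRegularLocalRing (Y.presheaf.stalk (g x)))
    (hX : LocCoh.IsCohenMacaulayLocalRing (X.presheaf.stalk x))
    (h : FlatMor.fibreDimAt g x + FlatMor.localDim Y (g x) ≤ FlatMor.localDim X x) :
    (g.stalkMap x).hom.Flat := by
  haveI := locallyOfFiniteType_fiberToSpec g (g x)
  haveI : IsLocallyNoetherian X := LocallyOfFiniteType.isLocallyNoetherian qX
  haveI : IsLocallyNoetherian Y := LocallyOfFiniteType.isLocallyNoetherian qY
  obtain ⟨a, ha⟩ := exists_nat_cdim (k := Y.residueField (g x)) (g.fiberToSpecResidueField (g x)) (g.asFiber x)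
  obtain ⟨b, hb⟩ := exists_nat_cdim qY (g x)
  have hfib : FlatMor.fibreDimAt g x =
      ringKrullDim ((g.fiber (g x)).presheaf.stalk (g.asFiber x)) + cdim (g.asFiber x) :=
    localDim_eq_stalk_add_cdim (k := Y.residueField (g x)) (g.fiberToSpecResidueField (g x)) (g.asFiber x)
  rw [hfib, localDim_eq_stalk_add_cdim qX x, localDim_eq_stalk_add_cdim qY (g x),
    cdim_eq_add qX qY g hg x, ha, hb,
    show ∀ p q r s : WithBot ℕ∞, p + q + (r + s) = (r + p) + (q + s) from fun p q r s => by ac_rfl,
    ← Nat.cast_add, ← ringKrullDim_eq_of_ringEquiv (FibreStalk.asFiberStalkEquiv g x)] at h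
  letI : Algebra (Y.presheaf.stalk (g x)) (X.presheaf.stalk x) := (g.stalkMap x).hom.toAlgebra
  haveI : IsLocalHom (algebraMap (Y.presheaf.stalk (g x)) (X.presheaf.stalk x)) :=
    inferInstanceAs (IsLocalHom (g.stalkMap x).hom)
  exact MiracleFlat.flat_of_regular_of_cohenMacaulay _ _ (ENat.WithBot.add_le_add_natCast_right_iff.mp h)

end Groth.Agent.H8Props.FieldDim

namespace Groth.Agent.H8Props.FieldDim

/-- For a dominant morphism of finite type of integral schemes, the fibres over a nonempty open of the
base are pure of the dimension of the generic fibre. -/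
theorem exists_nhd_components_dim {X S : Scheme.{u}} (f : X ⟶ S) [IsIntegral S] [IsIntegral X]
    [IsDominant f] [LocallyOfFiniteType f] [QuasiCompact f] :
    ∃ U : S.Opens, genericPoint S ∈ U ∧ ∀ s ∈ U, ∀ T ∈ irreducibleComponents (f.fiber s),
      topologicalKrullDim T = topologicalKrullDim (f.fiber (genericPoint S)) := by
  obtain ⟨U, hUd, hflat, hlfp⟩ := H7Flat.exists_dense_flatLFP f
  have hη : genericPoint S ∈ U := by
    obtain ⟨y, hy⟩ := hUd.nonempty
    exact (genericPoint_specializes y).mem_open U.2 hy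
  set ξ := genericPoint X
  have hfξ : f ξ = genericPoint S := by
    have h1 := (genericPoint_spec X).image f.continuous
    rw [Set.image_univ, f.denseRange.closure_range] at h1
    exact h1.eq (genericPoint_spec S)
  -- the fibre dimension along the flat part
  have hfd : ∀ u : X, f u ∈ U → ∀ (_ : ∀ ζ, ζ ⤳ f.asFiber u → ζ = f.asFiber u),
      FlatMor.fibreDimAt f u = FlatMor.fibreDimAt f ξ := by
    intro u hu hmax
    let g := f ∣_ U
    have key : ∀ z : (f ⁻¹ᵁ U).toScheme, FlatMor.fibreDimAt g z = FlatMor.fibreDimAt f ((f ⁻¹ᵁ U).ι z) :=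
      fun z => by
        rw [← fibreDimAt_comp_openImmersion g U.ι, show g ≫ U.ι = (f ⁻¹ᵁ U).ι ≫ f from morphismRestrict_ι f U,
          fibreDimAt_openImmersion_comp]
    let u' : (f ⁻¹ᵁ U).toScheme := ⟨u, hu⟩
    let ξ' : (f ⁻¹ᵁ U).toScheme := ⟨ξ, show f ξ ∈ U by rw [hfξ]; exact hη⟩
    have hcm : LocCoh.IsCohenMacaulayLocalRing ((g.fiber (g u')).presheaf.stalk (g.asFiber u')) :=
      (fibre_CM_chart f g (f ⁻¹ᵁ U).ι U.ι (morphismRestrict_ι f U) u').mpr
        (fibre_CM_of_maximal f u hmax)
    have hsp : ξ' ⤳ u' :=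
      (f ⁻¹ᵁ U).ι.isOpenEmbedding.isInducing.specializes_iff.mp (genericPoint_specializes u)
    obtain ⟨W, hW, hWo, huW⟩ := mem_nhds_iff.mp (eventually_fibreDimAt_eq g u' hcm)
    have h : FlatMor.fibreDimAt g ξ' = FlatMor.fibreDimAt g u' := hW (hsp.mem_open hWo huW)
    rw [key, key] at h
    exact h.symm
  have hcomp : ∀ s ∈ U, ∀ T ∈ irreducibleComponents (f.fiber s),
      topologicalKrullDim T = FlatMor.fibreDimAt f ξ := by
    intro s hs T hT
    obtain ⟨η, rfl, hmax⟩ := mem_irreducibleComponents_iff hT
    have hη' : f (f.fiberι s η) = s := (f.range_fiberι s).subset (Set.mem_range_self η)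
    generalize hy : f.fiberι s η = y at hη'
    subst hη'
    obtain rfl : η = f.asFiber y :=
      (f.fiberι _).isEmbedding.injective (hy.trans (f.fiberι_asFiber y).symm)
    haveI := locallyOfFiniteType_fiberToSpec f (f y)
    show cdim (f.asFiber y) = _
    rw [← hfd y hs hmax]
    exact (localDim_of_maximal (k := S.residueField (f y)) (f.fiberToSpecResidueField (f y))
      (f.asFiber y) hmax).symm
  refine ⟨U, hη, fun s hs T hT => (hcomp s hs T hT).trans ?_⟩
  obtain ⟨w, hw⟩ : ξ ∈ Set.range (f.fiberι (genericPoint S)) := by rw [f.range_fiberι]; exact hfξ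
  have hgen : IsGenericPoint w (Set.univ : Set (f.fiber (genericPoint S))) :=
    isGenericPoint_def.mpr (Set.eq_univ_of_forall fun v => specializes_iff_mem_closure.mp
      ((f.fiberι _).isEmbedding.isInducing.specializes_iff.mp (hw ▸ genericPoint_specializes _)))
  have hmem : Set.univ ∈ irreducibleComponents (f.fiber (genericPoint S)) :=
    ⟨hgen.isIrreducible, fun _ _ _ => Set.subset_univ _⟩
  rw [← hcomp _ hη _ hmem]
  exact IsHomeomorph.topologicalKrullDim_eq _ (Homeomorph.Set.univ _).isHomeomorph

end Groth.Agent.H8Props.FieldDim
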