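import Groth.Agent.H17.ConsPropModels
import Groth.Agent.H7Lim.Descend
import Groth.Agent.H18Descent.Basic

/-!
# Spreading out from the generic point: ind-constructible properties of morphisms from descent

A property of morphisms which is stable under base change, descends to a stage over limits of
affine schemes and descends along fpqc morphisms gives an ind-constructible property of morphisms
of algebraic schemes (EGA IV 9.2.6, 9.6.1).
-/

set_option autoImplicit false
set_option linter.style.haveILetI false
set_option linter.unusedVariables false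
set_option backward.isDefEq.respectTransparency false
set_option backward.defeqAttrib.useBackward true

universe u

open CategoryTheory Limits AlgebraicGeometry TopologicalSpace Topology Set MorphismProperty Opposite

namespace Groth.Agent.H8Props.SpreadGeneric

open Groth.Agent

variable {S : Scheme.{u}}

/-- The affine open neighbourhoods of a point. -/
abbrev AffNhds (x : S) : Type u := {U : S.affineOpens // x ∈ U.1}

instance (x : S) : IsCofiltered (AffNhds x) := by
  have hne : Nonempty (AffNhds x) := by
    obtain ⟨U, hU, hx, -⟩ := exists_isAffineOpen_mem_and_subset (x := x) (U := ⊤) trivial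
    exact ⟨⟨⟨U, hU⟩, hx⟩⟩
  haveI : IsCofilteredOrEmpty (AffNhds x) := by
    refine ⟨fun U V => ?_, fun U V a b => ⟨U, 𝟙 U, Subsingleton.elim _ _⟩⟩
    obtain ⟨W, hW, hx, hle⟩ :=
      exists_isAffineOpen_mem_and_subset (x := x) (U := U.1.1 ⊓ V.1.1) ⟨U.2, V.2⟩
    exact ⟨⟨⟨W, hW⟩, hx⟩, homOfLE fun y hy => (hle hy).1, homOfLE fun y hy => (hle hy).2, trivial⟩
  exact { }

/-- The inclusion of affine neighbourhoods into all neighbourhoods. -/
def affToNhds (x : S) : AffNhds x ⥤ OpenNhds (X := S.toTopCat) x :=
  Monotone.functor (f := fun U => (⟨U.1.1, U.2⟩ : OpenNhds (X := S.toTopCat) x)) fun _ _ h => h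

instance (x : S) : (affToNhds x).op.Final := by
  refine Functor.final_of_exists_of_isFiltered _ (fun d => ?_) (fun {d c} s s' => ⟨c, 𝟙 c, ?_⟩)
  · obtain ⟨W, hW, hx, hle⟩ :=
      exists_isAffineOpen_mem_and_subset (x := x) (U := d.unop.1) d.unop.2
    exact ⟨op ⟨⟨W, hW⟩, hx⟩, ⟨(homOfLE (show (⟨W, hx⟩ : OpenNhds (X := S.toTopCat) x) ≤ d.unop from hle)).op⟩⟩
  · exact Subsingleton.elim _ _

/-- `U ↦ Γ(S, U)` on affine neighbourhoods. -/
abbrev secFun (x : S) : (AffNhds x)ᵒᵖ ⥤ CommRingCat.{u} :=
  (affToNhds x).op ⋙ (OpenNhds.inclusion (X := S.toTopCat) x).op ⋙ S.presheaf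

/-- `U ↦ Spec Γ(S, U)` on affine neighbourhoods. -/
noncomputable abbrev stageFun (x : S) : AffNhds x ⥤ Scheme.{u} :=
  (secFun x).rightOp ⋙ Scheme.Spec

/-- The stalk is the colimit of the sections on affine neighbourhoods. -/
noncomputable def stalkCocone (x : S) : Cocone (secFun x) :=
  (colimit.cocone ((OpenNhds.inclusion (X := S.toTopCat) x).op ⋙ S.presheaf)).whisker
    (affToNhds x).op

noncomputable def isColimitStalkCocone (x : S) : IsColimit (stalkCocone x) :=
  (Functor.Final.isColimitWhiskerEquiv (affToNhds x).op _).symm (colimit.isColimit _)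

/-- `Spec O_{S,x}` over the spectra of affine neighbourhoods. -/
noncomputable def stageCone (x : S) : Cone (stageFun x) :=
  Scheme.Spec.mapCone (coneRightOpOfCocone (stalkCocone x))

noncomputable def isLimitStageCone (x : S) : IsLimit (stageCone x) :=
  isLimitOfPreserves Scheme.Spec (isLimitConeRightOpOfCocone _ (isColimitStalkCocone x))

instance (x : S) (i j : AffNhds x) (φ : i ⟶ j) : IsAffineHom ((stageFun x).map φ) := by
  have : IsAffine ((stageFun x).obj i) := inferInstanceAs (IsAffine (Spec _))
  have : IsAffine ((stageFun x).obj j) := inferInstanceAs (IsAffine (Spec _))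
  infer_instance

instance (x : S) (i : AffNhds x) : IsAffine ((stageFun x).obj i) :=
  inferInstanceAs (IsAffine (Spec _))

/-- The map of a stage to the scheme. -/
noncomputable def toBase {x : S} (i : AffNhds x) : (stageFun x).obj i ⟶ S :=
  i.1.2.fromSpec

theorem range_toBase {x : S} (i : AffNhds x) : range (toBase i) = (i.1.1 : Set S) :=
  i.1.2.range_fromSpec

theorem map_toBase {x : S} {i j : AffNhds x} (φ : i ⟶ j) :
    (stageFun x).map φ ≫ toBase j = toBase i :=
  IsAffineOpen.map_fromSpec j.1.2 i.1.2 ((affToNhds x).map φ |> fun a => ((OpenNhds.inclusion (X := S.toTopCat) x).map a).op)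

theorem cone_toBase {x : S} (i : AffNhds x) :
    (stageCone x).π.app i ≫ toBase i = S.fromSpecStalk x :=
  (IsAffineOpen.fromSpecStalk_eq_fromSpecStalk i.1.2 i.2)

theorem locallyOfFinitePresentation_over_noetherian {X Y : Scheme.{u}} (f : X ⟶ Y)
    [IsLocallyNoetherian Y] [LocallyOfFiniteType f] : LocallyOfFinitePresentation f :=
  H12AlgSp.lfp_of_lft_of_isLocallyNoetherian f

variable {P Q : MorphismProperty Scheme.{u}}

theorem isFieldStableMor_of_descendsAlong [P.IsStableUnderBaseChange]
    [P.DescendsAlong H18Descent.fpqc.{u}] :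
    _root_.ConsProp.IsFieldStableMor (fun X Y T f g => P f) := by
  intro X X' Y Y' T T' f g f' g' eX eY h _ _ _ _ _ _ _ _ hY hX
  refine ⟨fun hf => MorphismProperty.of_isPullback hX hf, fun hf => ?_⟩
  haveI : Surjective h := H17.ConsProp.surjective_of_subsingleton h
  haveI : QuasiCompact h := by
    haveI : IsNoetherian T' := { }
    infer_instance
  haveI : Flat h := by
    rw [Flat.iff_flat_stalkMap]
    intro t
    have ht : h t = genericPoint T := Subsingleton.elim _ _
    have hf : IsField (T.presheaf.stalk (h t)) := by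
      rw [ht]
      exact Field.toIsField T.functionField
    letI := hf.toField
    algebraize [(h.stalkMap t).hom]
    change Module.Flat _ _
    infer_instance
  have hh : H18Descent.fpqc.{u} eY :=
    MorphismProperty.of_isPullback (P := H18Descent.fpqc.{u}) hY.flip ⟨⟨‹_›, ‹_›⟩, ‹_›⟩
  exact MorphismProperty.of_isPullback_of_descendsAlong (P := P) (Q := H18Descent.fpqc.{u}) hX.flip hh hf

theorem isIndConsMor_of_descends [IsZariskiLocalAtTarget P] [P.IsStableUnderBaseChange]
    [Q.IsStableUnderBaseChange] [P.DescendsAlong H18Descent.fpqc.{u}]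
    (hdesc : H7Lim.DescendsAffine P Q)
    (hQ : ∀ ⦃X Y : Scheme.{u}⦄ (f : X ⟶ Y), LocallyOfFinitePresentation f → Q f) :
    _root_.ConsProp.IsIndConsMor (fun X Y T f g => P f) := by
  refine ⟨isFieldStableMor_of_descendsAlong, ?_⟩
  intro X Y S f g _ _ _ _ _ _ hη
  have hFS : _root_.ConsProp.IsFieldStableMor (fun X Y T f g => P f) :=
    isFieldStableMor_of_descendsAlong
  let η := genericPoint S
  obtain ⟨i₀⟩ : Nonempty (AffNhds η) := IsCofiltered.nonempty
  have hY₀ := IsPullback.of_hasPullback g (toBase i₀)
  have hX₀ := IsPullback.of_hasPullback f (pullback.fst g (toBase i₀))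
  let Y₀ := pullback g (toBase i₀)
  let g₀ : Y₀ ⟶ (stageFun η).obj i₀ := pullback.snd g (toBase i₀)
  let f₀ := pullback.snd f (pullback.fst g (toBase i₀))
  haveI : IsNoetherian Y := H17.ConsProp.isNoetherian_of_finiteType g
  haveI : LocallyOfFiniteType f := locallyOfFiniteType_of_comp f g
  haveI : IsNoetherian X := H17.ConsProp.isNoetherian_of_finiteType (f ≫ g)
  haveI : LocallyOfFinitePresentation f := locallyOfFinitePresentation_over_noetherian f
  haveI : QuasiCompact g₀ := MorphismProperty.pullback_snd _ _ ‹_›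
  haveI : CompactSpace Y₀ := QuasiCompact.compactSpace_of_compactSpace g₀
  haveI : QuasiCompact f₀ := MorphismProperty.pullback_snd _ _ inferInstance
  haveI : QuasiSeparated f₀ := MorphismProperty.pullback_snd _ _ inferInstance
  haveI : LocallyOfFinitePresentation f₀ := MorphismProperty.pullback_snd _ _ ‹_›
  -- the generic point as the limit of the stages
  have hY := IsPullback.of_hasPullback g₀ ((stageCone η).π.app i₀)
  have hX := IsPullback.of_hasPullback f₀ (pullback.fst g₀ ((stageCone η).π.app i₀))
  have hη' : P (pullback.snd f₀ (pullback.fst g₀ ((stageCone η).π.app i₀))) := by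
    letI : Field ↑(S.presheaf.stalk η) := inferInstanceAs (Field S.functionField)
    have hY' := hY.paste_horiz hY₀
    have hX' := hX.paste_horiz hX₀
    have hj : (stageCone η).π.app i₀ ≫ toBase i₀ = S.fromSpecStalk η := cone_toBase i₀
    have e := H17.ConsProp.locusMor_baseChange hFS hY' hX'
    let T : Scheme.{u} := Spec (S.presheaf.stalk η)
    haveI : IsIntegral T := inferInstance
    haveI : Subsingleton T := inferInstanceAs (Subsingleton (PrimeSpectrum (S.presheaf.stalk η)))
    let t : T := IsLocalRing.closedPoint _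
    have ht : ((stageCone η).π.app i₀ ≫ toBase i₀) t = η := by
      rw [hj]
      exact S.fromSpecStalk_closedPoint
    have h1 : t ∈ _root_.ConsProp.locusMor (fun X Y T f g => P f)
        (pullback.snd f₀ (pullback.fst g₀ ((stageCone η).π.app i₀)))
        (pullback.snd g₀ ((stageCone η).π.app i₀)) := by
      rw [e, Set.mem_preimage, ht]
      exact hη
    set f' := pullback.snd f₀ (pullback.fst g₀ ((stageCone η).π.app i₀))
    set g' : pullback g₀ ((stageCone η).π.app i₀) ⟶ T := pullback.snd g₀ ((stageCone η).π.app i₀)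
    haveI : LocallyOfFiniteType g' := MorphismProperty.of_isPullback hY' ‹_›
    haveI : QuasiCompact g' := MorphismProperty.of_isPullback hY' ‹_›
    haveI : LocallyOfFiniteType (f' ≫ g') := MorphismProperty.of_isPullback (hX'.paste_vert hY') ‹_›
    haveI : QuasiCompact (f' ≫ g') := MorphismProperty.of_isPullback (hX'.paste_vert hY') ‹_›
    haveI : Subsingleton (Spec (T.residueField t)) :=
      inferInstanceAs (Subsingleton (PrimeSpectrum (T.residueField t)))
    exact (hFS f' g' (MoreMor.fiberMap f' g' t) (g'.fiberToSpecResidueField t) _ _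
      (T.fromSpecResidueField t) (IsPullback.of_hasPullback g' (T.fromSpecResidueField t))
      (FibreCriterion.isPullback_fiberMap f' g' t)).2 h1
  obtain ⟨i, φ, Xi, Yi, fi, gi, pY, pX, hYi, hXi, hfi⟩ :=
    (H7Lim.exists_descend_square_iff (isLimitStageCone η) hdesc i₀ f₀ g₀ hY hX (hQ _ ‹_›)).1 hη'
  have hYS : IsPullback (pY ≫ pullback.fst g (toBase i₀)) gi g (toBase i) := by
    have := hYi.paste_horiz hY₀
    rwa [map_toBase φ] at this
  have hXS := hXi.paste_horiz hX₀
  have e := H17.ConsProp.locusMor_baseChange hFS hYS hXS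
  refine ⟨η, interior_maximal ?_ i.1.1.isOpen i.2⟩
  intro s hs
  obtain ⟨w, rfl⟩ := (range_toBase i).ge hs
  exact (Set.ext_iff.1 e w).1
    (MorphismProperty.of_isPullback (FibreCriterion.isPullback_fiberMap fi gi w) hfi)

end Groth.Agent.H8Props.SpreadGeneric
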