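import Groth.Agent.H8Props.FibreDimSemicont
import Groth.Agent.H8Props.FlatApproxAffine
import Groth.Agent.H8Props.FieldDimFibre
import Groth.Agent.H8Props.FieldDimEquidim
import Mathlib.AlgebraicGeometry.Morphisms.FinitePresentation
import Mathlib.RingTheory.Spectrum.Prime.ConstructibleSet
import Mathlib.RingTheory.Adjoin.FG

/-!
# Noetherian approximation keeping the dimensions of the fibres
-/

set_option autoImplicit false
set_option linter.style.haveILetI false
universe u

open AlgebraicGeometry CategoryTheory CategoryTheory.Limits TopologicalSpace Topology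

namespace Groth.Agent.H8Props.FibreDimApprox

/-- A constructible set containing the image of `Spec A` contains that of `Spec R'` for some
finitely generated subalgebra `R'`. -/
theorem exists_subalgebra_range_subset {R A : Type u} [CommRing R] [CommRing A] [Algebra R A]
    {E : Set (PrimeSpectrum R)} (hE : IsConstructible E)
    (h : ∀ p : PrimeSpectrum A, PrimeSpectrum.comap (algebraMap R A) p ∈ E) :
    ∃ R' : Subalgebra R A, R'.FG ∧
      ∀ q : PrimeSpectrum R', PrimeSpectrum.comap (algebraMap R R') q ∈ E := by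
  classical
  obtain ⟨S, hS⟩ := PrimeSpectrum.exists_constructibleSetData_iff.mpr hE.compl
  have key : ∀ C ∈ S, ∃ (N : ℕ) (a : Fin C.n → A),
      algebraMap R A C.f ^ N = ∑ i, a i * algebraMap R A (C.g i) := by
    intro C hC
    have hrad : algebraMap R A C.f ∈ (Ideal.span (Set.range (algebraMap R A ∘ C.g))).radical := by
      rw [Ideal.radical_eq_sInf, Ideal.mem_sInf]
      rintro P ⟨hP, hPp⟩
      by_contra hf
      have hmem : PrimeSpectrum.comap (algebraMap R A) ⟨P, hPp⟩ ∈ C.toSet := by
        refine ⟨?_, fun h' => hf (h' rfl)⟩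
        rintro _ ⟨i, rfl⟩
        exact hP (Ideal.subset_span ⟨i, rfl⟩)
      exact (hS.subset (Set.mem_biUnion hC hmem)) (h _)
    obtain ⟨N, hN⟩ := hrad
    obtain ⟨a, ha⟩ := (Ideal.mem_span_range_iff_exists_fun).mp hN
    exact ⟨N, a, ha.symm⟩
  choose N a ha using key
  let R' := Algebra.adjoin R (⋃ C : S, Set.range (a C.1 C.2))
  refine ⟨R', Subalgebra.fg_def.mpr ⟨_, Set.finite_iUnion fun C : S => Set.finite_range (a C.1 C.2), rfl⟩,
    fun q => ?_⟩
  by_contra hq
  obtain ⟨C, hC, hg, hf⟩ := Set.mem_iUnion₂.mp (hS.symm.subset hq)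
  refine hf fun x hx => ?_
  obtain rfl : x = C.f := hx
  refine q.2.mem_of_pow_mem (N C hC) ?_
  have hmem : ∀ i, a C hC i ∈ R' := fun i =>
    Algebra.subset_adjoin (Set.mem_iUnion.mpr ⟨⟨C, hC⟩, i, rfl⟩)
  have e : algebraMap R R' C.f ^ N C hC = ∑ i, ⟨a C hC i, hmem i⟩ * algebraMap R R' (C.g i) := by
    apply Subtype.ext
    simp only [SubmonoidClass.coe_pow, AddSubmonoidClass.coe_finset_sum, MulMemClass.coe_mul,
      Subalgebra.coe_algebraMap]
    exact ha C hC
  rw [e]
  exact sum_mem fun i _ => Ideal.mul_mem_left _ _ (hg ⟨i, rfl⟩)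

open FieldDim in
/-- The dimension of a fibre is `d` if and only if the fibre dimension is at most `d` along it and
is at least `d` somewhere. -/
theorem dim_fiber_eq_iff {X S : Scheme.{u}} (f : X ⟶ S) [LocallyOfFiniteType f] (s : S) (d : ℕ) :
    topologicalKrullDim (f.fiber s) = d ↔
      s ∈ {s | ∃ x, f x = s ∧ ∀ m < d, ¬ FlatMor.fibreDimAt f x ≤ m} \
        f '' {x | FlatMor.fibreDimAt f x ≤ d}ᶜ := by
  haveI := locallyOfFiniteType_fiberToSpec f s
  have hfd : ∀ u : f.fiber s, FlatMor.fibreDimAt f (f.fiberι s u) = ⨆ η : {η // η ⤳ u}, cdim η.1 :=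
    fun u => (fibreDimAt_eq_localDim f u).trans
      (localDim_eq (k := S.residueField s) (f.fiberToSpecResidueField s) u)
  have hover : ∀ u : f.fiber s, f (f.fiberι s u) = s := fun u =>
    (f.range_fiberι s).subset (Set.mem_range_self u)
  rw [dim_eq_iSup_cdim (X := f.fiber s)]
  constructor
  · intro h
    refine ⟨?_, ?_⟩
    · have : ∃ u : f.fiber s, ∀ m < d, ¬ cdim u ≤ m := by
        by_contra hcon
        push Not at hcon
        cases d with
        | zero =>
          have hne : Nonempty (f.fiber s) := by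
            by_contra he
            haveI := not_nonempty_iff.mp he
            rw [ciSup_of_empty] at h
            exact WithBot.natCast_ne_bot 0 h.symm
          obtain ⟨u⟩ := hne
          obtain ⟨m, hm, -⟩ := hcon u
          omega
        | succ d =>
          have : (⨆ u : f.fiber s, cdim u) ≤ (d : ℕ) := iSup_le fun u => by
            obtain ⟨m, hm, hle⟩ := hcon u
            exact hle.trans (by exact_mod_cast Nat.le_of_lt_succ hm)
          rw [h, Nat.cast_le] at this
          omega
      obtain ⟨u, hu⟩ := this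
      exact ⟨_, hover u, fun m hm hle => hu m hm
        ((le_iSup_of_le ⟨u, specializes_rfl⟩ le_rfl).trans ((hfd u).ge.trans hle))⟩
    · rintro ⟨x, hx, rfl⟩
      refine hx ?_
      obtain ⟨u, hu⟩ : x ∈ Set.range (f.fiberι (f x)) := by rw [f.range_fiberι]; rfl
      exact ((congrArg (FlatMor.fibreDimAt f) hu).symm.trans (hfd u)).le.trans
        (iSup_le fun η => (le_iSup (fun v => cdim v) η.1).trans h.le)
  · rintro ⟨⟨x, rfl, hx⟩, hno⟩
    refine le_antisymm (iSup_le fun u => ?_) ?_
    · by_contra hlt
      refine hno ⟨f.fiberι _ u, fun hle => hlt ?_, hover u⟩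
      rw [Set.mem_ofPred_eq, hfd] at hle
      exact (le_iSup_of_le ⟨u, specializes_rfl⟩ le_rfl).trans hle
    · obtain ⟨u, hu⟩ : x ∈ Set.range (f.fiberι (f x)) := by rw [f.range_fiberι]; rfl
      obtain ⟨n, hn⟩ := exists_nat_localDim' f x
      have hdn : d ≤ n := by
        by_contra hnd
        exact hx n (not_le.mp hnd) hn.le
      refine le_trans (show ((d : ℕ) : WithBot ℕ∞) ≤ FlatMor.fibreDimAt f x by rw [hn]; exact_mod_cast hdn) ?_
      exact ((congrArg (FlatMor.fibreDimAt f) hu).symm.trans (hfd u)).le.trans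
        (iSup_le fun η => le_iSup (fun v => cdim v) η.1)
where
  exists_nat_localDim' {X S : Scheme.{u}} (f : X ⟶ S) [LocallyOfFiniteType f] (x : X) :
      ∃ n : ℕ, FlatMor.fibreDimAt f x = n := by
    haveI := locallyOfFiniteType_fiberToSpec f (f x)
    exact exists_nat_localDim (k := S.residueField (f x)) (f.fiberToSpecResidueField (f x)) (f.asFiber x)

/-- The set of points over which a morphism has `d`-dimensional fibre is constructible, in the
Noetherian case. -/
theorem isConstructible_dim_fiber_eq {X S : Scheme.{u}} (f : X ⟶ S) [IsNoetherian S]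
    [LocallyOfFiniteType f] [QuasiCompact f] (d : ℕ) :
    IsConstructible {s : S | topologicalKrullDim (f.fiber s) = d} := by
  haveI : IsLocallyNoetherian X := LocallyOfFiniteType.isLocallyNoetherian f
  haveI : CompactSpace X := QuasiCompact.compactSpace_of_compactSpace f
  haveI : IsNoetherian X := {}
  haveI : LocallyOfFinitePresentation f := inferInstance
  have hopen : ∀ U : Set X, IsOpen U → IsConstructible U := fun U hU =>
    (show IsRetrocompact U from fun _ _ _ => NoetherianSpace.isCompact _).isConstructible hU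
  have hC : ∀ n : ℕ, IsConstructible {x : X | FlatMor.fibreDimAt f x ≤ n}ᶜ := fun n =>
    (hopen _ (FieldDim.isOpen_fibreDimAt_le f n)).compl
  have : {s : S | topologicalKrullDim (f.fiber s) = d} =
      f '' (⋂ m ∈ Finset.range d, {x : X | FlatMor.fibreDimAt f x ≤ m}ᶜ) \
        f '' {x | FlatMor.fibreDimAt f x ≤ d}ᶜ := by
    ext s
    rw [Set.mem_ofPred_eq, dim_fiber_eq_iff]
    refine and_congr ⟨?_, ?_⟩ Iff.rfl
    · rintro ⟨x, hx, hx'⟩
      exact ⟨x, Set.mem_iInter₂.mpr fun m hm => hx' m (Finset.mem_range.mp hm), hx⟩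
    · rintro ⟨x, hx, hx'⟩
      exact ⟨x, hx', fun m hm => Set.mem_iInter₂.mp hx m (Finset.mem_range.mpr hm)⟩
  rw [this]
  refine (f.isConstructible_image ?_).sdiff (f.isConstructible_image (hC d))
  induction Finset.range d using Finset.induction_on with
  | empty => simpa using IsConstructible.univ
  | @insert a s ha ih => rw [Finset.set_biInter_insert]; exact (hC a).inter ih

end Groth.Agent.H8Props.FibreDimApprox
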