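import Groth.Agent.H8Props.NilThickRing

/-!
# Relative tor amplitude along the base change of a nilpotent surjection by a flat algebra
-/

set_option autoImplicit false
set_option linter.style.haveILetI false
set_option backward.isDefEq.respectTransparency false
set_option maxHeartbeats 400000

universe u

open CategoryTheory CategoryTheory.Limits TensorProduct

attribute [local instance] HasDerivedCategory.standard

namespace Groth.Agent.H8Props.NilThick

open H4DR H4DR.TorAmp

variable {A A₀ B B₀ : Type u} [CommRing A] [CommRing A₀] [CommRing B] [CommRing B₀]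
  {φ : A →+* A₀} {ψ : B →+* B₀} {a : A →+* B} {a₀ : A₀ →+* B₀}

/-- Restriction of scalars respects isomorphisms in the derived category. -/
noncomputable def resQIso (a : A →+* B) {P Q : DRing.Cx B} (e : DRing.toD P ≅ DRing.toD Q) :
    DRing.toD (RingRelPC.resCx a P) ≅ DRing.toD (RingRelPC.resCx a Q) :=
  (ModuleCat.restrictScalars.{u} a).mapDerivedCategoryFactors.symm.app P ≪≫
    (ModuleCat.restrictScalars.{u} a).mapDerivedCategory.mapIso e ≪≫
    (ModuleCat.restrictScalars.{u} a).mapDerivedCategoryFactors.app Q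

theorem exists_tmul (hφ : Function.Surjective φ) (M : ModuleCat.{u} A) :
    letI := φ.toAlgebra
    Function.Surjective (TensorProduct.mk A A₀ M 1) := by
  letI := φ.toAlgebra
  intro z
  induction z using TensorProduct.induction_on with
  | zero => exact ⟨0, map_zero _⟩
  | add x y hx hy =>
    obtain ⟨x, rfl⟩ := hx; obtain ⟨y, rfl⟩ := hy
    exact ⟨x + y, map_add _ _ _⟩
  | tmul c m =>
    obtain ⟨r, rfl⟩ := hφ c
    exact ⟨r • m, by simp [TensorProduct.smul_tmul', Algebra.smul_def, RingHom.algebraMap_toAlgebra]⟩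

theorem mem_smul_top_of_tmul_eq_zero (hφ : Function.Surjective φ) (M : ModuleCat.{u} A) (x : M)
    (hx : letI := φ.toAlgebra; (1 : A₀) ⊗ₜ[A] x = 0) : x ∈ RingHom.ker φ • (⊤ : Submodule A M) := by
  letI := φ.toAlgebra
  let ε := RingHom.quotientKerEquivOfSurjective hφ
  let e : A₀ →ₗ[A] A ⧸ RingHom.ker φ :=
    { toFun := ε.symm
      map_add' := map_add _
      map_smul' := fun r s => by
        rw [RingHom.id_apply, Algebra.smul_def, map_mul, RingHom.algebraMap_toAlgebra,
          show φ r = ε (Ideal.Quotient.mk _ r) from rfl, RingEquiv.symm_apply_apply,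
          Algebra.smul_def]
        rfl }
  have h1 : e.rTensor M ((1 : A₀) ⊗ₜ[A] x) = 0 := by rw [hx, map_zero]
  rw [LinearMap.rTensor_tmul, show e 1 = 1 from map_one ε.symm] at h1
  have h2 := congrArg (TensorProduct.quotTensorEquivQuotSMul M (RingHom.ker φ)) h1
  rw [map_zero, ← map_one (Ideal.Quotient.mk (RingHom.ker φ)),
    TensorProduct.quotTensorEquivQuotSMul_mk_tmul, one_smul] at h2
  exact (Submodule.Quotient.mk_eq_zero _).1 h2

theorem mem_smul_top_restrict (a : A →+* B) (I : Ideal A) (M : ModuleCat.{u} B) (x : M)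
    (h : x ∈ I.map a • (⊤ : Submodule B M)) :
    (show (ModuleCat.restrictScalars.{u} a).obj M from x) ∈
      I • (⊤ : Submodule A ((ModuleCat.restrictScalars.{u} a).obj M)) := by
  letI := a.toAlgebra
  letI : Module A M := Module.compHom _ a
  haveI : IsScalarTower A B M := IsScalarTower.of_algebraMap_smul fun _ _ => rfl
  have e := Ideal.smul_restrictScalars I (⊤ : Submodule B M)
  rw [Submodule.restrictScalars_top] at e
  exact (SetLike.ext_iff.1 e x).1 h

/-- `M ↦ 1 ⊗ m`, semilinearly along a commutative square. -/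
noncomputable def bcUnit (hc : ψ.comp a = a₀.comp φ) (M : ModuleCat.{u} B) :
    (ModuleCat.restrictScalars.{u} a).obj M ⟶ (ModuleCat.restrictScalars.{u} φ).obj
      ((ModuleCat.restrictScalars.{u} a₀).obj ((ModuleCat.extendScalars.{u, u, u} ψ).obj M)) :=
  letI := ψ.toAlgebra
  ModuleCat.ofHom (X := (ModuleCat.restrictScalars.{u} a).obj M) (Y := (ModuleCat.restrictScalars.{u} φ).obj
      ((ModuleCat.restrictScalars.{u} a₀).obj ((ModuleCat.extendScalars.{u, u, u} ψ).obj M)))
    { toFun := fun m => ((1 : B₀) ⊗ₜ[B] (show M from m) : B₀ ⊗[B] M)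
      map_add' := fun x y => TensorProduct.tmul_add _ _ _
      map_smul' := fun r m => by
        show ((1 : B₀) ⊗ₜ[B] (a r • (show M from m)) : B₀ ⊗[B] M) =
          a₀ (φ r) • ((1 : B₀) ⊗ₜ[B] (show M from m) : B₀ ⊗[B] M)
        rw [TensorProduct.tmul_smul, TensorProduct.smul_tmul', TensorProduct.smul_tmul',
          Algebra.smul_def, smul_eq_mul, mul_one, mul_one, RingHom.algebraMap_toAlgebra,
          ← RingHom.comp_apply, ← RingHom.comp_apply, hc] }

/-- The base change comparison. -/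
noncomputable def bcNat (hc : ψ.comp a = a₀.comp φ) :
    ModuleCat.restrictScalars.{u} a ⋙ ModuleCat.extendScalars.{u, u, u} φ ⟶
      ModuleCat.extendScalars.{u, u, u} ψ ⋙ ModuleCat.restrictScalars.{u} a₀ where
  app M := ((ModuleCat.extendRestrictScalarsAdj φ).homEquiv _ _).symm (bcUnit hc M)
  naturality M N f := by
    dsimp only [Functor.comp_map]
    rw [← Adjunction.homEquiv_naturality_left_symm, ← Adjunction.homEquiv_naturality_right_symm]
    refine congrArg _ (ModuleCat.hom_ext (LinearMap.ext fun m => ?_))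
    exact (ModuleCat.ExtendScalars.map_tmul (f := ψ) f 1 (show M from m)).symm

theorem bcNat_app_tmul (hc : ψ.comp a = a₀.comp φ) (M : ModuleCat.{u} B) (m : M) :
    letI := φ.toAlgebra; letI := ψ.toAlgebra
    ((bcNat hc).app M).hom ((1 : A₀) ⊗ₜ[A] (show (ModuleCat.restrictScalars.{u} a).obj M from m)) =
      ((1 : B₀) ⊗ₜ[B] m : B₀ ⊗[B] M) := by
  letI := φ.toAlgebra; letI := ψ.toAlgebra
  exact one_smul A₀ (show (ModuleCat.restrictScalars.{u} a₀).obj ((ModuleCat.extendScalars.{u, u, u} ψ).obj M)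
    from ((1 : B₀) ⊗ₜ[B] m : B₀ ⊗[B] M))

theorem isIso_bcNat (hc : ψ.comp a = a₀.comp φ) (hφ : Function.Surjective φ) (hψ : Function.Surjective ψ)
    (hker : RingHom.ker ψ = (RingHom.ker φ).map a) (M : ModuleCat.{u} B) : IsIso ((bcNat hc).app M) := by
  letI := φ.toAlgebra; letI := ψ.toAlgebra
  let M' := (ModuleCat.restrictScalars.{u} a).obj M
  rw [ConcreteCategory.isIso_iff_bijective]
  constructor
  · show Function.Injective ((bcNat hc).app M).hom
    rw [injective_iff_map_eq_zero]
    intro z hz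
    obtain ⟨m, rfl⟩ := exists_tmul hφ M' z
    have h0 : (1 : B₀) ⊗ₜ[B] (show M from m) = 0 := (bcNat_app_tmul hc M m).symm.trans hz
    have h1 := mem_smul_top_of_tmul_eq_zero hψ M _ h0
    rw [hker] at h1
    have h2 : m ∈ RingHom.ker φ • (⊤ : Submodule A M') := mem_smul_top_restrict a _ M _ h1
    refine Submodule.smul_induction_on h2 (fun r hr x _ => ?_) fun x y hx hy => ?_
    · show (1 : A₀) ⊗ₜ[A] (r • x) = 0
      rw [TensorProduct.tmul_smul, TensorProduct.smul_tmul', Algebra.smul_def,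
        RingHom.algebraMap_toAlgebra, (RingHom.mem_ker.1 hr), zero_mul, TensorProduct.zero_tmul]
    · show (1 : A₀) ⊗ₜ[A] (x + y) = 0
      rw [TensorProduct.tmul_add, show (1 : A₀) ⊗ₜ[A] x = 0 from hx,
        show (1 : A₀) ⊗ₜ[A] y = 0 from hy, add_zero]
  · intro z
    obtain ⟨m, rfl⟩ := exists_tmul hψ M z
    exact ⟨(1 : A₀) ⊗ₜ[A] (show M' from m), bcNat_app_tmul hc M m⟩

/-- Tor amplitude over the base lifts along the base change of a nilpotent surjection. -/
theorem ta_resCx (hc : ψ.comp a = a₀.comp φ) (hφ : Function.Surjective φ) (hψ : Function.Surjective ψ)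
    (hnil : IsNilpotent (RingHom.ker φ)) (hker : RingHom.ker ψ = (RingHom.ker φ).map a) (ha : a.Flat)
    {P : DRing.Cx B} (hP : KF B P) {c d : ℤ}
    (h : DRing.HasTorAmplitudeIn A₀ c d (DRing.toD (RingRelPC.resCx a₀ (RingRelPC.extCx ψ P)))) :
    DRing.HasTorAmplitudeIn A c d (DRing.toD (RingRelPC.resCx a P)) := by
  obtain ⟨n, hn⟩ := hnil
  have hnilψ : IsNilpotent (RingHom.ker ψ) :=
    ⟨n, by rw [hker, ← Ideal.map_pow, hn, Submodule.zero_eq_bot, Ideal.map_bot]; rfl⟩
  have hb : ∀ i, d < i → (RingRelPC.extCx ψ P).ExactAt i := fun i hi =>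
    (exactAt_restrict_iff a₀ _ i).1 ((subsingleton_HD_toD_iff _ i).1 (bound_of_ta h i (Or.inr hi)))
  obtain ⟨P₁, hP₁, ⟨e⟩, ⟨e'⟩⟩ := exists_projRep_ext ψ hP d (exactAt_of_extCx hψ hnilψ hP d hb)
  haveI := hasLBaseChange φ
  have hflat : DRing.TermwiseFlat (RingRelPC.resCx a P₁) := fun i => by
    letI := a.toAlgebra
    haveI : Module.Flat A B := RingHom.flat_algebraMap_iff.1 ha
    haveI : Module.Flat B (P₁.X i) := hP₁.flat i
    letI : Module A (P₁.X i) := Module.compHom _ a
    haveI : IsScalarTower A B (P₁.X i) := IsScalarTower.of_algebraMap_smul fun r x => rfl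
    exact Module.Flat.trans A B (P₁.X i)
  have hQ : KF A (RingRelPC.resCx a P₁) := isKFlat_of_flat
    (fun i hi => (ModuleCat.restrictScalars.{u} a).map_isZero (hP₁.above i hi)) hflat
  haveI : IsIso (bcNat hc) :=
    haveI := isIso_bcNat hc hφ hψ hker
    NatIso.isIso_of_isIso_app _
  let ι : RingRelPC.extCx φ (RingRelPC.resCx a P₁) ≅ RingRelPC.resCx a₀ (RingRelPC.extCx ψ P₁) :=
    (NatIso.mapHomologicalComplex (asIso (bcNat hc)) (ComplexShape.up ℤ)).app P₁
  refine ta_of_iso (resQIso a e) (ta_of_nilpotent hφ ⟨n, hn⟩ _ ?_)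
  exact ta_of_iso ((resQIso a₀ e').symm ≪≫ (DerivedCategory.Q.mapIso ι).symm ≪≫
    (lbaseObj φ _ hQ).symm) h

end Groth.Agent.H8Props.NilThick
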