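import Groth.Agent.H8Props.NilThickPC
import Groth.Agent.H8Props.NilThickTorRing
import Groth.Agent.H8Props.ClosedBaseChange
import Groth.Prelude.Def_DerSch2

/-!
# Relative perfectness along flat base change of thickenings
-/

set_option autoImplicit false
set_option linter.style.haveILetI false
set_option backward.isDefEq.respectTransparency false

universe u

open CategoryTheory CategoryTheory.Limits AlgebraicGeometry TopologicalSpace

attribute [local instance] HasDerivedCategory.standard

namespace Groth.Agent.H8Props.NilThick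

open H16Derived.KFlat H16Derived.KFlat.Stalk H06Mod

variable {X X' Y Y' : Scheme.{u}} {f : X ⟶ Y} {f' : X' ⟶ Y'} {i : X ⟶ X'} {j : Y ⟶ Y'}

theorem base_eq (sq : IsPullback i f f' j) (x : X) : f'.base (i.base x) = j.base (f.base x) :=
  congr($(sq.w).base x)

/-- The reduction map of the local rings of the base. -/
noncomputable abbrev baseMap (sq : IsPullback i f f' j) (x : X) :
    Y'.presheaf.stalk (f'.base (i.base x)) ⟶ Y.presheaf.stalk (f.base x) :=
  (Y'.presheaf.stalkCongr (.of_eq (base_eq sq x))).hom ≫ j.stalkMap (f.base x)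

theorem baseMap_comp (sq : IsPullback i f f' j) (x : X) :
    f'.stalkMap (i.base x) ≫ i.stalkMap x = baseMap sq x ≫ f.stalkMap x := by
  rw [baseMap, Category.assoc, ← Scheme.Hom.stalkMap_comp, ← Scheme.Hom.stalkMap_comp,
    Scheme.Hom.stalkMap_congr_hom _ _ sq.w x]

theorem ker_baseMap (sq : IsPullback i f f' j) [IsClosedImmersion j] (x : X) :
    ∀ (V : Y'.Opens) (hV : IsAffineOpen V) (hy : f'.base (i.base x) ∈ V),
      RingHom.ker (baseMap sq x).hom = (RingHom.ker (j.app V).hom).map (Y'.presheaf.germ V _ hy).hom := by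
  intro V hV hy
  let e := Y'.presheaf.stalkCongr (.of_eq (base_eq sq x))
  have h1 := H17.ker_stalkMap_eq_map j hV (f.base x) (base_eq sq x ▸ hy)
  have h2 : (Y'.presheaf.germ V _ hy) = Y'.presheaf.germ V (j.base (f.base x)) (base_eq sq x ▸ hy) ≫ e.inv := by
    rw [Iso.eq_comp_inv]
    exact TopCat.Presheaf.germ_stalkSpecializes Y'.presheaf hy (specializes_of_eq (base_eq sq x).symm)
  rw [h2, CommRingCat.hom_comp, CommRingCat.hom_comp, ← Ideal.map_map, ← h1]
  refine le_antisymm (fun a ha => ?_) (Ideal.map_le_iff_le_comap.2 fun a ha => ?_)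
  · have : a = e.inv.hom (e.hom.hom a) := by
      rw [← RingHom.comp_apply, ← CommRingCat.hom_comp, e.hom_inv_id]; rfl
    rw [this]
    exact Ideal.mem_map_of_mem _ ha
  · show (j.stalkMap (f.base x)).hom (e.hom.hom (e.inv.hom a)) = 0
    rw [← RingHom.comp_apply e.hom.hom, ← CommRingCat.hom_comp, e.inv_hom_id]
    exact ha

theorem ker_stalkMap_eq (sq : IsPullback i f f' j) [IsClosedImmersion j] (x : X) :
    RingHom.ker (i.stalkMap x).hom =
      (RingHom.ker (baseMap sq x).hom).map (f'.stalkMap (i.base x)).hom := by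
  haveI : IsClosedImmersion i := MorphismProperty.of_isPullback sq.flip inferInstance
  obtain ⟨V, hV, hyV, -⟩ :=
    exists_isAffineOpen_mem_and_subset (x := f'.base (i.base x)) (U := ⊤) trivial
  obtain ⟨V', hV', hxV', hle⟩ :=
    exists_isAffineOpen_mem_and_subset (x := i.base x) (U := f' ⁻¹ᵁ V) hyV
  have e : V' ≤ f' ⁻¹ᵁ V := hle
  rw [ker_baseMap sq x V hV hyV, H17.ker_stalkMap_eq_map i hV' x hxV',
    ClosedBC.ker_app_baseChange sq.flip hV hV' e, Ideal.map_map, Ideal.map_map]
  congr 1
  rw [← CommRingCat.hom_comp, ← CommRingCat.hom_comp]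
  simp only [Scheme.Hom.germ_stalkMap, Scheme.Hom.appLE, Category.assoc, TopCat.Presheaf.germ_res]

theorem nil_baseChange (sq : IsPullback i f f' j) (hj : Nil j) : Nil i where
  closed := by
    haveI := hj.closed
    exact MorphismProperty.of_isPullback sq.flip inferInstance
  surj := by
    haveI : Surjective j := ⟨hj.surj⟩
    haveI : Surjective i := MorphismProperty.of_isPullback sq.flip inferInstance
    exact i.surjective
  nil := fun x => by
    haveI := hj.closed
    obtain ⟨n, hn⟩ := hj.nil (f.base x)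
    refine ⟨n, ?_⟩
    let e := Y'.presheaf.stalkCongr (.of_eq (base_eq sq x))
    have h : RingHom.ker (baseMap sq x).hom ≤ (RingHom.ker (j.stalkMap (f.base x)).hom).map e.inv.hom := by
      intro a ha
      have : a = e.inv.hom (e.hom.hom a) := by
        rw [← RingHom.comp_apply, ← CommRingCat.hom_comp, e.hom_inv_id]; rfl
      rw [this]
      exact Ideal.mem_map_of_mem _ ha
    rw [Submodule.zero_eq_bot, eq_bot_iff, ker_stalkMap_eq sq x, ← Ideal.map_pow]
    refine (Ideal.map_mono (Ideal.pow_right_mono h n)).trans ?_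
    rw [← Ideal.map_pow, hn, Submodule.zero_eq_bot, Ideal.map_bot, Ideal.map_bot]

/-- Stalks of isomorphic objects. -/
noncomputable def stalkQIso (x : X) {F G : CochainComplex X.Modules ℤ}
    (e : DCoh.toD X F ≅ DCoh.toD X G) :
    DRing.toD ((stalkCx x).obj F) ≅ DRing.toD ((stalkCx x).obj G) :=
  (DerSch.stalkFunctor X x).mapDerivedCategoryFactors.symm.app F ≪≫
    (DerSch.stalkFunctor X x).mapDerivedCategory.mapIso e ≪≫
    (DerSch.stalkFunctor X x).mapDerivedCategoryFactors.app G

/-- Stalkwise tor amplitude over the base lifts along the thickening. -/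
theorem hasTorAmplitudeAt_lift (sq : IsPullback i f f' j) (hj : Nil j) [Flat f']
    {P : CochainComplex X'.Modules ℤ} (hP : kflat X' P) {a b : ℤ} (x : X)
    {F : CochainComplex X.Modules ℤ} (eF : DCoh.toD X F ≅ DCoh.toD X ((pullCx i).obj P))
    (h : DerSch.HasTorAmplitudeAt f a b F x) : DerSch.HasTorAmplitudeAt f' a b P (i.base x) := by
  haveI := hj.closed
  have hi := nil_baseChange sq hj
  let φ := baseMap sq x
  have hφ : Function.Surjective φ.hom := by
    rw [CommRingCat.hom_comp]
    exact (hj.surjective_stalkMap _).comp (ConcreteCategory.bijective_of_isIso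
      (Y'.presheaf.stalkCongr (.of_eq (base_eq sq x))).hom).2
  have hnil : IsNilpotent (RingHom.ker φ.hom) := by
    obtain ⟨n, hn⟩ := hj.nil (f.base x)
    let e := Y'.presheaf.stalkCongr (.of_eq (base_eq sq x))
    refine isNilpotent_ker_congr (Arrow.isoMk e.symm (Iso.refl _) ?_) ⟨n, hn⟩
    show e.inv ≫ baseMap sq x = _
    rw [baseMap]
    simp only [e, Iso.inv_hom_id_assoc, Iso.refl_hom, Category.comp_id, Arrow.mk_hom]
  exact ta_resCx (φ := φ.hom) (ψ := (i.stalkMap x).hom) (a := (f'.stalkMap (i.base x)).hom)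
    (a₀ := (f.stalkMap x).hom) (congrArg CommRingCat.Hom.hom (baseMap_comp sq x)) hφ
    (hi.surjective_stalkMap x) hnil (ker_stalkMap_eq sq x) (Flat.stalkMap f' (i.base x)) (kf_stalk hP _)
    (H4DR.TorAmp.ta_of_iso (resQIso (f.stalkMap x).hom
      (stalkQIso x eF ≪≫ (DerivedCategory.Q.mapIso (stalkPullIso i P x)).symm)) h)

/-- Relative perfectness along the flat base change of a thickening. -/
theorem relPerfect_of_pullback (sq : IsPullback i f f' j) (hj : Nil j) [Flat f'] [DCoh.HasLpull i]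
    (K : DCoh.D X') (F : CochainComplex X.Modules ℤ) (eF : DCoh.toD X F ≅ (DCoh.Lpull i).obj K)
    (hpc : ∀ m : ℤ, DCoh.IsPseudoCoherentD m (DCoh.toD X F))
    (hta : DerSch.LocFiniteTorAmplitude f F) :
    (∀ m : ℤ, DCoh.IsPseudoCoherentD m K) ∧ DerSch.LocFiniteTorAmplitudeD f' K := by
  have hi := nil_baseChange sq hj
  refine ⟨fun m => isPseudoCoherentD_of_pullback i hi K m (isPseudoCoherentD_of_iso eF (hpc m)), ?_⟩
  intro F' hF'
  obtain ⟨eF'⟩ := hF'
  obtain ⟨P, hP, ⟨e⟩⟩ := exists_kflat_rep K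
  have eP : DCoh.toD X F ≅ DCoh.toD X ((pullCx i).obj P) :=
    eF ≪≫ (DCoh.Lpull i).mapIso e.symm ≪≫ lpullObjIso i P hP
  intro x'
  obtain ⟨x, rfl⟩ := hi.surj x'
  obtain ⟨V, a, b, hxV, hV⟩ := hta x
  obtain ⟨W, rfl⟩ := exists_opens_preimage hi V
  refine ⟨W, a, b, hxV, fun z hz => ?_⟩
  obtain ⟨w, rfl⟩ := hi.surj z
  exact H4DR.TorAmp.ta_of_iso (resQIso (f'.stalkMap (i.base w)).hom (stalkQIso (i.base w) (e ≪≫ eF'.symm)))
    (hasTorAmplitudeAt_lift sq hj hP w eP (hV w hz))

end Groth.Agent.H8Props.NilThick
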