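import Groth.Agent.H11Ample.AmpleOn
import Groth.Agent.H11Ample.Pullback
import Groth.Agent.H11Tilde.Global
import Mathlib.AlgebraicGeometry.ProjectiveSpectrum.Proper

/-!
# A twist is ample on quasi-compact open subschemes of `Proj`
-/

set_option autoImplicit false
set_option linter.style.haveILetI false

noncomputable section

universe u

open CategoryTheory CategoryTheory.Limits AlgebraicGeometry Opposite TopologicalSpace
open Groth.Agent.H11Tilde Groth.Agent.H11Ample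

namespace Groth.Agent.H8Props.ProjOpenAmple

section general

variable {X Y : Scheme.{u}} {L : Y.Modules}

/-- The locus of generation of a pulled back section, `L` being invertible near the image. -/
theorem gen_pullTop (f : X ⟶ Y)
    (hL : ∀ y : X, ∃ (V : Y.Opens) (e : Γ(L, V)), f y ∈ V ∧ IsGen L e) (g : Γ(L, ⊤)) :
    gen ((Scheme.Modules.pullback f).obj L) (pullTop f g) = f ⁻¹ᵁ gen L g := by
  ext y
  obtain ⟨V, e, hyV, he⟩ := hL y
  obtain ⟨a, ha⟩ := exists_coeff he (L.presheaf.map (homOfLE (le_top : V ≤ ⊤)).op g)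
  have hres : ((Scheme.Modules.pullback f).obj L).presheaf.map (homOfLE (le_top : f ⁻¹ᵁ V ≤ ⊤)).op
      (pullTop f g) = f.app V a • OmegaSh.pullSect f L V e := by
    refine (pullSect_res f L (le_top : V ≤ ⊤) g).symm.trans ?_
    rw [ha, OmegaSh.pullSect_smul]
  have h1 := gen_inf_eq_basicOpen (IsGen.pullSect f he) _ _ hres
  rw [← Scheme.preimage_basicOpen, ← gen_inf_eq_basicOpen he g a ha] at h1
  constructor
  · intro hy
    exact (h1.le ⟨hy, hyV⟩).1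
  · intro hy
    exact (h1.ge ⟨hy, hyV⟩).1

theorem isInvertible_pullback_of_gen (f : X ⟶ Y)
    (hL : ∀ y : X, ∃ (V : Y.Opens) (e : Γ(L, V)), f y ∈ V ∧ IsGen L e) :
    PicF.IsInvertible ((Scheme.Modules.pullback f).obj L) :=
  isInvertible_of_gen fun y => by
    obtain ⟨V, e, hyV, he⟩ := hL y
    exact ⟨f ⁻¹ᵁ V, _, hyV, IsGen.pullSect f he⟩

end general

variable {A σA : Type u} [CommRing A] [SetLike σA A] [AddSubgroupClass σA A] (𝒜 : ℕ → σA) [GradedRing 𝒜]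

theorem isGen_globalSec {d : ℕ} {g : A} (hg : g ∈ 𝒜 d) :
    IsGen (GrMod.tilde 𝒜 𝒜 (d : ℤ))
      ((GrMod.tilde 𝒜 𝒜 (d : ℤ)).presheaf.map (homOfLE (le_top : Proj.basicOpen 𝒜 g ≤ ⊤)).op (globalSec 𝒜 hg)) :=
  isGen_of_bijective fun V hV => by
    refine Eq.mpr (congrArg Function.Bijective (funext fun r => ?_)) (bijective_smul_globalSec 𝒜 hg hV)
    rw [H10Coh.mres_mres]

theorem mem_gen_globalSec_iff {d : ℕ} {f : A} (hf : f ∈ 𝒜 d) {g : A} (hg : g ∈ 𝒜 d) {x : Proj 𝒜}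
    (hgx : g ∉ x.asHomogeneousIdeal) :
    x ∈ gen (GrMod.tilde 𝒜 𝒜 (d : ℤ)) (globalSec 𝒜 hf) ↔ x ∈ Proj.basicOpen 𝒜 f := by
  constructor
  · intro hx
    obtain ⟨U, hU, hxU⟩ := Opens.mem_sSup.1 hx
    obtain ⟨r, hr⟩ := ((isIso_restrict_homOfGlobal_iff _ _ U).1 hU (U ⊓ Proj.basicOpen 𝒜 g) inf_le_left).2
      ((GrMod.tilde 𝒜 𝒜 (d : ℤ)).presheaf.map (homOfLE (le_top : U ⊓ Proj.basicOpen 𝒜 g ≤ ⊤)).op (globalSec 𝒜 hg))
    have h1 := congrArg (fun s => sval 𝒜 𝒜 s (⟨x, hxU, hgx⟩ : ↥(U ⊓ Proj.basicOpen 𝒜 g))) hr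
    have hu : IsUnit (Localization.mk g ⟨1, one_notMem 𝒜 x⟩ : GrTwist.Loc 𝒜 x) := (isUnit_mk_iff 𝒜 x g _).2 hgx
    have hu' : IsUnit (fval 𝒜 r ⟨x, hxU, hgx⟩ * (Localization.mk f ⟨1, one_notMem 𝒜 x⟩ : GrTwist.Loc 𝒜 x)) := by
      refine Eq.mpr (congrArg IsUnit ?_) hu
      exact h1
    exact (isUnit_mk_iff 𝒜 x f _).1 (isUnit_of_mul_isUnit_right hu')
  · exact fun hx => mem_gen_of_isGen (isGen_globalSec 𝒜 hf) hx

theorem exists_isAmple_pullback_twist (X : Scheme.{u}) [CompactSpace X] (j : X ⟶ Proj 𝒜)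
    [IsOpenImmersion j] :
    ∃ d : ℕ, 0 < d ∧ CohB1.IsAmple ((Scheme.Modules.pullback j).obj (GrMod.tilde 𝒜 𝒜 (d : ℤ))) := by
  classical
  have hpt : ∀ x : X, ∃ (n : ℕ) (f : A), f ∈ 𝒜 n ∧ 0 < n ∧ j x ∈ Proj.basicOpen 𝒜 f := fun x => by
    by_contra hc
    push Not at hc
    refine (j x).not_irrelevant_le ?_
    intro a ha
    rw [← DirectSum.sum_support_decompose 𝒜 a]
    refine sum_mem fun i _ => ?_
    rcases Nat.eq_zero_or_pos i with rfl | hi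
    · have h0 : GradedRing.proj 𝒜 0 a = 0 := ha
      rw [GradedRing.proj_apply] at h0
      rw [h0]
      exact zero_mem _
    · by_contra hni
      exact hc i _ (SetLike.coe_mem _) hi hni
  choose n f hfn hn hxf using hpt
  obtain ⟨T, hT⟩ := isCompact_univ.elim_finite_subcover
    (fun x : X => (j ⁻¹ᵁ Proj.basicOpen 𝒜 (f x) : Set X)) (fun x => (j ⁻¹ᵁ Proj.basicOpen 𝒜 (f x)).2)
    fun x _ => Set.mem_iUnion.2 ⟨x, hxf x⟩
  let d := ∏ t ∈ T, n t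
  have hd : 0 < d := Finset.prod_pos fun t _ => hn t
  have hcov : ∀ x : X, ∃ g : A, g ∈ 𝒜 d ∧ j x ∈ Proj.basicOpen 𝒜 g := fun x => by
    obtain ⟨t, ht, hxt⟩ := Set.mem_iUnion₂.1 (hT (Set.mem_univ x))
    obtain ⟨k, hk⟩ := Finset.dvd_prod_of_mem n ht
    have hk0 : 0 < k := by
      rcases Nat.eq_zero_or_pos k with h | h
      · rw [h, Nat.mul_zero] at hk
        exact absurd hk hd.ne'
      · exact h
    refine ⟨f t ^ k, ?_, by rw [Proj.basicOpen_pow _ _ _ hk0]; exact hxt⟩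
    show f t ^ k ∈ 𝒜 d
    rw [show d = k • n t by rw [smul_eq_mul, Nat.mul_comm]; exact hk]
    exact SetLike.pow_mem_graded k (hfn t)
  have hL : ∀ y : X, ∃ (V : (Proj 𝒜).Opens) (e : Γ(GrMod.tilde 𝒜 𝒜 (d : ℤ), V)),
      j y ∈ V ∧ IsGen (GrMod.tilde 𝒜 𝒜 (d : ℤ)) e := fun y => by
    obtain ⟨g, hg, hy⟩ := hcov y
    exact ⟨_, _, hy, isGen_globalSec 𝒜 hg⟩
  refine ⟨d, hd, isAmple_of_gen_isQuasiAffine (isInvertible_pullback_of_gen j hL) fun x => ?_⟩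
  obtain ⟨g, hg, hx⟩ := hcov x
  refine ⟨1, spow (pullTop j (globalSec 𝒜 hg)) 1, one_pos, ?_⟩
  have heq : gen _ (spow (pullTop j (globalSec 𝒜 hg)) 1) = j ⁻¹ᵁ Proj.basicOpen 𝒜 g := by
    rw [gen_spow (isInvertible_pullback_of_gen j hL) _ 1 one_pos, gen_pullTop j hL]
    ext y
    obtain ⟨g', hg', hy'⟩ := hcov y
    exact mem_gen_globalSec_iff 𝒜 hg hg' hy'
  rw [heq]
  refine ⟨hx, ?_⟩
  have ha : IsAffineOpen (Proj.basicOpen 𝒜 g) := Proj.isAffineOpen_basicOpen 𝒜 g hg hd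
  haveI : IsAffine (Proj.basicOpen 𝒜 g).toScheme := ha
  haveI : QuasiCompact j := inferInstance
  haveI : CompactSpace (j ⁻¹ᵁ Proj.basicOpen 𝒜 g).toScheme :=
    isCompact_iff_compactSpace.1 (j.isCompact_preimage ha.isCompact)
  exact Scheme.IsQuasiAffine.of_isImmersion (j ∣_ Proj.basicOpen 𝒜 g)

end Groth.Agent.H8Props.ProjOpenAmple
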