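import Mathlib.AlgebraicGeometry.Morphisms.Finite
import Mathlib.AlgebraicGeometry.Morphisms.ClosedImmersion
import Mathlib.AlgebraicGeometry.Fiber
import Mathlib.RingTheory.LocalRing.Module
import Mathlib.RingTheory.Flat.FaithfullyFlat.Basic

/-!
# A morphism is a closed immersion near a point with trivial fibre (helper8)
-/

set_option autoImplicit false
set_option backward.isDefEq.respectTransparency.types false

universe u

open CategoryTheory AlgebraicGeometry Limits TopologicalSpace TensorProduct

namespace Groth.Agent.H8Props.ClosedImmersionNhd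

/-- Nakayama: if `A → B` is finite and surjective after base change to a field `K`, it is surjective
up to an element invertible in `K`. -/
theorem exists_smul_mem_range {A B K : Type u} [CommRing A] [CommRing B] [Algebra A B]
    [Module.Finite A B] [Field K] [Algebra A K]
    (hK : Function.Surjective (algebraMap K (K ⊗[A] B))) :
    ∃ h : A, algebraMap A K h ≠ 0 ∧ ∀ b : B, ∃ a, algebraMap A B h * b = algebraMap A B a := by
  classical
  let N : Submodule A B := LinearMap.range (Algebra.linearMap A B)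
  let M := B ⧸ N
  have hzero : ∀ z : K ⊗[A] M, z = 0 := by
    intro z
    obtain ⟨w, rfl⟩ := LinearMap.lTensor_surjective K N.mkQ_surjective z
    obtain ⟨c, rfl⟩ := hK w
    show (N.mkQ.lTensor K) (c ⊗ₜ (1 : B)) = 0
    have : N.mkQ (1 : B) = 0 := (Submodule.Quotient.mk_eq_zero N).mpr ⟨1, map_one (algebraMap A B)⟩
    rw [LinearMap.lTensor_tmul, this, TensorProduct.tmul_zero]
  let p : PrimeSpectrum A := ⟨RingHom.ker (algebraMap A K), RingHom.ker_isPrime _⟩
  have hsupp : p ∉ Module.support A M := by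
    rw [Module.mem_support_iff_nontrivial_residueField_tensorProduct]
    intro hnt
    have := p.2
    let ι : p.asIdeal.ResidueField →+* K := Ideal.ResidueField.lift p.asIdeal (algebraMap A K) le_rfl
      fun x hx => IsUnit.mk0 _ (by simpa [p, RingHom.mem_ker, Ideal.primeCompl] using hx)
    letI := ι.toAlgebra
    have : IsScalarTower A p.asIdeal.ResidueField K := .of_algebraMap_eq fun a => by
      show algebraMap A K a = ι (algebraMap A p.asIdeal.ResidueField a)
      simp [ι]
    obtain ⟨x, hx⟩ := exists_ne (0 : p.asIdeal.ResidueField ⊗[A] M)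
    apply hx
    have hflat := Module.Flat.rTensor_preserves_injective_linearMap (M := p.asIdeal.ResidueField ⊗[A] M)
      (Algebra.linearMap p.asIdeal.ResidueField K) (algebraMap p.asIdeal.ResidueField K).injective
    apply (TensorProduct.lid p.asIdeal.ResidueField (p.asIdeal.ResidueField ⊗[A] M)).symm.injective
    apply hflat
    rw [map_zero, map_zero]
    apply (AlgebraTensorModule.cancelBaseChange A p.asIdeal.ResidueField K K M).injective
    rw [map_zero]
    exact hzero _
  rw [Module.notMem_support_iff'] at hsupp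
  choose r hr hr' using hsupp
  obtain ⟨s, hs⟩ := Module.Finite.fg_top (R := A) (M := M)
  refine ⟨∏ m ∈ s, r m, ?_, fun b => ?_⟩
  · rw [map_prod]
    exact Finset.prod_ne_zero_iff.mpr fun m _ => hr m
  · have : ∀ z : M, (∏ m ∈ s, r m) • z = 0 := by
      intro z
      have hz : z ∈ Submodule.span A (s : Set M) := by rw [hs]; trivial
      induction hz using Submodule.span_induction with
      | mem x hx =>
        obtain ⟨c, hc⟩ := Finset.dvd_prod_of_mem r hx
        rw [hc, mul_comm, mul_smul, hr', smul_zero]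
      | zero => simp
      | add x y _ _ hx hy => rw [smul_add, hx, hy, add_zero]
      | smul a x _ hx => rw [smul_comm, hx, smul_zero]
    have h0 := this (N.mkQ b)
    rw [← map_smul] at h0
    obtain ⟨a, ha⟩ := (Submodule.Quotient.mk_eq_zero N).mp h0
    exact ⟨a, (Algebra.smul_def _ b).symm.trans ha.symm⟩

/-- A finite morphism of affine schemes with trivial fibre over `y` is a closed immersion near `y`. -/
theorem exists_nhd_affine {X Y : Scheme.{u}} [IsAffine X] [IsAffine Y] (f : X ⟶ Y) [IsFinite f] (y : Y)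
    (hiso : IsIso (f.fiberToSpecResidueField y)) :
    ∃ U : Y.Opens, y ∈ U ∧ IsClosedImmersion (f ∣_ U) := by
  let φ := f.appTop
  let t : Spec (Y.residueField y) ⟶ Spec Γ(Y, ⊤) := Y.fromSpecResidueField y ≫ Y.isoSpec.hom
  let α : Γ(Y, ⊤) ⟶ Y.residueField y := Y.evaluation ⊤ y trivial
  have hα : Spec.map α = t := by
    simp only [α, t, Scheme.evaluation, Scheme.fromSpecResidueField, Spec.map_comp, Category.assoc]
    congr 1
    exact (Scheme.fromSpecStalk_toSpecΓ Y y).symm
  algebraize [φ.hom, α.hom]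
  have hfin : Module.Finite Γ(Y, ⊤) Γ(X, ⊤) := by
    rw [← RingHom.finite_algebraMap]
    exact (HasAffineProperty.iff_of_isAffine (P := @IsFinite)).mp ‹_› |>.2
  have hsq : IsPullback (pullback.fst f (Y.fromSpecResidueField y) ≫ X.isoSpec.hom)
      (pullback.snd f (Y.fromSpecResidueField y)) (Spec.map φ) (Spec.map α) := by
    refine IsPullback.of_iso (IsPullback.of_hasPullback f (Y.fromSpecResidueField y))
      (Iso.refl _) X.isoSpec (Iso.refl _) Y.isoSpec ?_ ?_ ?_ ?_
    · simp
    · simp
    · exact (Scheme.isoSpec_hom_naturality f).symm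
    · rw [hα]; simp [t]
  have : IsIso (pullback.snd (Spec.map φ) (Spec.map α)) := by
    have e : pullback.snd (Spec.map φ) (Spec.map α) =
        hsq.isoPullback.inv ≫ pullback.snd f (Y.fromSpecResidueField y) :=
      (IsPullback.isoPullback_inv_snd hsq).symm
    have : IsIso (pullback.snd f (Y.fromSpecResidueField y)) := hiso
    rw [e]; infer_instance
  have hsurj : Function.Surjective (algebraMap (Y.residueField y) ((Y.residueField y) ⊗[Γ(Y, ⊤)] Γ(X, ⊤))) := by
    have h1 : IsIso (Spec.map (CommRingCat.ofHom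
        (algebraMap (Y.residueField y) ((Y.residueField y) ⊗[Γ(Y, ⊤)] Γ(X, ⊤))))) := by
      have hfst : IsIso (pullback.fst (Spec.map (CommRingCat.ofHom (algebraMap Γ(Y, ⊤) (Y.residueField y))))
          (Spec.map (CommRingCat.ofHom (algebraMap Γ(Y, ⊤) Γ(X, ⊤))))) := by
        rw [← pullbackSymmetry_hom_comp_snd]
        have h2 : IsIso (pullback.snd (Spec.map (CommRingCat.ofHom (algebraMap Γ(Y, ⊤) Γ(X, ⊤))))
          (Spec.map (CommRingCat.ofHom (algebraMap Γ(Y, ⊤) (Y.residueField y))))) := ‹IsIso (pullback.snd (Spec.map φ) (Spec.map α))›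
        infer_instance
      have e : Spec.map (CommRingCat.ofHom
          (algebraMap (Y.residueField y) ((Y.residueField y) ⊗[Γ(Y, ⊤)] Γ(X, ⊤)))) =
          (pullbackSpecIso Γ(Y, ⊤) (Y.residueField y) Γ(X, ⊤)).inv ≫ pullback.fst _ _ :=
        (pullbackSpecIso_inv_fst Γ(Y, ⊤) (Y.residueField y) Γ(X, ⊤)).symm
      rw [e]; infer_instance
    obtain ⟨γ, hγ⟩ := Spec.map_surjective (inv (Spec.map (CommRingCat.ofHom
      (algebraMap (Y.residueField y) ((Y.residueField y) ⊗[Γ(Y, ⊤)] Γ(X, ⊤))))))
    intro z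
    refine ⟨γ.hom z, ?_⟩
    have h2 : γ ≫ CommRingCat.ofHom
        (algebraMap (Y.residueField y) ((Y.residueField y) ⊗[Γ(Y, ⊤)] Γ(X, ⊤))) = 𝟙 _ := by
      apply Spec.map_injective
      rw [Spec.map_comp, hγ, IsIso.hom_inv_id, Spec.map_id]
    exact ConcreteCategory.congr_hom h2 z
  obtain ⟨h, hh, hh'⟩ := exists_smul_mem_range hsurj
  refine ⟨Y.basicOpen h, ?_, ?_⟩
  · exact (Scheme.evaluation_ne_zero_iff_mem_basicOpen (U := ⊤) Y y trivial h).mp hh
  · have hU : IsAffineOpen (Y.basicOpen h) := (isAffineOpen_top Y).basicOpen h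
    have : IsAffine (Y.basicOpen h).toScheme := hU
    have : IsAffine (f ⁻¹ᵁ Y.basicOpen h).toScheme := hU.preimage f
    refine IsClosedImmersion.of_surjective_of_isAffine _ ?_
    rw [morphismRestrict_appTop]
    intro z
    let W := (Y.basicOpen h).ι ''ᵁ ⊤
    have hW : W = Y.basicOpen h := by simp [W]
    have hsurj' : Function.Surjective (f.app W).hom := by
      rw [hW]
      intro w
      have hpre : f ⁻¹ᵁ Y.basicOpen h = X.basicOpen (φ.hom h) := Scheme.preimage_basicOpen f h
      let r := X.presheaf.map (eqToHom hpre).op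
      obtain ⟨w', rfl⟩ : ∃ w', r.hom w' = w := (ConcreteCategory.bijective_of_isIso r).2 w
      have := (isAffineOpen_top X).isLocalization_basicOpen (φ.hom h)
      obtain ⟨⟨b, ⟨_, n, rfl⟩⟩, hb⟩ := IsLocalization.surj (Submonoid.powers (φ.hom h)) w'
      obtain ⟨a, ha⟩ := hh' b
      have := (isAffineOpen_top Y).isLocalization_basicOpen h
      let u := IsLocalization.mk' Γ(Y, Y.basicOpen h) a (⟨h ^ (n + 1), n + 1, rfl⟩ : Submonoid.powers h)
      refine ⟨u, ?_⟩
      have hnat : ∀ x, (f.app (Y.basicOpen h)).hom (algebraMap Γ(Y, ⊤) Γ(Y, Y.basicOpen h) x) =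
          r.hom (algebraMap Γ(X, ⊤) Γ(X, X.basicOpen (φ.hom h)) (φ.hom x)) := fun x => by
        have := ConcreteCategory.congr_hom (f.naturality (homOfLE (Y.basicOpen_le h)).op) x
        refine this.trans ?_
        show _ = r.hom ((X.presheaf.map (homOfLE (X.basicOpen_le (φ.hom h))).op).hom (φ.hom x))
        rw [← CommRingCat.comp_apply, ← CategoryTheory.Functor.map_comp]
        rfl
      have hunit : IsUnit ((f.app (Y.basicOpen h)).hom (algebraMap Γ(Y, ⊤) Γ(Y, Y.basicOpen h) (h ^ (n + 1)))) :=
        (IsLocalization.map_units Γ(Y, Y.basicOpen h) (⟨h ^ (n + 1), n + 1, rfl⟩ : Submonoid.powers h)).map _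
      apply hunit.mul_left_cancel
      rw [← map_mul, IsLocalization.mk'_spec'_mk, hnat, hnat, ← map_mul]
      congr 1
      rw [map_pow φ.hom, show φ.hom a = φ.hom h * b from ha.symm, map_mul, map_pow, pow_succ]
      simp only [map_pow] at hb
      rw [← hb]
      ring
    obtain ⟨w, hw⟩ := (ConcreteCategory.bijective_of_isIso
      (X.presheaf.map (eqToHom (image_morphismRestrict_preimage f (Y.basicOpen h) ⊤)).op)).2 z
    obtain ⟨v, hv⟩ := hsurj' w
    exact ⟨v, ((congrArg (X.presheaf.map _).hom hv).trans hw)⟩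

/-- Restriction to an open does not change pullbacks along morphisms into it. -/
theorem exists_isPullback_restrict {X Y T : Scheme.{u}} (f : X ⟶ Y) (V : Y.Opens) (t : T ⟶ V)
    (t' : T ⟶ Y) (ht : t ≫ V.ι = t') :
    ∃ g : pullback f t' ⟶ (f ⁻¹ᵁ V).toScheme, IsPullback g (pullback.snd f t') (f ∣_ V) t := by
  subst ht
  have h := (isPullback_morphismRestrict f V).flip
  refine ⟨h.lift (pullback.fst f (t ≫ V.ι)) (pullback.snd f (t ≫ V.ι) ≫ t)
    (by rw [Category.assoc, pullback.condition]), ?_⟩
  refine IsPullback.of_right ?_ (h.lift_snd _ _ _) h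
  rw [h.lift_fst]
  exact IsPullback.of_hasPullback f (t ≫ V.ι)

theorem isClosedImmersion_fiberToSpecResidueField {X Y : Scheme.{u}} (f : X ⟶ Y) (U : Y.Opens) (y : Y)
    (hy : y ∈ U) [IsClosedImmersion (f ∣_ U)] : IsClosedImmersion (f.fiberToSpecResidueField y) := by
  let t : Spec (Y.residueField y) ⟶ U := IsOpenImmersion.lift U.ι (Y.fromSpecResidueField y) (by
    rw [Scheme.range_fromSpecResidueField, Scheme.Opens.range_ι, Set.singleton_subset_iff]
    exact hy)
  obtain ⟨g, hg⟩ := exists_isPullback_restrict f U t (Y.fromSpecResidueField y) (IsOpenImmersion.lift_fac _ _ _)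
  exact MorphismProperty.of_isPullback hg ‹_›

theorem isIso_fiberToSpecResidueField_restrict {X Y : Scheme.{u}} (f : X ⟶ Y) (V : Y.Opens) (v : V.toScheme)
    (h : IsIso (f.fiberToSpecResidueField (V.ι v))) : IsIso ((f ∣_ V).fiberToSpecResidueField v) := by
  obtain ⟨g, hg⟩ := exists_isPullback_restrict f V (V.toScheme.fromSpecResidueField v)
    (Spec.map (V.ι.residueFieldMap v) ≫ Y.fromSpecResidueField (V.ι v))
    (Scheme.Hom.SpecMap_residueFieldMap_fromSpecResidueField _ _).symm
  let k : pullback f (Spec.map (V.ι.residueFieldMap v) ≫ Y.fromSpecResidueField (V.ι v)) ⟶ f.fiber (V.ι v) :=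
    pullback.lift (pullback.fst _ _) (pullback.snd _ _ ≫ Spec.map (V.ι.residueFieldMap v))
      (by rw [Category.assoc, pullback.condition])
  have hk : IsPullback k (pullback.snd f (Spec.map (V.ι.residueFieldMap v) ≫ Y.fromSpecResidueField (V.ι v)))
      (f.fiberToSpecResidueField (V.ι v)) (Spec.map (V.ι.residueFieldMap v)) := by
    refine IsPullback.of_right ?_ (pullback.lift_snd _ _ _) (IsPullback.of_hasPullback f (Y.fromSpecResidueField (V.ι v)))
    erw [pullback.lift_fst]
    exact IsPullback.of_hasPullback _ _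
  have h1 : MorphismProperty.isomorphisms Scheme.{u} (pullback.snd f _) :=
    MorphismProperty.of_isPullback hk h
  have h2 : IsIso (pullback.snd f (Spec.map (V.ι.residueFieldMap v) ≫ Y.fromSpecResidueField (V.ι v))) := h1
  show IsIso (pullback.snd (f ∣_ V) (V.toScheme.fromSpecResidueField v))
  rw [← IsPullback.isoPullback_inv_snd hg]
  infer_instance

/-- EGA IV 18.12.6: closed immersion near a point iff the fibre is trivial and `f` is universally
closed near the point. -/
theorem closedImmersion_nhd_iff {X Y : Scheme.{u}} (f : X ⟶ Y) [LocallyOfFiniteType f] (y : Y) :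
    (∃ U : Y.Opens, y ∈ U ∧ IsClosedImmersion (f ∣_ U)) ↔
      ((IsEmpty ↥(f.fiber y) ∨ IsIso (f.fiberToSpecResidueField y)) ∧
        ∃ V : Y.Opens, y ∈ V ∧ UniversallyClosed (f ∣_ V)) := by
  constructor
  · rintro ⟨U, hy, hU⟩
    refine ⟨?_, U, hy, inferInstance⟩
    have := isClosedImmersion_fiberToSpecResidueField f U y hy
    rcases isEmpty_or_nonempty ↥(f.fiber y) with he | ⟨⟨p⟩⟩
    · exact Or.inl he
    · have : Surjective (f.fiberToSpecResidueField y) := ⟨fun q => ⟨p, Subsingleton.elim (α := PrimeSpectrum _) _ _⟩⟩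
      exact Or.inr (isIso_of_isClosedImmersion_of_surjective _)
  · rintro ⟨hfib, V, hyV, hV⟩
    have hclosed : IsClosedMap (f ∣_ V) := Scheme.Hom.isClosedMap _
    rcases hfib with he | hiso
    · let C := Set.range (f ∣_ V)
      have hC : IsClosed C := by simpa [C, Set.image_univ] using hclosed _ isClosed_univ
      refine ⟨V.ι ''ᵁ ⟨Cᶜ, hC.isOpen_compl⟩, ⟨⟨y, hyV⟩, ?_, rfl⟩, ?_⟩
      · rintro ⟨p, hp⟩
        have hp' : f p.1 = y := by
          have := congrArg (fun q => V.ι q) hp
          simpa using this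
        exact he.false (hp' ▸ f.asFiber p.1)
      · have : IsEmpty (f ⁻¹ᵁ V.ι ''ᵁ ⟨Cᶜ, hC.isOpen_compl⟩ : X.Opens).toScheme := ⟨fun p => by
          obtain ⟨q, hq, hqp⟩ := p.2
          have hqp' : V.ι q = f p.1 := hqp
          refine hq ⟨⟨p.1, ?_⟩, ?_⟩
          · show f p.1 ∈ V
            rw [← hqp']; exact q.2
          · apply Subtype.ext
            rw [morphismRestrict_base_coe]
            exact hqp'.symm⟩
        infer_instance
    · have hne : Nonempty ↥(f.fiber y) :=
        ⟨(inv (f.fiberToSpecResidueField y)) (IsLocalRing.closedPoint (Y.residueField y))⟩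
      obtain ⟨p⟩ := hne
      have hsub : Subsingleton ↥(f.fiber y) := by
        refine ⟨fun a b => ?_⟩
        exact (Scheme.homeoOfIso (asIso (f.fiberToSpecResidueField y))).injective
          (Subsingleton.elim (α := PrimeSpectrum _) _ _)
      let x := f.fiberι y p
      have hx : f x = y := by
        have : x ∈ Set.range (f.fiberι y) := ⟨p, rfl⟩
        rwa [f.range_fiberι] at this
      have huniq : ∀ z, f z = y → z = x := fun z hz => by
        subst hz
        show z = f.fiberι (f z) p
        rw [Subsingleton.elim p (f.asFiber z), Scheme.Hom.fiberι_asFiber]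
      obtain ⟨V', hV', hyV', hV'V⟩ := exists_isAffineOpen_mem_and_subset hyV
      obtain ⟨U, hU, hxU, hUV'⟩ := exists_isAffineOpen_mem_and_subset (x := x) (U := f ⁻¹ᵁ V')
        (show f x ∈ V' by rwa [hx])
      have hV'closed : UniversallyClosed (f ∣_ V') := by
        have hle : V' ≤ V := hV'V
        have := IsZariskiLocalAtTarget.restrict hV (V.ι ⁻¹ᵁ V')
        rw [MorphismProperty.arrow_mk_iso_iff @UniversallyClosed
          (morphismRestrictRestrict f V (V.ι ⁻¹ᵁ V'))] at this
        have e : V.ι ''ᵁ V.ι ⁻¹ᵁ V' = V' := by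
          rw [Scheme.Hom.image_preimage_eq_opensRange_inf, Scheme.Opens.opensRange_ι]
          exact inf_eq_right.mpr hle
        rw [MorphismProperty.arrow_mk_iso_iff @UniversallyClosed (morphismRestrictEq f e)] at this
        exact this
      let C : Set V'.toScheme := (f ∣_ V') '' (((f ⁻¹ᵁ V').ι ⁻¹ᵁ U : (f ⁻¹ᵁ V').toScheme.Opens) : Set _)ᶜ
      have hC : IsClosed C := (Scheme.Hom.isClosedMap _) _ ((f ⁻¹ᵁ V').ι ⁻¹ᵁ U).2.isClosed_compl
      let O : Y.Opens := V'.ι ''ᵁ ⟨Cᶜ, hC.isOpen_compl⟩
      have hyO : y ∈ O := by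
        refine ⟨⟨y, hyV'⟩, ?_, rfl⟩
        rintro ⟨z, hz, hzy⟩
        have hz' : f z.1 = y := by
          rw [← morphismRestrict_base_coe f V' z, hzy]
        exact hz (show z.1 ∈ U from huniq _ hz' ▸ hxU)
      obtain ⟨g, hgO, hyg⟩ := hV'.exists_basicOpen_le ⟨y, hyO⟩ hyV'
      have hWV' : Y.basicOpen g ≤ V' := Y.basicOpen_le g
      have hpre : f ⁻¹ᵁ Y.basicOpen g = X.basicOpen (f.appLE V' U hUV' g) := by
        rw [Scheme.basicOpen_appLE]
        refine (inf_eq_right.mpr fun z hz => ?_).symm
        by_contra hzU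
        obtain ⟨q, hq, hqz⟩ := hgO hz
        have hqz' : V'.ι q = f z := hqz
        refine hq ⟨⟨z, hWV' hz⟩, hzU, ?_⟩
        apply Subtype.ext
        rw [morphismRestrict_base_coe]
        exact hqz'.symm
      let W := Y.basicOpen g
      have hWaff : IsAffineOpen W := hV'.basicOpen g
      have hpreaff : IsAffineOpen (f ⁻¹ᵁ W) := hpre ▸ hU.basicOpen _
      have : IsAffine W.toScheme := hWaff
      have : IsAffine (f ⁻¹ᵁ W).toScheme := hpreaff
      have hWclosed : UniversallyClosed (f ∣_ W) := by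
        have := IsZariskiLocalAtTarget.restrict hV'closed (V'.ι ⁻¹ᵁ W)
        rw [MorphismProperty.arrow_mk_iso_iff @UniversallyClosed
          (morphismRestrictRestrict f V' (V'.ι ⁻¹ᵁ W))] at this
        have e : V'.ι ''ᵁ V'.ι ⁻¹ᵁ W = W := by
          rw [Scheme.Hom.image_preimage_eq_opensRange_inf, Scheme.Opens.opensRange_ι]
          exact inf_eq_right.mpr hWV'
        rw [MorphismProperty.arrow_mk_iso_iff @UniversallyClosed (morphismRestrictEq f e)] at this
        exact this
      have hfin : IsFinite (f ∣_ W) := by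
        rw [IsFinite.iff_isIntegralHom_and_locallyOfFiniteType]
        exact ⟨IsIntegralHom.iff_universallyClosed_and_isAffineHom.mpr ⟨hWclosed, inferInstance⟩,
          inferInstance⟩
      obtain ⟨O', hO', hO'imm⟩ := exists_nhd_affine (f ∣_ W) ⟨y, hyg⟩
        (isIso_fiberToSpecResidueField_restrict f W ⟨y, hyg⟩ hiso)
      refine ⟨W.ι ''ᵁ O', ⟨⟨y, hyg⟩, hO', rfl⟩, ?_⟩
      exact (MorphismProperty.arrow_mk_iso_iff @IsClosedImmersion
        (morphismRestrictRestrict f W O')).mp hO'imm

end Groth.Agent.H8Props.ClosedImmersionNhd
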