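import Groth.Agent.H8Props.NilThickRing
import Groth.Agent.H16Derived.KFlat.PerfNoeth
import Groth.Agent.H16Derived.KFlat.LpullLocal
import Groth.Agent.H16Derived.KFlat.PerfTilde
import Groth.Agent.H17.KerStalk
import Groth.Prelude.Def_MoreMor

/-!
# Stalks of complexes along nilpotent closed immersions
-/

set_option autoImplicit false
set_option linter.style.haveILetI false
set_option backward.isDefEq.respectTransparency false

universe u

open CategoryTheory CategoryTheory.Limits AlgebraicGeometry TopologicalSpace TensorProduct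

attribute [local instance] HasDerivedCategory.standard
attribute [local instance] Groth.Agent.H06Mod.stalkAlgebra

namespace Groth.Agent.H8Props.NilThick

open H16Derived.KFlat H16Derived.KFlat.Stalk H06Mod

variable {X Y : Scheme.{u}}

/-- The complex of stalks. -/
noncomputable abbrev stalkCx (x : X) :
    CochainComplex X.Modules ℤ ⥤ DRing.Cx (X.presheaf.stalk x) :=
  (DerSch.stalkFunctor X x).mapHomologicalComplex (ComplexShape.up ℤ)

/-- Pullback of complexes. -/
noncomputable abbrev pullCx (f : X ⟶ Y) : CochainComplex Y.Modules ℤ ⥤ CochainComplex X.Modules ℤ :=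
  (Scheme.Modules.pullback f).mapHomologicalComplex (ComplexShape.up ℤ)

theorem kf_stalk {P : CochainComplex X.Modules ℤ} (hP : kflat X P) (x : X) :
    H4DR.TorAmp.KF (X.presheaf.stalk x) ((stalkCx x).obj P) :=
  (H25DTen.isKFlat_iff _).1 ((isKFlat_iff_stalk P).1 hP x)

theorem exactAt_iff_stalks (P : CochainComplex X.Modules ℤ) (i : ℤ) :
    P.ExactAt i ↔ ∀ x : X, ((stalkCx x).obj P).ExactAt i := by
  simp only [HomologicalComplex.exactAt_iff]
  exact exact_iff _

/-- The homology of the stalks. -/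
noncomputable def stalkHomologyIso (P : CochainComplex X.Modules ℤ) (i : ℤ) (x : X) :
    ((stalkCx x).obj P).homology i ≅ (DerSch.stalkFunctor X x).obj (P.homology i) :=
  (P.sc i).mapHomologyIso (DerSch.stalkFunctor X x)

/-- Stalks of the pullback of a complex. -/
noncomputable def stalkPullIso (f : X ⟶ Y) (P : CochainComplex Y.Modules ℤ) (x : X) :
    RingRelPC.extCx (f.stalkMap x).hom ((stalkCx (f.base x)).obj P) ≅
      (stalkCx x).obj ((pullCx f).obj P) :=
  HomologicalComplex.Hom.isoOfComponents (fun i => (pullStalkEquiv f (P.X i) x).toModuleIso)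
    fun i j _ => by
      refine ModuleCat.hom_ext (LinearMap.ext fun t => ?_)
      exact (pullStalkLin_naturality f x (P.d i j) t).symm

/-- A surjective closed immersion with nilpotent kernels on stalks. -/
structure Nil (i : X ⟶ Y) : Prop where
  closed : IsClosedImmersion i
  surj : Function.Surjective i.base
  nil : ∀ x : X, IsNilpotent (RingHom.ker (i.stalkMap x).hom)

theorem Nil.surjective_stalkMap {i : X ⟶ Y} (hi : Nil i) (x : X) :
    Function.Surjective (i.stalkMap x).hom := by
  haveI := hi.closed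
  exact i.stalkMap_surjective x

theorem isNilpotent_ker_congr {A B A' B' : CommRingCat.{u}} {f : A ⟶ B} {f' : A' ⟶ B'}
    (e : Arrow.mk f ≅ Arrow.mk f') (h : IsNilpotent (RingHom.ker f.hom)) :
    IsNilpotent (RingHom.ker f'.hom) := by
  obtain ⟨n, hn⟩ := h
  refine ⟨n, eq_bot_iff.2 ?_⟩
  have hle : RingHom.ker f'.hom ≤ (RingHom.ker f.hom).map e.hom.left.hom := fun a ha => by
    have h1 : f.hom (e.inv.left.hom a) = e.inv.right.hom (f'.hom a) := congr($(e.inv.w).hom a)
    have h2 : e.hom.left.hom (e.inv.left.hom a) = a := by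
      have := congr(CommRingCat.Hom.hom $(congrArg CommaMorphism.left e.inv_hom_id) a)
      exact this
    rw [RingHom.mem_ker] at ha
    rw [ha, map_zero] at h1
    rw [← h2]
    exact Ideal.mem_map_of_mem _ h1
  refine (Ideal.pow_right_mono hle n).trans ?_
  rw [← Ideal.map_pow, hn, Submodule.zero_eq_bot, Ideal.map_bot]

theorem Nil.restrict {i : X ⟶ Y} (hi : Nil i) (W : Y.Opens) : Nil (i ∣_ W) where
  closed := by
    haveI := hi.closed
    infer_instance
  surj := fun w => by
    obtain ⟨x, hx⟩ := hi.surj w.1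
    refine ⟨⟨x, show i.base x ∈ W from hx ▸ w.2⟩, Subtype.ext ?_⟩
    exact (congr($(morphismRestrict_ι i W).base ⟨x, show i.base x ∈ W from hx ▸ w.2⟩)).trans hx
  nil := fun z => isNilpotent_ker_congr (morphismRestrictStalkMap i W z).symm (hi.nil z.1)

theorem nil_of_thickening {i : X ⟶ Y} (hi : MoreMor.IsFiniteOrderThickening i) : Nil i := by
  obtain ⟨hth, n, hn⟩ := hi
  haveI := hth.1
  refine ⟨hth.1, ?_, fun x => ⟨n, ?_⟩⟩
  · exact hth.2.surj
  · obtain ⟨V, hV, hxV, -⟩ := exists_isAffineOpen_mem_and_subset (x := i.base x) (U := ⊤) trivial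
    rw [H17.ker_stalkMap_eq_map i hV x hxV, ← Ideal.map_pow]
    have h : (RingHom.ker (i.app V).hom) ^ n = ⊥ := by
      have h1 : (i.ker ^ n).ideal ⟨V, hV⟩ = ⊥ := by rw [hn]; rfl
      rw [Scheme.IdealSheafData.ideal_pow, Pi.pow_apply, Scheme.Hom.ker_apply] at h1
      exact h1
    rw [h, Ideal.map_bot]
    rfl

section Stalk

variable {i : X ⟶ Y}

theorem Nil.exactAt_of_pull (hi : Nil i) {P : CochainComplex Y.Modules ℤ} (hP : kflat Y P) (b : ℤ)
    (h : ∀ j, b < j → ((pullCx i).obj P).ExactAt j) (j : ℤ) (hj : b < j) : P.ExactAt j := by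
  rw [exactAt_iff_stalks]
  intro y
  obtain ⟨x, rfl⟩ := hi.surj y
  exact exactAt_of_extCx (hi.surjective_stalkMap x) (hi.nil x) (kf_stalk hP _) b
    (fun l hl => ((exactAt_iff_stalks _ l).1 (h l hl) x).of_iso (stalkPullIso i P x).symm) j hj

theorem exactAt_stalk_pull (i : X ⟶ Y) {P : CochainComplex Y.Modules ℤ} (hP : kflat Y P) (b : ℤ)
    (x : X) (h : ∀ j, b < j → ((stalkCx (i.base x)).obj P).ExactAt j) (j : ℤ) (hj : b < j) :
    ((stalkCx x).obj ((pullCx i).obj P)).ExactAt j :=
  (exactAt_extCx (i.stalkMap x).hom (kf_stalk hP _) b h j hj).of_iso (stalkPullIso i P x)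

theorem Nil.finite_stalk_homology (hi : Nil i) {P : CochainComplex Y.Modules ℤ} (hP : kflat Y P)
    (b : ℤ) (h : ∀ j, b < j → ((pullCx i).obj P).ExactAt j)
    (hft : CohB1.IsFT (((pullCx i).obj P).homology b)) (x : X) :
    Module.Finite (Y.presheaf.stalk (i.base x)) (((stalkCx (i.base x)).obj P).homology b) := by
  haveI := H06Mod.finite_stalk _ hft x
  refine finite_homology_top (hi.surjective_stalkMap x) (hi.nil x) (kf_stalk hP _) b
    (fun l hl => ((exactAt_iff_stalks _ l).1 (h l hl) x).of_iso (stalkPullIso i P x).symm) ?_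
  haveI : Module.Finite (X.presheaf.stalk x)
      ((DerSch.stalkFunctor X x).obj (((pullCx i).obj P).homology b)) :=
    H06Mod.finite_stalk _ hft x
  exact Module.Finite.equiv ((stalkHomologyIso ((pullCx i).obj P) b x).symm ≪≫
    (HomologicalComplex.homologyFunctor _ _ b).mapIso (stalkPullIso i P x).symm).toLinearEquiv

end Stalk

section Restrict

variable (j : X ⟶ Y) [IsOpenImmersion j]

/-- The stalk of a restriction. -/
noncomputable def rsE (M : Y.Modules) (z : X) :
    (M.restrict j).presheaf.stalk z ≃+ M.presheaf.stalk (j z) :=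
  ((Scheme.Modules.restrictStalkNatIso j z).app M).addCommGroupIsoToAddEquiv

theorem rsE_germ (M : Y.Modules) (z : X) (W : X.Opens) (hz : z ∈ W) (m : Γ(M.restrict j, W)) :
    rsE j M z ((M.restrict j).presheaf.germ W z hz m) =
      M.presheaf.germ (j ''ᵁ W) (j z) ⟨z, hz, rfl⟩ m :=
  congr($(Scheme.Modules.germ_restrictStalkNatIso_hom_app j z M (U := W) hz) m)

theorem rsE_smul (M : Y.Modules) (z : X) (r : Y.presheaf.stalk (j z))
    (v : (M.restrict j).presheaf.stalk z) :
    rsE j M z ((j.stalkMap z).hom r • v) = r • rsE j M z v := by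
  let σ : Y.presheaf.stalk (j z) ≃+* X.presheaf.stalk z :=
    RingEquiv.ofBijective (j.stalkMap z).hom (ConcreteCategory.bijective_of_isIso (j.stalkMap z))
  obtain ⟨a, rfl⟩ : ∃ a, σ.symm a = r := ⟨σ r, σ.symm_apply_apply r⟩
  rw [show (j.stalkMap z).hom (σ.symm a) = a from σ.apply_symm_apply a]
  obtain ⟨W, hzW, r, m, rfl, rfl⟩ := exists_germ_pair (M.restrict j) z a v
  rw [← germ_smul, rsE_germ, rsE_germ]
  let mm : Γ(M, j ''ᵁ W) := m
  rw [show (r • m : Γ(M.restrict j, W)) = ((j.appIso W).inv r • mm : Γ(M, j ''ᵁ W)) from rfl, germ_smul]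
  congr 1
  refine σ.injective ?_
  rw [σ.apply_symm_apply]
  show j.stalkMap z (Y.presheaf.germ (j ''ᵁ W) (j z) ⟨z, hzW, rfl⟩ ((j.appIso W).inv r)) = _
  rw [Scheme.Hom.germ_stalkMap_apply]
  have h1 := congr($(j.appIso_inv_app W) r)
  rw [ConcreteCategory.comp_apply] at h1
  rw [h1, TopCat.Presheaf.germ_res_apply]

theorem rsE_map {M N : Y.Modules} (φ : M ⟶ N) (z : X) (v : (M.restrict j).presheaf.stalk z) :
    rsE j N z ((DerSch.stalkFunctor X z).map ((Scheme.Modules.restrictFunctor j).map φ) v) =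
      (DerSch.stalkFunctor Y (j z)).map φ (rsE j M z v) := by
  obtain ⟨W, hzW, m, rfl⟩ := (M.restrict j).presheaf.exists_germ_eq v
  rw [DerSch.stalkFunctor_map_germ, rsE_germ, rsE_germ, DerSch.stalkFunctor_map_germ]
  rfl

end Restrict

end Groth.Agent.H8Props.NilThick
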