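import Groth.Prelude.Def_DualLC
import Groth.Agent.H05EGA4.FlatSk
import Groth.Agent.H05EGA4.FormalCatenary
import Groth.Agent.H4Depth.BaseDepth
import Groth.Agent.H4LC.FaltingsApps
import Groth.Agent.H02CA.SkDescent
import Groth.Agent.H05EGA4.SerreCond
import Groth.Agent.H02CA.CompletionFlat
import Groth.Agent.S9174

/-!
# The cutoff invariant along a flat local homomorphism with equidimensional fibres over primes
-/

set_option autoImplicit false
set_option linter.style.haveILetI false
set_option backward.isDefEq.respectTransparency false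
universe u
open IsLocalRing LocCoh
open scoped TensorProduct

namespace Groth.Agent.H8Props.CutoffCpl

open Groth.Agent.H05EGA4

/-- In a catenary local ring the height of `q` over `p` is the difference of coheights. -/
theorem exists_height_Ici_add {R : Type u} [CommRing R] [IsNoetherianRing R] [IsLocalRing R]
    (hc : CAlg.IsCatenary R) {p q : PrimeSpectrum R} (h : p ≤ q) :
    ∃ k a b : ℕ, Order.height (⟨q, h⟩ : Set.Ici p) = k ∧ ringKrullDim (R ⧸ p.asIdeal) = a ∧
      ringKrullDim (R ⧸ q.asIdeal) = b ∧ k + b = a := by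
  haveI : IsLocalRing (R ⧸ p.asIdeal) := .of_surjective' _ Ideal.Quotient.mk_surjective
  haveI : (q.asIdeal.map (Ideal.Quotient.mk p.asIdeal)).IsPrime :=
    Ideal.isPrime_map_quotientMk_of_isPrime h
  have e := height_add_dim_eq_of_isEquidim
    (isCatenary_of_surjective _ Ideal.Quotient.mk_surjective hc) (isEquidim_of_isDomain (R ⧸ p.asIdeal))
    (q.asIdeal.map (Ideal.Quotient.mk p.asIdeal))
  obtain ⟨a, ha⟩ := exists_nat_dim_quotient_eq p.asIdeal
  obtain ⟨b, hb⟩ := exists_nat_dim_quotient_eq q.asIdeal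
  rw [dimQuotQuot (by exact h), H4LC.height_map_mk_eq_Ici h, ha, hb] at e
  generalize Order.height (⟨q, h⟩ : Set.Ici p) = k at e
  induction k using ENat.recTopCoe with
  | top =>
    have e' : ((⊤ + (b : ℕ∞) : ℕ∞) : WithBot ℕ∞) = ((a : ℕ∞) : WithBot ℕ∞) := by
      rw [WithBot.coe_add]; exact e
    rw [top_add] at e'
    exact absurd (WithBot.coe_inj.mp e') (ENat.top_ne_coe a)
  | coe k => exact ⟨k, a, b, rfl, ha, hb, by exact_mod_cast e⟩

variable {A : Type u} [CommRing A] [IsLocalRing A] [IsNoetherianRing A]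
variable {B : Type u} [CommRing B] [IsLocalRing B] [IsNoetherianRing B] [Algebra A B] [Module.Flat A B]

omit [IsLocalRing A] [IsNoetherianRing A] [IsLocalRing B] [Module.Flat A B] in
theorem ringKrullDim_fibLocRing (P : Ideal B) [P.IsPrime] :
    ringKrullDim (EGA4.FibLocRing A B P) =
      ((P.map (Ideal.Quotient.mk ((P.comap (algebraMap A B)).map (algebraMap A B)))).height : WithBot ℕ∞) := by
  rw [← ringKrullDim_localization_quotient (P := (P.comap (algebraMap A B)).map (algebraMap A B))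
    Ideal.map_comap_le]
  exact ringKrullDim_eq_of_ringEquiv (Ideal.quotEquivOfEq (by
    rw [Ideal.map_map, ← IsScalarTower.algebraMap_eq]))

/-- The depth of a base change at a prime. -/
theorem depth_eq_add (M : Type u) [AddCommGroup M] [Module A M] [Module.Finite A M]
    (M' : Type u) [AddCommGroup M'] [Module B M'] (e : (B ⊗[A] M) ≃ₗ[B] M')
    (P : Ideal B) [P.IsPrime] :
    ∃ (_ : IsLocalRing (EGA4.FibLocRing A B P)),
      depth (Localization.AtPrime P) (LocalizedModule P.primeCompl M') =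
        depth (Localization.AtPrime (P.comap (algebraMap A B)))
            (LocalizedModule (P.comap (algebraMap A B)).primeCompl M) +
          depth (EGA4.FibLocRing A B P) (EGA4.FibLocRing A B P) := by
  obtain ⟨e0⟩ := H4Depth.exists_localizedModule_self_equiv P
  have hsupp : (⟨P, inferInstance⟩ : PrimeSpectrum B) ∈ Module.support B B :=
    Module.mem_support_iff.mpr e0.toEquiv.nontrivial
  obtain ⟨h1, -, h3⟩ := FlatSk.formulas (A := A) (B := B) B M P hsupp
  haveI : Nontrivial (EGA4.FibLocRing A B P) := (H4Depth.fibLocModSelf (A := A) P).toEquiv.symm.nontrivial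
  refine ⟨inferInstance, ?_⟩
  rw [H4Depth.depth_congr (H4Depth.fibLocModSelf (A := A) P)] at h1
  rw [← H8Props.FlatDepth.depth_eq_of_surjective (R := Localization.AtPrime P)
    (S := EGA4.FibLocRing A B P) (M := EGA4.FibLocRing A B P) Ideal.Quotient.mk_surjective] at h1
  let eL : LocalizedModule P.primeCompl (B ⊗[A] M) ≃ₗ[Localization.AtPrime P] LocalizedModule P.primeCompl M' :=
    (LocalizedModule.equivTensorProduct P.primeCompl _) ≪≫ₗ
      (LinearEquiv.baseChange B (Localization.AtPrime P) _ _ e) ≪≫ₗ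
      (LocalizedModule.equivTensorProduct P.primeCompl _).symm
  refine ((H4Depth.depth_congr (R := Localization.AtPrime P) (M := LocalizedModule P.primeCompl (B ⊗[A] M))
    (M' := LocalizedModule P.primeCompl M') eL).symm).trans ?_
  exact_mod_cast h1

variable (hdim : ∀ (p : Ideal A) [p.IsPrime], ∀ P ∈ (p.map (algebraMap A B)).minimalPrimes,
  ringKrullDim (B ⧸ P) = ringKrullDim (A ⧸ p))
variable (hdim' : ∀ (p : Ideal A) [p.IsPrime],
  ringKrullDim (B ⧸ p.map (algebraMap A B)) = ringKrullDim (A ⧸ p))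

omit [IsNoetherianRing B] [IsNoetherianRing A] [IsLocalRing A] [IsLocalRing B] in
theorem comap_eq_of_minimalPrimes {q : Ideal A} [q.IsPrime] {Q : Ideal B}
    (hQ : Q ∈ (q.map (algebraMap A B)).minimalPrimes) : Q.comap (algebraMap A B) = q := by
  haveI := hQ.1.1
  haveI : Q.LiesOver (Q.comap (algebraMap A B)) := ⟨rfl⟩
  obtain ⟨Q0, hQ0, hQ0p, hQ0q⟩ := Ideal.exists_ideal_le_liesOver_of_le (p := q)
    (q := Q.comap (algebraMap A B)) Q (Ideal.map_le_iff_le_comap.mp hQ.1.2)
  have hle := hQ.2 ⟨hQ0p, Ideal.map_le_iff_le_comap.mpr hQ0q.over.le⟩ hQ0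
  rw [show Q = Q0 from le_antisymm hle hQ0]
  exact hQ0q.over.symm

variable (M : Type u) [AddCommGroup M] [Module A M] [Module.Finite A M]
variable (M' : Type u) [AddCommGroup M'] [Module B M'] (e : (B ⊗[A] M) ≃ₗ[B] M')

include hdim e in
theorem cutoff_le [IsLocalHom (algebraMap A B)] (hA : CAlg.IsCatenary A) (hB : CAlg.IsCatenary B)
    (I : Ideal A) : Dual2.cutoff B (I.map (algebraMap A B)) M' ≤ Dual2.cutoff A I M := by
  refine le_iInf fun p => le_iInf fun q => le_iInf fun hpq => le_iInf fun hIp => le_iInf fun hIq => ?_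
  have hne : q.asIdeal.map (algebraMap A B) ≠ ⊤ := fun h => by
    have hle := Ideal.map_mono (f := algebraMap A B) (le_maximalIdeal q.isPrime.ne_top)
    rw [h] at hle
    exact (maximalIdeal.isMaximal B).ne_top (top_le_iff.mp (hle.trans (map_maximalIdeal_le _)))
  obtain ⟨Q, hQ⟩ := Ideal.nonempty_minimalPrimes hne
  haveI := hQ.1.1
  haveI : Q.LiesOver q.asIdeal := ⟨(comap_eq_of_minimalPrimes hQ).symm⟩
  obtain ⟨P0, hP0, hP0p, hP0q⟩ := Ideal.exists_ideal_le_liesOver_of_le (p := p.asIdeal)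
    (q := q.asIdeal) Q hpq
  obtain ⟨P, hP, hPP0⟩ := Ideal.exists_minimalPrimes_le
    (show p.asIdeal.map (algebraMap A B) ≤ P0 from Ideal.map_le_iff_le_comap.mpr hP0q.over.le)
  haveI := hP.1.1
  have hc := comap_eq_of_minimalPrimes hP
  let P' : PrimeSpectrum B := ⟨P, inferInstance⟩
  let Q' : PrimeSpectrum B := ⟨Q, inferInstance⟩
  have hPQ : P' ≤ Q' := hPP0.trans hP0
  refine iInf_le_of_le P' (iInf_le_of_le Q' (iInf_le_of_le hPQ (iInf_le_of_le
    (fun h => hIp ((Ideal.map_le_iff_le_comap.mp h).trans_eq hc))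
    (iInf_le_of_le ((Ideal.map_mono hIq).trans hQ.1.2) ?_))))
  obtain ⟨k, a, b, hk, ha, hb, hkab⟩ := exists_height_Ici_add hA hpq
  obtain ⟨k', a', b', hk', ha', hb', hkab'⟩ := exists_height_Ici_add hB hPQ
  rw [hdim p.asIdeal P hP, ha] at ha'
  rw [hdim q.asIdeal Q hQ, hb] at hb'
  obtain rfl : a = a' := by exact_mod_cast ha'
  obtain rfl : b = b' := by exact_mod_cast hb'
  obtain rfl : k = k' := by omega
  obtain ⟨hloc, hdepth⟩ := depth_eq_add M M' e P
  obtain ⟨pI, hpI⟩ := p
  obtain rfl : P.comap (algebraMap A B) = pI := hc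
  have h0 : depth (EGA4.FibLocRing A B P) (EGA4.FibLocRing A B P) = 0 := by
    have hmk : (P.map (Ideal.Quotient.mk ((P.comap (algebraMap A B)).map (algebraMap A B)))).height = 0 := by
      haveI := Ideal.isPrime_map_quotientMk_of_isPrime hP.1.2
      rw [Ideal.height_eq_zero_iff]
      refine ⟨⟨inferInstance, bot_le⟩, fun J hJ hJP => ?_⟩
      haveI := hJ.1
      rw [Ideal.map_le_iff_le_comap]
      refine hP.2 ⟨inferInstance, ?_⟩ ?_
      · exact (Ideal.mk_ker).ge.trans (Ideal.comap_mono bot_le)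
      · refine (Ideal.comap_mono hJP).trans ?_
        rw [Ideal.comap_map_of_surjective' _ Ideal.Quotient.mk_surjective, Ideal.mk_ker]
        exact sup_le le_rfl hP.1.2
    have h := H8Props.FlatDepth.depth_le_dim (EGA4.FibLocRing A B P)
    rw [ringKrullDim_fibLocRing, hmk] at h
    exact nonpos_iff_eq_zero.mp (WithBot.coe_le_coe.mp h)
  rw [hk', hk, hdepth, h0, add_zero]

include hdim hdim' e in
theorem le_cutoff (hA : CAlg.IsCatenary A) (hB : CAlg.IsCatenary B) (n : ℕ)
    (hSn : ∀ (p : Ideal A) [p.IsPrime], LocCoh.HasSk n (p.Fiber B) (p.Fiber B)) (I : Ideal A) :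
    min ((n : ℕ∞) + 1) (Dual2.cutoff A I M) ≤ Dual2.cutoff B (I.map (algebraMap A B)) M' := by
  refine le_iInf fun P => le_iInf fun Q => le_iInf fun hPQ => le_iInf fun hIP => le_iInf fun hIQ => ?_
  let p : PrimeSpectrum A := PrimeSpectrum.comap (algebraMap A B) P
  let q : PrimeSpectrum A := PrimeSpectrum.comap (algebraMap A B) Q
  have hpq : p ≤ q := Ideal.comap_mono hPQ
  obtain ⟨P1, hP1, hP1P⟩ := Ideal.exists_minimalPrimes_le
    (show p.asIdeal.map (algebraMap A B) ≤ P.asIdeal from Ideal.map_comap_le)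
  haveI := hP1.1.1
  let P1' : PrimeSpectrum B := ⟨P1, inferInstance⟩
  obtain ⟨k, a, b, hk, ha, hb, hkab⟩ := exists_height_Ici_add hA hpq
  obtain ⟨k2, c, b', hk2, hc, hb', hkab2⟩ := exists_height_Ici_add hB hPQ
  obtain ⟨k1, a', c', hk1, ha', hc', hkab1⟩ := exists_height_Ici_add hB (p := P1') (q := P) hP1P
  rw [hdim p.asIdeal P1 hP1, ha] at ha'
  rw [hc] at hc'
  obtain rfl : a = a' := by exact_mod_cast ha'
  obtain rfl : c = c' := by exact_mod_cast hc'
  have hbb : b' ≤ b := by
    have h := ringKrullDim_le_of_surjective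
      (Ideal.Quotient.factor (show q.asIdeal.map (algebraMap A B) ≤ Q.asIdeal from Ideal.map_comap_le))
      (Ideal.Quotient.factor_surjective _)
    rw [hdim' q.asIdeal, hb, hb'] at h
    exact_mod_cast h
  have hk21 : 1 ≤ k2 := by
    have hlt : (⟨P, Set.mem_Ici.mpr le_rfl⟩ : Set.Ici P) < ⟨Q, hPQ⟩ := by
      refine lt_of_le_of_ne hPQ fun h => hIP ?_
      rw [show P = Q from congrArg Subtype.val h]
      exact hIQ
    have h := (le_add_self.trans (Order.height_add_one_le hlt))
    rw [hk2] at h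
    exact_mod_cast h
  obtain ⟨hloc, hdepth⟩ := depth_eq_add M M' e P.asIdeal
  have hfib : min (n : ℕ∞) k1 ≤ depth (EGA4.FibLocRing A B P.asIdeal) (EGA4.FibLocRing A B P.asIdeal) := by
    let Qf := PrimeSpectrum.preimageEquivFiber A B p ⟨P, rfl⟩
    have hQf : Qf.asIdeal.comap (Algebra.TensorProduct.includeRight : B →ₐ[A] p.asIdeal.Fiber B).toRingHom = P.asIdeal :=
      congrArg (fun x => PrimeSpectrum.asIdeal x.1)
        ((PrimeSpectrum.preimageEquivFiber A B p).symm_apply_apply ⟨P, rfl⟩)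
    obtain ⟨ε⟩ := S9174.nonempty_fibLocRing_equiv p Qf P hQf rfl
    haveI : IsNoetherianRing (p.asIdeal.Fiber B) :=
      H02CA.isNoetherianRing_tensor_of_essFiniteType _ _ _
    have hS := (H02CA.SkDescent.hasSk_self_iff n).mp (hSn p.asIdeal) Qf.asIdeal
    rw [ringKrullDim_eq_of_ringEquiv ε, H05EGA4.depth_eq_of_ringEquiv ε] at hS
    have hd : ((k1 : ℕ∞) : WithBot ℕ∞) ≤ ringKrullDim (EGA4.FibLocRing A B P.asIdeal) := by
      rw [← hk1, ← H4LC.height_map_mk_eq_Ici (p := P1') (q := P) hP1P,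
        ← ringKrullDim_localization_quotient (P := P1) (Q := P.asIdeal) hP1P]
      exact ringKrullDim_le_of_surjective (Ideal.Quotient.factor (Ideal.map_le_iff_le_comap.mpr
        (fun x hx => by
          rw [Ideal.mem_comap, IsScalarTower.algebraMap_apply A B (Localization.AtPrime P.asIdeal)]
          exact Ideal.mem_map_of_mem _ (hP1.1.2 (Ideal.mem_map_of_mem _ hx)))))
        (Ideal.Quotient.factor_surjective _)
    have h := (min_le_min (le_refl (n : WithBot ℕ∞)) hd).trans hS
    exact WithBot.coe_le_coe.mp (by rw [WithBot.coe_min]; exact h)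
  rw [hdepth, hk2]
  generalize hδ : depth (EGA4.FibLocRing A B P.asIdeal) (EGA4.FibLocRing A B P.asIdeal) = δ at hfib
  rcases le_total n k1 with hnk | hnk
  · refine (min_le_left _ _).trans ?_
    rw [min_eq_left (by exact_mod_cast hnk)] at hfib
    calc (n : ℕ∞) + 1 ≤ δ + (k2 : ℕ∞) := add_le_add hfib (by exact_mod_cast hk21)
      _ ≤ _ := add_le_add_left le_add_self _
  · refine (min_le_right _ _).trans ((iInf_le_of_le p (iInf_le_of_le q (iInf_le_of_le hpq
      (iInf_le_of_le (fun h => hIP (Ideal.map_le_iff_le_comap.mpr h))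
        (iInf_le_of_le (Ideal.map_le_iff_le_comap.mp hIQ) le_rfl))))).trans ?_)
    rw [min_eq_right (by exact_mod_cast hnk)] at hfib
    rw [hk, add_assoc]
    refine add_le_add le_rfl (le_trans ?_ (add_le_add hfib le_rfl))
    exact_mod_cast (show k ≤ k1 + k2 by omega)

end Groth.Agent.H8Props.CutoffCpl
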