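import Mathlib
import Groth.Prelude.Def_MoreMor

/-!
# Finite type descends along thickenings with finitely generated ideal (helper8)
-/

set_option autoImplicit false
universe u
open CategoryTheory AlgebraicGeometry

namespace Groth.Agent.H8Props.ThickeningFiniteType

theorem finiteType_of_surjective_of_fg_nilpotent {A B C : Type u} [CommRing A] [CommRing B]
    [CommRing C] (f : A →+* B) (g : B →+* C) (hg : Function.Surjective g)
    (hfg : (RingHom.ker g).FG) (hnil : IsNilpotent (RingHom.ker g))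
    (h : (g.comp f).FiniteType) : f.FiniteType := by
  classical
  let _ := f.toAlgebra
  let _ := (g.comp f).toAlgebra
  let gₐ : B →ₐ[A] C := { g with commutes' := fun _ ↦ rfl }
  obtain ⟨s, hs⟩ := (show Algebra.FiniteType A C from h).out
  obtain ⟨t, ht⟩ := hfg
  obtain ⟨n, hn⟩ := hnil
  choose σ hσ using hg
  let D : Subalgebra A B := Algebra.adjoin A ((s.image σ ∪ t : Finset B) : Set B)
  have hmap : D.map gₐ = ⊤ := by
    rw [eq_top_iff, ← hs, Algebra.adjoin_le_iff]
    intro c hc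
    exact ⟨σ c, Algebra.subset_adjoin (by simpa using Or.inl ⟨c, Finset.mem_coe.mp hc, rfl⟩), hσ c⟩
  have h1 : ∀ b : B, ∃ d ∈ D, b - d ∈ RingHom.ker g := by
    intro b
    obtain ⟨d, hd, hdb⟩ : gₐ b ∈ D.map gₐ := hmap ▸ trivial
    exact ⟨d, hd, by rw [RingHom.mem_ker, map_sub, sub_eq_zero]; exact hdb.symm⟩
  have h2 : ∀ (k : ℕ) (b : B), ∃ d ∈ D, b - d ∈ RingHom.ker g ^ k := by
    intro k
    induction k with
    | zero => exact fun b ↦ ⟨0, zero_mem _, by simp⟩
    | succ k ih =>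
      intro b
      obtain ⟨d, hd, hdb⟩ := h1 b
      suffices h3 : ∀ z ∈ RingHom.ker g, ∃ e ∈ D, z - e ∈ RingHom.ker g ^ (k + 1) by
        obtain ⟨e, he, he'⟩ := h3 _ hdb
        exact ⟨d + e, add_mem hd he, by rwa [← sub_sub]⟩
      intro z hz
      rw [← ht] at hz
      induction hz using Submodule.span_induction with
      | mem x hx =>
        refine ⟨x, Algebra.subset_adjoin (by simp [Finset.mem_coe.mp hx]), by simp⟩
      | zero => exact ⟨0, zero_mem _, by simp⟩
      | add x y _ _ hx hy =>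
        obtain ⟨e₁, he₁, h₁⟩ := hx
        obtain ⟨e₂, he₂, h₂⟩ := hy
        exact ⟨e₁ + e₂, add_mem he₁ he₂, by rw [add_sub_add_comm]; exact add_mem h₁ h₂⟩
      | smul c x hxs hx =>
        obtain ⟨e₁, he₁, h₁⟩ := hx
        obtain ⟨d', hd', hd''⟩ := ih c
        refine ⟨d' * e₁, mul_mem hd' he₁, ?_⟩
        rw [smul_eq_mul, show c * x - d' * e₁ = (c - d') * x + d' * (x - e₁) by ring]
        refine add_mem ?_ (Ideal.mul_mem_left _ _ h₁)
        rw [pow_succ]
        exact Ideal.mul_mem_mul hd'' (ht ▸ hxs)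
  refine RingHom.finiteType_algebraMap.mpr ⟨⟨s.image σ ∪ t, ?_⟩⟩
  rw [eq_top_iff]
  intro b _
  obtain ⟨d, hd, hdb⟩ := h2 n b
  rw [hn] at hdb
  rw [show b = d from sub_eq_zero.mp (by simpa using hdb)]
  exact hd

theorem locallyOfFiniteType_of_comp_thickening {X Y Y₀ : Scheme.{u}} (F : Y ⟶ X) (i : Y₀ ⟶ Y)
    (hi : MoreMor.IsThickening i) (hinil : ∀ U : Y.affineOpens, IsNilpotent (i.ker.ideal U))
    (hfg : ∀ U : Y.affineOpens, (i.ker.ideal U).FG) (h : LocallyOfFiniteType (i ≫ F)) :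
    LocallyOfFiniteType F := by
  have := hi.1
  rw [HasRingHomProperty.iff_appLE (P := @LocallyOfFiniteType)]
  intro V U e
  have h' := HasRingHomProperty.appLE @LocallyOfFiniteType (i ≫ F) h V
    ⟨i ⁻¹ᵁ U.1, U.2.preimage i⟩ (fun y hy ↦ e hy)
  have hcomp : (i ≫ F).appLE V.1 (i ⁻¹ᵁ U.1) (fun y hy ↦ e hy) = F.appLE V.1 U.1 e ≫ i.app U.1 := by
    simp [Scheme.Hom.appLE, Scheme.Hom.naturality_assoc, ← Functor.map_comp]
  rw [hcomp] at h'
  refine finiteType_of_surjective_of_fg_nilpotent _ (i.app U.1).hom (i.app_surjective U.1 U.2) ?_ ?_ h'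
  · rw [← i.ker_apply U]; exact hfg U
  · rw [← i.ker_apply U]; exact hinil U

end Groth.Agent.H8Props.ThickeningFiniteType
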