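import Groth.Agent.H8Props.RelPCFppfSource
import Groth.Agent.H8Props.PseudoCoh.PerfectMor
import Groth.Agent.H13Flat.Algebra

/-!
# Pseudo-coherent and perfect morphisms are fppf local on the source
-/

set_option autoImplicit false
set_option linter.style.haveILetI false
set_option backward.isDefEq.respectTransparency false

universe u

open CategoryTheory CategoryTheory.Limits AlgebraicGeometry

attribute [local instance] HasDerivedCategory.standard

namespace Groth.Agent.H8Props.RingRelPC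

open PseudoCoh

variable {R A : Type u} [CommRing R] [CommRing A] [Algebra R A]

/-- `A` in degree zero. -/
noncomputable abbrev oneCx (A : Type u) [CommRing A] : DRing.Cx A :=
  (HomologicalComplex.single (ModuleCat.{u} A) (ComplexShape.up ℤ) 0).obj (ModuleCat.of A A)

theorem isKFlat_oneCx (A : Type u) [CommRing A] : H4DR.TorAmp.KF A (oneCx A) := by
  refine H4DR.TorAmp.isKFlat_of_flat (c := 0)
    (fun i hi => HomologicalComplex.isZero_single_obj_X _ _ _ _ (by omega)) fun i => ?_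
  by_cases hi : i = 0
  · subst hi
    exact Module.Flat.of_linearEquiv
      (HomologicalComplex.singleObjXSelf (ComplexShape.up ℤ) 0 (ModuleCat.of A A)).toLinearEquiv
  · haveI := ModuleCat.subsingleton_of_isZero
      (HomologicalComplex.isZero_single_obj_X (ComplexShape.up ℤ) 0 (ModuleCat.of A A) i hi)
    haveI := Module.Free.of_subsingleton A ((oneCx A).X i)
    infer_instance

/-- Extension of `A` in degree zero. -/
noncomputable def extOneCx {B : Type u} [CommRing B] [Algebra A B] :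
    extCx (algebraMap A B) (oneCx A) ≅ oneCx B :=
  (HomologicalComplex.singleMapHomologicalComplex (ModuleCat.extendScalars.{u, u, u} (algebraMap A B))
      (ComplexShape.up ℤ) 0).app (ModuleCat.of A A) ≪≫
    (HomologicalComplex.single (ModuleCat.{u} B) (ComplexShape.up ℤ) 0).mapIso
      ((H26Tor.extendEquiv (A' := B) (ModuleCat.of A A)).symm.trans
        (TensorProduct.AlgebraTensorModule.rid A B B)).toModuleIso

theorem relPC_oneCx (h : MoreMor.IsPseudoCoherentHom R A) (m : ℤ) :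
    DerCA.IsRelPseudoCoherent R A m (DRing.toD (oneCx A)) :=
  relPCModuleAll_of_hom h m

theorem isPseudoCoherentHom_of_relPC [Algebra.FiniteType R A]
    (h : ∀ m, DerCA.IsRelPseudoCoherent R A m (DRing.toD (oneCx A))) :
    MoreMor.IsPseudoCoherentHom R A := by
  obtain ⟨n, α, hα⟩ := exists_pres R A
  letI := α.toRingHom.toAlgebra
  exact ⟨n, α, hα, PseudoCoh.isPseudoCoherentModule'_iff.2 (rfp_of_relPCModuleAll h α hα)⟩

theorem finiteType_pi {J : Type} [Finite J] (Bj : J → Type u) [∀ j, CommRing (Bj j)]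
    [∀ j, Algebra R (Bj j)] [∀ j, Algebra.FiniteType R (Bj j)] : Algebra.FiniteType R (∀ j, Bj j) := by
  classical
  haveI := Fintype.ofFinite J
  letI : ∀ j, Algebra (∀ j, Bj j) (Bj j) := fun j => (Pi.evalAlgHom R Bj j).toAlgebra
  haveI : ∀ j, IsLocalization.Away (Pi.single j 1 : ∀ j, Bj j) (Bj j) := fun j =>
    IsLocalization.away_of_isIdempotentElem (by simp [IsIdempotentElem, ← Pi.single_mul_left])
      (RingHom.ker_evalRingHom _ _) (Pi.evalRingHom Bj j).surjective
  refine Algebra.FiniteType.of_span_eq_top_target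
    (Finset.univ.image fun j => (Pi.single j 1 : ∀ j, Bj j)) ?_ ?_
  · rw [Finset.coe_image, Finset.coe_univ, Set.image_univ]
    exact Ideal.span_single_eq_top Bj
  · intro x hx
    obtain ⟨j, -, rfl⟩ := Finset.mem_image.1 hx
    exact Algebra.FiniteType.equiv (inferInstance : Algebra.FiniteType R (Bj j))
      ((IsLocalization.algEquiv (Submonoid.powers (Pi.single j 1 : ∀ j, Bj j)) (Bj j) _).restrictScalars R)

/-- Pseudo-coherence of ring maps descends along faithfully flat maps of finite presentation of the source. -/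
theorem isPseudoCoherentHom_of_fppf_pi {J : Type} [Finite J] (Bj : J → Type u) [∀ j, CommRing (Bj j)]
    [∀ j, Algebra A (Bj j)] [∀ j, Algebra R (Bj j)] [∀ j, IsScalarTower R A (Bj j)]
    [∀ j, Algebra.FinitePresentation A (Bj j)] [Module.FaithfullyFlat A (∀ j, Bj j)]
    (h : ∀ j, MoreMor.IsPseudoCoherentHom R (Bj j)) : MoreMor.IsPseudoCoherentHom R A := by
  haveI := fun j => finiteType_of_isPseudoCoherentHom (h j)
  haveI : IsScalarTower R A (∀ j, Bj j) := IsScalarTower.of_algebraMap_eq fun a =>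
    funext fun j => IsScalarTower.algebraMap_apply R A (Bj j) a
  haveI : Algebra.FiniteType R (∀ j, Bj j) := finiteType_pi Bj
  haveI : Algebra.FiniteType R A := H13Flat.finiteType_of_faithfullyFlat (B := ∀ j, Bj j)
  exact isPseudoCoherentHom_of_relPC fun m => relPC_of_fppf (B := ∀ j, Bj j) (isKFlat_oneCx A) m
    (relPC_of_pi Bj (fun j => relPC_of_iso (DerivedCategory.Q.mapIso extOneCx).symm (relPC_oneCx (h j) m))
      (isKFlat_oneCx A))

/-- Perfect ring maps descend along faithfully flat maps of finite presentation of the source. -/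
theorem isPerfectHom_of_fppf_pi {J : Type} [Finite J] (Bj : J → Type u) [∀ j, CommRing (Bj j)]
    [∀ j, Algebra A (Bj j)] [∀ j, Algebra R (Bj j)] [∀ j, IsScalarTower R A (Bj j)]
    [∀ j, Algebra.FinitePresentation A (Bj j)] [Module.FaithfullyFlat A (∀ j, Bj j)]
    (h : ∀ j, MoreMor.IsPerfectHom R (Bj j)) : MoreMor.IsPerfectHom R A := by
  classical
  haveI := Fintype.ofFinite J
  refine ⟨isPseudoCoherentHom_of_fppf_pi Bj fun j => (h j).1, ?_⟩
  choose d hd using fun j => (h j).2
  haveI : IsScalarTower R A (∀ j, Bj j) := IsScalarTower.of_algebraMap_eq fun a =>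
    funext fun j => IsScalarTower.algebraMap_apply R A (Bj j) a
  refine ⟨Finset.univ.sup d, hasTorDimLE_algebra_of_faithfullyFlat (∀ j, Bj j) ?_⟩
  exact hasTorDimLE_of_equiv (LinearEquiv.piCongrLeft R (fun j => Bj j) Equiv.ulift.{u, 0})
    (hasTorDimLE_pi (fun j : ULift.{u} J => Bj j.down)
      fun j => hasTorDimLE_mono (Finset.le_sup (Finset.mem_univ j.down)) (hd j.down))

end Groth.Agent.H8Props.RingRelPC

namespace Groth.Agent.H8Props.RelPC

open PseudoCoh RingRelPC

variable {X X' S : Scheme.{u}} (f : X ⟶ S) (a : X' ⟶ X) [Flat a] [Surjective a]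
  [LocallyOfFinitePresentation a]

theorem exists_source_cover {U : X.Opens} (hU : IsAffineOpen U) :
    ∃ (N : ℕ) (W : Fin N → X'.Opens), (∀ j, IsAffineOpen (W j) ∧ W j ≤ a ⁻¹ᵁ U) ∧
      ∀ x ∈ U, ∃ (j : Fin N) (t : X'), t ∈ W j ∧ a t = x := by
  obtain ⟨N, i, W, hW, hc⟩ := fin_cover_fppf (fun _ : PUnit.{u + 1} => X') (fun _ => a)
    (fun x => ⟨PUnit.unit, a.surjective x⟩) U hU
  exact ⟨N, W, hW, hc⟩

omit [Surjective a] [LocallyOfFinitePresentation a] in
theorem faithfullyFlat_pi_cover {U : X.Opens} (hU : IsAffineOpen U) {N : ℕ} (W : Fin N → X'.Opens)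
    (hW : ∀ j, IsAffineOpen (W j) ∧ W j ≤ a ⁻¹ᵁ U)
    (hc : ∀ x ∈ U, ∃ (j : Fin N) (t : X'), t ∈ W j ∧ a t = x) :
    letI : ∀ j, Algebra Γ(X, U) Γ(X', W j) := fun j => (a.appLE U (W j) (hW j).2).hom.toAlgebra
    Module.FaithfullyFlat Γ(X, U) (∀ j, Γ(X', W j)) := by
  letI : ∀ j, Algebra Γ(X, U) Γ(X', W j) := fun j => (a.appLE U (W j) (hW j).2).hom.toAlgebra
  haveI : ∀ j, Module.Flat Γ(X, U) Γ(X', W j) := fun j =>
    HasRingHomProperty.appLE (P := @Flat) a inferInstance ⟨U, hU⟩ ⟨W j, (hW j).1⟩ (hW j).2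
  haveI : Module.Flat Γ(X, U) (∀ j, Γ(X', W j)) :=
    Module.Flat.of_linearEquiv (DirectSum.linearEquivFunOnFintype Γ(X, U) (Fin N) fun j => Γ(X', W j)).symm
  refine Module.FaithfullyFlat.of_comap_surjective fun x => ?_
  obtain ⟨j, t, ht, htx⟩ := hc (hU.fromSpec x) (hU.range_fromSpec.le ⟨x, rfl⟩)
  obtain ⟨w, rfl⟩ := (hW j).1.range_fromSpec.ge ht
  refine ⟨PrimeSpectrum.comap (Pi.evalRingHom (fun j => Γ(X', W j)) j) w, ?_⟩
  refine hU.fromSpec.isOpenEmbedding.injective (Eq.trans ?_ htx)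
  rw [← PrimeSpectrum.comap_comp_apply]
  exact congr($(IsAffineOpen.SpecMap_appLE_fromSpec a hU (hW j).1 (hW j).2) w)

/-- Pseudo-coherent morphisms are fppf local on the source. -/
theorem isPseudoCoherentMor_of_source (h : MoreMor.IsPseudoCoherentMor (a ≫ f)) :
    MoreMor.IsPseudoCoherentMor f := fun U V hU hV e => by
  obtain ⟨N, W, hW, hc⟩ := exists_source_cover a hU
  letI := (f.appLE V U e).hom.toAlgebra
  letI : ∀ j, Algebra Γ(X, U) Γ(X', W j) := fun j => (a.appLE U (W j) (hW j).2).hom.toAlgebra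
  have eW : ∀ j, W j ≤ (a ≫ f) ⁻¹ᵁ V := fun j w hw => e ((hW j).2 hw)
  letI : ∀ j, Algebra Γ(S, V) Γ(X', W j) := fun j => ((a ≫ f).appLE V (W j) (eW j)).hom.toAlgebra
  haveI : ∀ j, IsScalarTower Γ(S, V) Γ(X, U) Γ(X', W j) := fun j => IsScalarTower.of_algebraMap_eq fun x =>
    congr($((Scheme.Hom.appLE_comp_appLE a f V U (W j) e (hW j).2).symm).hom x)
  haveI : ∀ j, Algebra.FinitePresentation Γ(X, U) Γ(X', W j) := fun j =>
    HasRingHomProperty.appLE (P := @LocallyOfFinitePresentation) a inferInstance ⟨U, hU⟩ ⟨W j, (hW j).1⟩ (hW j).2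
  haveI := faithfullyFlat_pi_cover a hU W hW hc
  exact isPseudoCoherentHom_of_fppf_pi (fun j => (Γ(X', W j) : Type u))
    fun j => h (W j) V (hW j).1 hV (eW j)

/-- Perfect morphisms are fppf local on the source. -/
theorem isPerfectMor_of_source (h : MoreMor.IsPerfectMor (a ≫ f)) :
    MoreMor.IsPerfectMor f := fun U V hU hV e => by
  obtain ⟨N, W, hW, hc⟩ := exists_source_cover a hU
  letI := (f.appLE V U e).hom.toAlgebra
  letI : ∀ j, Algebra Γ(X, U) Γ(X', W j) := fun j => (a.appLE U (W j) (hW j).2).hom.toAlgebra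
  have eW : ∀ j, W j ≤ (a ≫ f) ⁻¹ᵁ V := fun j w hw => e ((hW j).2 hw)
  letI : ∀ j, Algebra Γ(S, V) Γ(X', W j) := fun j => ((a ≫ f).appLE V (W j) (eW j)).hom.toAlgebra
  haveI : ∀ j, IsScalarTower Γ(S, V) Γ(X, U) Γ(X', W j) := fun j => IsScalarTower.of_algebraMap_eq fun x =>
    congr($((Scheme.Hom.appLE_comp_appLE a f V U (W j) e (hW j).2).symm).hom x)
  haveI : ∀ j, Algebra.FinitePresentation Γ(X, U) Γ(X', W j) := fun j =>
    HasRingHomProperty.appLE (P := @LocallyOfFinitePresentation) a inferInstance ⟨U, hU⟩ ⟨W j, (hW j).1⟩ (hW j).2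
  haveI := faithfullyFlat_pi_cover a hU W hW hc
  exact isPerfectHom_of_fppf_pi (fun j => (Γ(X', W j) : Type u))
    fun j => h (W j) V (hW j).1 hV (eW j)

end Groth.Agent.H8Props.RelPC
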