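import Groth.Agent.H8Props.FibreStalk
import Groth.Agent.H8Props.Reduced
import Groth.Agent.H7Flat.FibreCriterion
import Groth.Agent.S4656
import Groth.Prelude.Def_MoreMor
import Mathlib.AlgebraicGeometry.Morphisms.Flat
import Mathlib.AlgebraicGeometry.Noetherian
import Mathlib.AlgebraicGeometry.Morphisms.FiniteType

/-!
# Fibrewise flatness at a point

The Noetherian criterion, and how flatness of the map of fibres at a point moves along squares.
-/

set_option autoImplicit false
set_option linter.style.haveILetI false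
universe u

open AlgebraicGeometry CategoryTheory CategoryTheory.Limits TopologicalSpace IsLocalRing
open scoped TensorProduct

namespace Groth.Agent.H8Props.FibreCriterion

/-- The fibrewise criterion for Noetherian local rings. -/
theorem flat_of_flat_fibre {R S T : Type u} [CommRing R] [CommRing S] [CommRing T]
    [IsLocalRing R] [IsLocalRing S] [IsLocalRing T]
    [IsNoetherianRing S] [IsNoetherianRing T]
    [Algebra R S] [Algebra R T] [Algebra S T] [IsScalarTower R S T]
    [IsLocalHom (algebraMap R S)] [IsLocalHom (algebraMap S T)] [Module.Flat R T]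
    (h : Module.Flat (S ⧸ (maximalIdeal R).map (algebraMap R S))
      (T ⧸ ((maximalIdeal R).map (algebraMap R S)).map (algebraMap S T))) :
    Module.Flat S T ∧ Module.Flat R S := by
  set I := (maximalIdeal R).map (algebraMap R S) with hI
  haveI := h
  haveI : Module.Flat (S ⧸ I) ((S ⧸ I) ⊗[S] T) :=
    Module.Flat.of_linearEquiv
      (Algebra.TensorProduct.quotIdealMapEquivQuotTensor T I).symm.toLinearEquiv
  have hST : Module.Flat S T := H7Flat.flat_of_injective_of_flat_quotient (S := T) I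
    (ne_top_of_le_ne_top (maximalIdeal.isMaximal S).ne_top (map_maximalIdeal_le (algebraMap R S)))
    (H7Flat.lTensor_map_injective (R := R) (S := S) (M := T) _)
  haveI : Module.FaithfullyFlat S T := H7Flat.faithfullyFlat_of_flat (S' := T)
  exact ⟨hST, H7Flat.flat_of_faithfullyFlat (M := T)⟩

variable {X Y S : Scheme.{u}}

@[reassoc]
theorem fiberMap_fiberι (f : X ⟶ Y) (g : Y ⟶ S) (s : S) :
    MoreMor.fiberMap f g s ≫ g.fiberι s = (f ≫ g).fiberι s ≫ f :=
  pullback.lift_fst _ _ _

@[reassoc]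
theorem fiberMap_fiberToSpec (f : X ⟶ Y) (g : Y ⟶ S) (s : S) :
    MoreMor.fiberMap f g s ≫ g.fiberToSpecResidueField s = (f ≫ g).fiberToSpecResidueField s :=
  pullback.lift_snd _ _ _

theorem ker_toFibre_of_eq (f : X ⟶ S) (x : X) (s : S) (hs : f x = s) (z : f.fiber s)
    (hz : f.fiberι s z = x) :
    RingHom.ker (FibreStalk.toFibre f x s z hz).hom =
      (maximalIdeal (S.presheaf.stalk (f x))).map (f.stalkMap x).hom := by
  subst hs
  exact FibreStalk.ker_toFibre f x z hz

/-- The stalk of the map of fibres is that of `f` modulo the maximal ideal of the base. -/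
theorem flat_quotient_of_flat_fiberMap (f : X ⟶ Y) (g : Y ⟶ S) (s : S) (z : (f ≫ g).fiber s)
    (h : ((MoreMor.fiberMap f g s).stalkMap z).hom.Flat) :
    let x := (f ≫ g).fiberι s z
    let I := (maximalIdeal (S.presheaf.stalk (g (f x)))).map (g.stalkMap (f x)).hom
    (Ideal.quotientMap (I.map (f.stalkMap x).hom) (f.stalkMap x).hom Ideal.le_comap_map).Flat := by
  intro x I
  have hs : g (f x) = s := ((f ≫ g).range_fiberι s).subset (Set.mem_range_self z)
  let w : g.fiber s := MoreMor.fiberMap f g s z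
  have hw : g.fiberι s w = f x := by
    rw [← Scheme.Hom.comp_apply, fiberMap_fiberι]; rfl
  let a := FibreStalk.toFibre g (f x) s w hw
  let b := (f ≫ g).fiberι s
  have hkerY : RingHom.ker a.hom = I := ker_toFibre_of_eq g (f x) s hs w hw
  have hkerX : RingHom.ker (b.stalkMap z).hom = I.map (f.stalkMap x).hom := by
    have e : FibreStalk.toFibre (f ≫ g) x s z rfl = b.stalkMap z := by
      simp only [FibreStalk.toFibre, TopCat.Presheaf.stalkCongr_hom, TopCat.Presheaf.stalkSpecializes_refl]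
      exact Category.id_comp _
    rw [← e, ker_toFibre_of_eq (f ≫ g) x s hs z rfl, Ideal.map_map, Scheme.Hom.stalkMap_comp]
    rfl
  have hsq : f.stalkMap x ≫ b.stalkMap z = a ≫ (MoreMor.fiberMap f g s).stalkMap z := by
    have h1 := Scheme.Hom.stalkMap_congr_hom _ _ (fiberMap_fiberι f g s).symm z
    rw [Scheme.Hom.stalkMap_comp, Scheme.Hom.stalkMap_comp] at h1
    exact h1.trans (Category.assoc _ _ _).symm
  let ea : (Y.presheaf.stalk (f x) ⧸ I) ≃+* (g.fiber s).presheaf.stalk w :=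
    (Ideal.quotEquivOfEq hkerY.symm).trans
      (RingHom.quotientKerEquivOfSurjective (FibreStalk.toFibre_surjective g (f x) s w hw))
  let eb : (X.presheaf.stalk x ⧸ I.map (f.stalkMap x).hom) ≃+* ((f ≫ g).fiber s).presheaf.stalk z :=
    (Ideal.quotEquivOfEq hkerX.symm).trans
      (RingHom.quotientKerEquivOfSurjective (b.stalkMap_surjective z))
  have e : Ideal.quotientMap (I.map (f.stalkMap x).hom) (f.stalkMap x).hom Ideal.le_comap_map =
      eb.symm.toRingHom.comp (((MoreMor.fiberMap f g s).stalkMap z).hom.comp ea.toRingHom) := by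
    refine Ideal.Quotient.ringHom_ext (RingHom.ext fun r => eb.injective ?_)
    show eb (Ideal.Quotient.mk _ ((f.stalkMap x).hom r)) =
      eb (eb.symm ((MoreMor.fiberMap f g s).stalkMap z (ea (Ideal.Quotient.mk I r))))
    rw [RingEquiv.apply_symm_apply]
    exact congr($hsq r)
  rw [e]
  exact RingHom.Flat.comp (RingHom.Flat.comp (RingHom.Flat.of_bijective ea.bijective) h)
    (RingHom.Flat.of_bijective eb.symm.bijective)

/-- The fibrewise criterion at a point over a locally Noetherian base. -/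
theorem flat_stalkMap_of_fiberMap_of_noetherian (f : X ⟶ Y) (g : Y ⟶ S) [LocallyOfFiniteType f]
    [LocallyOfFiniteType g] [IsLocallyNoetherian S] (s : S) (z : (f ≫ g).fiber s)
    (hflat : ((f ≫ g).stalkMap ((f ≫ g).fiberι s z)).hom.Flat)
    (h : ((MoreMor.fiberMap f g s).stalkMap z).hom.Flat) :
    (f.stalkMap ((f ≫ g).fiberι s z)).hom.Flat ∧
      (g.stalkMap (f ((f ≫ g).fiberι s z))).hom.Flat := by
  have h1 := flat_quotient_of_flat_fiberMap f g s z h
  generalize (f ≫ g).fiberι s z = x at hflat h1 ⊢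
  haveI : IsLocallyNoetherian Y := LocallyOfFiniteType.isLocallyNoetherian g
  haveI : IsLocallyNoetherian X := LocallyOfFiniteType.isLocallyNoetherian f
  algebraize [(f.stalkMap x).hom, (g.stalkMap (f x)).hom]
  letI : Algebra (S.presheaf.stalk (g (f x))) (X.presheaf.stalk x) := ((f ≫ g).stalkMap x).hom.toAlgebra
  haveI : IsScalarTower (S.presheaf.stalk (g (f x))) (Y.presheaf.stalk (f x)) (X.presheaf.stalk x) :=
    IsScalarTower.of_algebraMap_eq' (congrArg CommRingCat.Hom.hom (Scheme.Hom.stalkMap_comp f g x))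
  haveI : Module.Flat (S.presheaf.stalk (g (f x))) (X.presheaf.stalk x) := hflat
  haveI : IsLocalHom (algebraMap (S.presheaf.stalk (g (f x))) (Y.presheaf.stalk (f x))) :=
    inferInstanceAs (IsLocalHom (g.stalkMap (f x)).hom)
  haveI : IsLocalHom (algebraMap (Y.presheaf.stalk (f x)) (X.presheaf.stalk x)) :=
    inferInstanceAs (IsLocalHom (f.stalkMap x).hom)
  exact flat_of_flat_fibre (R := S.presheaf.stalk (g (f x))) (RingHom.flat_algebraMap_iff.mp h1)

theorem flat_stalkMap_congr {f f' : X ⟶ Y} (e : f = f') (x : X) (h : (f.stalkMap x).hom.Flat) :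
    (f'.stalkMap x).hom.Flat := e ▸ h

theorem flat_stalkMap_of_comp_openImmersion (f : X ⟶ Y) (i : Y ⟶ S) [IsOpenImmersion i] (x : X)
    (h : ((f ≫ i).stalkMap x).hom.Flat) : (f.stalkMap x).hom.Flat := by
  rw [Scheme.Hom.stalkMap_comp] at h
  replace h : RingHom.Flat ((f.stalkMap x).hom.comp (i.stalkMap (f x)).hom) := h
  let e := (asIso (i.stalkMap (f x))).commRingCatIsoToRingEquiv
  have h2 := RingHom.Flat.comp (RingHom.Flat.of_bijective (f := e.symm.toRingHom) e.symm.bijective) h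
  convert h2 using 1
  exact RingHom.ext fun r => (congrArg _ (e.apply_symm_apply r)).symm

section Square

variable {X' Y' S' : Scheme.{u}}

/-- The map of fibres of a commutative square. -/
noncomputable def fiberSqMap {g : Y ⟶ S} {g' : Y' ⟶ S'} {a : S' ⟶ S} {gY : Y' ⟶ Y}
    (hY : gY ≫ g = g' ≫ a) (s' : S') : g'.fiber s' ⟶ g.fiber (a s') :=
  pullback.map _ _ _ _ gY (Spec.map (a.residueFieldMap s')) a hY.symm
    (Scheme.Hom.SpecMap_residueFieldMap_fromSpecResidueField a s').symm

@[reassoc]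
theorem fiberSqMap_fiberι {g : Y ⟶ S} {g' : Y' ⟶ S'} {a : S' ⟶ S} {gY : Y' ⟶ Y}
    (hY : gY ≫ g = g' ≫ a) (s' : S') :
    fiberSqMap hY s' ≫ g.fiberι (a s') = g'.fiberι s' ≫ gY :=
  pullback.lift_fst _ _ _

@[reassoc]
theorem fiberSqMap_fiberToSpec {g : Y ⟶ S} {g' : Y' ⟶ S'} {a : S' ⟶ S} {gY : Y' ⟶ Y}
    (hY : gY ≫ g = g' ≫ a) (s' : S') :
    fiberSqMap hY s' ≫ g.fiberToSpecResidueField (a s') =
      g'.fiberToSpecResidueField s' ≫ Spec.map (a.residueFieldMap s') :=
  pullback.lift_snd _ _ _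

theorem flat_fiberSqMap {g : Y ⟶ S} {g' : Y' ⟶ S'} {a : S' ⟶ S} {gY : Y' ⟶ Y}
    (hY : IsPullback gY g' g a) (s' : S') : Flat (fiberSqMap hY.w s') := by
  haveI : Flat (Spec.map (a.residueFieldMap s')) := by
    letI := (a.residueFieldMap s').hom.toAlgebra
    exact (HasRingHomProperty.Spec_iff (P := @Flat)).mpr
      (show Module.Flat (S.residueField (a s')) (S'.residueField s') from inferInstance)
  exact MorphismProperty.of_isPullback
    (isPullback_fiberToSpecResidueField_of_isPullback hY s').flip ‹_›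

theorem isOpenImmersion_fiberSqMap {g : Y ⟶ S} {g' : Y' ⟶ S'} {a : S' ⟶ S} {gY : Y' ⟶ Y}
    [IsOpenImmersion a] [IsOpenImmersion gY] (hY : gY ≫ g = g' ≫ a) (s' : S') :
    IsOpenImmersion (fiberSqMap hY s') := by
  unfold fiberSqMap
  haveI : IsIso (a.residueFieldMap s') := inferInstance
  haveI : IsIso (Spec.map (a.residueFieldMap s')) :=
    inferInstanceAs (IsIso (Scheme.Spec.map (a.residueFieldMap s').op))
  haveI : IsOpenImmersion (Spec.map (a.residueFieldMap s')) := IsOpenImmersion.of_isIso _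
  haveI : Mono a := inferInstance
  exact Scheme.pullback_map_isOpenImmersion _ _ _ _ _ _ _ _ _

variable (f : X ⟶ Y) (g : Y ⟶ S) (f' : X' ⟶ Y') (g' : Y' ⟶ S') (a : S' ⟶ S) (gY : Y' ⟶ Y)
  (gX : X' ⟶ X) (hY : gY ≫ g = g' ≫ a) (hX : gX ≫ f = f' ≫ gY)

include hY hX in
theorem comp_sq : gX ≫ f ≫ g = (f' ≫ g') ≫ a := by
  rw [reassoc_of% hX, hY, Category.assoc]

theorem fiberMap_comp_fiberSqMap (s' : S') :
    MoreMor.fiberMap f' g' s' ≫ fiberSqMap hY s' =
      fiberSqMap (g := f ≫ g) (comp_sq f g f' g' a gY gX hY hX) s' ≫ MoreMor.fiberMap f g (a s') := by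
  apply pullback.hom_ext
  · show (_ ≫ fiberSqMap hY s') ≫ g.fiberι _ = (_ ≫ _) ≫ g.fiberι _
    rw [Category.assoc, Category.assoc, fiberMap_fiberι, fiberSqMap_fiberι, fiberMap_fiberι_assoc,
      fiberSqMap_fiberι_assoc, hX]
  · show (_ ≫ fiberSqMap hY s') ≫ g.fiberToSpecResidueField _ = (_ ≫ _) ≫ g.fiberToSpecResidueField _
    rw [Category.assoc, Category.assoc, fiberMap_fiberToSpec, fiberSqMap_fiberToSpec,
      fiberMap_fiberToSpec_assoc, fiberSqMap_fiberToSpec]

end Square

/-- Flatness of the map of fibres at a point descends along base change. -/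
theorem flat_fiberMap_descend {X' Y' S' : Scheme.{u}} {f : X ⟶ Y} {g : Y ⟶ S} {f' : X' ⟶ Y'}
    {g' : Y' ⟶ S'} {a : S' ⟶ S} {gY : Y' ⟶ Y} {gX : X' ⟶ X} (hY : IsPullback gY g' g a)
    (hX : IsPullback gX f' f gY) (s' : S') (z' : (f' ≫ g').fiber s')
    (h : ((MoreMor.fiberMap f' g' s').stalkMap z').hom.Flat) :
    ∃ z : (f ≫ g).fiber (a s'), (f ≫ g).fiberι (a s') z = gX ((f' ≫ g').fiberι s' z') ∧
      ((MoreMor.fiberMap f g (a s')).stalkMap z).hom.Flat := by
  let ΦX := fiberSqMap (g := f ≫ g) (g' := f' ≫ g') (gY := gX) (hX.paste_vert hY).w s'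
  refine ⟨ΦX z', by rw [← Scheme.Hom.comp_apply, fiberSqMap_fiberι]; rfl, ?_⟩
  haveI := flat_fiberSqMap hY s'
  haveI : Flat ΦX := flat_fiberSqMap (hX.paste_vert hY) s'
  refine (S4656.result ΦX (MoreMor.fiberMap f g (a s')) z' (Flat.stalkMap ΦX z')).mp ?_
  exact flat_stalkMap_congr (fiberMap_comp_fiberSqMap f g f' g' a gY gX hY.w hX.w s') z'
    ((S4656.result _ (fiberSqMap hY.w s') z' h).mpr (Flat.stalkMap _ _))

/-- Flatness of the map of fibres at a point passes to open subschemes. -/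
theorem flat_fiberMap_of_openImmersion {X' Y' S' : Scheme.{u}} (f : X ⟶ Y) (g : Y ⟶ S)
    (f' : X' ⟶ Y') (g' : Y' ⟶ S') (a : S' ⟶ S) (gY : Y' ⟶ Y) (gX : X' ⟶ X) [IsOpenImmersion a]
    [IsOpenImmersion gY] [IsOpenImmersion gX] (hY : gY ≫ g = g' ≫ a) (hX : gX ≫ f = f' ≫ gY)
    (s' : S') (z' : (f' ≫ g').fiber s')
    (h : ∀ z : (f ≫ g).fiber (a s'), (f ≫ g).fiberι (a s') z = gX ((f' ≫ g').fiberι s' z') →
      ((MoreMor.fiberMap f g (a s')).stalkMap z).hom.Flat) :
    ((MoreMor.fiberMap f' g' s').stalkMap z').hom.Flat := by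
  let ΦX := fiberSqMap (g := f ≫ g) (comp_sq f g f' g' a gY gX hY hX) s'
  haveI : IsOpenImmersion ΦX := isOpenImmersion_fiberSqMap _ s'
  haveI := isOpenImmersion_fiberSqMap hY s'
  have h' := h (ΦX z') (by rw [← Scheme.Hom.comp_apply, fiberSqMap_fiberι]; rfl)
  refine flat_stalkMap_of_comp_openImmersion _ (fiberSqMap hY s') z' ?_
  exact flat_stalkMap_congr (fiberMap_comp_fiberSqMap f g f' g' a gY gX hY hX s').symm z'
    ((S4656.result ΦX (MoreMor.fiberMap f g (a s')) z' (Flat.stalkMap ΦX z')).mpr h')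

end Groth.Agent.H8Props.FibreCriterion
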