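import Mathlib

/-!
# The scheme-theoretic image of a flat scheme over a Dedekind domain is flat (helper8)
-/

set_option autoImplicit false
universe u
open CategoryTheory AlgebraicGeometry

namespace Groth.Agent.H8Props.ImageTorsionFree

variable {R : Type u} [CommRing R]

/-- Scalars on the sections of a scheme over `Spec R`. -/
noncomputable def ρ {Y : Scheme.{u}} (q : Y ⟶ Spec (CommRingCat.of R)) (W : Y.Opens) : R →+* Γ(Y, W) :=
  (Scheme.ΓSpecIso (CommRingCat.of R)).inv.hom |> (q.appLE ⊤ W (show W ≤ q ⁻¹ᵁ ⊤ from le_top)).hom.comp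

lemma ρ_res {Y : Scheme.{u}} (q : Y ⟶ Spec (CommRingCat.of R)) {W W' : Y.Opens} (h : W' ≤ W) (r : R) :
    Y.presheaf.map (homOfLE h).op (ρ q W r) = ρ q W' r := by
  simp only [ρ, RingHom.comp_apply]
  rw [← CommRingCat.comp_apply, Scheme.Hom.appLE_map]

lemma ρ_app {X Y : Scheme.{u}} (f : X ⟶ Y) (q : Y ⟶ Spec (CommRingCat.of R)) (W : Y.Opens) (r : R) :
    f.app W (ρ q W r) = ρ (f ≫ q) (f ⁻¹ᵁ W) r := by
  simp only [ρ, RingHom.comp_apply]
  rw [← CommRingCat.comp_apply, Scheme.Hom.app_eq_appLE, Scheme.Hom.appLE_comp_appLE]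

section
variable [IsDomain R]

lemma eq_zero_of_flat {X : Scheme.{u}} (p : X ⟶ Spec (CommRingCat.of R)) [Flat p] (W : X.Opens)
    {r : R} (hr : r ≠ 0) (a : Γ(X, W)) (h : ρ p W r * a = 0) : a = 0 := by
  refine X.IsSheaf.section_ext fun x hx ↦ ?_
  obtain ⟨V, hV, hxV, hVW⟩ := exists_isAffineOpen_mem_and_subset (x := x) (U := W) hx
  have hVW' : V ≤ W := hVW
  refine ⟨V, hVW', hxV, ?_⟩
  rw [map_zero]
  have hfl : (ρ p V).Flat := RingHom.Flat.comp
    (RingHom.Flat.of_bijective (ConcreteCategory.bijective_of_isIso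
      (Scheme.ΓSpecIso (CommRingCat.of R)).inv))
    (Flat.flat_appLE p (isAffineOpen_top _) hV (show V ≤ p ⁻¹ᵁ ⊤ from le_top))
  algebraize [ρ p V]
  have h1 : ρ p V r * X.presheaf.map (homOfLE hVW').op a = 0 := by
    rw [← ρ_res p hVW' r, ← map_mul, h, map_zero]
  refine (Module.Flat.isSMulRegular_of_nonZeroDivisors (M := Γ(X, V))
    (mem_nonZeroDivisors_of_ne_zero hr)) ?_
  show r • _ = r • (0 : Γ(X, V))
  rw [smul_zero, Algebra.smul_def]
  exact h1

variable {X Y : Scheme.{u}} (q : Y ⟶ Spec (CommRingCat.of R)) (K : Y.IdealSheafData)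

/-- The torsion saturation of an ideal sheaf. -/
noncomputable def sat : Y.IdealSheafData where
  ideal W :=
    { carrier := {a | ∃ r : R, r ≠ 0 ∧ ρ q W.1 r * a ∈ K.ideal W}
      add_mem' := fun {a b} ⟨r, hr, ha⟩ ⟨s, hs, hb⟩ ↦ ⟨r * s, mul_ne_zero hr hs, by
        rw [map_mul, mul_add, mul_assoc, mul_assoc, mul_left_comm (ρ q W.1 r) (ρ q W.1 s) a]
        exact add_mem (Ideal.mul_mem_left _ _ ha) (Ideal.mul_mem_left _ _ hb)⟩
      zero_mem' := ⟨1, one_ne_zero, by simp⟩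
      smul_mem' := fun c a ⟨r, hr, ha⟩ ↦ ⟨r, hr, by
        rw [smul_eq_mul, mul_left_comm]; exact Ideal.mul_mem_left _ _ ha⟩ }
  map_ideal_basicOpen W s := by
    apply le_antisymm
    · refine Ideal.map_le_iff_le_comap.mpr ?_
      rintro a ⟨r, hr, ha⟩
      refine ⟨r, hr, ?_⟩
      show ρ q (Y.basicOpen s) r * _ ∈ _
      rw [← ρ_res q (Y.basicOpen_le s) r, ← map_mul, ← K.map_ideal_basicOpen W s]
      exact Ideal.mem_map_of_mem _ ha
    · rintro a ⟨r, hr, ha⟩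
      have := W.2.isLocalization_basicOpen s
      obtain ⟨b, ⟨_, n, rfl⟩, rfl⟩ := IsLocalization.exists_mk'_eq (.powers s) a
      rw [← K.map_ideal_basicOpen W s] at ha
      change _ ∈ Ideal.map (algebraMap Γ(Y, W.1) Γ(Y, Y.basicOpen s)) _ at ha
      rw [show ρ q (Y.affineBasicOpen s).1 r = algebraMap Γ(Y, W.1) Γ(Y, Y.basicOpen s) (ρ q W.1 r)
        from (ρ_res q (Y.basicOpen_le s) r).symm] at ha
      have hmul : ∀ (c b : Γ(Y, W.1)) (y : Submonoid.powers s),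
          algebraMap Γ(Y, W.1) Γ(Y, Y.basicOpen s) c * IsLocalization.mk' _ b y =
            IsLocalization.mk' _ (c * b) y := fun c b y ↦ by
        rw [IsLocalization.eq_mk'_iff_mul_eq, mul_assoc, IsLocalization.mk'_spec, map_mul]
      have ha' : IsLocalization.mk' Γ(Y, Y.basicOpen s) (ρ q W.1 r * b)
          (⟨s ^ n, n, rfl⟩ : Submonoid.powers s) ∈
          Ideal.map (algebraMap Γ(Y, W.1) Γ(Y, Y.basicOpen s)) (K.ideal W) := by
        rw [← hmul]; exact ha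
      obtain ⟨m, hm, hm'⟩ := (IsLocalization.mk'_mem_map_algebraMap_iff _ _ _ _ _).mp ha'
      change _ ∈ Ideal.map (algebraMap Γ(Y, W.1) Γ(Y, Y.basicOpen s)) _
      refine (IsLocalization.mk'_mem_map_algebraMap_iff _ _ _ _ _).mpr ⟨m, hm, r, hr, ?_⟩
      rwa [mul_left_comm] at hm'

lemma le_sat : K ≤ sat q K := fun W a ha ↦ ⟨1, one_ne_zero, by simpa using ha⟩

lemma sat_le_ker (f : X ⟶ Y) [Flat (f ≫ q)] : sat q f.ker ≤ f.ker := by
  refine Scheme.IdealSheafData.le_ofIdeals_iff.mpr fun W a ↦ ?_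
  rintro ⟨r, hr, ha⟩
  rw [RingHom.mem_ker]
  refine eq_zero_of_flat (f ≫ q) _ hr _ ?_
  rw [← ρ_app, ← map_mul]
  exact f.ideal_ker_le W ha

end

set_option linter.overlappingInstances false in
theorem flat_imageι [IsDedekindDomain R] {X Y : Scheme.{u}} (q : Y ⟶ Spec (CommRingCat.of R)) (f : X ⟶ Y) [Flat (f ≫ q)] : Flat (f.imageι ≫ q) := by
  have : IsZariskiLocalAtSource (@Flat : MorphismProperty Scheme.{u}) :=
    HasRingHomProperty.instIsZariskiLocalAtSource (P := @Flat) (Q := RingHom.Flat)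
  rw [IsZariskiLocalAtSource.iff_of_openCover (P := @Flat) f.ker.subschemeCover.openCover]
  suffices H : ∀ W : Y.affineOpens, Flat (f.ker.subschemeCover.f W ≫ f.ker.subschemeι ≫ q) from H
  intro W
  suffices H : Flat (Spec.map (CommRingCat.ofHom (Ideal.Quotient.mk (f.ker.ideal W))) ≫
      W.2.fromSpec ≫ q) by
    have e := (f.ker.subschemeCover_map_subschemeι W).trans (f.ker.glueDataObjι_ι W)
    rw [← Category.assoc] at H ⊢
    erw [e]
    exact H
  rw [← IsAffineOpen.SpecMap_appLE_fromSpec q (isAffineOpen_top _) W.2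
      (show W.1 ≤ q ⁻¹ᵁ ⊤ from le_top), ← Category.assoc, ← Spec.map_comp]
  have : IsIso (isAffineOpen_top (Spec (CommRingCat.of R))).fromSpec := by
    rw [IsAffineOpen.fromSpec_top]; infer_instance
  suffices Flat (Spec.map (q.appLE ⊤ W.1 (show W.1 ≤ q ⁻¹ᵁ ⊤ from le_top) ≫
      CommRingCat.ofHom (Ideal.Quotient.mk (f.ker.ideal W)))) from inferInstance
  rw [Flat.SpecMap_iff]
  let β : R →+* Γ(Y, W.1) ⧸ f.ker.ideal W := (Ideal.Quotient.mk _).comp (ρ q W.1)
  have hβ : β.Flat := by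
    algebraize [β]
    rw [RingHom.Flat, IsDedekindDomain.flat_iff_torsion_eq_bot, eq_bot_iff]
    rintro x ⟨⟨r, hr⟩, hrx⟩
    obtain ⟨a, rfl⟩ := Ideal.Quotient.mk_surjective x
    rw [Submodule.mem_bot, Ideal.Quotient.eq_zero_iff_mem]
    refine sat_le_ker q f W ⟨r, nonZeroDivisors.ne_zero hr, ?_⟩
    rw [← Ideal.Quotient.eq_zero_iff_mem, map_mul]
    exact hrx
  have e := RingHom.Flat.comp (RingHom.Flat.of_bijective (ConcreteCategory.bijective_of_isIso
    (Scheme.ΓSpecIso (CommRingCat.of R)).hom)) hβ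
  suffices heq : (q.appLE ⊤ W.1 (show W.1 ≤ q ⁻¹ᵁ ⊤ from le_top) ≫
      CommRingCat.ofHom (Ideal.Quotient.mk (f.ker.ideal W))).hom =
      β.comp (Scheme.ΓSpecIso (CommRingCat.of R)).hom.hom by
    rw [heq]; exact e
  refine RingHom.ext fun x ↦ ?_
  show Ideal.Quotient.mk _ (q.appLE ⊤ W.1 _ x) = Ideal.Quotient.mk _ (q.appLE ⊤ W.1 _ ((Scheme.ΓSpecIso (CommRingCat.of R)).inv ((Scheme.ΓSpecIso (CommRingCat.of R)).hom x)))
  exact congrArg (fun z ↦ Ideal.Quotient.mk _ (q.appLE ⊤ W.1 _ z))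
    ((Scheme.ΓSpecIso (CommRingCat.of R)).hom_inv_id_apply x).symm

end Groth.Agent.H8Props.ImageTorsionFree
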