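import Mathlib

/-!
# Flat + unramified (essentially of finite type) implies formally étale (helper8)
-/

set_option autoImplicit false
universe u
open TensorProduct

namespace Groth.Agent.H8Props.FlatUnramified

variable {R A : Type u} [CommRing R] [CommRing A] [Algebra R A]
  [Module.Flat R A] [Algebra.FormallyUnramified R A] [Algebra.EssFiniteType R A]

theorem formallySmooth_of_flat_of_formallyUnramified : Algebra.FormallySmooth R A := by
  refine Algebra.FormallySmooth.of_comp_surjective fun B _ _ I hI g ↦ ?_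
  let π : B ⊗[R] A →ₐ[R] (B ⧸ I) ⊗[R] A :=
    Algebra.TensorProduct.map (Ideal.Quotient.mkₐ R I) (AlgHom.id R A)
  have hπ : Function.Surjective π :=
    LinearMap.rTensor_surjective A (Ideal.Quotient.mkₐ_surjective R I)
  let ψ : A ⊗[R] A →ₐ[R] (B ⧸ I) ⊗[R] A := Algebra.TensorProduct.map g (AlgHom.id R A)
  let σ : (B ⧸ I) ⊗[R] A →ₐ[R] (B ⧸ I) :=
    Algebra.TensorProduct.lift (AlgHom.id R (B ⧸ I)) g (fun _ _ ↦ Commute.all _ _)
  let e := Algebra.FormallyUnramified.elem R A
  have hkey : ∀ x : A ⊗[R] A, x * e = ((Algebra.TensorProduct.lmul' R x) ⊗ₜ 1) * e := by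
    intro x
    induction x using TensorProduct.induction_on with
    | zero => simp
    | tmul a a' =>
      have h := Algebra.FormallyUnramified.one_tmul_sub_tmul_one_mul_elem (R := R) a'
      rw [sub_mul, sub_eq_zero] at h
      calc a ⊗ₜ[R] a' * e = (a ⊗ₜ[R] 1) * ((1 ⊗ₜ[R] a') * e) := by
              rw [← mul_assoc]; simp
        _ = (a ⊗ₜ[R] 1) * ((a' ⊗ₜ[R] 1) * e) := by rw [h]
        _ = ((a * a') ⊗ₜ[R] 1) * e := by rw [← mul_assoc]; simp
        _ = _ := by simp
    | add x y hx hy => rw [add_mul, hx, hy, map_add, add_tmul, add_mul]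
  have hidem : IsIdempotentElem e := by
    rw [IsIdempotentElem, hkey e, Algebra.FormallyUnramified.lmul_elem,
      ← Algebra.TensorProduct.one_def, one_mul]
  have hσψ : ∀ x, σ (ψ x) = g (Algebra.TensorProduct.lmul' R x) := by
    intro x
    induction x using TensorProduct.induction_on with
    | zero => simp
    | tmul a a' => simp [σ, ψ]
    | add x y hx hy => simp [hx, hy]
  have hσe : σ (ψ e) = 1 := by rw [hσψ, Algebra.FormallyUnramified.lmul_elem, map_one]
  have hkey' : ∀ x : (B ⧸ I) ⊗[R] A, x * ψ e = (σ x ⊗ₜ 1) * ψ e := by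
    intro x
    induction x using TensorProduct.induction_on with
    | zero => simp
    | tmul b a =>
      have h := congr_arg ψ (hkey (1 ⊗ₜ a))
      simp only [map_mul, Algebra.TensorProduct.lmul'_apply_tmul, one_mul] at h
      have h1 : ψ (1 ⊗ₜ[R] a) = 1 ⊗ₜ a := by simp [ψ]
      have h2 : ψ (a ⊗ₜ[R] 1) = g a ⊗ₜ 1 := by simp [ψ]
      rw [h1, h2] at h
      calc b ⊗ₜ[R] a * ψ e = (b ⊗ₜ[R] 1) * ((1 ⊗ₜ[R] a) * ψ e) := by
              rw [← mul_assoc]; simp
        _ = (b ⊗ₜ[R] 1) * ((g a ⊗ₜ[R] 1) * ψ e) := by rw [h]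
        _ = ((b * g a) ⊗ₜ[R] 1) * ψ e := by rw [← mul_assoc]; simp
        _ = _ := by simp [σ]
    | add x y hx hy => rw [add_mul, hx, hy, map_add, add_tmul, add_mul]
  -- lift the idempotent
  have hker : ∀ x ∈ RingHom.ker π.toRingHom, IsNilpotent x := by
    intro x hx
    refine ⟨2, ?_⟩
    have hIx : x ∈ I.map (algebraMap B (B ⊗[R] A)) := by
      have hk := Algebra.TensorProduct.rTensor_ker (R := R) (S := R) (C := A) (Ideal.Quotient.mkₐ R I)
        (Ideal.Quotient.mkₐ_surjective R I)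
      rw [show RingHom.ker (Ideal.Quotient.mkₐ R I) = I from Ideal.mk_ker] at hk
      exact hk ▸ hx
    have := Ideal.pow_mem_pow hIx 2
    rwa [← Ideal.map_pow, hI, Ideal.map_bot, Ideal.mem_bot] at this
  obtain ⟨ε, hε, hπε⟩ : ∃ ε, IsIdempotentElem ε ∧ π.toRingHom ε = ψ e :=
    exists_isIdempotentElem_eq_of_ker_isNilpotent π.toRingHom hker (ψ e) (by exact hπ _)
      (hidem.map ψ)
  change π ε = ψ e at hπε
  -- the direct factor `ε (B ⊗ A)`
  let J : Ideal (B ⊗[R] A) := Ideal.span {1 - ε}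
  have hJ : ∀ c : B ⊗[R] A, c ∈ J ↔ c * ε = 0 := fun c ↦ by
    rw [Ideal.mem_span_singleton']
    constructor
    · rintro ⟨d, rfl⟩
      rw [mul_assoc, sub_mul, one_mul, hε.eq, sub_self, mul_zero]
    · intro h; exact ⟨c, by rw [mul_sub, mul_one, h, sub_zero]⟩
  let ρ : (B ⊗[R] A ⧸ J) →ₗ[B] B ⊗[R] A :=
    Submodule.liftQ (J.restrictScalars B)
      ((LinearMap.mul B (B ⊗[R] A)).flip ε)
      (fun c hc ↦ by simpa [mul_comm] using (hJ c).mp hc)
  have : Module.Flat B (B ⊗[R] A ⧸ J) := by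
    refine Module.Flat.of_retract ρ (Submodule.mkQ (J.restrictScalars B)) ?_
    refine LinearMap.ext fun x ↦ ?_
    obtain ⟨c, rfl⟩ := Submodule.Quotient.mk_surjective (J.restrictScalars B) x
    show Submodule.Quotient.mk (c * ε) = Submodule.Quotient.mk c
    rw [Submodule.Quotient.eq]
    show c * ε - c ∈ J
    rw [hJ, sub_mul, mul_assoc, hε.eq, sub_self]
  have hsurj : Function.Surjective (algebraMap B (B ⊗[R] A ⧸ J)) := by
    have h1 : ∀ c : B ⊗[R] A, ∃ b : B, ∃ z ∈ RingHom.ker π.toRingHom,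
        c * ε = (b ⊗ₜ 1) * ε + z := by
      intro c
      obtain ⟨b, hb⟩ := Ideal.Quotient.mk_surjective (σ (π c))
      refine ⟨b, c * ε - (b ⊗ₜ 1) * ε, ?_, by abel⟩
      show π (c * ε - (b ⊗ₜ 1) * ε) = 0
      rw [map_sub, map_mul, map_mul, hπε, hkey', ← hb, sub_eq_zero]
      rfl
    have h2 : ∀ c : B ⊗[R] A, ∃ b : B, ∃ z ∈ (I.map (algebraMap B (B ⊗[R] A ⧸ J))),
        Ideal.Quotient.mk J c = algebraMap B _ b + z := by
      intro c
      obtain ⟨b, z, hz, e'⟩ := h1 c
      refine ⟨b, Ideal.Quotient.mk J z, ?_, ?_⟩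
      · have hk := Algebra.TensorProduct.rTensor_ker (R := R) (S := R) (C := A) (Ideal.Quotient.mkₐ R I)
          (Ideal.Quotient.mkₐ_surjective R I)
        rw [show RingHom.ker (Ideal.Quotient.mkₐ R I) = I from Ideal.mk_ker] at hk
        have hz' : z ∈ I.map (algebraMap B (B ⊗[R] A)) := hk ▸ hz
        have := Ideal.mem_map_of_mem (Ideal.Quotient.mk J) hz'
        rwa [Ideal.map_map] at this
      · have hq : ∀ d, Ideal.Quotient.mk J (d * ε) = Ideal.Quotient.mk J d := fun d ↦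
          Ideal.Quotient.eq.mpr ((hJ _).mpr (by rw [sub_mul, mul_assoc, hε.eq, sub_self]))
        rw [← hq c, e', map_add, hq]
        rfl
    let N : Submodule B (B ⊗[R] A ⧸ J) := LinearMap.range (Algebra.linearMap B _)
    suffices ∀ x, x ∈ N from this
    have h3 : (⊤ : Submodule B (B ⊗[R] A ⧸ J)) ≤ N ⊔ I • ⊤ := by
      rintro x -
      obtain ⟨c, rfl⟩ := Ideal.Quotient.mk_surjective x
      obtain ⟨b, w, hw, e'⟩ := h2 c
      rw [e']
      refine Submodule.add_mem_sup ⟨b, rfl⟩ ?_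
      rw [Ideal.smul_top_eq_map]
      exact hw
    have h4 : I • (⊤ : Submodule B (B ⊗[R] A ⧸ J)) ≤ N := by
      calc I • (⊤ : Submodule B (B ⊗[R] A ⧸ J)) ≤ I • (N ⊔ I • ⊤) := Submodule.smul_mono le_rfl h3
        _ = I • N ⊔ (I * I) • ⊤ := by rw [Submodule.smul_sup, ← Submodule.mul_smul]
        _ ≤ N := by
          rw [← pow_two, hI, Submodule.bot_smul, sup_bot_eq]
          exact Submodule.smul_le_right
    exact fun x ↦ (h3.trans (sup_le le_rfl h4)) trivial
  -- faithful flatness gives injectivity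
  have hJ' : ∀ b : B, algebraMap B (B ⊗[R] A ⧸ J) b = 0 → b ∈ I := by
    intro b hb
    have h := congr_arg (fun y ↦ σ (π y)) ((hJ (b ⊗ₜ[R] 1)).mp (Ideal.Quotient.eq_zero_iff_mem.mp hb))
    simp only [map_mul, hπε, hσe, map_zero, mul_one] at h
    rw [← Ideal.Quotient.eq_zero_iff_mem]
    simpa [π, σ] using h
  have : Module.FaithfullyFlat B (B ⊗[R] A ⧸ J) := by
    refine Module.FaithfullyFlat.of_comap_surjective fun p ↦ ?_
    have hp : p ∈ Set.range (PrimeSpectrum.comap (algebraMap B (B ⊗[R] A ⧸ J))) := by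
      rw [range_comap_of_surjective _ _ hsurj]
      intro b hb
      exact p.2.mem_of_pow_mem 2
        (by have := Ideal.pow_mem_pow (hJ' b hb) 2; rw [hI, Ideal.mem_bot] at this; simp [this])
    exact hp
  have hinj : Function.Injective (algebraMap B (B ⊗[R] A ⧸ J)) :=
    FaithfulSMul.algebraMap_injective _ _
  let E : B ≃ₐ[R] (B ⊗[R] A ⧸ J) :=
    AlgEquiv.ofBijective (IsScalarTower.toAlgHom R B _) ⟨hinj, hsurj⟩
  refine ⟨E.symm.toAlgHom.comp ((Ideal.Quotient.mkₐ R J).comp Algebra.TensorProduct.includeRight),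
    AlgHom.ext fun a ↦ ?_⟩
  set b := E.symm (Ideal.Quotient.mkₐ R J (1 ⊗ₜ a)) with hb
  show Ideal.Quotient.mk I b = g a
  have hba : Ideal.Quotient.mk J (b ⊗ₜ[R] 1) = Ideal.Quotient.mk J (1 ⊗ₜ a) :=
    E.apply_symm_apply _
  have h := congr_arg (fun y ↦ σ (π y)) ((hJ _).mp (Ideal.Quotient.eq.mp hba))
  simp only [map_mul, map_sub, hπε, hσe, map_zero, mul_one, sub_eq_zero] at h
  simpa [π, σ] using h

theorem formallyEtale_of_flat_of_formallyUnramified : Algebra.FormallyEtale R A :=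
  have := formallySmooth_of_flat_of_formallyUnramified (R := R) (A := A)
  .of_formallyUnramified_and_formallySmooth

end Groth.Agent.H8Props.FlatUnramified
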