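import Groth.Agent.H06Mod.StalkBaseChange
import Mathlib.RingTheory.Ideal.Pure
import Mathlib.RingTheory.Flat.Basic
import Mathlib.AlgebraicGeometry.Morphisms.Flat

/-!
# Modules flat over the base along a morphism with flat diagonal are flat
-/

set_option autoImplicit false
set_option linter.style.haveILetI false

universe u

open CategoryTheory CategoryTheory.Limits AlgebraicGeometry TensorProduct

namespace Groth.Agent.H8Props.FlatDiagonal

/-- A quotient of a flat module in which every relation is killed by an endomorphism over the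
quotient map is flat. -/
theorem flat_of_surjective_of_endo {B N M : Type u} [CommRing B] [AddCommGroup N] [Module B N]
    [AddCommGroup M] [Module B M] [Module.Flat B N] (f : N →ₗ[B] M) (hf : Function.Surjective f)
    (hφ : ∀ z, f z = 0 → ∃ φ : N →ₗ[B] N, φ z = 0 ∧ f.comp φ = f) : Module.Flat B M := by
  rw [Module.Flat.iff_lTensor_injective']
  intro I
  rw [injective_iff_map_eq_zero]
  intro x hx
  obtain ⟨y, rfl⟩ := LinearMap.rTensor_surjective I hf x
  let z := TensorProduct.rid B N (I.subtype.lTensor N y)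
  have hz : f z = 0 := by
    have : ∀ y, f (TensorProduct.rid B N (I.subtype.lTensor N y)) =
        TensorProduct.rid B M (I.subtype.lTensor M (f.rTensor I y)) := fun y => by
      induction y using TensorProduct.induction_on with
      | zero => simp
      | tmul n i => simp
      | add a b ha hb => simp only [map_add, ha, hb]
    rw [this, hx, map_zero]
  obtain ⟨φ, hφz, hfφ⟩ := hφ z hz
  have h1 : ∀ y, TensorProduct.rid B N (I.subtype.lTensor N (φ.rTensor I y)) =
      φ (TensorProduct.rid B N (I.subtype.lTensor N y)) := fun y => by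
    induction y using TensorProduct.induction_on with
    | zero => simp
    | tmul n i => simp
    | add a b ha hb => simp only [map_add, ha, hb]
  have h2 : φ.rTensor I y = 0 := by
    refine (injective_iff_map_eq_zero _).1
      (Module.Flat.lTensor_preserves_injective_linearMap (M := N) I.subtype I.injective_subtype) _ ?_
    refine (TensorProduct.rid B N).injective ?_
    rw [h1, map_zero]
    exact hφz
  calc f.rTensor I y = (f.comp φ).rTensor I y := by rw [hfφ]
    _ = f.rTensor I (φ.rTensor I y) := by rw [LinearMap.rTensor_comp]; rfl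
    _ = 0 := by rw [h2, map_zero]

variable (A B : Type u) [CommRing A] [CommRing B] [Algebra A B]

theorem flat_of_flat_mul (hμ : (Algebra.TensorProduct.lmul' A (S := B)).toRingHom.Flat)
    (M : Type u) [AddCommGroup M] [Module A M] [Module B M] [IsScalarTower A B M] [Module.Flat A M] :
    Module.Flat B M := by
  let μ := Algebra.TensorProduct.lmul' A (S := B)
  have hμ' : ∀ b c : B, μ (b ⊗ₜ c) = b * c := fun b c => Algebra.TensorProduct.lmul'_apply_tmul _ _
  haveI hpure : (RingHom.ker μ.toRingHom).Pure := by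
    letI := μ.toRingHom.toAlgebra
    have hf : Module.Flat (B ⊗[A] B) B := hμ
    have hs : Function.Surjective μ := fun x => ⟨x ⊗ₜ 1, by rw [hμ', mul_one]⟩
    exact Module.Flat.of_linearEquiv (Ideal.quotientKerAlgEquivOfSurjective
      (f := Algebra.ofId (B ⊗[A] B) B) hs).toLinearEquiv
  -- the two actions on `B ⊗ M`
  let ψ : B ⊗[A] B →ₐ[A] Module.End B (B ⊗[A] M) :=
    Algebra.TensorProduct.lift (IsScalarTower.toAlgHom A B _)
      ((Module.End.baseChangeHom A B M).comp (Algebra.lsmul A A M))
      fun b c => (Algebra.commutes b _)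
  let f : B ⊗[A] M →ₗ[B] M := LinearMap.liftBaseChange B LinearMap.id
  have hψ : ∀ (b c x : B) (m : M), ψ (b ⊗ₜ c) (x ⊗ₜ m) = (b * x) ⊗ₜ (c • m) := fun b c x m => rfl
  have hfψ : ∀ t z, f (ψ t z) = μ t • f z := fun t z => by
    induction t using TensorProduct.induction_on with
    | zero => simp
    | add a b ha hb => simp only [map_add, LinearMap.add_apply, ha, hb, add_smul]
    | tmul b c =>
      induction z using TensorProduct.induction_on with
      | zero => simp
      | add a b ha hb => simp only [map_add, ha, hb, smul_add]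
      | tmul x m =>
        rw [hψ, hμ']
        simp only [f, LinearMap.liftBaseChange_tmul, LinearMap.id_apply, ← mul_smul]
        ring_nf
  refine flat_of_surjective_of_endo f (fun m => ⟨1 ⊗ₜ m, by simp [f]⟩) fun z hz => ?_
  have key : ∀ z, ∃ u, μ u = 1 ∧ ψ u (z - 1 ⊗ₜ f z) = 0 := fun z => by
    induction z using TensorProduct.induction_on with
    | zero => exact ⟨1, map_one μ, by simp⟩
    | tmul b m =>
      have hj : b ⊗ₜ[A] (1 : B) - 1 ⊗ₜ b ∈ RingHom.ker μ.toRingHom := by
        rw [RingHom.mem_ker]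
        show μ (b ⊗ₜ 1 - 1 ⊗ₜ b) = 0
        rw [map_sub, hμ', hμ', mul_one, one_mul, sub_self]
      obtain ⟨e, he, hje⟩ := Ideal.exists_eq_mul_of_pure hj
      refine ⟨1 - e, by rw [map_sub, map_one, show μ e = 0 from he, sub_zero], ?_⟩
      have h0 : (b ⊗ₜ[A] m - 1 ⊗ₜ f (b ⊗ₜ m)) = ψ (b ⊗ₜ 1 - 1 ⊗ₜ b) (1 ⊗ₜ m) := by
        rw [map_sub, LinearMap.sub_apply, hψ, hψ]
        simp [f]
      rw [h0, ← Module.End.mul_apply, ← map_mul, show (1 - e) * (b ⊗ₜ[A] (1 : B) - 1 ⊗ₜ b) = 0 by
        linear_combination hje, map_zero, LinearMap.zero_apply]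
    | add z w hz hw =>
      obtain ⟨u, hu, hz⟩ := hz
      obtain ⟨v, hv, hw⟩ := hw
      refine ⟨u * v, by rw [map_mul, hu, hv, one_mul], ?_⟩
      rw [map_add, TensorProduct.tmul_add,
        show z + w - (1 ⊗ₜ f z + 1 ⊗ₜ f w) = (z - 1 ⊗ₜ f z) + (w - 1 ⊗ₜ f w) by abel, map_add]
      nth_rw 1 [mul_comm u v]
      rw [map_mul, map_mul, Module.End.mul_apply, Module.End.mul_apply, hz, hw, map_zero, map_zero,
        add_zero]
  obtain ⟨u, hu, hu0⟩ := key z
  refine ⟨ψ u, by simpa [hz] using hu0, LinearMap.ext fun w => ?_⟩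
  rw [LinearMap.comp_apply, hfψ, hu, one_smul]

attribute [local instance] H06Mod.stalkAlgebra

theorem flat_of_isFlatOver {X Y : Scheme.{u}} (f : X ⟶ Y) [Flat (pullback.diagonal f)]
    (F : X.Modules) (x : X) (h : FlatMod.IsFlatOverAt f F x) : FlatMod.IsFlatAt F x := by
  have hf := H06Mod.flat_tensorLift (Y.presheaf.stalk (f.base x)) (X.presheaf.stalk x)
    (X.presheaf.stalk x) (X.presheaf.stalk x) f f (X.fromSpecStalk x) (Y.fromSpecStalk (f.base x))
    (X.fromSpecStalk x) (Scheme.SpecMap_stalkMap_fromSpecStalk f)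
    (Scheme.SpecMap_stalkMap_fromSpecStalk f) (X.fromSpecStalk x ≫ pullback.diagonal f)
    (by rw [Category.assoc, pullback.diagonal_fst, Category.comp_id]; erw [Spec.map_id]; simp)
    (by rw [Category.assoc, pullback.diagonal_snd, Category.comp_id]; erw [Spec.map_id]; simp)
  letI := FlatMod.moduleStalkOver f F x
  haveI : IsScalarTower (Y.presheaf.stalk (f.base x)) (X.presheaf.stalk x) (F.presheaf.stalk x) :=
    .of_algebraMap_smul fun _ _ => rfl
  haveI : Module.Flat (Y.presheaf.stalk (f.base x)) (F.presheaf.stalk x) := h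
  refine flat_of_flat_mul (Y.presheaf.stalk (f.base x)) (X.presheaf.stalk x) ?_ _
  rwa [show Algebra.TensorProduct.lmul' (Y.presheaf.stalk (f.base x)) =
    H06Mod.tensorLift (Y.presheaf.stalk (f.base x)) (X.presheaf.stalk x) (X.presheaf.stalk x)
      (X.presheaf.stalk x) from Algebra.TensorProduct.ext' fun a b => by simp]

end Groth.Agent.H8Props.FlatDiagonal
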