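import Mathlib.AlgebraicGeometry.Noetherian
import Mathlib.RingTheory.Ideal.KrullsHeightTheorem
import Mathlib.Topology.KrullDimension

set_option autoImplicit false
universe u

open AlgebraicGeometry CategoryTheory Topology

namespace Groth.Agent.H8Props

/-- On a locally Noetherian scheme a nonempty set of generizations of a point has a most generic
element. -/
theorem exists_generic_in {X : Scheme.{u}} [IsLocallyNoetherian X] (T : Set X) (t : X)
    (ht : t ∈ T) : ∃ t₀ ∈ T, (∀ t' ∈ T, t' ⤳ t₀ → t' = t₀) ∧ t₀ ⤳ t := by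
  let g : PrimeSpectrum (X.presheaf.stalk t) → X := fun p ↦ X.fromSpecStalk t p
  have hsurj : ∀ y : X, y ⤳ t → ∃ p, g p = y := fun y hy ↦ by
    have : y ∈ Set.range (X.fromSpecStalk t) := by rw [Scheme.range_fromSpecStalk]; exact hy
    exact this
  have hspec : ∀ p, g p ⤳ t := fun p ↦ by
    have : g p ∈ Set.range (X.fromSpecStalk t) := ⟨p, rfl⟩
    rwa [Scheme.range_fromSpecStalk] at this
  have hemb : IsEmbedding g := (X.fromSpecStalk t).isEmbedding
  set S : Set (PrimeSpectrum (X.presheaf.stalk t)) := g ⁻¹' T with hS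
  have hne : S.Nonempty := by
    obtain ⟨p, hp⟩ := hsurj t specializes_rfl
    exact ⟨p, show g p ∈ T by rwa [hp]⟩
  have : WellFoundedLT (PrimeSpectrum (X.presheaf.stalk t)) :=
    StrictMono.wellFoundedLT (f := fun p : PrimeSpectrum (X.presheaf.stalk t) ↦ p.asIdeal.height)
      fun a b hab ↦ Ideal.height_strict_mono_of_isPrime (I := a.asIdeal) (J := b.asIdeal) hab
  obtain ⟨p, hpS, hmin⟩ := exists_minimal_of_wellFoundedLT (· ∈ S) hne
  refine ⟨g p, hpS, fun t' ht' hsp ↦ ?_, hspec p⟩
  obtain ⟨q, rfl⟩ := hsurj t' (hsp.trans (hspec p))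
  have hle : q ≤ p := (PrimeSpectrum.le_iff_specializes q p).mpr ((hemb.specializes_iff).mp hsp)
  rw [le_antisymm hle (hmin ht' hle)]

theorem t1Space_of_dim_le_zero {X : Scheme.{u}} (h : topologicalKrullDim X ≤ 0) : T1Space X := by
  refine ⟨fun x ↦ ?_⟩
  have : closure ({x} : Set X) = {x} := by
    refine Set.eq_singleton_iff_unique_mem.mpr ⟨subset_closure rfl, fun y hy ↦ ?_⟩
    let Zy : TopologicalSpace.IrreducibleCloseds X :=
      ⟨closure {y}, isIrreducible_singleton.closure, isClosed_closure⟩
    let Zx : TopologicalSpace.IrreducibleCloseds X :=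
      ⟨closure {x}, isIrreducible_singleton.closure, isClosed_closure⟩
    have hle : Zy ≤ Zx := closure_minimal (Set.singleton_subset_iff.mpr hy) isClosed_closure
    have hge : Zx ≤ Zy := (Order.krullDim_nonpos_iff_forall_isMax.mp h Zy) hle
    have h1 : x ⤳ y := specializes_iff_mem_closure.mpr hy
    have h2 : y ⤳ x := specializes_iff_mem_closure.mpr (hge (subset_closure rfl))
    exact (Inseparable.eq (h1.antisymm h2)).symm
  rw [← this]
  exact isClosed_closure

end Groth.Agent.H8Props
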