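import Mathlib.AlgebraicGeometry.Morphisms.Separated
import Mathlib.AlgebraicGeometry.Morphisms.QuasiSeparated
import Mathlib.AlgebraicGeometry.Limits
import Groth.Agent.H8Props.Specializations

set_option autoImplicit false
universe u

open AlgebraicGeometry CategoryTheory Limits Topology TopologicalSpace

namespace Groth.Agent.H8Props

theorem t2Space_primeSpectrum_of_t1Space (R : Type u) [CommRing R] [T1Space (PrimeSpectrum R)] :
    T2Space (PrimeSpectrum R) := by
  refine ⟨fun x y hxy ↦ ?_⟩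
  have hmax : ∀ p : PrimeSpectrum R, p.asIdeal.IsMaximal := fun p ↦
    (PrimeSpectrum.isClosed_singleton_iff_isMaximal p).mp isClosed_singleton
  obtain ⟨f, hfy, hfx⟩ : ∃ f, f ∈ y.asIdeal ∧ f ∉ x.asIdeal := by
    by_contra! hc
    exact hxy (PrimeSpectrum.ext ((hmax y).eq_of_le (hmax x).ne_top hc).symm)
  by_cases hM : ∃ s ∉ y.asIdeal, ∃ n : ℕ, s * f ^ n = 0
  · obtain ⟨s, hs, n, hn⟩ := hM
    refine ⟨PrimeSpectrum.basicOpen f, PrimeSpectrum.basicOpen s, (PrimeSpectrum.basicOpen f).2,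
      (PrimeSpectrum.basicOpen s).2, hfx, hs, Set.disjoint_left.mpr fun p hpf hps ↦ ?_⟩
    have : s * f ^ n ∈ p.asIdeal := hn ▸ p.asIdeal.zero_mem
    exact (p.2.mem_or_mem this).elim hps (fun h ↦ hpf (p.2.mem_of_pow_mem n h))
  · exfalso
    let M : Submonoid R := y.asIdeal.primeCompl ⊔ Submonoid.powers f
    have hd : Disjoint ((⊥ : Ideal R) : Set R) M := by
      rw [Set.disjoint_left]
      rintro r hr hrM
      obtain ⟨s, hs, t, ⟨n, rfl⟩, rfl⟩ := Submonoid.mem_sup.mp hrM
      exact hM ⟨s, hs, n, hr⟩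
    obtain ⟨p, hp, -, hpM⟩ := Ideal.exists_le_prime_disjoint ⊥ M hd
    have hle : p ≤ y.asIdeal := fun r hr ↦ by
      by_contra h
      exact Set.disjoint_left.mp hpM hr (Submonoid.mem_sup_left h)
    have := (hmax ⟨p, hp⟩).eq_of_le y.2.ne_top hle
    exact Set.disjoint_left.mp hpM (show f ∈ p from (show p = y.asIdeal from this) ▸ hfy)
      (Submonoid.mem_sup_right (Submonoid.mem_powers f))

theorem isSeparated_of_t2Space (X : Scheme.{u}) [T2Space X] : X.IsSeparated := by
  refine ⟨⟨?_⟩⟩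
  let f := terminal.from X
  let Δ := pullback.diagonal f
  refine IsClosedImmersion.of_isPreimmersion Δ (isClosed_of_closure_subset fun x hx ↦ ?_)
  have heq : pullback.fst f f x = pullback.snd f f x := by
    have hcl : IsClosed {z | pullback.fst f f z = pullback.snd f f z} :=
      isClosed_eq (pullback.fst f f).continuous (pullback.snd f f).continuous
    refine closure_minimal ?_ hcl hx
    rintro _ ⟨y, rfl⟩
    show pullback.fst f f (Δ y) = pullback.snd f f (Δ y)
    rw [← Scheme.Hom.comp_apply, ← Scheme.Hom.comp_apply]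
    simp [Δ]
  obtain ⟨U, hU, hxU, -⟩ : ∃ U : X.Opens, IsAffineOpen U ∧ pullback.fst f f x ∈ U ∧ U ≤ ⊤ :=
    Opens.isBasis_iff_nbhd.mp X.isBasis_affineOpens (Opens.mem_top (pullback.fst f f x))
  have : IsAffine U.toScheme := hU
  let g := U.ι ≫ f
  let m := pullback.map g g f f U.ι U.ι (𝟙 _) (by simp [g]) (by simp [g])
  have hrange : x ∈ Set.range m := by
    rw [Scheme.Pullback.range_map]
    exact ⟨by simpa using hxU, by simpa [← heq] using hxU⟩
  obtain ⟨w, rfl⟩ := hrange
  have hΔU : IsClosed (Set.range (pullback.diagonal g)) :=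
    (pullback.diagonal g).isClosedEmbedding.isClosed_range
  have hm1 : m ≫ pullback.fst f f = pullback.fst g g ≫ U.ι := pullback.lift_fst _ _ _
  have hm2 : m ≫ pullback.snd f f = pullback.snd g g ≫ U.ι := pullback.lift_snd _ _ _
  have hΔm : U.ι ≫ Δ = pullback.diagonal g ≫ m := by
    apply pullback.hom_ext <;>
      simp only [Category.assoc, hm1, hm2, Δ, pullback.diagonal_fst, pullback.diagonal_snd,
        pullback.diagonal_fst_assoc, pullback.diagonal_snd_assoc, Category.comp_id]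
  have hw : w ∈ Set.range (pullback.diagonal g) := by
    rw [← hΔU.closure_eq]
    have hpre : m ⁻¹' Set.range Δ ⊆ Set.range (pullback.diagonal g) := by
      rintro z ⟨y, hy⟩
      have h1 : y = U.ι (pullback.fst g g z) := by
        have h2 : (Δ ≫ pullback.fst f f) y = (m ≫ pullback.fst f f) z := by
          rw [Scheme.Hom.comp_apply, Scheme.Hom.comp_apply, hy]
        rw [pullback.diagonal_fst, hm1, Scheme.Hom.comp_apply] at h2
        simpa using h2
      refine ⟨pullback.fst g g z, m.isOpenEmbedding.injective ?_⟩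
      rw [← hy, h1, ← Scheme.Hom.comp_apply (pullback.diagonal g) m, ← hΔm, Scheme.Hom.comp_apply]
    refine closure_mono hpre ?_
    rw [← m.isOpenEmbedding.isOpenMap.preimage_closure_eq_closure_preimage m.continuous]
    exact hx
  obtain ⟨v, rfl⟩ := hw
  refine ⟨U.ι v, ?_⟩
  rw [← Scheme.Hom.comp_apply, ← Scheme.Hom.comp_apply, hΔm]

theorem t2Space_of_dim_le_zero (X : Scheme.{u}) [QuasiSeparatedSpace X]
    (h : topologicalKrullDim X ≤ 0) : T2Space X := by
  have := t1Space_of_dim_le_zero h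
  -- affine opens are Hausdorff
  have hA : ∀ (U : X.Opens), IsAffineOpen U → T2Space ((U : Set X) : Type u) := by
    intro U hU
    have : T1Space (PrimeSpectrum Γ(X, U)) :=
      hU.fromSpec.isOpenEmbedding.isEmbedding.t1Space
    have : T2Space (Spec Γ(X, U)) := t2Space_primeSpectrum_of_t1Space _
    exact hU.isoSpec.hom.homeomorph.isEmbedding.t2Space
  refine ⟨fun x y hxy ↦ ?_⟩
  obtain ⟨U, hU, hxU, -⟩ : ∃ U : X.Opens, IsAffineOpen U ∧ x ∈ U ∧ U ≤ ⊤ :=
      Opens.isBasis_iff_nbhd.mp X.isBasis_affineOpens (Opens.mem_top x)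
  by_cases hyU : y ∈ U
  · have := hA U hU
    obtain ⟨A, B, hAo, hBo, hxA, hyB, hd⟩ := t2_separation (X := (U : Set X)) (x := ⟨x, hxU⟩)
      (y := ⟨y, hyU⟩) (fun e ↦ hxy (congrArg Subtype.val e))
    exact ⟨Subtype.val '' A, Subtype.val '' B, U.2.isOpenMap_subtype_val A hAo,
      U.2.isOpenMap_subtype_val B hBo, ⟨_, hxA, rfl⟩, ⟨_, hyB, rfl⟩,
      Set.disjoint_image_of_injective Subtype.val_injective hd⟩
  · obtain ⟨V, hV, hyV, -⟩ : ∃ V : X.Opens, IsAffineOpen V ∧ y ∈ V ∧ V ≤ ⊤ :=
      Opens.isBasis_iff_nbhd.mp X.isBasis_affineOpens (Opens.mem_top y)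
    have := hA V hV
    have hc : IsCompact ((U : Set X) ∩ V) := QuasiSeparatedSpace.inter_isCompact _ _ U.2
      hU.isCompact V.2 hV.isCompact
    have hcl : IsClosed (Subtype.val ⁻¹' (U : Set X) : Set (V : Set X)) := by
      refine IsCompact.isClosed ?_
      rw [IsEmbedding.subtypeVal.isCompact_iff, Set.image_preimage_eq_inter_range,
        Subtype.range_coe]
      exact hc
    refine ⟨U, Subtype.val '' ((Subtype.val ⁻¹' (U : Set X) : Set (V : Set X))ᶜ), U.2,
      V.2.isOpenMap_subtype_val _ hcl.isOpen_compl, hxU, ⟨⟨y, hyV⟩, hyU, rfl⟩, ?_⟩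
    rw [Set.disjoint_left]
    rintro a ha ⟨b, hb, rfl⟩
    exact hb ha

end Groth.Agent.H8Props
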