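import Groth.Agent.H8Props.QFSlice
import Groth.Agent.H8Props.FibreCriterionApps
import Groth.Agent.H8Props.FlatLocus.Scheme
import Mathlib.RingTheory.NoetherNormalization
import Mathlib.RingTheory.AdjoinRoot
import Mathlib.RingTheory.Spectrum.Prime.FreeLocus
import Mathlib.RingTheory.Jacobson.Ring
import Mathlib.RingTheory.TensorProduct.MvPolynomial
import Mathlib.RingTheory.LocalRing.ResidueField.Fiber
import Mathlib.AlgebraicGeometry.Morphisms.Finite
import Mathlib.RingTheory.Finiteness.ModuleFinitePresentation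
import Mathlib.FieldTheory.Minpoly.Field

/-!
# Flat quasi-finite slices

A fibre of a flat finitely presented algebra is finite over a polynomial ring, flat near a closed
point; lifting the coordinates gives a morphism to affine space, flat and quasi-finite there, and
one pulls it back along a finite flat lift of the residue field extension of the image point.
-/

set_option autoImplicit false
set_option linter.style.haveILetI false
universe u

open AlgebraicGeometry CategoryTheory CategoryTheory.Limits TopologicalSpace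
open scoped TensorProduct

namespace Groth.Agent.H8Props.QFSlice

/-- Finitely many elements of a finite extension of a residue field lift to a flat quasi-finite
algebra of finite presentation. -/
theorem exists_flat_qf_lift {A : Type u} [CommRing A] (p : Ideal A) [p.IsPrime] (L : Type u)
    [Field L] [Algebra p.ResidueField L] [Algebra A L] [IsScalarTower A p.ResidueField L]
    [Module.Finite p.ResidueField L] : ∀ (d : ℕ) (t : Fin d → L),
    ∃ (C : Type u) (_ : CommRing C) (_ : Algebra A C), Module.Flat A C ∧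
      Algebra.FinitePresentation A C ∧ Algebra.QuasiFinite A C ∧
      ∃ π : C →ₐ[A] L, ∀ i, t i ∈ Set.range π := by
  intro d
  induction d with
  | zero =>
    exact fun _ => ⟨A, inferInstance, inferInstance, inferInstance, inferInstance, inferInstance,
      Algebra.ofId A L, fun i => i.elim0⟩
  | succ d ih =>
    intro t
    obtain ⟨C, _, _, _, _, _, π, hπ⟩ := ih fun i => t i.succ
    classical
    let q := minpoly p.ResidueField (t 0)
    have hq : q.Monic := minpoly.monic (Algebra.IsIntegral.isIntegral (t 0))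
    have hfrac : ∀ i, ∃ a ∉ p, ∃ b : A, algebraMap A p.ResidueField a * q.coeff i =
        algebraMap A p.ResidueField b := fun i => by
      obtain ⟨b, a, ha, h⟩ := IsFractionRing.div_surjective (A := A ⧸ p) (q.coeff i)
      obtain ⟨b, rfl⟩ := Ideal.Quotient.mk_surjective b
      obtain ⟨a, rfl⟩ := Ideal.Quotient.mk_surjective a
      refine ⟨a, fun h0 => nonZeroDivisors.ne_zero ha (Ideal.Quotient.eq_zero_iff_mem.mpr h0), b, ?_⟩
      rw [← h, IsScalarTower.algebraMap_apply A (A ⧸ p) p.ResidueField,
        IsScalarTower.algebraMap_apply A (A ⧸ p) p.ResidueField b]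
      exact mul_div_cancel₀ _ fun h0 => nonZeroDivisors.ne_zero ha
        ((IsFractionRing.injective (A ⧸ p) p.ResidueField) (h0.trans (map_zero _).symm))
    choose a ha b hb using hfrac
    let a₀ := ∏ i ∈ q.support, a i
    have ha₀ : a₀ ∉ p := fun h => by
      obtain ⟨i, -, hi⟩ := (inferInstance : p.IsPrime).prod_mem_iff.mp h
      exact ha i hi
    have hunit : IsUnit (π (algebraMap A C a₀)) := by
      rw [AlgHom.commutes, IsScalarTower.algebraMap_apply A p.ResidueField L, isUnit_iff_ne_zero,
        ne_eq, map_eq_zero_iff _ (algebraMap p.ResidueField L).injective, Ideal.algebraMap_residueField_eq_zero]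
      exact ha₀
    let Ca := Localization.Away (algebraMap A C a₀)
    let πa : Ca →ₐ[A] L :=
      { IsLocalization.Away.lift (algebraMap A C a₀) (g := π.toRingHom) hunit with
        commutes' := fun r => by
          show IsLocalization.Away.lift (algebraMap A C a₀) (g := π.toRingHom) hunit (algebraMap A Ca r) = _
          rw [IsScalarTower.algebraMap_apply A C Ca, IsLocalization.Away.lift_eq]
          exact π.commutes r }
    have hπa : ∀ c, πa (algebraMap C Ca c) = π c := fun c => IsLocalization.Away.lift_eq _ hunit c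
    have hlifts : q.map (algebraMap p.ResidueField L) ∈ Polynomial.lifts πa.toRingHom := by
      rw [Polynomial.lifts_iff_coeff_lifts]
      intro i
      rw [Polynomial.coeff_map]
      by_cases hi : i ∈ q.support
      · obtain ⟨e, he⟩ := IsLocalization.map_units (M := Submonoid.powers (algebraMap A C a₀)) Ca
          ⟨_, Submonoid.mem_powers _⟩
        refine ⟨↑e⁻¹ * algebraMap A Ca ((∏ j ∈ q.support.erase i, a j) * b i), ?_⟩
        show πa _ = _
        have he' : πa (e : Ca) = algebraMap A L a₀ := by rw [he, hπa, AlgHom.commutes]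
        have h1 : algebraMap A L ((∏ j ∈ q.support.erase i, a j) * b i) =
            πa (e : Ca) * algebraMap p.ResidueField L (q.coeff i) := by
          rw [he', show a₀ = _ from (Finset.prod_erase_mul _ _ hi).symm, map_mul, map_mul, mul_assoc]
          congr 1
          rw [IsScalarTower.algebraMap_apply A p.ResidueField L, ← hb, map_mul,
            ← IsScalarTower.algebraMap_apply A p.ResidueField L]
        rw [map_mul, AlgHom.commutes, h1, ← mul_assoc, ← map_mul, Units.inv_mul, map_one, one_mul]
      · exact ⟨0, by rw [map_zero, Polynomial.notMem_support_iff.mp hi, map_zero]⟩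
    obtain ⟨Q, hQ, -, hQm⟩ := Polynomial.lifts_and_natDegree_eq_and_monic hlifts (hq.map _)
    haveI := hQm.free_adjoinRoot
    haveI := hQm.finite_adjoinRoot
    haveI : Module.FinitePresentation Ca (AdjoinRoot Q) := Module.finitePresentation_of_projective _ _
    haveI : Algebra.FinitePresentation Ca (AdjoinRoot Q) :=
      Algebra.FinitePresentation.of_finitePresentation _ _
    haveI : Module.Flat A Ca := Module.Flat.trans A C Ca
    haveI : Algebra.FinitePresentation C Ca := IsLocalization.Away.finitePresentation (algebraMap A C a₀)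
    haveI : Algebra.FinitePresentation A Ca := Algebra.FinitePresentation.trans A C Ca
    have hev : Q.eval₂ πa.toRingHom (t 0) = 0 := by
      rw [← Polynomial.eval_map, hQ, Polynomial.eval_map, ← Polynomial.aeval_def, minpoly.aeval]
    let π' : AdjoinRoot Q →ₐ[A] L := AdjoinRoot.liftAlgHom Q πa (t 0) hev
    refine ⟨AdjoinRoot Q, inferInstance, inferInstance, Module.Flat.trans A Ca _,
      Algebra.FinitePresentation.trans A Ca _, Algebra.QuasiFinite.trans A Ca _, π', ?_⟩
    intro i
    induction i using Fin.cases with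
    | zero => exact ⟨AdjoinRoot.root Q, by simp [π']⟩
    | succ j =>
      obtain ⟨c, hc⟩ := hπ j
      exact ⟨AdjoinRoot.of Q (algebraMap C Ca c), by simp [π', hπa, hc]⟩

variable {A B : Type u} [CommRing A] [CommRing B] [Algebra A B] [Algebra.FinitePresentation A B]
  [Module.Flat A B]

/-- A flat quasi-finite slice of a flat algebra of finite presentation over a point of the image. -/
theorem exists_flat_slice (q₀ : PrimeSpectrum B) :
    ∃ (W : Scheme.{u}) (h : W ⟶ Spec (.of B)), IsAffine W ∧
      Flat (h ≫ Spec.map (CommRingCat.ofHom (algebraMap A B))) ∧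
      LocallyOfFinitePresentation (h ≫ Spec.map (CommRingCat.ofHom (algebraMap A B))) ∧
      LocallyQuasiFinite (h ≫ Spec.map (CommRingCat.ofHom (algebraMap A B))) ∧
      q₀.comap (algebraMap A B) ∈ Set.range (h ≫ Spec.map (CommRingCat.ofHom (algebraMap A B))) := by
  classical
  let p := q₀.comap (algebraMap A B)
  let κ := p.asIdeal.ResidueField
  let Bk := p.asIdeal.Fiber B
  haveI : q₀.asIdeal.LiesOver p.asIdeal := ⟨rfl⟩
  haveI : Nontrivial Bk := by
    have := (PrimeSpectrum.preimageEquivFiber A B p ⟨q₀, rfl⟩).isPrime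
    exact ⟨0, 1, fun h => this.ne_top ((Ideal.eq_top_iff_one _).mpr (h ▸ zero_mem _))⟩
  obtain ⟨d, ψ₀, hψ₀, hψ₀f⟩ := exists_finite_inj_algHom_of_fg κ Bk
  choose r hr c hc using fun i => Ideal.Fiber.exists_smul_eq_one_tmul p.asIdeal (ψ₀ (MvPolynomial.X i))
  -- rescale the coordinates so that they come from `B`
  let u : Fin d → κ := fun i => algebraMap A κ (r i)
  have hu : ∀ i, u i ≠ 0 := fun i h => hr i (Ideal.algebraMap_residueField_eq_zero.mp h)
  let σ : MvPolynomial (Fin d) κ →ₐ[κ] MvPolynomial (Fin d) κ :=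
    MvPolynomial.aeval fun i => MvPolynomial.C (u i) * MvPolynomial.X i
  let τ : MvPolynomial (Fin d) κ →ₐ[κ] MvPolynomial (Fin d) κ :=
    MvPolynomial.aeval fun i => MvPolynomial.C (u i)⁻¹ * MvPolynomial.X i
  have hστ : σ.comp τ = AlgHom.id κ _ := MvPolynomial.algHom_ext fun i => by
    show σ (τ (MvPolynomial.X i)) = MvPolynomial.X i
    simp only [σ, τ, MvPolynomial.aeval_X, map_mul, MvPolynomial.aeval_C, MvPolynomial.algebraMap_eq]
    rw [← mul_assoc, ← map_mul, inv_mul_cancel₀ (hu i), map_one, one_mul]
  have hτσ : τ.comp σ = AlgHom.id κ _ := MvPolynomial.algHom_ext fun i => by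
    show τ (σ (MvPolynomial.X i)) = MvPolynomial.X i
    simp only [σ, τ, MvPolynomial.aeval_X, map_mul, MvPolynomial.aeval_C, MvPolynomial.algebraMap_eq]
    rw [← mul_assoc, ← map_mul, mul_inv_cancel₀ (hu i), map_one, one_mul]
  let ψ := ψ₀.comp σ
  have hψ : Function.Injective ψ :=
    hψ₀.comp (fun a b h => by
      simpa using (congrFun (congrArg DFunLike.coe hτσ) a).symm.trans
        ((congrArg τ h).trans (congrFun (congrArg DFunLike.coe hτσ) b)))
  have hψf : ψ.toRingHom.Finite := RingHom.Finite.comp hψ₀f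
    (RingHom.Finite.of_surjective σ.toRingHom fun a => ⟨τ a, congrFun (congrArg DFunLike.coe hστ) a⟩)
  have hψX : ∀ i, ψ (MvPolynomial.X i) = 1 ⊗ₜ c i := fun i => by
    simp only [ψ, σ, AlgHom.comp_apply, MvPolynomial.aeval_X, map_mul, ← MvPolynomial.algebraMap_eq,
      AlgHom.commutes, u]
    rw [← IsScalarTower.algebraMap_apply, ← Algebra.smul_def]
    exact hc i
  let P := MvPolynomial (Fin d) A
  let Kt := MvPolynomial (Fin d) κ
  let φ : P →ₐ[A] B := MvPolynomial.aeval c
  letI : Algebra P B := φ.toRingHom.toAlgebra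
  haveI : IsScalarTower A P B := IsScalarTower.of_algebraMap_eq fun a => (φ.commutes a).symm
  haveI : Algebra.FiniteType P B := Algebra.FiniteType.of_restrictScalars_finiteType A P B
  haveI : Algebra.FinitePresentation P B :=
    Algebra.FinitePresentation.of_restrict_scalars_finitePresentation A P B
  letI : Algebra Kt Bk := ψ.toRingHom.toAlgebra
  haveI : IsScalarTower κ Kt Bk := IsScalarTower.of_algebraMap_eq fun a => (ψ.commutes a).symm
  haveI : Module.Finite Kt Bk := RingHom.finite_algebraMap.mp hψf
  haveI : Algebra.FinitePresentation Kt Bk := Algebra.FinitePresentation.of_finiteType.mp inferInstance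
  -- a closed point of the coordinate space over which the fibre is flat
  haveI : Module.FinitePresentation Kt Bk := Module.finitePresentation_of_finite _ _
  have hbot : (⊥ : PrimeSpectrum Kt) ∈ Module.freeLocus Kt Bk := by
    rw [Module.mem_freeLocus]
    letI : Field (Localization.AtPrime (⊥ : Ideal Kt)) := IsField.toField <| by
      haveI : IsFractionRing Kt (Localization.AtPrime (⊥ : Ideal Kt)) := by
        rw [IsFractionRing]
        convert (inferInstance : IsLocalization (⊥ : Ideal Kt).primeCompl
          (Localization.AtPrime (⊥ : Ideal Kt))) using 1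
        ext x
        simp [Ideal.primeCompl, mem_nonZeroDivisors_iff_ne_zero]
      exact (IsFractionRing.toField Kt).toIsField
    exact Module.Free.of_divisionRing _ _
  obtain ⟨w, hw, hwmax⟩ : ∃ w : PrimeSpectrum Kt, w ∈ Module.freeLocus Kt Bk ∧ w.asIdeal.IsMaximal := by
    obtain ⟨w, hw, hwc⟩ := nonempty_inter_closedPoints ⟨_, hbot⟩
      (Module.isOpen_freeLocus (R := Kt) (M := Bk)).isLocallyClosed
    exact ⟨w, hw, (PrimeSpectrum.isClosed_singleton_iff_isMaximal w).mp (mem_closedPoints_iff.mp hwc)⟩
  haveI : FaithfulSMul Kt Bk := (faithfulSMul_iff_algebraMap_injective Kt Bk).mpr hψ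
  obtain ⟨z, hz⟩ := Algebra.IsIntegral.comap_surjective Kt Bk w
  have hzflat : Module.Flat Kt (Localization.AtPrime z.asIdeal) := by
    have hle : Algebra.algebraMapSubmonoid Bk w.asIdeal.primeCompl ≤ z.asIdeal.primeCompl := by
      rintro _ ⟨a, ha, rfl⟩ h
      exact ha (hz ▸ h)
    let Bw := Localization (Algebra.algebraMapSubmonoid Bk w.asIdeal.primeCompl)
    haveI : Module.Free (Localization.AtPrime w.asIdeal) (LocalizedModule w.asIdeal.primeCompl Bk) := hw
    haveI : Module.Flat Kt (LocalizedModule w.asIdeal.primeCompl Bk) :=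
      Module.Flat.trans Kt (Localization.AtPrime w.asIdeal) _
    have hloc := (isLocalizedModule_iff_isLocalization (S := w.asIdeal.primeCompl) (R := Kt) (A := Bk)
      (Aₛ := Bw)).mpr inferInstance
    haveI : Module.Flat Kt Bw := Module.Flat.of_linearEquiv
      (@IsLocalizedModule.iso _ _ w.asIdeal.primeCompl _ _ _ _ _ _ _ hloc).symm
    letI := IsLocalization.localizationAlgebraOfSubmonoidLe Bw (Localization.AtPrime z.asIdeal) _ _ hle
    haveI := IsLocalization.localization_isScalarTower_of_submonoid_le Bw (Localization.AtPrime z.asIdeal) _ _ hle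
    haveI : IsScalarTower Kt Bw (Localization.AtPrime z.asIdeal) :=
      IsScalarTower.of_algebraMap_eq (R := Kt) (S := Bw) (A := Localization.AtPrime z.asIdeal) fun a =>
        (IsScalarTower.algebraMap_apply Kt Bk (Localization.AtPrime z.asIdeal) a).trans
          ((IsScalarTower.algebraMap_apply Bk Bw (Localization.AtPrime z.asIdeal) _).trans
            (congrArg _ (IsScalarTower.algebraMap_apply Kt Bk Bw a).symm))
    have hL := IsLocalization.isLocalization_of_submonoid_le Bw (Localization.AtPrime z.asIdeal)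
      _ _ hle
    haveI := @IsLocalization.flat Bw (Localization.AtPrime z.asIdeal) _ _ _ _ hL
    exact Module.Flat.trans Kt Bw _
  -- the squares
  letI : Algebra P Kt := MvPolynomial.algebraMvPolynomial
  let Φ := Spec.map (CommRingCat.ofHom (algebraMap P B))
  let gS := Spec.map (CommRingCat.ofHom (algebraMap A P))
  let f' := Spec.map (CommRingCat.ofHom (algebraMap Kt Bk))
  let pY := Spec.map (CommRingCat.ofHom (algebraMap P Kt))
  let pX := Spec.map (CommRingCat.ofHom (Algebra.TensorProduct.includeRight : B →ₐ[A] Bk).toRingHom)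
  have hfg : Φ ≫ gS = Spec.map (CommRingCat.ofHom (algebraMap A B)) := by
    rw [← Spec.map_comp]; congr 1; ext a; exact (IsScalarTower.algebraMap_apply A P B a).symm
  have hY : IsPullback pY (Spec.map (CommRingCat.ofHom (algebraMap κ Kt))) gS
      (Spec.map (CommRingCat.ofHom (algebraMap A κ))) :=
    (isPullback_SpecMap_of_isPushout _ _ _ _ (CommRingCat.isPushout_of_isPushout A κ P Kt)).flip
  have hXS : IsPullback pX (f' ≫ Spec.map (CommRingCat.ofHom (algebraMap κ Kt))) (Φ ≫ gS)
      (Spec.map (CommRingCat.ofHom (algebraMap A κ))) := by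
    rw [hfg, show f' ≫ Spec.map (CommRingCat.ofHom (algebraMap κ Kt)) =
      Spec.map (CommRingCat.ofHom (algebraMap κ Bk)) from by
        rw [← Spec.map_comp]; congr 1
        exact CommRingCat.hom_ext (RingHom.ext fun a => (IsScalarTower.algebraMap_apply κ Kt Bk a).symm)]
    letI := Algebra.TensorProduct.rightAlgebra (R := A) (A := κ) (B := B)
    exact (isPullback_SpecMap_of_isPushout _ _ _ _ (CommRingCat.isPushout_of_isPushout A κ B Bk)).flip
  have hX : IsPullback pX f' Φ pY := by
    refine IsPullback.of_bot hXS ?_ hY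
    rw [← Spec.map_comp, ← Spec.map_comp]
    congr 1
    refine CommRingCat.hom_ext (MvPolynomial.ringHom_ext (fun a => ?_) fun i => ?_)
    · show (1 : κ) ⊗ₜ[A] φ (MvPolynomial.C a) = ψ (MvPolynomial.map (algebraMap A κ) (MvPolynomial.C a))
      rw [MvPolynomial.map_C, ← MvPolynomial.algebraMap_eq, ← MvPolynomial.algebraMap_eq,
        AlgHom.commutes, AlgHom.commutes, Algebra.TensorProduct.algebraMap_apply,
        Algebra.algebraMap_eq_smul_one (R := A) (A := B), ← TensorProduct.smul_tmul,
        ← Algebra.algebraMap_eq_smul_one, Algebra.algebraMap_self, RingHom.id_apply]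
    · show (1 : κ) ⊗ₜ[A] φ (MvPolynomial.X i) = ψ (MvPolynomial.map (algebraMap A κ) (MvPolynomial.X i))
      rw [MvPolynomial.map_X, hψX, MvPolynomial.aeval_X]
  haveI : LocallyOfFinitePresentation gS := (HasRingHomProperty.Spec_iff (P := @LocallyOfFinitePresentation)).mpr
    (RingHom.finitePresentation_algebraMap.mpr inferInstance)
  haveI : LocallyOfFinitePresentation (Φ ≫ gS) := hfg ▸
    (HasRingHomProperty.Spec_iff (P := @LocallyOfFinitePresentation)).mpr
      (RingHom.finitePresentation_algebraMap.mpr inferInstance)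
  haveI : Flat (Φ ≫ gS) := hfg ▸ (HasRingHomProperty.Spec_iff (P := @Flat)).mpr
    (RingHom.flat_algebraMap_iff.mpr inferInstance)
  haveI : LocallyOfFinitePresentation Φ := (HasRingHomProperty.Spec_iff (P := @LocallyOfFinitePresentation)).mpr
    (RingHom.finitePresentation_algebraMap.mpr inferInstance)
  let x : Spec (.of B) := pX z
  have hxflat : (Φ.stalkMap x).hom.Flat := by
    let g' := Spec.map (CommRingCat.ofHom (algebraMap κ Kt))
    have h' : ((MoreMor.fiberMap f' g' ((f' ≫ g') z)).stalkMap ((f' ≫ g').asFiber z)).hom.Flat := by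
      refine FibreCriterion.flat_stalkMap_baseChange
        ((FibreCriterion.isPullback_fiberMap f' g' _)) _ ?_
      rw [Scheme.Hom.fiberι_asFiber]
      exact (FlatLocus.flat_stalkMap_Spec_iff z).mpr hzflat
    obtain ⟨z₀, hz₀, h₀⟩ := FibreCriterion.flat_fiberMap_descend hY hX _ _ h'
    have h1 := (FibreCriterion.flat_stalkMap_of_fiberMap Φ gS _ z₀ h₀).1
    rw [hz₀, Scheme.Hom.fiberι_asFiber] at h1
    exact h1
  have hxw : Φ x = pY w := by
    show (pX ≫ Φ) z = pY w
    rw [hX.w, Scheme.Hom.comp_apply]
    exact congrArg pY (show f' z = w from hz)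
  have hxqf : Φ.QuasiFiniteAt x := by
    refine Scheme.Hom.quasiFiniteAt_iff_isOpen_singleton_asFiber.mpr ?_
    haveI : IsFinite f' := (IsFinite.SpecMap_iff _).mpr hψf
    have hfin : (Φ ⁻¹' {Φ x}).Finite := by
      refine ((f'.finite_preimage_singleton w).image pX).subset fun y hy => ?_
      obtain ⟨z', hz₁, hz₂⟩ := Scheme.Pullback.exists_preimage_pullback (f := Φ) (g := pY) y w
        (by rw [show Φ y = Φ x from hy, hxw])
      refine ⟨hX.isoPullback.inv z', ?_, ?_⟩
      · show f' (hX.isoPullback.inv z') = w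
        rw [← Scheme.Hom.comp_apply, hX.isoPullback_inv_snd, hz₂]
      · rw [← Scheme.Hom.comp_apply, hX.isoPullback_inv_fst, hz₁]
    haveI : Finite (Φ.fiber (Φ x)) := by
      haveI := hfin.to_subtype
      exact Finite.of_equiv _ (Φ.fiberHomeo (Φ x)).symm.toEquiv
    exact isOpen_discrete _
  obtain ⟨_, ⟨W, hW, rfl⟩, hxW, hWle⟩ := (Spec (.of B)).isBasis_affineOpens.exists_subset_of_mem_open
    (u := {y | (Φ.stalkMap y).hom.Flat} ∩ (Φ.quasiFiniteLocus : Set _)) ⟨hxflat, hxqf⟩
    ((FlatLocus.isOpen_setOf_flat_stalkMap Φ).inter Φ.quasiFiniteLocus.2)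
  let W₁ : (Spec (CommRingCat.of B)).Opens := W
  haveI : IsAffine W₁.toScheme := hW
  haveI : Flat (W₁.ι ≫ Φ) := (AlgebraicGeometry.Flat.iff_flat_stalkMap _).mpr fun y => by
    rw [Scheme.Hom.stalkMap_comp]
    exact RingHom.Flat.comp (hWle y.2).1
      (RingHom.Flat.of_bijective (ConcreteCategory.bijective_of_isIso (W₁.ι.stalkMap y)))
  haveI : LocallyQuasiFinite (W₁.ι ≫ Φ) :=
    ((W₁.ι ≫ Φ).quasiFiniteLocus_eq_top_iff).mp (top_unique fun y _ => by
      rw [Scheme.Hom.quasiFiniteLocus_comp]
      exact (hWle y.2).2)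
  -- the flat quasi-finite lift of the closed point
  let L := Kt ⧸ w.asIdeal
  letI : Field L := Ideal.Quotient.field w.asIdeal
  haveI : Algebra.FiniteType κ L := inferInstance
  haveI : Module.Finite κ L := finite_of_finite_type_of_isJacobsonRing κ L
  obtain ⟨C, _, _, _, _, _, π, hπ⟩ :=
    exists_flat_qf_lift p.asIdeal L d fun i => Ideal.Quotient.mk w.asIdeal (MvPolynomial.X i)
  choose cC hcC using hπ
  let m₀ : P →ₐ[A] C := MvPolynomial.aeval cC
  have hm : π.toRingHom.comp m₀.toRingHom =
      (Ideal.Quotient.mk w.asIdeal).comp (MvPolynomial.map (algebraMap A κ)) := by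
    refine MvPolynomial.ringHom_ext (fun a => ?_) fun i => ?_
    · show π (m₀ (MvPolynomial.C a)) = Ideal.Quotient.mk _ (MvPolynomial.map _ (MvPolynomial.C a))
      rw [MvPolynomial.map_C, ← MvPolynomial.algebraMap_eq, ← MvPolynomial.algebraMap_eq,
        AlgHom.commutes, AlgHom.commutes, ← IsScalarTower.algebraMap_apply]
      rfl
    · show π (m₀ (MvPolynomial.X i)) = Ideal.Quotient.mk _ (MvPolynomial.map _ (MvPolynomial.X i))
      rw [MvPolynomial.aeval_X, MvPolynomial.map_X, hcC]
  let m := Spec.map (CommRingCat.ofHom m₀.toRingHom)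
  let c₀ : PrimeSpectrum C := PrimeSpectrum.comap π.toRingHom ⊥
  have hmc : m c₀ = pY w := by
    refine PrimeSpectrum.ext (Ideal.ext fun a => ?_)
    show π.toRingHom (m₀.toRingHom a) ∈ (⊥ : Ideal L) ↔ MvPolynomial.map (algebraMap A κ) a ∈ w.asIdeal
    rw [Ideal.mem_bot, ← RingHom.comp_apply, hm, RingHom.comp_apply, Ideal.Quotient.eq_zero_iff_mem]
  let sC := Spec.map (CommRingCat.ofHom (algebraMap A C))
  have hmg : m ≫ gS = sC := by
    rw [← Spec.map_comp]; congr 1; ext a; exact m₀.commutes a
  haveI : Flat sC := (HasRingHomProperty.Spec_iff (P := @Flat)).mpr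
    (RingHom.flat_algebraMap_iff.mpr inferInstance)
  haveI : LocallyOfFinitePresentation sC := (HasRingHomProperty.Spec_iff (P := @LocallyOfFinitePresentation)).mpr
    (RingHom.finitePresentation_algebraMap.mpr inferInstance)
  haveI : LocallyQuasiFinite sC := (HasRingHomProperty.Spec_iff (P := @LocallyQuasiFinite)).mpr
    (RingHom.quasiFinite_algebraMap.mpr inferInstance)
  have hres : (pullback.fst (W₁.ι ≫ Φ) m ≫ W₁.ι) ≫ Spec.map (CommRingCat.ofHom (algebraMap A B)) =
      pullback.snd (W₁.ι ≫ Φ) m ≫ sC := by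
    rw [← hfg, ← hmg, Category.assoc, ← Category.assoc W₁.ι, pullback.condition_assoc]
  refine ⟨pullback (W₁.ι ≫ Φ) m, pullback.fst (W₁.ι ≫ Φ) m ≫ W₁.ι, inferInstance,
    by rw [hres]; infer_instance, by rw [hres]; infer_instance, by rw [hres]; infer_instance, ?_⟩
  obtain ⟨y, -, hy⟩ := Scheme.Pullback.exists_preimage_pullback (f := W₁.ι ≫ Φ) (g := m)
    (⟨x, hxW⟩ : W₁.toScheme) c₀ (by rw [hmc, ← hxw]; rfl)
  refine ⟨y, ?_⟩
  rw [hres, Scheme.Hom.comp_apply, hy]
  refine PrimeSpectrum.ext (Ideal.ext fun a => ?_)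
  show π.toRingHom (algebraMap A C a) ∈ (⊥ : Ideal L) ↔ a ∈ p.asIdeal
  rw [Ideal.mem_bot, AlgHom.toRingHom_eq_coe, RingHom.coe_coe, AlgHom.commutes,
    IsScalarTower.algebraMap_apply A κ L, map_eq_zero_iff _ (algebraMap κ L).injective,
    Ideal.algebraMap_residueField_eq_zero]

end Groth.Agent.H8Props.QFSlice
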