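import Groth.Agent.H8Props.PseudoCoh.TorDimStalk
import Groth.Agent.H8Props.PseudoCoh.PerfectMor
import Groth.Prelude.Def_MoreMor

/-!
# Perfect morphisms and tor dimension of the local rings
-/

set_option autoImplicit false
set_option linter.style.haveILetI false
set_option backward.isDefEq.respectTransparency false

universe u

open CategoryTheory AlgebraicGeometry

namespace Groth.Agent.H8Props.PerfectStalks

open PseudoCoh

variable {X S : Scheme.{u}} (f : X ⟶ S)

theorem torDim_stalk_iff {V : S.Opens} (hV : IsAffineOpen V) {x : X} (hxV : f x ∈ V) (d : ℕ) :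
    (letI := (f.stalkMap x).hom.toAlgebra
     DRing.HasTorDimLE ↑(S.presheaf.stalk (f x)) d ↑(X.presheaf.stalk x)) ↔
    (letI := (S.presheaf.germ V (f x) hxV ≫ f.stalkMap x).hom.toAlgebra
     DRing.HasTorDimLE Γ(S, V) d ↑(X.presheaf.stalk x)) := by
  let R := S.presheaf.stalk (f x)
  let T := X.presheaf.stalk x
  letI : Algebra R T := (f.stalkMap x).hom.toAlgebra
  letI : Algebra Γ(S, V) T := (S.presheaf.germ V (f x) hxV ≫ f.stalkMap x).hom.toAlgebra
  letI : Algebra Γ(S, V) R := TopCat.Presheaf.algebra_section_stalk S.presheaf (⟨f x, hxV⟩ : V)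
  haveI : IsLocalization.AtPrime R (hV.primeIdealOf ⟨f x, hxV⟩).asIdeal :=
    hV.isLocalization_stalk ⟨f x, hxV⟩
  haveI : IsScalarTower Γ(S, V) R T := IsScalarTower.of_algebraMap_eq fun _ => rfl
  haveI : Module.Flat Γ(S, V) R := IsLocalization.flat R (hV.primeIdealOf ⟨f x, hxV⟩).asIdeal.primeCompl
  refine ⟨hasTorDimLE_restrictScalars, fun h => ?_⟩
  let M := (hV.primeIdealOf ⟨f x, hxV⟩).asIdeal.primeCompl
  haveI : IsLocalizedModule M (LinearMap.id : T →ₗ[Γ(S, V)] T) := isLocalizedModule_id M T R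
  exact hasTorDimLE_of_equiv (IsLocalizedModule.isBaseChange M R (LinearMap.id : T →ₗ[Γ(S, V)] T)).equiv
    (hasTorDimLE_baseChange h)

theorem germ_stalkMap_eq {U : X.Opens} {V : S.Opens} (e : U ≤ f ⁻¹ᵁ V) {x : X} (hx : x ∈ U) :
    S.presheaf.germ V (f x) (e hx) ≫ f.stalkMap x = f.appLE V U e ≫ X.presheaf.germ U x hx := by
  simp only [Scheme.Hom.germ_stalkMap, Scheme.Hom.appLE, Category.assoc, TopCat.Presheaf.germ_res]

theorem hasFiniteTorDim_sections (hf : MoreMor.IsPseudoCoherentMor f)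
    (h : ∀ x : X, (letI := (f.stalkMap x).hom.toAlgebra
       DRing.HasFiniteTorDim ↑(S.presheaf.stalk (f x)) ↑(X.presheaf.stalk x)))
    {U : X.Opens} {V : S.Opens} (hU : IsAffineOpen U) (hV : IsAffineOpen V) (e : U ≤ f ⁻¹ᵁ V) :
    letI := (f.appLE V U e).hom.toAlgebra
    DRing.HasFiniteTorDim Γ(S, V) Γ(X, U) := by
  letI := (f.appLE V U e).hom.toAlgebra
  refine hasFiniteTorDim_of_atPrime (hf U V hU hV e) fun q => ?_
  have hx : hU.fromSpec q ∈ U := by
    have := Set.mem_range_self (f := hU.fromSpec) q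
    rwa [hU.range_fromSpec] at this
  let x : X := hU.fromSpec q
  obtain ⟨d, hd⟩ := h x
  let T := X.presheaf.stalk x
  letI aT : Algebra Γ(X, U) T := TopCat.Presheaf.algebra_section_stalk X.presheaf (⟨x, hx⟩ : U)
  haveI : IsLocalization.AtPrime T q.asIdeal := hU.isLocalization_stalk' q hx
  have h1 := (torDim_stalk_iff f hV (e hx) d).1 hd
  rw [germ_stalkMap_eq f e hx] at h1
  letI : Algebra Γ(S, V) T := (f.appLE V U e ≫ X.presheaf.germ U x hx).hom.toAlgebra
  haveI : IsScalarTower Γ(S, V) Γ(X, U) T := IsScalarTower.of_algebraMap_eq fun _ => rfl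
  let E : T ≃ₐ[Γ(X, U)] Localization.AtPrime q.asIdeal :=
    IsLocalization.algEquiv q.asIdeal.primeCompl T (Localization.AtPrime q.asIdeal)
  exact ⟨d, hasTorDimLE_of_equiv (E.toLinearEquiv.restrictScalars Γ(S, V)) h1⟩

theorem isPerfectMor_iff_stalks (hf : MoreMor.IsPseudoCoherentMor f) :
    MoreMor.IsPerfectMor f ↔ ∀ x : X,
      (letI := (f.stalkMap x).hom.toAlgebra
       DRing.HasFiniteTorDim ↑(S.presheaf.stalk (f x)) ↑(X.presheaf.stalk x)) := by
  refine ⟨fun h x => ?_, fun h U V hU hV e => ?_⟩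
  · obtain ⟨V, hV, hxV, -⟩ := exists_isAffineOpen_mem_and_subset (x := f x) (U := ⊤) trivial
    obtain ⟨U, hU, hxU, hUV⟩ := exists_isAffineOpen_mem_and_subset (x := x) (U := f ⁻¹ᵁ V) hxV
    have e : U ≤ f ⁻¹ᵁ V := hUV
    letI := (f.appLE V U e).hom.toAlgebra
    obtain ⟨-, d, hd⟩ := isPerfectHom_iff.mp (h U V hU hV e)
    refine ⟨d, (torDim_stalk_iff f hV hxV d).2 ?_⟩
    rw [germ_stalkMap_eq f e hxU]
    let T := X.presheaf.stalk x
    letI aT : Algebra Γ(X, U) T := TopCat.Presheaf.algebra_section_stalk X.presheaf (⟨x, hxU⟩ : U)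
    haveI : IsLocalization.AtPrime T (hU.primeIdealOf ⟨x, hxU⟩).asIdeal :=
      hU.isLocalization_stalk ⟨x, hxU⟩
    haveI : Module.Flat Γ(X, U) T := IsLocalization.flat T (hU.primeIdealOf ⟨x, hxU⟩).asIdeal.primeCompl
    letI : Algebra Γ(S, V) T := (f.appLE V U e ≫ X.presheaf.germ U x hxU).hom.toAlgebra
    haveI : IsScalarTower Γ(S, V) Γ(X, U) T := IsScalarTower.of_algebraMap_eq fun _ => rfl
    exact hasTorDimLE_of_flat_algebra hd T
  · letI := (f.appLE V U e).hom.toAlgebra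
    exact isPerfectHom_iff.mpr ⟨hf U V hU hV e, hasFiniteTorDim_sections f hf h hU hV e⟩

end Groth.Agent.H8Props.PerfectStalks
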