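import Groth.Agent.H8Props.RelPCComp
import Groth.Agent.H8Props.RelPCTransfer
import Groth.Agent.H8Props.RelPCRep

/-!
# Composition with a morphism with pseudo-coherent structure sheaf
-/

set_option autoImplicit false
set_option linter.style.haveILetI false
set_option backward.isDefEq.respectTransparency false

universe u

open CategoryTheory CategoryTheory.Limits AlgebraicGeometry

attribute [local instance] HasDerivedCategory.standard

namespace Groth.Agent.H8Props.RelPC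

open H16Derived.KFlat.Stalk PushPC

/-- Every chart of the morphism has finite free syzygies. -/
def RFPMor {T S : Scheme.{u}} (b : T ⟶ S) : Prop :=
  ∀ (W : T.Opens) (V : S.Opens) (_ : IsAffineOpen W) (_ : IsAffineOpen V) (e : W ≤ b ⁻¹ᵁ V) (k : ℕ)
    (φ : MvPolynomial (Fin k) Γ(S, V) →+* Γ(T, W)), DerSch.IsChart b W V e φ → PseudoCoh.RFP φ

theorem nonempty_pushUnitIso {X Y : Scheme.{u}} (a : X ⟶ Y) [IsIso a] :
    Nonempty ((Scheme.Modules.pushforward a).obj (Coh.structureModule X) ≅ Coh.structureModule Y) := by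
  have H : IsPullback (𝟙 Y) (inv a) (𝟙 Y) a := IsPullback.of_horiz_isIso ⟨by simp⟩
  exact ⟨(Scheme.Modules.restrictFunctorId.app _).symm ≪≫ (pushRestrictSquareNatIso H).app _ ≪≫
    (Scheme.Modules.pushforwardId Y).app _ ≪≫ Scheme.Modules.restrictUnitIso (inv a)⟩

theorem rfpMor_of_isNPseudoCoherent {T S : Scheme.{u}} (g : T ⟶ S)
    (h : ∀ n : ℤ, DerSch.IsNPseudoCoherent g n) : RFPMor g := by
  intro W V hW hV e n φ hφ
  haveI := isClosedImmersion_chartImm hW φ hφ.1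
  haveI : IsIso W.toSpecΓ := by rw [← hW.isoSpec_hom]; infer_instance
  letI := φ.toAlgebra
  let i := Spec.map (CommRingCat.ofHom φ)
  obtain ⟨ε⟩ : Nonempty ((Scheme.Modules.pushforward W.toSpecΓ).obj (Coh.structureModule W) ≅
      Coh.structureModule (Spec (CommRingCat.of Γ(T, W)))) :=
    nonempty_pushUnitIso W.toSpecΓ
  have h1 : ∀ m : ℤ, DCoh.IsPseudoCoherentD m (DCoh.inD _
      ((Scheme.Modules.pushforward i).obj (Coh.structureModule _))) := fun m =>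
    isPseudoCoherentD_of_iso ((DerivedCategory.singleFunctor _ 0).mapIso
      (((Scheme.Modules.pushforwardComp W.toSpecΓ i).app _).symm ≪≫
        (Scheme.Modules.pushforward i).mapIso ε))
      (pcMor_of_isNPseudoCoherent g h ⟨W, hW⟩ ⟨V, hV⟩ e n φ hφ m)
  exact PseudoCoh.fpInf_of_isPseudoCoherentModule' (RpushAffine.isPseudoCoherentModule'_of_push h1)

variable {X T S : Scheme.{u}}

/-- Charts over the middle scheme give charts over the base with the same test. -/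
theorem exists_chart_trans' (a : X ⟶ T) (b : T ⟶ S) [LocallyOfFiniteType b] (hb : RFPMor b)
    {U : X.Opens} (hU : IsAffineOpen U) {W : T.Opens} (hW : IsAffineOpen W) {V : S.Opens}
    (hV : IsAffineOpen V) (e₁ : U ≤ a ⁻¹ᵁ W) (e₂ : W ≤ b ⁻¹ᵁ V) (e : U ≤ (a ≫ b) ⁻¹ᵁ V) {n : ℕ}
    (ψ : MvPolynomial (Fin n) Γ(T, W) →+* Γ(X, U)) (hψ : DerSch.IsChart a U W e₁ ψ) :
    ∃ (k : ℕ) (χ : MvPolynomial (Fin k) Γ(S, V) →+* Γ(X, U)), DerSch.IsChart (a ≫ b) U V e χ ∧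
      ∀ (m : ℤ) (K : DCoh.D X), DerSch.ChartPC m K U V χ ↔ DerSch.ChartPC m K U W ψ := by
  obtain ⟨k, φ, hφ⟩ := exists_isChart b W V e₂ (b.finiteType_appLE hV hW e₂)
  have hr : PseudoCoh.RFP φ := hb W V hW hV e₂ k φ hφ
  let c := (MvPolynomial.renameEquiv Γ(S, V) (finSumFinEquiv (m := n) (n := k)).symm).trans
    (MvPolynomial.sumAlgEquiv Γ(S, V) (Fin n) (Fin k))
  let s : MvPolynomial (Fin (n + k)) Γ(S, V) →+* MvPolynomial (Fin n) Γ(T, W) :=
    (MvPolynomial.map φ).comp c.toAlgHom.toRingHom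
  have hs : Function.Surjective s := (MvPolynomial.map_surjective φ hφ.1).comp c.surjective
  have hs' : PseudoCoh.RFP s :=
    (PseudoCoh.rfp_of_bijective _ c.bijective).comp (rfp_map φ hr (Fin n))
  refine ⟨n + k, ψ.comp s, ⟨hψ.1.comp hs, RingHom.ext fun x => ?_⟩, fun m K => ?_⟩
  · show ψ (MvPolynomial.map φ (c (MvPolynomial.C x))) = _
    rw [← MvPolynomial.algebraMap_eq, c.commutes, MvPolynomial.algebraMap_apply, MvPolynomial.algebraMap_eq,
      MvPolynomial.map_C]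
    refine (congr($(hψ.2) _)).trans ?_
    rw [show φ (MvPolynomial.C x) = b.appLE V W e₂ x from congr($(hφ.2) x)]
    exact congr($(Scheme.Hom.appLE_comp_appLE a b V W U e₂ e₁) x)
  · rw [← cpc_iff_chartPC hU (ψ.comp s) (hψ.1.comp hs), ← cpc_iff_chartPC hU ψ hψ.1,
      cpc_comp_iff hU ψ hψ.1 s hs hs']

/-- Composing with a flat morphism locally of finite presentation. -/
theorem rel_comp_iff' (a : X ⟶ T) (b : T ⟶ S) [LocallyOfFiniteType a] [LocallyOfFiniteType b]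
    (hb : RFPMor b) (m : ℤ) (E : DCoh.D X) :
    DerSch.IsPseudoCoherentRel (a ≫ b) m E ↔ DerSch.IsPseudoCoherentRel a m E := by
  constructor
  · intro h
    refine ⟨inferInstance, {W | ∃ V : S.affineOpens, (W : T.Opens) ≤ b ⁻¹ᵁ (V : S.Opens)},
      eq_top_iff.2 fun t _ => ?_, fun W hW => ⟨{U | (U : X.Opens) ≤ a ⁻¹ᵁ (W : T.Opens)},
        le_antisymm (iSup₂_le fun U hU => hU) fun x hx => ?_, fun U _ e => ?_⟩⟩
    · obtain ⟨V, hV, htV, -⟩ := S.isBasis_affineOpens.exists_subset_of_mem_open (Set.mem_univ (b t)) isOpen_univ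
      obtain ⟨V, hV', rfl⟩ := hV
      obtain ⟨W, hW, htW, hle⟩ := T.isBasis_affineOpens.exists_subset_of_mem_open htV (b ⁻¹ᵁ V).2
      obtain ⟨W, hW', rfl⟩ := hW
      exact TopologicalSpace.Opens.mem_iSup.2
        ⟨⟨W, hW'⟩, TopologicalSpace.Opens.mem_iSup.2 ⟨⟨⟨V, hV'⟩, hle⟩, htW⟩⟩
    · obtain ⟨U, hU, hxU, hle⟩ := X.isBasis_affineOpens.exists_subset_of_mem_open hx (a ⁻¹ᵁ (W : T.Opens)).2
      obtain ⟨U, hU', rfl⟩ := hU
      exact TopologicalSpace.Opens.mem_iSup.2 ⟨⟨U, hU'⟩, TopologicalSpace.Opens.mem_iSup.2 ⟨hle, hxU⟩⟩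
    · obtain ⟨V, hWV⟩ := hW
      have e' : (U : X.Opens) ≤ (a ≫ b) ⁻¹ᵁ (V : S.Opens) := fun x hx => hWV (e hx)
      obtain ⟨n, ψ, hψ⟩ := exists_isChart a U W e (a.finiteType_appLE W.2 U.2 e)
      obtain ⟨k, χ, hχ, hiff⟩ := exists_chart_trans' a b hb U.2 W.2 V.2 e hWV e' ψ hψ
      exact ⟨n, ψ, hψ, (hiff m E).1 (chartPC_of_rel h U.2 V.2 e' χ hχ)⟩
  · intro h
    refine ⟨inferInstance, Set.univ, eq_top_iff.2 fun y _ => ?_, fun V _ =>
      ⟨{U | ∃ W : T.affineOpens, (W : T.Opens) ≤ b ⁻¹ᵁ (V : S.Opens) ∧ (U : X.Opens) ≤ a ⁻¹ᵁ (W : T.Opens)},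
        le_antisymm (iSup₂_le ?_) fun x hx => ?_, fun U hU e => ?_⟩⟩
    · obtain ⟨W, hW, hyW, -⟩ := S.isBasis_affineOpens.exists_subset_of_mem_open (Set.mem_univ y) isOpen_univ
      obtain ⟨W, hW', rfl⟩ := hW
      exact TopologicalSpace.Opens.mem_iSup.2
        ⟨⟨W, hW'⟩, TopologicalSpace.Opens.mem_iSup.2 ⟨trivial, hyW⟩⟩
    · rintro U ⟨W, hWV, hUW⟩
      exact fun x hx => hWV (hUW hx)
    · obtain ⟨W, hW, hxW, hle⟩ :=
        T.isBasis_affineOpens.exists_subset_of_mem_open (show a x ∈ b ⁻¹ᵁ (V : S.Opens) from hx) (b ⁻¹ᵁ (V : S.Opens)).2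
      obtain ⟨W, hW', rfl⟩ := hW
      obtain ⟨U, hU, hxU, hle'⟩ := X.isBasis_affineOpens.exists_subset_of_mem_open hxW (a ⁻¹ᵁ W).2
      obtain ⟨U, hU', rfl⟩ := hU
      exact TopologicalSpace.Opens.mem_iSup.2
        ⟨⟨U, hU'⟩, TopologicalSpace.Opens.mem_iSup.2 ⟨⟨⟨W, hW'⟩, hle, hle'⟩, hxU⟩⟩
    · obtain ⟨W, hWV, hUW⟩ := hU
      obtain ⟨n, ψ, hψ⟩ := exists_isChart a U W hUW (a.finiteType_appLE W.2 U.2 hUW)
      obtain ⟨k, χ, hχ, hiff⟩ := exists_chart_trans' a b hb U.2 W.2 V.2 hUW hWV e ψ hψ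
      exact ⟨k, χ, hχ, (hiff m E).2 (chartPC_of_rel h U.2 W.2 hUW ψ hψ)⟩


end Groth.Agent.H8Props.RelPC
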