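import Groth.Agent.H8Props.RelPCBaseChange
import Groth.Agent.H8Props.ClosedBaseChange

/-!
# Flat base change of relative pseudo-coherence, arbitrary objects
-/

set_option autoImplicit false
set_option linter.style.haveILetI false
set_option backward.isDefEq.respectTransparency false

universe u

open CategoryTheory CategoryTheory.Limits AlgebraicGeometry

attribute [local instance] HasDerivedCategory.standard
attribute [local instance] MvPolynomial.algebraMvPolynomial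

namespace Groth.Agent.H8Props.RelPC

open H16Derived.KFlat.Stalk PushPC

variable {X S X' S' : Scheme.{u}} {f : X ⟶ S} {f' : X' ⟶ S'} {g : X' ⟶ X} {h : S' ⟶ S}

/-- Flat base change of a chart with its test. -/
theorem exists_chart_baseChange (H : IsPullback g f' f h) [Flat h] [DCoh.HasLpull g] {m : ℤ}
    {E : DCoh.D X} {U : X.Opens} (hU : IsAffineOpen U) {V : S.Opens} (hV : IsAffineOpen V)
    (eU : U ≤ f ⁻¹ᵁ V) {n : ℕ} (φ : MvPolynomial (Fin n) Γ(S, V) →+* Γ(X, U))
    (hφ : DerSch.IsChart f U V eU φ) (hc : DerSch.ChartPC m E U V φ) {W : S'.Opens} (hW : IsAffineOpen W)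
    (eW : W ≤ h ⁻¹ᵁ V) :
    IsAffineOpen (g ⁻¹ᵁ U ⊓ f' ⁻¹ᵁ W) ∧
      ∃ φ' : MvPolynomial (Fin n) Γ(S', W) →+* Γ(X', g ⁻¹ᵁ U ⊓ f' ⁻¹ᵁ W),
        DerSch.IsChart f' (g ⁻¹ᵁ U ⊓ f' ⁻¹ᵁ W) W inf_le_right φ' ∧
          DerSch.ChartPC m ((DCoh.Lpull g).obj E) (g ⁻¹ᵁ U ⊓ f' ⁻¹ᵁ W) W φ' := by
  obtain ⟨hU', hp⟩ := pushout_sections H hU hV eU hW eW
  refine ⟨hU', ?_⟩
  let U' := g ⁻¹ᵁ U ⊓ f' ⁻¹ᵁ W
  let R := Γ(S, V)
  let R' := Γ(S', W)
  let A := Γ(X, U)
  let A' := Γ(X', U')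
  letI : Algebra R A := (f.appLE V U eU).hom.toAlgebra
  letI : Algebra R R' := (h.appLE V W eW).hom.toAlgebra
  letI : Algebra R' A' := (f'.appLE W U' inf_le_right).hom.toAlgebra
  letI : Algebra A A' := (g.appLE U U' inf_le_left).hom.toAlgebra
  letI : Algebra R A' := ((f'.appLE W U' inf_le_right).hom.comp (h.appLE V W eW).hom).toAlgebra
  haveI : IsScalarTower R R' A' := IsScalarTower.of_algebraMap_eq fun _ => rfl
  haveI : IsScalarTower R A A' :=
    IsScalarTower.of_algebraMap_eq fun x => congrArg (fun φ => φ.hom x) hp.w.symm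
  haveI : Algebra.IsPushout R R' A A' := CommRingCat.isPushout_iff_isPushout.mp hp.flip
  haveI : Module.Flat R R' := HasRingHomProperty.appLE (P := @Flat) h inferInstance ⟨V, hV⟩ ⟨W, hW⟩ eW
  let α : MvPolynomial (Fin n) R →ₐ[R] A := ⟨φ, fun r => congr($(hφ.2) r)⟩
  let β := RingRelPC.bcPres R' A' α
  let P := MvPolynomial (Fin n) R
  let P' := MvPolynomial (Fin n) R'
  refine ⟨β.toRingHom, ⟨RingRelPC.bcPres_surjective R' A' α hφ.1, β.comp_algebraMap⟩, ?_⟩
  letI : Algebra P A := α.toRingHom.toAlgebra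
  letI : Algebra P' A' := β.toRingHom.toAlgebra
  letI : Algebra P A' := RingRelPC.bcAlg A' α
  haveI := RingRelPC.bcPres_tower₁ A' α
  haveI := RingRelPC.bcPres_tower₂ R' A' α
  haveI := RingRelPC.bcPres_isPushout R' A' α
  haveI : Module.Flat P P' := Module.Flat.of_linearEquiv ((Algebra.IsPushout.symm
    (inferInstance : Algebra.IsPushout R R' P P')).out.equiv).symm
  haveI : Algebra.IsPushout P A P' A' := Algebra.IsPushout.symm inferInstance
  let q : Spec (CommRingCat.of P') ⟶ Spec (CommRingCat.of P) :=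
    Spec.map (CommRingCat.ofHom (algebraMap P P'))
  haveI : Flat q := (HasRingHomProperty.Spec_iff (P := @Flat)).2
    (RingHom.flat_algebraMap_iff.2 inferInstance)
  have hsq : IsPullback (Spec.map (g.appLE U U' inf_le_left)) (Spec.map (CommRingCat.ofHom β.toRingHom))
      (Spec.map (CommRingCat.ofHom φ)) q :=
    isPullback_SpecMap_of_isPushout _ _ _ _ (CommRingCat.isPushout_of_isPushout P A P' A')
  have hi : IsPullback (g.resLE U U' inf_le_left) U'.toSpecΓ U.toSpecΓ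
      (Spec.map (g.appLE U U' inf_le_left)) := by
    haveI : IsIso U.toSpecΓ := by rw [← hU.isoSpec_hom]; infer_instance
    haveI : IsIso U'.toSpecΓ := by rw [← hU'.isoSpec_hom]; infer_instance
    exact IsPullback.of_vert_isIso ⟨(Scheme.Opens.toSpecΓ_SpecMap_appLE g U U' inf_le_left).symm⟩
  have hH : IsPullback (g.resLE U U' inf_le_left) (DerSch.chartImm U' β.toRingHom)
      (DerSch.chartImm U φ) q := hi.paste_vert hsq
  haveI := isClosedImmersion_chartImm hU φ hφ.1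
  haveI := isClosedImmersion_chartImm hU' β.toRingHom (RingRelPC.bcPres_surjective R' A' α hφ.1)
  haveI := hasLpull q
  haveI := hasLpull (g.resLE U U' inf_le_left)
  obtain ⟨a⟩ := ClosedBC.nonempty_lpull_pushD hH ((rd U.ι).obj E)
  obtain ⟨b⟩ := H16Derived.QCohD.lpull_factor g U'.ι (g.resLE U U' inf_le_left) U.ι
    (Scheme.Hom.resLE_comp_ι g inf_le_left) E
  rw [chartPC_iff] at hc ⊢
  exact isPseudoCoherentD_of_iso (a ≪≫ (pushD _).mapIso b.symm) (isPseudoCoherentD_lpull q hc)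

/-- Flat base change of relative pseudo-coherence. -/
theorem rel_baseChange_any (H : IsPullback g f' f h) [Flat h] [DCoh.HasLpull g] {m : ℤ} {E : DCoh.D X}
    (hE : DerSch.IsPseudoCoherentRel f m E) :
    DerSch.IsPseudoCoherentRel f' m ((DCoh.Lpull g).obj E) := by
  haveI : LocallyOfFiniteType f := hE.1
  haveI : LocallyOfFiniteType f' := MorphismProperty.of_isPullback H inferInstance
  refine rel_of_local f' m _ fun x => ?_
  obtain ⟨_, ⟨V, hV, rfl⟩, hxV, -⟩ :=
    S.isBasis_affineOpens.exists_subset_of_mem_open (Set.mem_univ (h (f' x))) isOpen_univ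
  obtain ⟨_, ⟨W, hW, rfl⟩, hxW, eW⟩ :=
    S'.isBasis_affineOpens.exists_subset_of_mem_open (show f' x ∈ h ⁻¹ᵁ V from hxV) (h ⁻¹ᵁ V).2
  have hfg : g x ∈ f ⁻¹ᵁ V := by
    show f (g x) ∈ V
    rw [show f (g x) = h (f' x) from congr($(H.w) x)]
    exact hxV
  obtain ⟨_, ⟨U, hU, rfl⟩, hxU, eU⟩ := X.isBasis_affineOpens.exists_subset_of_mem_open hfg (f ⁻¹ᵁ V).2
  obtain ⟨n, φ, hφ⟩ := exists_isChart f U V eU (f.finiteType_appLE hV hU eU)
  obtain ⟨hU', φ', hφ', hc⟩ := exists_chart_baseChange H hU hV eU φ hφ (chartPC_of_rel hE hU hV eU φ hφ) hW eW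
  exact ⟨_, hU', W, hW, inf_le_right, n, φ', ⟨hxU, hxW⟩, hφ', hc⟩

end Groth.Agent.H8Props.RelPC
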