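import Groth.Agent.H8Props.TensorPC
import Groth.Agent.H8Props.RelPCCompPC
import Groth.Agent.H8Props.RelPCBaseChangeAny

/-!
# Pullback along pseudo-coherent morphisms preserves relative pseudo-coherence
-/

set_option autoImplicit false
set_option linter.style.haveILetI false
set_option backward.isDefEq.respectTransparency false

universe u

open CategoryTheory CategoryTheory.Limits AlgebraicGeometry

attribute [local instance] HasDerivedCategory.standard
attribute [local instance] MvPolynomial.algebraMvPolynomial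

namespace Groth.Agent.H8Props.RelPC

open H16Derived.KFlat.Stalk PushPC

/-- Pseudo-coherent objects on quasi-compact schemes are bounded above. -/
theorem exists_isLE_of_pc {X : Scheme.{u}} [CompactSpace X] {m : ℤ} {K : DCoh.D X}
    (h : DCoh.IsPseudoCoherentD m K) : ∃ b : ℤ, K.IsLE b := by
  refine exists_isLE_of_local fun x => ?_
  obtain ⟨V, hx, P, α, hP, hα⟩ := (isPseudoCoherentD_iff _ _).1 h x
  obtain ⟨⟨a, b, hab⟩, -⟩ := id hP
  refine ⟨V, max b m, hx, (DerivedCategory.isLE_iff _ _).2 fun i hi => ?_⟩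
  haveI := hα.1 i (by omega)
  refine IsZero.of_iso ?_ ((asIso ((DerivedCategory.homologyFunctor _ i).map α)).symm ≪≫
    (DerivedCategory.homologyFunctorFactors _ i).app P)
  exact ((HomologicalComplex.exactAt_iff _ _).2
    (ShortComplex.exact_of_isZero_X₂ (P.sc i) (hab i (Or.inr (by omega))))).isZero_homology

/-- Flat pullback of a pushforward along a chart. -/
theorem pc_pushD_mvPolynomial {R A : Type u} [CommRing R] [CommRing A] (φ : R →+* A)
    (hφ : Function.Surjective φ) (k : ℕ) {m : ℤ} (G : DCoh.D (Spec (CommRingCat.of A)))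
    (h : haveI : IsClosedImmersion (Spec.map (CommRingCat.ofHom φ)) := IsClosedImmersion.spec_of_surjective _ hφ
      DCoh.IsPseudoCoherentD m ((pushD (Spec.map (CommRingCat.ofHom φ))).obj G)) :
    haveI : IsClosedImmersion (Spec.map (CommRingCat.ofHom (MvPolynomial.map (σ := Fin k) φ))) :=
      IsClosedImmersion.spec_of_surjective _ (MvPolynomial.map_surjective φ hφ)
    haveI := hasLpull (Spec.map (CommRingCat.ofHom (MvPolynomial.C (σ := Fin k) (R := A))))
    DCoh.IsPseudoCoherentD m ((pushD (Spec.map (CommRingCat.ofHom (MvPolynomial.map (σ := Fin k) φ)))).obj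
      ((DCoh.Lpull (Spec.map (CommRingCat.ofHom (MvPolynomial.C (σ := Fin k) (R := A))))).obj G)) := by
  haveI : IsClosedImmersion (Spec.map (CommRingCat.ofHom φ)) := IsClosedImmersion.spec_of_surjective _ hφ
  haveI : IsClosedImmersion (Spec.map (CommRingCat.ofHom (MvPolynomial.map (σ := Fin k) φ))) :=
    IsClosedImmersion.spec_of_surjective _ (MvPolynomial.map_surjective φ hφ)
  let π := Spec.map (CommRingCat.ofHom (MvPolynomial.C (σ := Fin k) (R := A)))
  let q := Spec.map (CommRingCat.ofHom (MvPolynomial.C (σ := Fin k) (R := R)))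
  haveI := hasLpull π
  haveI := hasLpull q
  letI := φ.toAlgebra
  haveI : Flat q := (HasRingHomProperty.Spec_iff (P := @Flat)).2
    (RingHom.flat_algebraMap_iff.2 (inferInstance : Module.Flat R (MvPolynomial (Fin k) R)))
  have H : IsPullback π (Spec.map (CommRingCat.ofHom (MvPolynomial.map (σ := Fin k) φ)))
      (Spec.map (CommRingCat.ofHom φ)) q := by
    haveI : Algebra.IsPushout R A (MvPolynomial (Fin k) R) (MvPolynomial (Fin k) A) := inferInstance
    exact isPullback_SpecMap_of_isPushout _ _ _ _ (CommRingCat.isPushout_of_isPushout R A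
      (MvPolynomial (Fin k) R) (MvPolynomial (Fin k) A))
  obtain ⟨a⟩ := ClosedBC.nonempty_lpull_pushD H G
  exact isPseudoCoherentD_of_iso a (isPseudoCoherentD_lpull q h)

variable {X Y S : Scheme.{u}}

/-- Pullback along a morphism all whose charts have finite free syzygies. -/
theorem rel_lpull_comp (f : X ⟶ Y) (g : Y ⟶ S) [LocallyOfFiniteType f] [LocallyOfFiniteType g]
    (hf : RFPMor f) [DCoh.HasLpull f] {m : ℤ} {E : DCoh.D Y} (hE : DerSch.IsPseudoCoherentRel g m E) :
    DerSch.IsPseudoCoherentRel (f ≫ g) m ((DCoh.Lpull f).obj E) := by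
  refine rel_of_local (f ≫ g) m _ fun x => ?_
  obtain ⟨_, ⟨V, hV, rfl⟩, hxV, -⟩ :=
    S.isBasis_affineOpens.exists_subset_of_mem_open (Set.mem_univ (g (f x))) isOpen_univ
  obtain ⟨_, ⟨U, hU, rfl⟩, hxU, eU⟩ :=
    Y.isBasis_affineOpens.exists_subset_of_mem_open (show f x ∈ g ⁻¹ᵁ V from hxV) (g ⁻¹ᵁ V).2
  obtain ⟨_, ⟨W, hW, rfl⟩, hxW, eW⟩ :=
    X.isBasis_affineOpens.exists_subset_of_mem_open (show x ∈ f ⁻¹ᵁ U from hxU) (f ⁻¹ᵁ U).2
  obtain ⟨n, φ, hφ⟩ := exists_isChart g U V eU (g.finiteType_appLE hV hU eU)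
  obtain ⟨k, ψ, hψ⟩ := exists_isChart f W U eW (f.finiteType_appLE hU hW eW)
  have hr : PseudoCoh.RFP ψ := hf W U hW hU eW k ψ hψ
  have hc := chartPC_of_rel hE hU hV eU φ hφ
  haveI := isClosedImmersion_chartImm hU φ hφ.1
  rw [chartPC_iff] at hc
  let R := Γ(S, V)
  let c := (MvPolynomial.renameEquiv R (finSumFinEquiv (m := k) (n := n)).symm).trans
    (MvPolynomial.sumAlgEquiv R (Fin k) (Fin n))
  let s : MvPolynomial (Fin k) (MvPolynomial (Fin n) R) →+* MvPolynomial (Fin k) Γ(Y, U) :=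
    MvPolynomial.map φ
  let γ : MvPolynomial (Fin (k + n)) R →+* Γ(X, W) := (ψ.comp s).comp c.toAlgHom.toRingHom
  have hs : Function.Surjective s := MvPolynomial.map_surjective φ hφ.1
  have hγ : DerSch.IsChart (f ≫ g) W V (fun z hz => eU (eW hz)) γ := by
    refine ⟨(hψ.1.comp hs).comp c.surjective, RingHom.ext fun r => ?_⟩
    show ψ (MvPolynomial.map φ (c (MvPolynomial.C r))) = _
    rw [← MvPolynomial.algebraMap_eq, c.commutes, MvPolynomial.algebraMap_apply, MvPolynomial.algebraMap_eq,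
      MvPolynomial.map_C]
    refine (congr($(hψ.2) _)).trans ?_
    rw [show φ (MvPolynomial.C r) = g.appLE V U eU r from congr($(hφ.2) r)]
    exact congr($(Scheme.Hom.appLE_comp_appLE f g V U W eU eW) r)
  refine ⟨W, hW, V, hV, fun z hz => eU (eW hz), k + n, γ, hxW, hγ, ?_⟩
  haveI := isClosedImmersion_chartImm hW γ hγ.1
  rw [chartPC_iff]
  haveI := isClosedImmersion_toSpecΓ hU
  haveI := isClosedImmersion_toSpecΓ hW
  haveI : IsClosedImmersion (Spec.map (CommRingCat.ofHom φ)) := IsClosedImmersion.spec_of_surjective _ hφ.1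
  haveI : IsClosedImmersion (Spec.map (CommRingCat.ofHom ψ)) := IsClosedImmersion.spec_of_surjective _ hψ.1
  haveI : IsClosedImmersion (Spec.map (CommRingCat.ofHom s)) := IsClosedImmersion.spec_of_surjective _ hs
  let π := Spec.map (CommRingCat.ofHom (MvPolynomial.C (σ := Fin k) (R := Γ(Y, U))))
  let i := Spec.map (CommRingCat.ofHom ψ)
  let fA := Spec.map (f.appLE U W eW)
  haveI := hasLpull π
  haveI := hasLpull i
  haveI := hasLpull fA
  let G : DCoh.D (Spec (CommRingCat.of Γ(Y, U))) := (pushD (Scheme.Opens.toSpecΓ U)).obj ((rd (Scheme.Opens.ι U)).obj E)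
  have hG : DCoh.IsPseudoCoherentD m ((pushD (Spec.map (CommRingCat.ofHom φ))).obj G) :=
    isPseudoCoherentD_of_iso (pushDComp (Scheme.Opens.toSpecΓ U) (Spec.map (CommRingCat.ofHom φ)) (DerSch.chartImm U φ) rfl
      ((rd (Scheme.Opens.ι U)).obj E)) hc
  have hG' := pc_pushD_mvPolynomial φ hφ.1 k G hG
  let G' : DCoh.D (Spec (CommRingCat.of (MvPolynomial (Fin k) Γ(Y, U)))) := (DCoh.Lpull π).obj G
  obtain ⟨b, hb⟩ := exists_isLE_of_pc hG'
  haveI : G'.IsLE b := isLE_of_isLE_pushD (Spec.map (CommRingCat.ofHom s)) G' b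
  have h1 := TensorPC.pc_pushD_lpull (J := Spec.map (CommRingCat.ofHom s)) ψ hψ.1 hr (b := b) G' hG'
  -- transport along the change of variables
  have hiso : Function.Bijective c.toAlgHom.toRingHom := c.bijective
  let e := Spec.map (CommRingCat.ofHom c.toAlgHom.toRingHom)
  haveI : IsIso (CommRingCat.ofHom c.toAlgHom.toRingHom) :=
    (ConcreteCategory.isIso_iff_bijective _).2 hiso
  haveI : IsIso e := inferInstance
  have h2 : DCoh.IsPseudoCoherentD m ((pushD e).obj ((pushD (Spec.map (CommRingCat.ofHom s))).obj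
      ((pushD i).obj ((DCoh.Lpull i).obj G')))) := by
    obtain ⟨a⟩ := nonempty_pushD_iso_rd e ((pushD (Spec.map (CommRingCat.ofHom s))).obj
      ((pushD i).obj ((DCoh.Lpull i).obj G')))
    exact isPseudoCoherentD_of_iso a.symm (isPseudoCoherentD_rd (inv e) h1)
  -- identify the pullback
  have hfA : i ≫ π = fA := by
    rw [← Spec.map_comp]
    exact congrArg Spec.map (CommRingCat.hom_ext hψ.2)
  haveI := hasLpull (i ≫ π)
  obtain ⟨a₁⟩ := lpull_comp i π G
  obtain ⟨a₂⟩ := nonempty_pushD_toSpecΓ hU E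
  obtain ⟨a₃⟩ := H16Derived.QCohD.lpull_factor f hW.fromSpec fA hU.fromSpec
    (IsAffineOpen.SpecMap_appLE_fromSpec f hU hW eW) E
  obtain ⟨a₄⟩ := nonempty_pushD_toSpecΓ hW ((DCoh.Lpull f).obj E)
  have hfA' : fA = i ≫ π := hfA.symm
  clear_value fA
  subst hfA'
  let j : (DCoh.Lpull i).obj G' ≅ (pushD (Scheme.Opens.toSpecΓ W)).obj ((rd (Scheme.Opens.ι W)).obj ((DCoh.Lpull f).obj E)) :=
    a₁ ≪≫ (DCoh.Lpull (i ≫ π)).mapIso a₂ ≪≫ a₃.symm ≪≫ a₄.symm
  have h3 := isPseudoCoherentD_of_iso ((pushD e).mapIso ((pushD _).mapIso ((pushD i).mapIso j))) h2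
  let cs := Spec.map (CommRingCat.ofHom (ψ.comp s))
  haveI : IsClosedImmersion cs := IsClosedImmersion.spec_of_surjective _ (hψ.1.comp hs)
  let cγ := Spec.map (CommRingCat.ofHom γ)
  haveI : IsClosedImmersion cγ := IsClosedImmersion.spec_of_surjective _ hγ.1
  refine isPseudoCoherentD_of_iso ?_ h3
  exact (pushD e).mapIso
      (pushDComp i (Spec.map (CommRingCat.ofHom s)) cs (by rw [← Spec.map_comp]; rfl) _).symm ≪≫
    (pushDComp cs e cγ (by rw [← Spec.map_comp]; rfl) _).symm ≪≫
    (pushDComp (Scheme.Opens.toSpecΓ W) cγ (DerSch.chartImm W γ) rfl _).symm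

end Groth.Agent.H8Props.RelPC
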