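import Groth.Agent.H8Props.RelPCTransfer
import Groth.Agent.H8Props.RelFP.Scheme
import Groth.Agent.H06EGA9.FlatModel

/-!
# Relative pseudo-coherence of a module
-/

set_option autoImplicit false
set_option linter.style.haveILetI false
set_option backward.isDefEq.respectTransparency false

universe u

open CategoryTheory CategoryTheory.Limits AlgebraicGeometry Pretriangulated

attribute [local instance] HasDerivedCategory.standard

namespace Groth.Agent.H8Props.RelPC

open H16Derived.KFlat.Stalk PushPC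

section Sections

variable {X : Scheme.{u}} {P : Type u} [CommRing P]

/-- Sections of a direct image to an affine scheme, semilinearly. -/
theorem exists_semilinear_push (M : X.Modules) (U : X.Opens) (φ : P →+* Γ(X, U)) :
    ∃ e : Γ(M, U) →+ Γ((Scheme.Modules.pushforward (cimm U φ)).obj (M.restrict U.ι), ⊤),
      Function.Bijective e ∧
        ∀ (a : P) (x : Γ(M, U)), e (φ a • x) = (Scheme.ΓSpecIso (CommRingCat.of P)).inv a • e x := by
  have hU : U.ι ''ᵁ (⊤ : (U : Scheme.{u}).Opens) = U := U.ι_image_top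
  let r := M.presheaf.map (eqToHom hU).op
  refine ⟨r.hom, ConcreteCategory.bijective_of_isIso r, fun a x => ?_⟩
  show r (φ a • x) = _
  refine (Scheme.Modules.map_smul (M := M) (eqToHom hU) (φ a) x).trans ?_
  have e : (cimm U φ).appTop ((Scheme.ΓSpecIso (CommRingCat.of P)).inv a) = U.topIso.inv (φ a) := by
    show (Scheme.Hom.appTop (U.toSpecΓ ≫ Spec.map (CommRingCat.ofHom φ))) _ = _
    rw [Scheme.Hom.comp_appTop, CommRingCat.comp_apply]
    refine (congrArg U.toSpecΓ.appTop (congr($(Scheme.ΓSpecIso_inv_naturality (CommRingCat.ofHom φ)) a)).symm).trans ?_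
    rw [Scheme.Opens.toSpecΓ_appTop, CommRingCat.comp_apply]
    exact congrArg U.topIso.inv (congr($((Scheme.ΓSpecIso Γ(X, U)).inv_hom_id) (φ a)))
  refine Eq.trans ?_ (rfl : ((U.ι.appIso ⊤).inv ((cimm U φ).appTop
    ((Scheme.ΓSpecIso (CommRingCat.of P)).inv a))) • r x = _)
  rw [e, Scheme.Opens.ι_appIso, Scheme.Opens.topIso_inv]
  rfl

variable {N : X.Modules} {U : X.Opens} (φ : P →+* Γ(X, U))

/-- Finite presentation of a quasi-coherent direct image to an affine scheme, in terms of sections. -/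
theorem isFP_push_iff (M : X.Modules) [IsAffineHom (cimm U φ)] (hq : Coh.IsQCoh (M.restrict U.ι)) :
    CohB1.IsFP ((Scheme.Modules.pushforward (cimm U φ)).obj (M.restrict U.ι)) ↔
      (letI : Module P Γ(M, U) := Module.compHom _ φ
       Module.FinitePresentation P Γ(M, U)) := by
  letI : Module P Γ(M, U) := Module.compHom _ φ
  let N := (Scheme.Modules.pushforward (cimm U φ)).obj (M.restrict U.ι)
  haveI : (M.restrict U.ι).IsQuasicoherent := hq
  haveI : N.IsQuasicoherent := H10Coh.isQuasicoherent_pushforward_of_isAffineHom _ _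
  obtain ⟨e, he, hlin⟩ := exists_semilinear_push M U φ
  let σ := (Scheme.ΓSpecIso (CommRingCat.of P)).inv.hom
  have hσ : Function.Bijective σ := ConcreteCategory.bijective_of_isIso (Scheme.ΓSpecIso (CommRingCat.of P)).inv
  constructor
  · intro h
    haveI : Module.FinitePresentation Γ(Spec (CommRingCat.of P), ⊤) Γ(N, ⊤) :=
      H8Props.FinLocFree.finitePresentation_sections N h (isAffineOpen_top _)
    let σ' := (RingEquiv.ofBijective σ hσ).symm
    let e' := (AddEquiv.ofBijective e he).symm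
    refine H29Fitt.finitePresentation_of_semilinear (A := Γ(Spec (CommRingCat.of P), ⊤)) (M := Γ(N, ⊤))
      σ'.toRingHom σ'.bijective e'.toAddMonoidHom (fun a m => ?_) e'.bijective
    refine (AddEquiv.ofBijective e he).injective ?_
    show (AddEquiv.ofBijective e he) (e' (a • m)) = e (φ (σ' a) • e' m)
    rw [hlin, AddEquiv.apply_symm_apply]
    show a • m = σ (σ' a) • e (e' m)
    rw [show σ (σ' a) = a from (RingEquiv.ofBijective σ hσ).apply_symm_apply a,
      show e (e' m) = m from (AddEquiv.ofBijective e he).apply_symm_apply m]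
  · intro h
    haveI : Module.FinitePresentation Γ(Spec (CommRingCat.of P), ⊤) Γ(N, ⊤) :=
      H29Fitt.finitePresentation_of_semilinear σ hσ e hlin he
    exact H29Omega.isFP_of_affineCover N (fun _ : PUnit.{u + 1} => ⊤)
      (eq_top_iff.2 fun x _ => TopologicalSpace.Opens.mem_iSup.2 ⟨⟨⟩, trivial⟩)
      (fun _ => isAffineOpen_top _) fun _ => inferInstance

end Sections

variable {X P S : Scheme.{u}}

/-- Locally a module of finite type is a quotient of a finite free one. -/
theorem exists_epi_freeMod {M : X.Modules} (hM : CohB1.IsFT M) (x : X) :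
    ∃ (V : X.Opens) (n : ℕ) (q : FlatMod.freeMod (V : Scheme.{u}) n ⟶ M.restrict V.ι),
      x ∈ V ∧ Epi q := by
  obtain ⟨V, hx, G, hG⟩ := H10Coh.exists_generators_nhd M hM x
  haveI : Finite G.I := hG
  haveI := Fintype.ofFinite G.I
  haveI := G.epi
  exact ⟨V, Fintype.card G.I, (Sigma.whiskerEquiv (f := fun _ : G.I => Coh.structureModule (V : Scheme.{u}))
    (g := fun _ : Fin (Fintype.card G.I) => Coh.structureModule (V : Scheme.{u})) (Fintype.equivFin G.I)
    fun _ => Iso.refl _).inv ≫ G.π, hx, epi_comp _ _⟩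

/-- Direct image along a closed immersion preserves finite type, given this for the structure sheaf. -/
theorem isFT_push (g : X ⟶ P) [IsClosedImmersion g]
    (hO : CohB1.IsFT ((Scheme.Modules.pushforward g).obj (Coh.structureModule X)))
    {M : X.Modules} (hM : CohB1.IsFT M) : CohB1.IsFT ((Scheme.Modules.pushforward g).obj M) := by
  rw [← isFT_iff_pc] at hO ⊢
  refine isPseudoCoherentD_of_iso (pushDInD g M) (isPseudoCoherentD_of_rd fun p => ?_)
  by_cases hp : p ∈ Set.range g
  · obtain ⟨z, rfl⟩ := hp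
    obtain ⟨V, n, q, hz, hq⟩ := exists_epi_freeMod hM z
    obtain ⟨W, hW, hWV⟩ := g.isEmbedding.isInducing.isOpen_iff.1 V.2
    obtain rfl : g ⁻¹ᵁ (⟨W, hW⟩ : P.Opens) = V := TopologicalSpace.Opens.ext hWV
    haveI := hq
    refine ⟨⟨W, hW⟩, hz, isPseudoCoherentD_of_iso ((rdPushD g ⟨W, hW⟩ _) ≪≫
      (pushD (g ∣_ ⟨W, hW⟩)).mapIso (rdInD _ M) ≪≫ pushDInD _ _).symm ?_⟩
    have hO' : DCoh.IsPseudoCoherentD 0 (DCoh.inD _
        ((Scheme.Modules.pushforward (g ∣_ ⟨W, hW⟩)).obj (Coh.structureModule _))) := by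
      refine isPseudoCoherentD_of_iso ?_ (isPseudoCoherentD_rd (Scheme.Opens.ι (⟨W, hW⟩ : P.Opens)) hO)
      exact rdInD _ _ ≪≫ (DerivedCategory.singleFunctor _ 0).mapIso
        ((H16Derived.KFlat.Stalk.pushRestrictNatIso g ⟨W, hW⟩).app _ ≪≫
          (Scheme.Modules.pushforward (g ∣_ ⟨W, hW⟩)).mapIso (Scheme.Modules.restrictUnitIso _))
    rw [isFT_iff_pc]
    haveI : Epi ((Scheme.Modules.pushforward (g ∣_ ⟨W, hW⟩)).map q) :=
      LeadProper.epi_push_map_of_isClosedImmersion (g ∣_ ⟨W, hW⟩) q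
    exact isFT_of_epi ((Scheme.Modules.pushforward (g ∣_ ⟨W, hW⟩)).map q)
      ((isFT_iff_pc _).1 (pc_push_freeMod _ 0 hO' n))
  · exact exists_pc_of_notMem g _ 0 hp

/-- The structure sheaf of an affine closed subscheme of an affine scheme has direct image of finite
type. -/
theorem isFT_cimm {A : Type u} [CommRing A] {U : X.Opens} (hU : IsAffineOpen U) (φ : A →+* Γ(X, U))
    (hφ : Function.Surjective φ) :
    CohB1.IsFT ((Scheme.Modules.pushforward (cimm U φ)).obj (Coh.structureModule _)) := by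
  haveI := isClosedImmersion_cimm hU φ hφ
  let N := (Scheme.Modules.pushforward (cimm U φ)).obj (Coh.structureModule (U : Scheme.{u}))
  haveI : (Coh.structureModule (U : Scheme.{u})).IsQuasicoherent := H10Coh.isQuasicoherent_unit
  haveI : N.IsQuasicoherent := H10Coh.isQuasicoherent_pushforward_of_isAffineHom _ _
  refine (H10Coh.isFT_isFP_of_affineCover N (fun _ : PUnit.{u + 1} => ⊤)
    (eq_top_iff.2 fun x _ => TopologicalSpace.Opens.mem_iSup.2 ⟨⟨⟩, trivial⟩)
    (fun _ => isAffineOpen_top _) fun _ => ?_).1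
  have hs : Function.Surjective (cimm U φ).appTop :=
    (cimm U φ).app_surjective ⊤ (isAffineOpen_top _)
  exact H10Coh.finite_of_semilinear (A := Γ(Spec (CommRingCat.of A), ⊤))
    (M := Γ(Spec (CommRingCat.of A), ⊤)) (RingHom.id _) (cimm U φ).appTop.hom.toAddMonoidHom
    (fun a m => (map_mul (cimm U φ).appTop.hom a m)) hs

/-- Every module is relatively pseudo-coherent in positive degrees. -/
theorem rel_inD_pos (f : X ⟶ S) [LocallyOfFiniteType f] (M : X.Modules) (m : ℤ) (hm : 0 < m) :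
    DerSch.IsPseudoCoherentRel f m (DCoh.inD X M) := by
  refine rel_of_charts f m _ fun U V e n φ hφ => ?_
  haveI := isClosedImmersion_chartImm U.2 φ hφ.1
  rw [chartPC_iff]
  refine isPseudoCoherentD_of_iso ((pushD _).mapIso (rdInD _ M) ≪≫ pushDInD _ _).symm ?_
  haveI : (DCoh.inD _ ((Scheme.Modules.pushforward (DerSch.chartImm (U : X.Opens) φ)).obj
      (M.restrict (U : X.Opens).ι))).IsLE 0 := inferInstance
  exact isPseudoCoherentD_of_isLE 0 m hm

/-- Relative 0-pseudo-coherence of a module is finite type. -/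
theorem rel_inD_zero_iff (f : X ⟶ S) [LocallyOfFiniteType f] (M : X.Modules) :
    DerSch.IsPseudoCoherentRel f 0 (DCoh.inD X M) ↔ CohB1.IsFT M := by
  constructor
  · intro h
    refine isFT_of_local fun x => ?_
    obtain ⟨U, V, n, φ, hx, hφ, hK⟩ := exists_chart h x
    haveI := isClosedImmersion_chartImm U.2 φ hφ
    have hp := (isFT_iff_pc _).1 (isPseudoCoherentD_of_iso
      ((pushD _).mapIso (rdInD (U : X.Opens).ι M) ≪≫ pushDInD _ _) ((chartPC_iff φ 0 _).1 hK))
    refine ⟨_, (U : X.Opens).ι, inferInstance, ⟨⟨x, hx⟩, rfl⟩, isFT_of_local fun z => ?_⟩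
    obtain ⟨W, L, p, hz, hL, hp'⟩ := exists_epi_of_isFT_push (DerSch.chartImm (U : X.Opens) φ) hp z
    haveI := hp'
    exact ⟨_, W.ι, inferInstance, ⟨⟨z, hz⟩, rfl⟩, isFT_of_epi p
      (H29Fitt.isFT_of_isFP _ (H8Props.FinLocFree.isFP_of_isFinLocFree _ hL))⟩
  · intro h
    refine rel_of_charts f 0 _ fun U V e n φ hφ => ?_
    haveI := isClosedImmersion_chartImm U.2 φ hφ.1
    haveI := isClosedImmersion_cimm U.2 φ hφ.1
    rw [chartPC_iff]
    refine isPseudoCoherentD_of_iso ((pushD _).mapIso (rdInD _ M) ≪≫ pushDInD _ _).symm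
      ((isFT_iff_pc _).2 (isFT_push (cimm (U : X.Opens) φ) (isFT_cimm U.2 φ hφ.1) ?_))
    exact (isFT_iff_pc _).1 (isPseudoCoherentD_of_iso (rdInD _ M)
      (isPseudoCoherentD_rd _ ((isFT_iff_pc M).2 h)))

/-- Relative (-1)-pseudo-coherence of a module. -/
theorem rel_inD_negOne_iff (f : X ⟶ S) [LocallyOfFiniteType f] (M : X.Modules) :
    DerSch.IsPseudoCoherentRel f (-1) (DCoh.inD X M) ↔ (Coh.IsQCoh M ∧ Flatn.IsRelFP f M) := by
  have test : Coh.IsQCoh M → ∀ (U : X.affineOpens) (V : S.affineOpens) (n : ℕ)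
      (φ : MvPolynomial (Fin n) Γ(S, (V : S.Opens)) →+* Γ(X, (U : X.Opens))), Function.Surjective φ →
      (DerSch.ChartPC (-1) (DCoh.inD X M) (U : X.Opens) (V : S.Opens) φ ↔
        (letI : Module (MvPolynomial (Fin n) Γ(S, (V : S.Opens))) Γ(M, (U : X.Opens)) :=
          Module.compHom _ φ
         Module.FinitePresentation (MvPolynomial (Fin n) Γ(S, (V : S.Opens))) Γ(M, (U : X.Opens)))) := by
    intro hq U V n φ hφ
    haveI := isClosedImmersion_chartImm U.2 φ hφ
    haveI : IsAffineHom (cimm (U : X.Opens) φ) :=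
      inferInstanceAs (IsAffineHom (DerSch.chartImm (U : X.Opens) φ))
    have e := (pushD (DerSch.chartImm (U : X.Opens) φ)).mapIso (rdInD (U : X.Opens).ι M) ≪≫ pushDInD _ _
    have hqU : Coh.IsQCoh (M.restrict (U : X.Opens).ι) :=
      @Scheme.Modules.isQuasicoherent_restrictFunctor _ _ (U : X.Opens).ι _ M hq
    rw [chartPC_iff]
    exact (Iff.intro (isPseudoCoherentD_of_iso e) (isPseudoCoherentD_of_iso e.symm)).trans
      ((isFP_iff_pc _).trans (isFP_push_iff φ M hqU))
  constructor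
  · intro h
    have hq : Coh.IsQCoh M :=
      @H10Coh.isQuasicoherent_of_iso _ _ _ (hdInD M) (isQCoh_HD_of_rel h 0 (by omega))
    refine ⟨hq, RelFP.isRelFP_of_local hq fun x => ?_⟩
    obtain ⟨V, hV, hxV, -⟩ :=
      S.isBasis_affineOpens.exists_subset_of_mem_open (Set.mem_univ (f x)) isOpen_univ
    obtain ⟨V, hV', rfl⟩ := hV
    obtain ⟨U, hU, hxU, hle⟩ := X.isBasis_affineOpens.exists_subset_of_mem_open hxV (f ⁻¹ᵁ V).2
    obtain ⟨U, hU', rfl⟩ := hU
    obtain ⟨n, φ, hφ⟩ := exists_isChart f U V hle (f.finiteType_appLE hV' hU' hle)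
    refine ⟨U, V, hU', hV', hxU, hle, ?_⟩
    letI := (f.appLE V U hle).hom.toAlgebra
    exact ⟨n, { φ with commutes' := fun a => congr($(hφ.2) a) }, hφ.1,
      (test hq ⟨U, hU'⟩ ⟨V, hV'⟩ n φ hφ.1).1 (chartPC_of_rel h hU' hV' hle φ hφ)⟩
  · rintro ⟨hq, h⟩
    refine (rel_iff_forall f _ _).2 fun U V e => ?_
    obtain ⟨h', H⟩ := RelFP.rfpAt_of_isRelFP hq h U.2 V.2 e
    letI := (f.appLE (V : S.Opens) (U : X.Opens) h').hom.toAlgebra
    obtain ⟨n, φ, hφ, hfp⟩ := H
    exact ⟨n, φ.toRingHom, ⟨hφ, RingHom.ext fun a => φ.commutes a⟩, (test hq U V n φ.toRingHom hφ).2 hfp⟩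

end Groth.Agent.H8Props.RelPC
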