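import Groth.Agent.H8Props.FibreCriterionApps
import Mathlib.AlgebraicGeometry.ZariskisMainTheorem
import Mathlib.AlgebraicGeometry.Morphisms.UniversallyOpen

/-!
# The locus of the base where a map of proper flat schemes is an isomorphism
-/

set_option autoImplicit false
set_option linter.style.haveILetI false
universe u

open AlgebraicGeometry CategoryTheory CategoryTheory.Limits TopologicalSpace

namespace Groth.Agent.H8Props.FibreCriterion

variable {X Y S : Scheme.{u}} (f : X ⟶ Y) (g : Y ⟶ S)

theorem fiberToSpec_of_snd_at {P : MorphismProperty Scheme.{u}} [P.IsStableUnderBaseChange] (y : Y)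
    (h : P (pullback.snd f (g.fiberι (g y)))) : P (f.fiberToSpecResidueField y) := by
  have key : ∀ k, k = g.asFiberHom y ≫ g.fiberι (g y) → P (pullback.snd f k) := by
    rintro k rfl
    have h1 := MorphismProperty.pullback_snd (P := P) (pullback.snd f (g.fiberι (g y)))
      (g.asFiberHom y) h
    rw [← pullbackLeftPullbackSndIso_hom_snd f (g.fiberι (g y)) (g.asFiberHom y)] at h1
    exact (P.cancel_left_of_respectsIso _ _).mp h1
  exact key _ (g.asFiberHom_fiberι y).symm

/-- A point of `X ×_Y X` over a point with monomorphic fibre is on the diagonal. -/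
theorem exists_diagonal_eq_of_mono_fiber (z : (pullback f f : Scheme.{u}))
    (hm : Mono (f.fiberToSpecResidueField ((pullback.fst f f ≫ f) z))) :
    pullback.diagonal f (pullback.fst f f z) = z := by
  let k := (pullback f f).fromSpecResidueField z
  let q := Spec.map ((pullback.fst f f ≫ f).residueFieldMap z)
  have hq : q ≫ Y.fromSpecResidueField _ = k ≫ pullback.fst f f ≫ f :=
    (pullback.fst f f ≫ f).SpecMap_residueFieldMap_fromSpecResidueField z
  have h₁ : (k ≫ pullback.fst f f) ≫ f = q ≫ Y.fromSpecResidueField _ :=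
    (Category.assoc ..).trans hq.symm
  have h₂ : (k ≫ pullback.snd f f) ≫ f = q ≫ Y.fromSpecResidueField _ := by
    rw [Category.assoc, ← pullback.condition]; exact hq.symm
  have l : pullback.lift _ q h₁ = pullback.lift _ q h₂ :=
    hm.right_cancellation (Z := Spec ((pullback f f).residueField z)) _ _
      ((pullback.lift_snd _ _ _).trans (pullback.lift_snd _ _ _).symm)
  have e : k ≫ pullback.fst f f = k ≫ pullback.snd f f := by
    calc _ = pullback.lift _ q h₁ ≫ pullback.fst _ _ := (pullback.lift_fst _ _ _).symm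
      _ = pullback.lift _ q h₂ ≫ pullback.fst _ _ := by rw [l]
      _ = _ := pullback.lift_fst _ _ _
  have hd : (k ≫ pullback.fst f f) ≫ pullback.diagonal f = k := by
    apply pullback.hom_ext
    · rw [Category.assoc, pullback.diagonal_fst, Category.comp_id]
    · rw [Category.assoc, pullback.diagonal_snd, Category.comp_id, e]
  have h := congrArg (fun φ : Spec ((pullback f f).residueField z) ⟶ pullback f f =>
    φ (IsLocalRing.closedPoint _)) hd
  have hz := (pullback f f).fromSpecResidueField_apply z (IsLocalRing.closedPoint _)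
  exact ((congrArg (fun w => pullback.diagonal f (pullback.fst f f w)) hz).symm.trans h).trans hz

/-- If `g₁, g₂` are `K`-points of `X` over `f` whose pair lands in a diagonal that is an open
immersion on `W`, they agree. -/
theorem eq_of_mem_diagonal {W : X.Opens} [IsOpenImmersion (W.ι ≫ pullback.diagonal f)] {K : Type u}
    [Field K] (g₁ g₂ : Spec (.of K) ⟶ X) (e : g₁ ≫ f = g₂ ≫ f)
    (h : Set.range (pullback.lift g₁ g₂ e) ⊆ Set.range (W.ι ≫ pullback.diagonal f)) : g₁ = g₂ := by
  obtain ⟨l, hl⟩ : ∃ l, l ≫ W.ι ≫ pullback.diagonal f = pullback.lift g₁ g₂ e :=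
    ⟨_, IsOpenImmersion.lift_fac _ _ h⟩
  have h1 := congrArg (· ≫ pullback.fst f f) hl
  have h2 := congrArg (· ≫ pullback.snd f f) hl
  simp only [Category.assoc, pullback.diagonal_fst, pullback.diagonal_snd, Category.comp_id,
    pullback.lift_fst, pullback.lift_snd] at h1 h2
  exact h1.symm.trans h2

theorem isIso_restrict_snd (V : Y.Opens) [IsIso (f ∣_ V)] {Z : Scheme.{u}} (k : Z ⟶ Y)
    (hk : Set.range k ⊆ Set.range V.ι) : IsIso (pullback.snd f k) := by
  haveI : IsIso (pullback.snd f V.ι) := by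
    have h := isPullback_morphismRestrict f V
    have : (h.flip).isoPullback.inv ≫ (f ∣_ V) = pullback.snd f V.ι := h.flip.isoPullback_inv_snd
    rw [← this]; infer_instance
  have key : ∀ k', k' = IsOpenImmersion.lift V.ι k hk ≫ V.ι → IsIso (pullback.snd f k') := by
    rintro k' rfl
    have h2 : IsIso (pullback.snd (pullback.snd f V.ι) (IsOpenImmersion.lift V.ι k hk)) :=
      MorphismProperty.pullback_snd (P := MorphismProperty.isomorphisms Scheme) _ _ ‹_›
    rw [← pullbackLeftPullbackSndIso_hom_snd] at h2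
    exact IsIso.of_isIso_comp_left
      (pullbackLeftPullbackSndIso f V.ι (IsOpenImmersion.lift V.ι k hk)).hom _
  exact key k (IsOpenImmersion.lift_fac _ _ _).symm

/-- For proper flat `X → S` and proper `Y → S`, both finitely presented, the fibrewise isomorphism
locus is open and `f` is an isomorphism over it. -/
theorem exists_isIso_morphismRestrict [LocallyOfFinitePresentation g]
    [LocallyOfFinitePresentation (f ≫ g)] [Flat (f ≫ g)] [IsProper g] [IsProper (f ≫ g)] :
    ∃ U : S.Opens, (∀ s : S, s ∈ U ↔ IsIso (pullback.snd f (g.fiberι s))) ∧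
      IsIso (f ∣_ (g ⁻¹ᵁ U)) := by
  haveI : IsProper f := IsProper.of_comp f g
  haveI : LocallyOfFinitePresentation f := H12AlgSp.lfp_of_comp f g
  let W : X.Opens := f.smoothLocus ⊓ f.quasiFiniteLocus
  haveI : Etale (W.ι ≫ f) := by
    refine (H06Unram.etale_iff_smooth_and_locallyQuasiFinite _).mpr ⟨?_, ?_⟩
    · refine Scheme.Hom.smoothLocus_eq_top_iff.mp (top_unique fun x _ => ?_)
      rw [← Scheme.Hom.preimage_smoothLocus_eq]
      exact (W.opensRange_ι.le ⟨x, rfl⟩).1
    · refine ((W.ι ≫ f).quasiFiniteLocus_eq_top_iff).mp (top_unique fun x _ => ?_)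
      rw [Scheme.Hom.quasiFiniteLocus_comp]
      exact (W.opensRange_ι.le ⟨x, rfl⟩).2
  haveI : IsOpenImmersion (W.ι ≫ pullback.diagonal f) := by
    have e : W.ι ≫ pullback.diagonal f = pullback.diagonal (W.ι ≫ f) ≫
        pullback.map (W.ι ≫ f) (W.ι ≫ f) f f W.ι W.ι (𝟙 _) (by simp) (by simp) := by
      apply pullback.hom_ext
      · simp only [pullback.map, Category.assoc, pullback.diagonal_fst, Category.comp_id]
        rw [pullback.lift_fst, pullback.diagonal_fst_assoc]
      · simp only [pullback.map, Category.assoc, pullback.diagonal_snd, Category.comp_id]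
        rw [pullback.lift_snd, pullback.diagonal_snd_assoc]
    rw [e]; infer_instance
  let p := pullback.fst f f ≫ f ≫ g
  haveI : UniversallyClosed p := inferInstance
  let C : Set S := p '' (Set.range (W.ι ≫ pullback.diagonal f))ᶜ
  let D : Set S := g '' (Set.range (W.ι ≫ f))ᶜ
  have hC : IsClosed C :=
    p.isClosedMap _ (W.ι ≫ pullback.diagonal f).isOpenEmbedding.isOpen_range.isClosed_compl
  have hD : IsClosed D := g.isClosedMap _ (W.ι ≫ f).isOpenMap.isOpen_range.isClosed_compl
  let U : S.Opens := ⟨(C ∪ D)ᶜ, (hC.union hD).isOpen_compl⟩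
  haveI hiso : IsIso (f ∣_ (g ⁻¹ᵁ U)) := by
    set V := g ⁻¹ᵁ U
    have hle : f ⁻¹ᵁ V ≤ W := fun x hx => by
      by_contra hxW
      refine hx (Or.inl ⟨pullback.diagonal f x, fun ⟨w, hw⟩ => hxW ?_, ?_⟩)
      · have := congrArg (pullback.fst f f) hw
        simp only [← Scheme.Hom.comp_apply, Category.assoc, pullback.diagonal_fst,
          Category.comp_id] at this
        have hx' : W.ι w = x := this
        exact hx' ▸ w.2
      · show (pullback.diagonal f ≫ p) x = g (f x)
        simp only [p, pullback.diagonal_fst_assoc]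
        rfl
    haveI : Etale (f ∣_ V) := by
      haveI : Etale ((f ∣_ V) ≫ V.ι) := by
        rw [morphismRestrict_ι, ← X.homOfLE_ι hle, Category.assoc]; infer_instance
      exact MorphismProperty.of_postcomp (W := @Etale.{u}) (W' := @Etale.{u}) _ V.ι
        inferInstance ‹_›
    haveI : UniversallyInjective (f ∣_ V) := by
      refine ((tfae_universallyInjective _).out 0 1).mpr ?_
      intro K inst g₁ g₂ e
      rw [← cancel_mono (f ⁻¹ᵁ V).ι]
      have e' : (g₁ ≫ (f ⁻¹ᵁ V).ι) ≫ f = (g₂ ≫ (f ⁻¹ᵁ V).ι) ≫ f := by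
        simp only [Category.assoc, ← morphismRestrict_ι]
        exact congrArg (· ≫ V.ι) e |>.trans (Category.assoc ..) |> (Category.assoc ..).symm.trans
      refine eq_of_mem_diagonal f (W := W) _ _ e' ?_
      rintro _ ⟨t, rfl⟩
      by_contra hn
      refine ((f ⁻¹ᵁ V).opensRange_ι.le ⟨g₁ t, rfl⟩) (Or.inl ⟨_, hn, ?_⟩)
      show (pullback.lift _ _ e' ≫ p) t = g (f _)
      simp only [p, pullback.lift_fst_assoc]
      rfl
    refine (isIso_iff_isOpenImmersion_and_surjective _).mpr
      ⟨H18Et.TopInv.isOpenImmersion_of_etale_of_universallyInjective _, ⟨fun v => ?_⟩⟩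
    obtain ⟨w, hw⟩ : V.ι v ∈ Set.range (W.ι ≫ f) := by
      by_contra hn
      exact (V.opensRange_ι.le ⟨v, rfl⟩) (Or.inr ⟨V.ι v, hn, rfl⟩)
    have hwV : W.ι w ∈ f ⁻¹ᵁ V := show f (W.ι w) ∈ V from hw.symm ▸ V.opensRange_ι.le ⟨v, rfl⟩
    refine ⟨⟨W.ι w, hwV⟩, V.ι.injective ?_⟩
    show ((f ∣_ V) ≫ V.ι) _ = V.ι v
    rw [morphismRestrict_ι]
    exact hw
  refine ⟨U, fun s => ⟨fun hs => ?_, fun hs => ?_⟩, hiso⟩
  · refine isIso_restrict_snd f (g ⁻¹ᵁ U) _ ?_
    rw [Scheme.Hom.range_fiberι, Scheme.Opens.range_ι]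
    rintro y (rfl : g y = s)
    exact hs
  have hfib : ∀ y : Y, g y = s → IsIso (f.fiberToSpecResidueField y) := by
    rintro y rfl
    exact fiberToSpec_of_snd_at (P := MorphismProperty.isomorphisms Scheme) f g y hs
  have hW : ∀ x : X, g (f x) = s → x ∈ W := by
    rintro x rfl
    haveI := hfib (f x) rfl
    refine ⟨H17.LocusBC.mem_smoothLocus_of_flat_of_fiber f x ?_ ?_, ?_⟩
    · haveI : IsIso (pullback.snd f (g.fiberι ((f ≫ g) x))) := hs
      haveI : Flat (MoreMor.fiberMap f g ((f ≫ g) x)) := fiberMap_of_snd f g _ inferInstance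
      have h1 := flat_stalkMap_of_fiberMap f g ((f ≫ g) x) ((f ≫ g).asFiber x) (Flat.stalkMap _ _)
      rw [Scheme.Hom.fiberι_asFiber] at h1
      exact h1.1
    · rw [(f.fiberToSpecResidueField (f x)).smoothLocus_eq_top]; trivial
    · refine Scheme.Hom.quasiFiniteAt_iff_isOpen_singleton_asFiber.mpr ?_
      haveI : Subsingleton (f.fiber (f x)) :=
        (f.fiberToSpecResidueField (f x)).homeomorph.injective.subsingleton
      rw [Set.eq_univ_of_forall (s := {f.asFiber x}) fun z => Subsingleton.elim _ _]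
      exact isOpen_univ
  rintro (⟨z, hz, hzs⟩ | ⟨y, hy, hys⟩)
  · refine hz ?_
    haveI : Mono (f.fiberToSpecResidueField ((pullback.fst f f ≫ f) z)) := by
      haveI := hfib _ (show g ((pullback.fst f f ≫ f) z) = s from hzs)
      infer_instance
    exact ⟨⟨_, hW _ hzs⟩, exists_diagonal_eq_of_mono_fiber f z ‹_›⟩
  · refine hy ?_
    haveI := hfib y hys
    obtain ⟨t, ht⟩ := (f.fiberToSpecResidueField y).homeomorph.surjective
      (IsLocalRing.closedPoint _)
    have hxy : f (f.fiberι y t) = y := (f.range_fiberι y).subset ⟨t, rfl⟩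
    exact ⟨⟨_, hW (f.fiberι y t) (hxy.symm ▸ hys)⟩, hxy⟩

end Groth.Agent.H8Props.FibreCriterion
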