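import Groth.Agent.H8Props.MiracleFlat
import Groth.Agent.S9829
import Mathlib.RingTheory.IntegralClosure.GoingDown
import Mathlib.RingTheory.Ideal.GoingUp
import Mathlib.RingTheory.Ideal.GoingDown
import Mathlib.RingTheory.Localization.Finiteness
import Mathlib.RingTheory.Localization.Integral
import Mathlib.RingTheory.Flat.Localization
import Mathlib.RingTheory.Flat.Stability

/-!
# Finite extensions between regular rings are flat
-/

set_option autoImplicit false

universe u

open IsLocalRing

namespace Groth.Agent.H8Props.FiniteRegularFlat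

theorem height_map_le_of_surjective {S T : Type u} [CommRing S] [CommRing T] (f : S →+* T)
    (hf : Function.Surjective f) (P : Ideal T) [P.IsPrime] : P.height ≤ (P.comap f).height := by
  let x : PrimeSpectrum T := ⟨P, inferInstance⟩
  show x.asIdeal.height ≤ (PrimeSpectrum.comap f x).asIdeal.height
  rw [PrimeSpectrum.height_eq_orderHeight, PrimeSpectrum.height_eq_orderHeight]
  exact Order.height_le_height_apply_of_strictMono (PrimeSpectrum.comap f)
    (RingHom.strictMono_comap_of_surjective hf) x

theorem eq_bot_of_under_mem_minimalPrimes {R : Type u} [CommRing R] (p : Ideal R) [p.IsPrime]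
    [IsDomain (Localization.AtPrime p)] (Q : Ideal (Localization.AtPrime p)) [Q.IsPrime]
    (h : Q.comap (algebraMap R (Localization.AtPrime p)) ∈ minimalPrimes R) : Q = ⊥ := by
  have hb : (⊥ : Ideal (Localization.AtPrime p)).comap (algebraMap R _) =
      Q.comap (algebraMap R _) :=
    le_antisymm (Ideal.comap_mono bot_le)
      (h.2 ⟨Ideal.IsPrime.comap _, bot_le⟩ (Ideal.comap_mono bot_le))
  exact (IsLocalization.map_comap p.primeCompl (Localization.AtPrime p) Q).symm.trans
    ((congrArg (Ideal.map _) hb.symm).trans
      (IsLocalization.map_comap p.primeCompl (Localization.AtPrime p) ⊥))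

variable {R S : Type u} [CommRing R] [CommRing S] [Algebra R S] [Module.Finite R S]

theorem height_le_height (p : Ideal R) [p.IsPrime] (P : Ideal S) [P.IsPrime] [P.LiesOver p]
    [IsRegularLocalRing (Localization.AtPrime p)]
    (hmin : ∀ q ∈ minimalPrimes S, q ≤ P → q.comap (algebraMap R S) ∈ minimalPrimes R) :
    ringKrullDim (Localization.AtPrime p) ≤ P.height := by
  let M := Algebra.algebraMapSubmonoid S p.primeCompl
  let A := Localization.AtPrime p
  let D₀ := Localization M
  have hp : p = P.comap (algebraMap R S) := ‹P.LiesOver p›.over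
  have hdisj : Disjoint (M : Set S) P := by
    refine Set.disjoint_left.mpr ?_
    rintro _ ⟨r, hr, rfl⟩ hrP
    exact hr (by rw [hp]; exact hrP)
  obtain ⟨q, hq, hqP⟩ := Ideal.exists_minimalPrimes_le (bot_le : ⊥ ≤ P)
  have := hq.1.1
  have hdisjq : Disjoint (M : Set S) q := hdisj.mono_right hqP
  set P₀ := P.map (algebraMap S D₀) with hP₀
  set q₀ := q.map (algebraMap S D₀) with hq₀
  have : P₀.IsPrime := IsLocalization.isPrime_of_isPrime_disjoint M _ P inferInstance hdisj
  have : q₀.IsPrime := IsLocalization.isPrime_of_isPrime_disjoint M _ q inferInstance hdisjq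
  have hcP : P₀.comap (algebraMap S D₀) = P :=
    IsLocalization.comap_map_of_isPrime_disjoint M D₀ inferInstance hdisj
  have hcq : q₀.comap (algebraMap S D₀) = q :=
    IsLocalization.comap_map_of_isPrime_disjoint M D₀ inferInstance hdisjq
  have hfin : Module.Finite A D₀ := Module.Finite.of_isLocalization R S p.primeCompl
  have hcomp : (algebraMap A D₀).comp (algebraMap R A) = (algebraMap S D₀).comp (algebraMap R S) := by
    rw [← IsScalarTower.algebraMap_eq, ← IsScalarTower.algebraMap_eq]
  have := H4Depth.isDomain_of_isRegularLocalRing A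
  have := S9829.result A
  let D := D₀ ⧸ q₀
  have hk : q₀.comap (algebraMap A D₀) = ⊥ := by
    refine eq_bot_of_under_mem_minimalPrimes p _ ?_
    rw [Ideal.comap_comap, hcomp, ← Ideal.comap_comap, hcq]
    exact hmin q hq hqP
  have : FaithfulSMul A D := by
    refine (faithfulSMul_iff_algebraMap_injective A D).mpr ((injective_iff_map_eq_zero _).mpr fun a ha => ?_)
    rw [← Submodule.mem_bot A, ← hk, Ideal.mem_comap]
    exact Ideal.Quotient.eq_zero_iff_mem.mp (show Ideal.Quotient.mk q₀ (algebraMap A D₀ a) = 0 from ha)
  have : Algebra.IsIntegral A D := Algebra.IsIntegral.of_finite A D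
  set P' := P₀.map (Ideal.Quotient.mk q₀) with hP'
  have hqP₀ : q₀ ≤ P₀ := Ideal.map_mono hqP
  have : P'.IsPrime := Ideal.isPrime_map_quotientMk_of_isPrime hqP₀
  have hcP' : P'.comap (Ideal.Quotient.mk q₀) = P₀ := by
    rw [hP', Ideal.comap_map_of_surjective _ Ideal.Quotient.mk_surjective, ← RingHom.ker_eq_comap_bot,
      Ideal.mk_ker, sup_eq_left.mpr hqP₀]
  have : P'.LiesOver (maximalIdeal A) := ⟨by
    have h1 : P'.comap (algebraMap A D) = P₀.comap (algebraMap A D₀) := by
      rw [IsScalarTower.algebraMap_eq A D₀ D, ← Ideal.comap_comap]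
      exact congrArg (Ideal.comap (algebraMap A D₀)) hcP'
    show maximalIdeal A = P'.comap (algebraMap A D)
    have h2 : (P₀.comap (algebraMap A D₀)).comap (algebraMap R A) = p := by
      rw [Ideal.comap_comap, hcomp, ← Ideal.comap_comap, hcP, hp]
    rw [h1]
    exact ((IsLocalization.map_comap p.primeCompl A (P₀.comap (algebraMap A D₀))).symm.trans
      ((congrArg (Ideal.map _) h2).trans (IsLocalization.AtPrime.map_eq_maximalIdeal p A))).symm⟩
  have : IsNoetherianRing D₀ := IsNoetherianRing.of_finite A D₀
  have h := Ideal.height_eq_height_add_of_liesOver_of_hasGoingDown (maximalIdeal A) P'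
  rw [← maximalIdeal_height_eq_ringKrullDim, WithBot.coe_le_coe]
  refine (le_add_right le_rfl).trans (h.symm.le.trans ?_)
  refine (height_map_le_of_surjective _ Ideal.Quotient.mk_surjective P').trans ?_
  rw [hcP', hP₀, IsLocalization.height_map_of_disjoint M P hdisj]

/-- A finite algebra with regular local rings over a ring with regular local rings is flat as soon as
its minimal primes lie over minimal primes. -/
theorem flat_of_regular [IsNoetherianRing R]
    (hR : ∀ (p : Ideal R) [p.IsPrime], IsRegularLocalRing (Localization.AtPrime p))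
    (hS : ∀ (P : Ideal S) [P.IsPrime], IsRegularLocalRing (Localization.AtPrime P))
    (hmin : ∀ q ∈ minimalPrimes S, q.comap (algebraMap R S) ∈ minimalPrimes R) :
    Module.Flat R S := by
  refine Module.flat_of_isLocalized_maximal S S (fun P => Localization.AtPrime P)
    (fun P => Algebra.linearMap S _) fun P hP => ?_
  let p := P.under R
  let := Localization.AtPrime.algebraOfLiesOver p P
  have := hR p
  have := hS P
  have := H4Depth.isCohenMacaulayLocalRing_of_regular (Localization.AtPrime P)
  have : IsLocalHom (algebraMap (Localization.AtPrime p) (Localization.AtPrime P)) := by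
    rw [RingHom.algebraMap_toAlgebra]
    exact Localization.isLocalHom_localRingHom p P (algebraMap R S) Ideal.LiesOver.over
  have : Module.Flat (Localization.AtPrime p) (Localization.AtPrime P) := by
    refine MiracleFlat.flat_of_regular_of_cohenMacaulay _ _ ?_
    set J := (maximalIdeal (Localization.AtPrime p)).map
      (algebraMap (Localization.AtPrime p) (Localization.AtPrime P))
    have hJ : J = p.map (algebraMap R (Localization.AtPrime P)) := by
      simp only [J, ← IsLocalization.AtPrime.map_eq_maximalIdeal p (Localization.AtPrime p),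
        Ideal.map_map, ← IsScalarTower.algebraMap_eq]
    have h0 : ringKrullDim (Localization.AtPrime P ⧸ J) ≤ 0 := by
      refine Ring.krullDimLE_iff.mp (Ring.krullDimLE_zero_iff.mpr fun I hI => ?_)
      let Q := I.comap (Ideal.Quotient.mk J)
      let Q' := Q.comap (algebraMap S (Localization.AtPrime P))
      have hQJ : J ≤ Q := fun x hx => by
        show Ideal.Quotient.mk J x ∈ I
        rw [Ideal.Quotient.eq_zero_iff_mem.mpr hx]; exact I.zero_mem
      have hQ' : Q' ≤ P := fun x hx =>
        (IsLocalization.AtPrime.to_map_mem_maximal_iff (Localization.AtPrime P) P x).mp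
          (le_maximalIdeal (J := Q) (Ideal.IsPrime.ne_top inferInstance) hx)
      have hpQ : ∀ r ∈ p, algebraMap R S r ∈ Q' := fun r hr => by
        show algebraMap S (Localization.AtPrime P) (algebraMap R S r) ∈ Q
        rw [← IsScalarTower.algebraMap_apply]
        exact hQJ (hJ ▸ Ideal.mem_map_of_mem _ hr)
      have hPQ' : P ≤ Q' := by
        intro x hx
        by_contra hxQ
        exact (Ideal.comap_lt_comap_of_integral_mem_sdiff (R := R) hQ' ⟨hx, hxQ⟩
          (Algebra.IsIntegral.isIntegral x)).not_ge fun r hr => hpQ r hr
      have hQmax : Q = maximalIdeal (Localization.AtPrime P) := by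
        refine le_antisymm (le_maximalIdeal (Ideal.IsPrime.ne_top inferInstance)) ?_
        rw [← IsLocalization.AtPrime.map_eq_maximalIdeal P (Localization.AtPrime P)]
        exact Ideal.map_le_iff_le_comap.mpr hPQ'
      have hQm : Q.IsMaximal := hQmax ▸ maximalIdeal.isMaximal _
      rw [← Ideal.map_comap_of_surjective _ Ideal.Quotient.mk_surjective I]
      exact Ideal.IsMaximal.map_of_surjective_of_ker_le Ideal.Quotient.mk_surjective
        (by rw [Ideal.mk_ker]; exact hQJ)
    calc ringKrullDim (Localization.AtPrime p) + ringKrullDim (Localization.AtPrime P ⧸ J)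
        ≤ ringKrullDim (Localization.AtPrime p) + 0 := by gcongr
      _ ≤ (P.height : WithBot ℕ∞) := by
        rw [add_zero]
        exact height_le_height p P fun q hq _ => hmin q hq
      _ = ringKrullDim (Localization.AtPrime P) :=
        (IsLocalization.AtPrime.ringKrullDim_eq_height P _).symm
  exact Module.Flat.trans R (Localization.AtPrime p) _

end Groth.Agent.H8Props.FiniteRegularFlat
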