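import Groth.Agent.H7Flat.FibreDimConstructible
import Groth.Agent.H8Props.FieldDimFibre
import Groth.Agent.H17.ConsPropModels
import Groth.Agent.H13Flat.Descend
import Groth.Agent.H8Props.FibreCriterion
import Groth.Prelude.Def_RegImm
import Mathlib

/-!
# Noetherian approximation of relative global complete intersections
-/

set_option autoImplicit false
set_option linter.style.haveILetI false
set_option linter.unusedVariables false
set_option backward.isDefEq.respectTransparency false
set_option backward.defeqAttrib.useBackward true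
universe u

open CategoryTheory Limits AlgebraicGeometry MvPolynomial Topology TopologicalSpace Opposite TensorProduct
open Groth.Agent.H13Flat

namespace Groth.Agent.H8Props.RelGCI

variable {R : Type u} [CommRing R] {n c : ℕ} (F : Fin c → MvPolynomial (Fin n) R)

/-- The dimension bound of a relative global complete intersection. -/
def bd (n c : ℕ) : WithBot ℕ∞ := if c ≤ n then ((n - c : ℕ) : WithBot ℕ∞) else ⊥

/-- A nonzero algebra cut out by `c` equations in `n` variables over a field has dimension at least `n - c`. -/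
theorem le_ringKrullDim {K : Type u} [Field K] (G : Fin c → MvPolynomial (Fin n) K)
    [Nontrivial (MvPolynomial (Fin n) K ⧸ Ideal.span (Set.range G))] :
    (n : WithBot ℕ∞) ≤ ringKrullDim (MvPolynomial (Fin n) K ⧸ Ideal.span (Set.range G)) + c := by
  let I := Ideal.span (Set.range G)
  obtain ⟨m, hm, hle⟩ := I.exists_le_maximal (Ideal.Quotient.nontrivial_iff.mp ‹_›)
  have h1 := height_le_ringKrullDim_quotient_add_spanFinrank (p := m) hle
  have h2 := FieldDim.height_add_dim_quotient K (MvPolynomial (Fin n) K) m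
  letI := Ideal.Quotient.field m
  rw [MvPolynomial.ringKrullDim_of_isNoetherianRing, ringKrullDim_eq_zero_of_field K,
    ringKrullDim_eq_zero_of_field (MvPolynomial (Fin n) K ⧸ m), add_zero, zero_add] at h2
  rw [h2] at h1
  rw [Nat.card_fin] at h1
  refine h1.trans ?_
  gcongr
  have hc : I.spanFinrank ≤ c :=
    (Submodule.spanFinrank_span_le_ncard_of_finite (Set.finite_range G)).trans
      (by rw [← Set.image_univ]; exact (Set.ncard_image_le Set.finite_univ).trans (by simp))
  exact_mod_cast hc

/-- The fibre ring of a presentation is presented by the reduced equations. -/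
theorem fiber_presented (p : PrimeSpectrum R) :
    ∃ g : p.asIdeal.Fiber (Synt.RelGCIRing R n c F) →+*
      (MvPolynomial (Fin n) p.asIdeal.ResidueField ⧸
        Ideal.span (Set.range fun i => MvPolynomial.map (algebraMap R p.asIdeal.ResidueField) (F i))),
      Function.Bijective g := by
  let K := p.asIdeal.ResidueField
  let I := Ideal.span (Set.range F)
  let e₁ := Algebra.TensorProduct.tensorQuotientEquiv (R := R) K (MvPolynomial (Fin n) R) K I
  let e₂ := MvPolynomial.algebraTensorAlgEquiv R (σ := Fin n) K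
  let q := Ideal.quotientEquiv (I.map (Algebra.TensorProduct.includeRight (A := K) (R := R)))
    (Ideal.span (Set.range fun i => MvPolynomial.map (algebraMap R K) (F i))) e₂.toRingEquiv (by
      rw [Ideal.map_span, Ideal.map_span, ← Set.range_comp, ← Set.range_comp]
      congr 1
      refine congrArg Set.range (funext fun i => ?_)
      exact (MvPolynomial.algebraTensorAlgEquiv_tmul ..).trans (one_smul _ _) |>.symm)
  exact ⟨q.toRingHom.comp e₁.toAlgHom.toRingHom, q.bijective.comp e₁.bijective⟩

theorem dim_fibre (p : PrimeSpectrum R) :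
    topologicalKrullDim ((Spec.map (CommRingCat.ofHom (algebraMap R (Synt.RelGCIRing R n c F)))).fiber p) =
      ringKrullDim (p.asIdeal.Fiber (Synt.RelGCIRing R n c F)) := by
  rw [← PrimeSpectrum.topologicalKrullDim_eq_ringKrullDim]
  exact IsHomeomorph.topologicalKrullDim_eq _
    (((Spec.map (CommRingCat.ofHom (algebraMap R (Synt.RelGCIRing R n c F)))).fiberHomeo p).trans
      (PrimeSpectrum.preimageHomeomorphFiber R (Synt.RelGCIRing R n c F) p)).isHomeomorph

theorem isRelGCI_iff :
    Synt.IsRelGCI R n c F ↔ ∀ p : PrimeSpectrum R,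
      topologicalKrullDim ((Spec.map (CommRingCat.ofHom (algebraMap R (Synt.RelGCIRing R n c F)))).fiber p) ≤
        bd n c := by
  refine forall_congr' fun p => ?_
  rw [dim_fibre]
  obtain ⟨g, hg⟩ := fiber_presented F p
  have e := RingEquiv.ofBijective g hg
  have hd : ringKrullDim (MvPolynomial (Fin n) p.asIdeal.ResidueField ⧸
      Ideal.span (Set.range fun i => MvPolynomial.map (algebraMap R p.asIdeal.ResidueField) (F i))) =
      ringKrullDim (p.asIdeal.Fiber (Synt.RelGCIRing R n c F)) := by
    exact (@ringKrullDim_eq_of_ringEquiv (p.asIdeal.Fiber (Synt.RelGCIRing R n c F)) _ _ _ e).symm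
  by_cases hnt : Nontrivial (p.asIdeal.Fiber (Synt.RelGCIRing R n c F))
  · refine ⟨fun h => ?_, fun h _ => ?_⟩
    · rw [bd, if_pos (h hnt).1, (h hnt).2]
    · haveI := (Equiv.ofBijective g hg).symm.nontrivial
      have h1 := le_ringKrullDim (fun i => MvPolynomial.map (algebraMap R p.asIdeal.ResidueField) (F i))
      rw [hd] at h1
      have hne : ringKrullDim (p.asIdeal.Fiber (Synt.RelGCIRing R n c F)) ≠ ⊥ :=
        Order.krullDim_ne_bot_iff.mpr inferInstance
      rw [bd] at h
      split_ifs at h with hc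
      · refine ⟨hc, le_antisymm h ?_⟩
        obtain ⟨m, hm⟩ := WithBot.ne_bot_iff_exists.mp hne
        rw [← hm] at h1 ⊢
        have h1' : (n : ℕ∞) ≤ m + c := by exact_mod_cast h1
        have h2 : ((n - c : ℕ) : ℕ∞) ≤ m := by
          cases m with
          | top => exact le_top
          | coe m => norm_cast at h1' ⊢; omega
        exact WithBot.coe_le_coe.mpr h2
      · exact absurd (le_bot_iff.mp h) hne
  · haveI := not_nontrivial_iff_subsingleton.mp hnt
    simp [hnt, ringKrullDim_eq_bot_of_subsingleton]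

theorem dim_fibre_model {R A R₀ : Type u} [CommRing R] [CommRing A] [CommRing R₀] [Algebra R A]
    [Algebra R₀ R] [Algebra R₀ A] [IsScalarTower R₀ R A] {n : ℕ}
    (φ : MvPolynomial (Fin n) R →ₐ[R] A) (hφ : Function.Surjective φ)
    (N : Ideal (MvPolynomial (Fin n) R₀)) (hN₀ : N.FG)
    (hN : RingHom.ker φ ≤ N.map (MvPolynomial.map (algebraMap R₀ R)))
    (hN' : N.map (MvPolynomial.map (algebraMap R₀ R)) ≤ RingHom.ker φ) (p : PrimeSpectrum R) :
    topologicalKrullDim ((Spec.map (CommRingCat.ofHom (algebraMap R A))).fiber p) =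
      topologicalKrullDim ((Spec.map (CommRingCat.ofHom (algebraMap R₀ (MvPolynomial (Fin n) R₀ ⧸ N)))).fiber
        (PrimeSpectrum.comap (algebraMap R₀ R) p)) := by
  let ψ : MvPolynomial (Fin n) R₀ ⧸ N →+* A :=
    Ideal.Quotient.lift N (φ.toRingHom.comp (MvPolynomial.map (algebraMap R₀ R)))
      fun x hx => RingHom.mem_ker.mp (hN' (Ideal.mem_map_of_mem _ hx))
  letI : Algebra (MvPolynomial (Fin n) R₀ ⧸ N) A := ψ.toAlgebra
  haveI : IsScalarTower R₀ (MvPolynomial (Fin n) R₀ ⧸ N) A := IsScalarTower.of_algebraMap_eq (R := R₀) (S := MvPolynomial (Fin n) R₀ ⧸ N) (A := A) fun a => by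
    show algebraMap R₀ A a = φ (MvPolynomial.map (algebraMap R₀ R) (MvPolynomial.C a))
    rw [MvPolynomial.map_C, ← MvPolynomial.algebraMap_eq, AlgHom.commutes, ← IsScalarTower.algebraMap_apply]
  haveI := FibreCriterion.isPushout_model φ hφ N hN (fun _ => rfl)
  haveI : Algebra.FinitePresentation R₀ (MvPolynomial (Fin n) R₀ ⧸ N) :=
    Algebra.FinitePresentation.quotient hN₀
  haveI : LocallyOfFiniteType (Spec.map (CommRingCat.ofHom (algebraMap R₀ (MvPolynomial (Fin n) R₀ ⧸ N)))) :=
    (HasRingHomProperty.Spec_iff (P := @LocallyOfFiniteType)).mpr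
      (RingHom.finiteType_algebraMap.mpr inferInstance)
  exact FieldDim.dim_fiber_baseChange _
    (isPullback_SpecMap_of_isPushout _ _ _ _
      (CommRingCat.isPushout_of_isPushout R₀ R (MvPolynomial (Fin n) R₀ ⧸ N) A)).flip p

theorem dim_fibre_map {R₁ R' : Type u} [CommRing R₁] [CommRing R'] (φ : R₁ →+* R')
    (F₁ : Fin c → MvPolynomial (Fin n) R₁) (p : PrimeSpectrum R') :
    topologicalKrullDim ((Spec.map (CommRingCat.ofHom (algebraMap R'
      (Synt.RelGCIRing R' n c fun i => MvPolynomial.map φ (F₁ i))))).fiber p) =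
      topologicalKrullDim ((Spec.map (CommRingCat.ofHom (algebraMap R₁
        (Synt.RelGCIRing R₁ n c F₁)))).fiber (PrimeSpectrum.comap φ p)) := by
  letI := φ.toAlgebra
  have hker : RingHom.ker (Ideal.Quotient.mkₐ R'
      (Ideal.span (Set.range fun i => MvPolynomial.map φ (F₁ i)))).toRingHom =
      (Ideal.span (Set.range F₁)).map (MvPolynomial.map (algebraMap R₁ R')) := by
    rw [show RingHom.ker (Ideal.Quotient.mkₐ R' _).toRingHom = _ from Ideal.mk_ker, Ideal.map_span,
      ← Set.range_comp]
    rfl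
  exact dim_fibre_model (Ideal.Quotient.mkₐ R' _) Ideal.Quotient.mk_surjective
    (Ideal.span (Set.range F₁)) (Submodule.fg_span (Set.finite_range F₁)) hker.le hker.ge p

/-- A constructible subset of the spectrum of a finitely generated subring which contains the image of
`Spec R` contains the image of the spectrum of a larger finitely generated subring. -/
theorem exists_subring_stage (T : Finset R)
    (E : Set (PrimeSpectrum (Algebra.adjoin ℤ (T : Set R)))) (hE : IsConstructible E)
    (h : ∀ p : PrimeSpectrum R, PrimeSpectrum.comap (algebraMap (Algebra.adjoin ℤ (T : Set R)) R) p ∈ E) :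
    ∃ (T' : Finset R) (hTT : T ≤ T'), ∀ p : PrimeSpectrum (Algebra.adjoin ℤ (T' : Set R)),
      PrimeSpectrum.comap ((H7Lim.FPDescent.subringFunctor R).map (homOfLE hTT)).hom p ∈ E := by
  let D := (H7Lim.FPDescent.subringFunctor R).op ⋙ Scheme.Spec
  let cn := H17.ConsProp.subringCone R
  let i₀ : (Finset R)ᵒᵖ := op T
  let E' : Set (D.obj i₀) := E
  have hE' : H17.IndCons.ChartInd E' := fun A a _ y hy =>
    ⟨a ⁻¹' E', Scheme.Hom.isConstructible_preimage a hE, hy, subset_rfl⟩
  have htop : cn.π.app i₀ ⁻¹' E' = Set.univ := Set.eq_univ_of_forall fun p => h p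
  obtain ⟨j, φ, hφ⟩ := H17.IndCons.exists_stage_eq_univ (H17.ConsProp.isLimitSubringCone R) i₀ hE' htop
  exact ⟨unop j, leOfHom φ.unop, fun p => Set.eq_univ_iff_forall.mp hφ p⟩

/-- The locus where the fibre of a presentation has dimension at most `n - c`. -/
def locus {R₁ : Type u} [CommRing R₁] (F₁ : Fin c → MvPolynomial (Fin n) R₁) : Set (PrimeSpectrum R₁) :=
  {s | topologicalKrullDim ((Spec.map (CommRingCat.ofHom (algebraMap R₁
    (Synt.RelGCIRing R₁ n c F₁)))).fiber s) ≤ bd n c}

theorem mem_locus_map {R₁ R' : Type u} [CommRing R₁] [CommRing R'] (φ : R₁ →+* R')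
    (F₁ : Fin c → MvPolynomial (Fin n) R₁) :
    Synt.IsRelGCI R' n c (fun i => MvPolynomial.map φ (F₁ i)) ↔
      ∀ p : PrimeSpectrum R', PrimeSpectrum.comap φ p ∈ locus F₁ := by
  rw [isRelGCI_iff]
  refine forall_congr' fun p => ?_
  rw [dim_fibre_map]
  rfl

theorem isConstructible_locus {R₁ : Type u} [CommRing R₁] [IsNoetherianRing R₁]
    (F₁ : Fin c → MvPolynomial (Fin n) R₁) : IsConstructible (locus F₁) :=
  haveI : Algebra.FinitePresentation R₁ (Synt.RelGCIRing R₁ n c F₁) :=
    Algebra.FinitePresentation.quotient (Submodule.fg_span (Set.finite_range F₁))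
  H7Flat.isConstructible_dim_fiber_le_spec _

theorem exists_stage (h : Synt.IsRelGCI R n c F) :
    ∃ (R₀ : Subalgebra ℤ R) (F₀ : Fin c → MvPolynomial (Fin n) R₀), Algebra.FiniteType ℤ R₀ ∧
      (∀ i, MvPolynomial.map (algebraMap R₀ R) (F₀ i) = F i) ∧ Synt.IsRelGCI R₀ n c F₀ := by
  classical
  let T : Finset R := Finset.univ.biUnion fun i => (F i).coeffs
  let R₁ := Algebra.adjoin ℤ ((T : Finset R) : Set R)
  have hin : ∀ i, F i ∈ Set.range (MvPolynomial.map (σ := Fin n) (algebraMap R₁ R)) := fun i =>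
    MvPolynomial.mem_range_map_iff_coeffs_subset.2 fun a ha =>
      ⟨⟨a, Algebra.subset_adjoin (Finset.mem_coe.2 (Finset.mem_biUnion.2 ⟨i, Finset.mem_univ i, ha⟩))⟩, rfl⟩
  choose F₁ hF₁ using hin
  haveI : IsNoetherianRing R₁ :=
    haveI : Algebra.FiniteType ℤ R₁ := R₁.fg_iff_finiteType.1 ⟨T, rfl⟩
    Algebra.FiniteType.isNoetherianRing ℤ _
  have hF : (fun i => MvPolynomial.map (algebraMap R₁ R) (F₁ i)) = F := funext hF₁
  have htop := (mem_locus_map (algebraMap R₁ R) F₁).mp (hF.symm ▸ h)
  obtain ⟨T', hTT, hT'⟩ := exists_subring_stage T _ (isConstructible_locus F₁) htop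
  refine ⟨Algebra.adjoin ℤ (T' : Set R), fun i => MvPolynomial.map
    ((H7Lim.FPDescent.subringFunctor R).map (homOfLE hTT)).hom (F₁ i),
    (Algebra.adjoin ℤ (T' : Set R)).fg_iff_finiteType.1 ⟨T', rfl⟩, fun i => ?_, ?_⟩
  · exact (MvPolynomial.map_map _ _ (F₁ i)).trans (hF₁ i)
  · exact (mem_locus_map _ F₁).mpr hT'

end Groth.Agent.H8Props.RelGCI
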