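import Mathlib

/-!
# Flatness can be checked on infinitesimal neighbourhoods (helper8)
-/

set_option autoImplicit false
universe u
open TensorProduct

namespace Groth.Agent.H8Props.FlatInfinitesimal

theorem lTensor_ideal_injective {R A Q : Type u} [CommRing R] [CommRing A] [Algebra R A]
    [CommRing Q] [Algebra R Q] [Module.Flat Q (Q ⊗[R] A)] (Jb : Ideal Q) :
    Function.Injective (LinearMap.lTensor A (Jb.subtype.restrictScalars R)) := by
  intro y₁ y₂ hy
  let e₁ := AlgebraTensorModule.cancelBaseChange R Q Q Jb A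
  let e₂ := AlgebraTensorModule.cancelBaseChange R Q Q Q A
  have h1 : Function.Injective (Jb.subtype.rTensor (Q ⊗[R] A)) :=
    Module.Flat.rTensor_preserves_injective_linearMap _ Jb.injective_subtype
  have key : ∀ y : A ⊗[R] Jb, Jb.subtype.rTensor (Q ⊗[R] A) (e₁.symm (TensorProduct.comm R A Jb y)) =
      e₂.symm (TensorProduct.comm R A Q (LinearMap.lTensor A (Jb.subtype.restrictScalars R) y)) := by
    intro y
    induction y using TensorProduct.induction_on with
    | zero => simp only [LinearEquiv.map_zero, LinearMap.map_zero]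
    | tmul a b => rfl
    | add a b ha hb => simp only [LinearEquiv.map_add, LinearMap.map_add, ha, hb]
  refine (TensorProduct.comm R A Jb).injective (e₁.symm.injective (h1 ?_))
  rw [key, key, hy]

theorem flat_of_forall_pow {R A : Type u} [CommRing R] [CommRing A] [Algebra R A]
    [IsNoetherianRing R] [IsNoetherianRing A] [IsLocalRing A] (I : Ideal R)
    (hI : I.map (algebraMap R A) ≠ ⊤)
    (h : ∀ n : ℕ, Module.Flat (R ⧸ I ^ (n + 1)) ((R ⧸ I ^ (n + 1)) ⊗[R] A)) :
    Module.Flat R A := by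
  rw [Module.Flat.iff_lTensor_injective']
  intro J
  rw [injective_iff_map_eq_zero]
  intro x hx
  have hfin : Module.Finite A (A ⊗[R] J) := inferInstance
  obtain ⟨k, hk⟩ := I.exists_pow_inf_eq_pow_smul (M := R) J
  suffices x ∈ (⨅ i : ℕ, (I.map (algebraMap R A)) ^ i • ⊤ : Submodule A (A ⊗[R] J)) by
    rw [Ideal.iInf_pow_smul_eq_bot_of_isLocalRing _ hI] at this
    exact this
  rw [Submodule.mem_iInf]
  intro i
  set n := k + i with hn
  let mk : R →ₐ[R] R ⧸ I ^ (n + 1) := Ideal.Quotient.mkₐ R _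
  let Jb : Ideal (R ⧸ I ^ (n + 1)) := J.map (Ideal.Quotient.mk _)
  let π : J →ₗ[R] Jb :=
    { toFun := fun j ↦ ⟨mk j.1, Ideal.mem_map_of_mem _ j.2⟩
      map_add' := fun a b ↦ Subtype.ext (map_add mk _ _)
      map_smul' := fun a b ↦ Subtype.ext (map_smul mk a b.1) }
  have hπ : Function.Surjective π := by
    rintro ⟨y, hy⟩
    obtain ⟨j, hj, rfl⟩ := (Ideal.mem_map_iff_of_surjective _ Ideal.Quotient.mk_surjective).mp hy
    exact ⟨⟨j, hj⟩, rfl⟩
  -- injectivity coming from flatness modulo `I ^ (n + 1)`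
  have hinj : Function.Injective (LinearMap.lTensor A (Jb.subtype.restrictScalars R)) := by
    have := h n
    exact lTensor_ideal_injective Jb
  have hker : x ∈ LinearMap.ker (LinearMap.lTensor A π) := by
    rw [LinearMap.mem_ker]
    apply hinj
    rw [map_zero, ← LinearMap.comp_apply, ← LinearMap.lTensor_comp]
    rw [show (Jb.subtype.restrictScalars R) ∘ₗ π = mk.toLinearMap ∘ₗ J.subtype from rfl,
      LinearMap.lTensor_comp, LinearMap.comp_apply, hx, map_zero]
  rw [(lTensor_exact A π.exact_subtype_ker_map hπ).linearMap_ker_eq] at hker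
  obtain ⟨z, rfl⟩ := hker
  clear hx
  induction z using TensorProduct.induction_on with
  | zero => simp
  | add a b ha hb => rw [map_add]; exact add_mem ha hb
  | tmul a j =>
    rw [LinearMap.lTensor_tmul]
    obtain ⟨⟨j, hjJ⟩, hjk⟩ := j
    have hjn : j ∈ I ^ (n + 1) := by
      rw [LinearMap.mem_ker, Subtype.ext_iff] at hjk
      exact Ideal.Quotient.eq_zero_iff_mem.mp hjk
    have hj' : j ∈ I ^ i • (J : Submodule R R) := by
      have h2 : j ∈ I ^ n • ⊤ ⊓ (J : Submodule R R) := ⟨by
        rw [smul_eq_mul, Ideal.mul_top]; exact Ideal.pow_le_pow_right n.le_succ hjn, hjJ⟩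
      rw [hk n (by omega)] at h2
      refine Submodule.smul_mono ?_ inf_le_right h2
      rw [show n - k = i by omega]
    have key : ∀ y ∈ I ^ i • (J : Submodule R R), ∀ hy : y ∈ J,
        a ⊗ₜ[R] (⟨y, hy⟩ : J) ∈
          ((I.map (algebraMap R A)) ^ i • ⊤ : Submodule A (A ⊗[R] J)) := by
      intro y hy
      refine Submodule.smul_induction_on' hy (fun r hr s hs hrs ↦ ?_) (fun y₁ hy₁ y₂ hy₂ h₁ h₂ h' ↦ ?_)
      · have : a ⊗ₜ[R] (⟨r • s, hrs⟩ : J) = algebraMap R A r • (a ⊗ₜ[R] (⟨s, hs⟩ : J)) := by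
          rw [algebraMap_smul, ← tmul_smul]; rfl
        rw [this]
        refine Submodule.smul_mem_smul ?_ trivial
        rw [← Ideal.map_pow]
        exact Ideal.mem_map_of_mem _ hr
      · have hle : I ^ i • (J : Submodule R R) ≤ J := Submodule.smul_le_right
        rw [show (⟨y₁ + y₂, h'⟩ : J) = ⟨y₁, hle hy₁⟩ + ⟨y₂, hle hy₂⟩ from rfl, tmul_add]
        exact add_mem (h₁ _) (h₂ _)
    exact key j hj' hjJ

end Groth.Agent.H8Props.FlatInfinitesimal
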