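import Mathlib
import Groth.Agent.H8Props.Reduced
import Groth.Agent.H8Props.FlatInfinitesimal

/-!
# Flatness on infinitesimal neighbourhoods implies flatness of stalk maps (helper8)
-/

set_option autoImplicit false
universe u
open CategoryTheory AlgebraicGeometry Limits TensorProduct

namespace Groth.Agent.H8Props.FlatInfinitesimal

theorem flat_snd_congr {A B S : Scheme.{u}} {a a' : A ⟶ S} {b b' : B ⟶ S} (ha : a = a') (hb : b = b')
    (h : Flat (pullback.snd a b)) : Flat (pullback.snd a' b') := by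
  subst ha; subst hb; exact h

theorem flat_stalkMap {X S : Scheme.{u}} (f : X ⟶ S) [IsLocallyNoetherian X] [IsLocallyNoetherian S]
    (I : S.IdealSheafData) (h : ∀ n : ℕ, Flat (pullback.snd f (I ^ (n + 1)).subschemeι)) (x : X)
    (hx : f x ∈ I.support) : (f.stalkMap x).hom.Flat := by
  obtain ⟨V, hV, hxV, -⟩ := exists_isAffineOpen_mem_and_subset (x := f x) (U := ⊤) trivial
  obtain ⟨U, hU, hxU, hUV⟩ := exists_isAffineOpen_mem_and_subset (x := x) (U := f ⁻¹ᵁ V) hxV
  have hUV' : U ≤ f ⁻¹ᵁ V := hUV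
  let φ : Γ(S, V) ⟶ X.presheaf.stalk x := S.presheaf.germ V (f x) hxV ≫ f.stalkMap x
  have hφ : φ = f.appLE V U hUV' ≫ X.presheaf.germ U x hxU := by
    simp only [φ, Scheme.Hom.germ_stalkMap, Scheme.Hom.appLE, Category.assoc,
      TopCat.Presheaf.germ_res]
  have hg : X.fromSpecStalk x ≫ f = Spec.map φ ≫ hV.fromSpec := by
    rw [← hU.fromSpecStalk_eq_fromSpecStalk hxU, IsAffineOpen.fromSpecStalk, Category.assoc,
      hφ, Spec.map_comp, Category.assoc, IsAffineOpen.SpecMap_appLE_fromSpec]
  let _ : Algebra Γ(S, V) (X.presheaf.stalk x) := φ.hom.toAlgebra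
  have : IsNoetherianRing Γ(S, V) := IsLocallyNoetherian.component_noetherian ⟨V, hV⟩
  have : IsNoetherianRing (X.presheaf.stalk x) := inferInstance
  have hI : (I.ideal ⟨V, hV⟩).map (algebraMap Γ(S, V) (X.presheaf.stalk x)) ≠ ⊤ := by
    refine ne_top_of_le_ne_top (IsLocalRing.maximalIdeal.isMaximal _).ne_top ?_
    rw [Ideal.map_le_iff_le_comap]
    intro a ha
    rw [Scheme.IdealSheafData.mem_support_iff_of_mem (U := ⟨V, hV⟩) hxV,
      Scheme.mem_zeroLocus_iff] at hx
    have hu := hx a ha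
    rw [Scheme.mem_basicOpen _ _ _ hxV] at hu
    show IsUnit (φ.hom a) → False
    intro hua
    exact hu (isUnit_of_map_unit (f.stalkMap x).hom _ hua)
  have hflat : Module.Flat Γ(S, V) (X.presheaf.stalk x) := by
    refine flat_of_forall_pow (I.ideal ⟨V, hV⟩) hI fun n ↦ ?_
    rw [← Pi.pow_apply, ← Scheme.IdealSheafData.ideal_pow]
    have hf := h n
    generalize I ^ (n + 1) = J at hf ⊢
    let Q := Γ(S, V) ⧸ J.ideal ⟨V, hV⟩
    let k : Spec (CommRingCat.of Q) ⟶ J.subscheme := J.subschemeCover.f ⟨V, hV⟩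
    let mk : Γ(S, V) ⟶ CommRingCat.of Q := CommRingCat.ofHom (algebraMap Γ(S, V) Q)
    have hk : k ≫ J.subschemeι = Spec.map mk ≫ hV.fromSpec := by
      exact (J.subschemeCover_map_subschemeι ⟨V, hV⟩).trans (J.glueDataObjι_ι ⟨V, hV⟩)
    -- flatness of the pullback of `fromSpecStalk ≫ f`
    have h1 : Flat (pullback.snd (X.fromSpecStalk x ≫ f) J.subschemeι) := by
      rw [← pullbackRightPullbackFstIso_inv_snd_snd]
      infer_instance
    have h2 : Flat (pullback.snd (X.fromSpecStalk x ≫ f) (k ≫ J.subschemeι)) := by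
      have e := (IsPullback.of_hasPullback (pullback.snd (X.fromSpecStalk x ≫ f) J.subschemeι) k).paste_horiz
        (IsPullback.of_hasPullback (X.fromSpecStalk x ≫ f) J.subschemeι)
      rw [← e.isoPullback_inv_snd]
      infer_instance
    have hsq : Flat (pullback.snd (Spec.map φ ≫ hV.fromSpec) (Spec.map mk ≫ hV.fromSpec)) := by
      exact flat_snd_congr hg hk h2
    have h3 : Flat (pullback.fst (Spec.map mk) (Spec.map φ)) := by
      have e : IsPullback (pullback.fst (Spec.map φ) (Spec.map mk)) (pullback.snd _ _)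
          (Spec.map φ ≫ hV.fromSpec) (Spec.map mk ≫ hV.fromSpec) :=
        IsPullback.of_isLimit' ⟨by rw [← Category.assoc, pullback.condition, Category.assoc]⟩
          (PullbackCone.isLimitOfCompMono _ _ hV.fromSpec _
            (pullback.isLimit (Spec.map φ) (Spec.map mk)))
      rw [← pullbackSymmetry_hom_comp_snd]
      have : Flat (pullback.snd (Spec.map φ) (Spec.map mk)) := by
        rw [← e.isoPullback_hom_snd]
        infer_instance
      infer_instance
    have h4 : Flat (Spec.map (CommRingCat.ofHom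
        (algebraMap Q (Q ⊗[Γ(S, V)] X.presheaf.stalk x)))) := by
      have e := pullbackSpecIso_inv_fst Γ(S, V) Q (X.presheaf.stalk x)
      rw [show CommRingCat.ofHom (algebraMap Q (Q ⊗[Γ(S, V)] X.presheaf.stalk x)) =
        CommRingCat.ofHom Algebra.TensorProduct.includeLeftRingHom from rfl, ← e]
      have : Flat (pullback.fst (Spec.map (CommRingCat.ofHom (algebraMap Γ(S, V) Q)))
          (Spec.map (CommRingCat.ofHom (algebraMap Γ(S, V) (X.presheaf.stalk x))))) := h3
      infer_instance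
    rw [HasRingHomProperty.Spec_iff (P := @Flat)] at h4
    exact RingHom.flat_algebraMap_iff.mp h4
  let _ : Algebra Γ(S, V) (S.presheaf.stalk (f x)) := (S.presheaf.germ V (f x) hxV).hom.toAlgebra
  let _ : Algebra (S.presheaf.stalk (f x)) (X.presheaf.stalk x) := (f.stalkMap x).hom.toAlgebra
  have : IsScalarTower Γ(S, V) (S.presheaf.stalk (f x)) (X.presheaf.stalk x) :=
    .of_algebraMap_eq fun _ ↦ rfl
  have : IsLocalization.AtPrime (S.presheaf.stalk (f x)) (hV.primeIdealOf ⟨f x, hxV⟩).asIdeal :=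
    hV.isLocalization_stalk ⟨f x, hxV⟩
  exact (Module.flat_iff_of_isLocalization (R := Γ(S, V)) (S := S.presheaf.stalk (f x))
    (hV.primeIdealOf ⟨f x, hxV⟩).asIdeal.primeCompl (X.presheaf.stalk x)).mpr hflat

end Groth.Agent.H8Props.FlatInfinitesimal
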