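import Groth.Agent.H18Et.EtaleNormalScheme
import Groth.Agent.H18Et.FEtNormal
import Mathlib.AlgebraicGeometry.Morphisms.FlatMono
import Mathlib.AlgebraicGeometry.Morphisms.SchemeTheoreticallyDominant

/-!
# Scheme theoretic images of sections along étale maps over a normal base
-/

set_option autoImplicit false
set_option linter.style.haveILetI false

universe u

open CategoryTheory CategoryTheory.Limits AlgebraicGeometry TopologicalSpace

namespace Groth.Agent.H8Props.AlignedImage

/-- With domain stalks on a locally Noetherian scheme, closures of opens are open. -/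
theorem isOpen_closure (T : Scheme.{u}) [IsLocallyNoetherian T] (hd : ∀ t : T, IsDomain (T.presheaf.stalk t))
    (U : T.Opens) : IsOpen (closure (U : Set T)) := by
  choose w hw hwmax using fun t : T => @H18Et.FEtNormal.exists_maximal_generalization _ t (hd t)
  have huniq : ∀ y z, w z ⤳ y → w z = w y := fun y z h =>
    ((hwmax z (w y) ((hwmax y (w z) h).trans (hw z))).antisymm (hwmax y (w z) h)).eq
  have hopen : ∀ g : T, IsOpen {z | w z = g} := by
    intro g
    rw [isOpen_iff_forall_mem_open]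
    intro z hz
    obtain ⟨_, ⟨W, hW, rfl⟩, hzW, -⟩ :=
      T.isBasis_affineOpens.exists_subset_of_mem_open (Set.mem_univ z) isOpen_univ
    haveI : IsAffine (W : Scheme.{u}) := hW
    haveI : CompactSpace (W : Scheme.{u}) := isCompact_iff_compactSpace.mp hW.isCompact
    haveI : IsNoetherian (W : Scheme.{u}) := {}
    obtain ⟨C, hC, hcl, hir, hU⟩ :=
      NoetherianSpace.exists_finite_set_isClosed_irreducible (α := (W : Scheme.{u})) isClosed_univ
    choose gen hgen using fun Z : C => QuasiSober.sober (hir Z.1 Z.2) (hcl Z.1 Z.2)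
    have hfin : ∀ x ∈ (W : Set T), ∃ Z : C, w x = (gen Z).1 := by
      intro x hx
      have hwW : w x ∈ W := (hw x).mem_open W.isOpen hx
      obtain ⟨Z, hZ, hwZ⟩ : (⟨w x, hwW⟩ : (W : Scheme.{u})) ∈ ⋃₀ C := hU ▸ trivial
      refine ⟨⟨Z, hZ⟩, ?_⟩
      have h1 : (gen ⟨Z, hZ⟩).1 ⤳ w x :=
        ((hgen ⟨Z, hZ⟩).specializes hwZ).map (Scheme.Opens.ι W).continuous
      exact ((hwmax x _ (h1.trans (hw x))).antisymm h1).eq
    haveI := hC.to_subtype
    have hF : (w '' (W : Set T) \ {g}).Finite := by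
      refine Set.Finite.sdiff ((Set.finite_range fun Z : C => (gen Z).1).subset ?_)
      rintro _ ⟨x, hx, rfl⟩
      obtain ⟨Z, hZ⟩ := hfin x hx
      exact ⟨Z, hZ.symm⟩
    refine ⟨(W : Set T) \ ⋃ a ∈ w '' (W : Set T) \ {g}, closure {a}, fun x hx => ?_,
      W.isOpen.sdiff (hF.isClosed_biUnion fun _ _ => isClosed_closure), hzW, fun hb => ?_⟩
    · by_contra hne
      exact hx.2 (Set.mem_biUnion ⟨⟨x, hx.1, rfl⟩, hne⟩ (specializes_iff_mem_closure.mp (hw x)))
    · obtain ⟨_, ⟨⟨x, -, rfl⟩, hne⟩, hzx⟩ := Set.mem_iUnion₂.mp hb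
      exact hne ((huniq z x (specializes_iff_mem_closure.mpr hzx)).trans hz)
  have key : closure (U : Set T) = {z | w z ∈ U} := by
    refine Set.Subset.antisymm (fun z hz => ?_) (fun z hz => ?_)
    · obtain ⟨y, hy, hyU⟩ := mem_closure_iff.mp hz _ (hopen (w z)) rfl
      show w z ∈ U
      rw [← (hy : w y = w z)]
      exact (hw y).mem_open U.isOpen hyU
    · have hz' : ({w z} : Set T) ⊆ (U : Set T) := Set.singleton_subset_iff.mpr hz
      exact closure_mono hz' (specializes_iff_mem_closure.mp (hw z))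
  rw [key, show {z | w z ∈ U} = ⋃ g ∈ (U : Set T), {z | w z = g} by ext z; simp]
  exact isOpen_biUnion fun g _ => hopen g

/-- The scheme theoretic image of a section is étale if it lies in an étale closed subscheme. -/
theorem etale_image_of_factor {S G Z : Scheme.{u}} [IsLocallyNoetherian S] (hS : Pi1.IsNormalScheme S)
    (p : G ⟶ S) (eG : S ⟶ G) (i : Z ⟶ G) [IsClosedImmersion i] [Etale (i ≫ p)]
    (s : S ⟶ Z) (hsi : s ≫ i = eG) (hs : eG ≫ p = 𝟙 S) :
    Etale (eG.ker.subschemeι ≫ p) := by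
  have hsec : s ≫ i ≫ p = 𝟙 S := by rw [← Category.assoc, hsi, hs]
  haveI : IsSplitMono s := ⟨⟨⟨i ≫ p, hsec⟩⟩⟩
  haveI : Etale (s ≫ i ≫ p) := by rw [hsec]; infer_instance
  haveI : Etale s := Etale.of_comp s (i ≫ p)
  haveI : IsOpenImmersion s := IsOpenImmersion.of_flat_of_mono s
  haveI : IsLocallyNoetherian Z := LocallyOfFiniteType.isLocallyNoetherian (i ≫ p)
  have hZ : Pi1.IsNormalScheme Z := H18Et.EtaleNormalScheme.isNormalScheme_of_etale (i ≫ p) hS
  let W : Z.Opens := ⟨closure (Set.range s), isOpen_closure Z (fun z => (hZ z).1) s.opensRange⟩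
  haveI : IsClosedImmersion W.ι := IsClosedImmersion.of_isPreimmersion W.ι (by
    rw [Scheme.Opens.range_ι]
    exact isClosed_closure)
  haveI : ∀ x : W.toScheme, _root_.IsReduced (W.toScheme.presheaf.stalk x) := fun x => by
    haveI := (H18Et.EtaleNormalScheme.isNormalScheme_of_etale (W.ι ≫ i ≫ p) hS x).1
    infer_instance
  haveI : AlgebraicGeometry.IsReduced W.toScheme := isReduced_of_isReduced_stalk _
  let s' : S ⟶ W.toScheme := IsOpenImmersion.lift W.ι s (by rw [Scheme.Opens.range_ι]; exact subset_closure)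
  have hs' : s' ≫ W.ι = s := IsOpenImmersion.lift_fac _ _ _
  haveI : IsDominant s' := by
    rw [isDominant_iff, DenseRange, W.ι.isEmbedding.isInducing.dense_iff]
    intro x
    rw [← Set.range_comp]
    have h : W.ι.base ∘ s'.base = (s : S → Z) := by rw [← hs']; rfl
    exact h ▸ x.2
  haveI := IsSchemeTheoreticallyDominant.of_isDominant s'
  have hker : eG.ker = (W.ι ≫ i).ker := by
    rw [← hsi, ← hs', Category.assoc, Scheme.Hom.ker_comp, s'.ker_eq_bot, Scheme.IdealSheafData.map_bot]
  rw [hker]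
  change Etale ((W.ι ≫ i).imageι ≫ p)
  rw [show (W.ι ≫ i).imageι = inv (W.ι ≫ i).toImage ≫ W.ι ≫ i from by
    rw [IsIso.eq_inv_comp, Scheme.Hom.toImage_imageι]]
  simp only [Category.assoc]
  infer_instance

end Groth.Agent.H8Props.AlignedImage
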