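import Groth.Agent.H20Torus.Fixed
import Groth.Agent.H20Torus.Stable
import Groth.Agent.H20RepRing.Finite
import Groth.Agent.H20Red.Points
import Mathlib.RingTheory.UniqueFactorizationDomain.Defs

/-!
# Invariant factorial algebras under groups without characters
-/

set_option autoImplicit false
set_option linter.style.haveILetI false
set_option linter.unusedSectionVars false
set_option backward.isDefEq.respectTransparency false

universe u

open CategoryTheory MonoidalCategory CartesianMonoidalCategory MonObj GrpObj AlgebraicGeometry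
open scoped TensorProduct
open HopfRep

namespace Groth.Agent.H8Props.CharFree

noncomputable section

/-- A divisor of a unit multiple of a product of primes is a unit multiple of a subproduct. -/
theorem exists_le_of_dvd_prod {P : Type*} [CommRing P] [IsDomain P] (s : Multiset P) :
    (∀ p ∈ s, Prime p) → ∀ x : P, x ∣ s.prod → ∃ t ≤ s, Associated x t.prod := by
  induction s using Multiset.induction with
  | empty =>
    intro _ x hx
    exact ⟨0, le_rfl, associated_one_iff_isUnit.2 (isUnit_of_dvd_one (by simpa using hx))⟩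
  | cons p s ih =>
    intro hp x hx
    obtain ⟨y, hy⟩ := hx
    rw [Multiset.prod_cons] at hy
    have hp' := hp p (Multiset.mem_cons_self p s)
    have hs : ∀ q ∈ s, Prime q := fun q hq => hp q (Multiset.mem_cons_of_mem hq)
    rcases hp'.dvd_or_dvd (Dvd.intro _ hy) with ⟨x', rfl⟩ | ⟨y', rfl⟩
    · rw [_root_.mul_assoc] at hy
      obtain ⟨t, ht, hxt⟩ := ih hs x' ⟨y, mul_left_cancel₀ hp'.ne_zero hy⟩
      exact ⟨p ::ₘ t, Multiset.cons_le_cons p ht, by rw [Multiset.prod_cons]; exact hxt.mul_left p⟩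
    · rw [mul_left_comm] at hy
      obtain ⟨t, ht, hxt⟩ := ih hs x ⟨y', mul_left_cancel₀ hp'.ne_zero hy⟩
      exact ⟨t, ht.trans (Multiset.le_cons_self s p), hxt⟩

variable {k : Type u} [Field k] [IsAlgClosed k]

section Tensor

variable {B : Type u} [CommRing B] [IsDomain B] [Algebra k B] [Algebra.FiniteType k B]
  {A : Type u} [CommRing A] [IsDomain A] [Algebra k A]

/-- A prime element stays prime after tensoring with a geometrically integral algebra. -/
theorem prime_one_tmul {q : A} (hq : Prime q) : Prime ((1 : B) ⊗ₜ[k] q) := by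
  haveI := H19Grp.isDomain_tensorProduct (k := k) B A
  let I : Ideal A := Ideal.span {q}
  haveI : I.IsPrime := (Ideal.span_singleton_prime hq.ne_zero).2 hq
  haveI := H19Grp.isDomain_tensorProduct (k := k) B (A ⧸ I)
  have hne : ((1 : B) ⊗ₜ[k] q) ≠ 0 := by
    intro h
    exact hq.ne_zero (Algebra.TensorProduct.includeRight_injective (R := k) (A := B) (B := A)
      (algebraMap k B).injective (h.trans (map_zero _).symm))
  refine (Ideal.span_singleton_prime hne).1 ?_
  rw [show Ideal.span {(1 : B) ⊗ₜ[k] q} = RingHom.ker (H20Torus.red (k := k) (B := B) I) from ?_]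
  · exact RingHom.ker_isPrime _
  · rw [H20Torus.red, Algebra.TensorProduct.lTensor_ker (Ideal.Quotient.mkₐ k I) (Ideal.Quotient.mkₐ_surjective k I)]
    erw [Ideal.mk_ker]
    rw [Ideal.map_span, Set.image_singleton]
    rfl

/-- If the units of `A` are scalars then the units of `B ⊗ A` come from `B`. -/
theorem exists_eq_tmul_one_of_isUnit (hunits : ∀ x : Aˣ, (x : A) ∈ Set.range (algebraMap k A))
    {w : B ⊗[k] A} (hw : IsUnit w) : ∃ χ : B, w = χ ⊗ₜ[k] (1 : A) := by
  obtain ⟨π, hπ⟩ : ∃ π : A →ₗ[k] k, π 1 = 1 := by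
    obtain ⟨f, hf⟩ := Module.Projective.exists_dual_ne_zero k (one_ne_zero (α := A))
    exact ⟨(f 1)⁻¹ • f, by simp [hf]⟩
  let χ : B := TensorProduct.rid k B (π.lTensor B w)
  refine ⟨χ, sub_eq_zero.1 ?_⟩
  have hψ : ∀ ψ : B →ₐ[k] k, TensorProduct.lid k A (ψ.toLinearMap.rTensor A w) = algebraMap k A (ψ χ) := by
    intro ψ
    let e : B ⊗[k] A →ₐ[k] A := Algebra.TensorProduct.lift ((Algebra.ofId k A).comp ψ) (AlgHom.id k A)
      fun _ _ => Commute.all _ _
    have he : ∀ z, e z = TensorProduct.lid k A (ψ.toLinearMap.rTensor A z) := fun z => by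
      induction z using TensorProduct.induction_on with
      | zero => simp
      | tmul b a => simp [e, Algebra.smul_def, Algebra.ofId_apply]
      | add u v hu hv => simp only [map_add, hu, hv]
    have hπe : ∀ z, π (e z) = ψ (TensorProduct.rid k B (π.lTensor B z)) := fun z => by
      induction z using TensorProduct.induction_on with
      | zero => simp
      | tmul b a => simp [he, mul_comm]
      | add u v hu hv => simp only [map_add, hu, hv]
    obtain ⟨c, hc⟩ := hunits (hw.map e).unit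
    rw [IsUnit.unit_spec] at hc
    have : π (e w) = c := by rw [← hc, Algebra.algebraMap_eq_smul_one, map_smul, hπ, smul_eq_mul, _root_.mul_one]
    rw [← he, ← hc, show χ = TensorProduct.rid k B (π.lTensor B w) from rfl, ← hπe, this]
  let b := Module.Free.chooseBasis k A
  obtain ⟨c, hc⟩ := TensorProduct.eq_repr_basis_right b (w - χ ⊗ₜ[k] (1 : A))
  suffices hc0 : c = 0 by rw [← hc, hc0, Finsupp.sum_zero_index]
  ext i
  refine (H20RepRing.isNilpotent_of_forall_point (k := k) fun ψ => ?_).eq_zero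
  have h0 : TensorProduct.lid k A (ψ.toLinearMap.rTensor A (w - χ ⊗ₜ[k] (1 : A))) = 0 := by
    simp [map_sub, hψ, Algebra.algebraMap_eq_smul_one]
  rw [← hc, map_finsuppSum, map_finsuppSum] at h0
  have h1 := congrArg (fun a => b.repr a i) h0
  simp [Finsupp.sum, Finsupp.single_apply] at h1
  by_cases hi : c i = 0
  · simp [hi]
  · exact h1 hi

end Tensor

variable {G : Over (Spec (CommRingCat.of k))} [GrpObj G]

set_option backward.isDefEq.respectTransparency true in
/-- Without characters every group-like unit is trivial. -/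
theorem eq_one_of_groupLike {B : Type u} [CommRing B] [HopfAlgebra k B] {eG : G ≅ H21Hom.specGrp k B} [IsMonHom eG.hom]
    (hχ : ∀ χ : G ⟶ Red.Gm (Spec (CommRingCat.of k)), IsMonHom χ → χ = 1) {χ' : B} (hgl : IsGroupLikeElem k χ')
    (hu : IsUnit χ') : χ' = 1 := by
  let Φ : MonoidAlgebra k (Multiplicative ℤ) →ₐ[k] B :=
    MonoidAlgebra.lift k B (Multiplicative ℤ) ((Units.coeHom B).comp (zpowersHom Bˣ hu.unit))
  have hΦ : Φ (MonoidAlgebra.single (Multiplicative.ofAdd 1) 1) = χ' := by simp [Φ]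
  have hΦε : (Bialgebra.counitAlgHom k B).comp Φ = Bialgebra.counitAlgHom k _ := by
    refine MonoidAlgebra.algHom_ext' (MonoidHom.ext_mint ?_) (Subsingleton.elim _ _)
    simp [hΦ, hgl.counit_eq_one]
  have hΦΔ : (Algebra.TensorProduct.map Φ Φ).comp (Bialgebra.comulAlgHom k _) = (Bialgebra.comulAlgHom k B).comp Φ := by
    refine MonoidAlgebra.algHom_ext' (MonoidHom.ext_mint ?_) (Subsingleton.elim _ _)
    simp [hΦ, hgl.comul_eq_tmul_self]
  let Φb : MonoidAlgebra k (Multiplicative ℤ) →ₐc[k] B := BialgHom.ofAlgHom Φ hΦε hΦΔ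
  let pj : H21Hom.specGrp k B ⟶ Red.diag k ℤ := CoactBr.pt (Φb : MonoidAlgebra k (Multiplicative ℤ) →ₐ[k] B)
  haveI : IsMonHom pj := H20Red.isMonHom_pt Φb
  let d : Red.diag k ℤ ⟶ Red.Gm (Spec (CommRingCat.of k)) := H21Diag.diagToDS k ℤ
  haveI : IsIso d := H21Diag.isIso_diagToDS k ℤ
  haveI : IsMonHom d := H21Diag.isMonHom_diagToDS k ℤ
  have h1 := hχ (eG.hom ≫ pj ≫ d) inferInstance
  have h2 : pj = 1 := by
    refine (cancel_epi eG.hom).1 ((cancel_mono d).1 ?_)
    rw [Category.assoc, h1, MonObj.comp_one]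
    exact (map_one (MonoidHom.mk' (fun x : G ⟶ Red.diag k ℤ => x ≫ d)
      fun x y => @MonObj.mul_comp _ _ _ _ _ _ _ _ x y d this)).symm
  have h3 : (Φb : MonoidAlgebra k (Multiplicative ℤ) →ₐ[k] B) =
      (Algebra.ofId k B).comp (Bialgebra.counitAlgHom k _) :=
    CoactBr.pt_injective (h2.trans (CoactBr.one_eq_pt (R := k) (K := B)))
  rw [← hΦ]
  refine (AlgHom.congr_fun h3 _).trans ?_
  simp [Algebra.ofId_apply]

/-- A group without characters fixes every prime factor of an invariant element. -/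
theorem exists_fixed_primes [IsAffine G.left] [Smooth G.hom] [ConnectedSpace G.left]
    (hχ : ∀ χ : G ⟶ Red.Gm (Spec (CommRingCat.of k)), IsMonHom χ → χ = 1)
    (A : Type u) [CommRing A] [IsDomain A] [Algebra k A] [UniqueFactorizationMonoid A]
    (hunits : ∀ x : Aˣ, (x : A) ∈ Set.range (algebraMap k A))
    (ρ : VecGrp.GMod G A) (hρ : ρ.IsMult) (f : A) (hf : f ∈ ρ.fixedSubalgebra hρ (𝟙 G)) (hf0 : f ≠ 0) :
    ∃ s : Multiset A, (∀ q ∈ s, Prime q ∧ q ∈ ρ.fixedSubalgebra hρ (𝟙 G) ∧
      ∀ x y, x ∈ ρ.fixedSubalgebra hρ (𝟙 G) → x = q * y → y ∈ ρ.fixedSubalgebra hρ (𝟙 G)) ∧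
      ∃ c : k, c ≠ 0 ∧ f = algebraMap k A c * s.prod := by
  obtain ⟨B, _, _, ⟨eG⟩⟩ := H21Hom.exists_hopf_model G
  let e' : G ≅ H21Hom.specGrp k B := (Grp.forget _).mapIso eG
  haveI : IsMonHom e'.hom := eG.hom.hom.isMonHom_hom
  haveI : IsIso e'.inv.left := inferInstanceAs (IsIso ((Over.forget _).map e'.inv))
  haveI : Smooth (H21Hom.specGrp k B).hom := by rw [← Over.w e'.inv]; infer_instance
  haveI : LocallyOfFiniteType (H21Hom.specGrp k B).hom := inferInstance
  haveI hft : Algebra.FiniteType k B := by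
    have h : (CommRingCat.ofHom (algebraMap k B)).hom.FiniteType :=
      (HasRingHomProperty.Spec_iff (P := @LocallyOfFiniteType)).1
        (show LocallyOfFiniteType (Spec.map (CommRingCat.ofHom (algebraMap k B))) from ‹_›)
    exact RingHom.finiteType_algebraMap.1 h
  haveI : _root_.IsReduced B := by
    haveI : AlgebraicGeometry.IsReduced (H21Hom.specGrp k B).left :=
      H13AlgSp.isReduced_of_smooth_mor (H21Hom.specGrp k B).hom
    exact (affine_isReduced_iff (CommRingCat.of B)).1 (show AlgebraicGeometry.IsReduced (Spec (CommRingCat.of B)) from ‹_›)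
  haveI hc : ConnectedSpace ↥(Spec (CommRingCat.of B)) :=
    (Scheme.Hom.homeomorph e'.inv.left).symm.surjective.connectedSpace
      (Scheme.Hom.homeomorph e'.inv.left).symm.continuous
  haveI : PreconnectedSpace (PrimeSpectrum B) :=
    inferInstanceAs (PreconnectedSpace ↥(Spec (CommRingCat.of B)))
  haveI hdom : IsDomain B := H20Hopf.Rosenlicht.isDomain (k := k) fun ε hε => by
    rcases isClopen_iff.1 (PrimeSpectrum.isClopen_iff.2 ⟨ε, hε, rfl⟩ :
      IsClopen (PrimeSpectrum.basicOpen ε : Set (PrimeSpectrum B))) with h | h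
    · exact Or.inl (PrimeSpectrum.basicOpen_injOn_isIdempotentElem hε IsIdempotentElem.zero
        (SetLike.coe_injective (h.trans (by simp))))
    · exact Or.inr (PrimeSpectrum.basicOpen_injOn_isIdempotentElem hε IsIdempotentElem.one
        (SetLike.coe_injective (h.trans (by simp))))
  haveI := H19Grp.isDomain_tensorProduct (k := k) B A
  obtain ⟨c, hc1, hc2⟩ := H20Torus.exists_comod eG ρ
  obtain ⟨g0, hg0⟩ := hc2 B (AlgHom.id k B)
  let δ : A → B ⊗[k] A := fun x => TensorProduct.comm k A B (c.coact x)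
  have hδ : ∀ x, ρ.ρ B g0 ((1 : B) ⊗ₜ[k] x) = δ x := fun x => by
    rw [hg0, AlgHom.toLinearMap_id, LinearMap.lTensor_id, LinearMap.id_apply]
  have hδmul : ∀ x y, δ (x * y) = δ x * δ y := fun x y => by
    simp only [← hδ]; exact H20Torus.gmod_map_mul ρ hρ g0 x y
  have hmem : ∀ x, x ∈ ρ.fixedSubalgebra hρ (𝟙 G) ↔ δ x = (1 : B) ⊗ₜ[k] x := by
    refine fun x => ⟨fun hx => ?_, fun hx R _ _ h => ?_⟩
    · rw [← hδ, ← Category.comp_id g0, hx B g0]
    · obtain ⟨φ, hφ⟩ := hc1 R h
      have hcx : c.coact x = x ⊗ₜ[k] (1 : B) := by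
        apply (TensorProduct.comm k A B).injective
        rw [TensorProduct.comm_tmul]; exact hx
      rw [Category.comp_id, hφ, hcx]
      simp
  let ε : B ⊗[k] A →ₐ[k] A := Algebra.TensorProduct.lift
    ((Algebra.ofId k A).comp (Bialgebra.counitAlgHom k B)) (AlgHom.id k A) fun _ _ => Commute.all _ _
  have hεδ : ∀ x, ε (δ x) = x := fun x => by
    have h2 : (CoalgebraStruct.counit (R := k) (A := B)).lTensor A (c.coact x) = x ⊗ₜ[k] (1 : k) :=
      LinearMap.congr_fun c.counit_comp x
    have h3 : ∀ z : A ⊗[k] B, ε (TensorProduct.comm k A B z) =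
        TensorProduct.rid k A ((CoalgebraStruct.counit (R := k) (A := B)).lTensor A z) := fun z => by
      induction z using TensorProduct.induction_on with
      | zero => simp
      | tmul a b => simp [ε, Algebra.smul_def, Algebra.ofId_apply]
      | add u v hu hv => simp only [map_add, hu, hv]
    show ε (TensorProduct.comm k A B (c.coact x)) = x
    rw [h3, h2, TensorProduct.rid_tmul, one_smul]
  obtain ⟨s, hs, hsf⟩ := UniqueFactorizationMonoid.exists_prime_factors f hf0
  obtain ⟨uf, huf⟩ := hsf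
  obtain ⟨c0, hc0⟩ := hunits uf
  refine ⟨s, ?_, c0, fun h => uf.ne_zero (by rw [← hc0, h, map_zero]), by rw [hc0, mul_comm, huf]⟩
  suffices hfix : ∀ q ∈ s, q ∈ ρ.fixedSubalgebra hρ (𝟙 G) by
    refine fun q hq => ⟨hs q hq, hfix q hq, fun x y hx hxy => ?_⟩
    have hq' := (hmem q).1 (hfix q hq)
    rw [hmem] at hx ⊢
    rw [hxy, hδmul, hq', show ((1 : B) ⊗ₜ[k] (q * y) : B ⊗[k] A) = ((1 : B) ⊗ₜ[k] q) * ((1 : B) ⊗ₜ[k] y) by
      rw [Algebra.TensorProduct.tmul_mul_tmul, _root_.one_mul]] at hx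
    exact mul_left_cancel₀ (prime_one_tmul (hs q hq)).ne_zero hx
  intro q hq
  let j : A →* B ⊗[k] A := (Algebra.TensorProduct.includeRight : A →ₐ[k] B ⊗[k] A)
  have hdvd : δ q ∣ (s.map j).prod := by
    obtain ⟨r, hr⟩ := Multiset.dvd_prod hq
    have hfq : f = q * (r * uf) := by rw [← huf, hr, _root_.mul_assoc]
    have h : δ q ∣ (1 : B) ⊗ₜ[k] f := by
      rw [← (hmem f).1 hf, hfq, hδmul]; exact dvd_mul_right _ _
    refine h.trans ?_
    rw [← map_multiset_prod]
    exact ((show Associated s.prod f from ⟨uf, huf⟩).map j).symm.dvd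
  obtain ⟨t, ht, htq⟩ := exists_le_of_dvd_prod (s.map j)
    (by simp only [Multiset.mem_map]; rintro _ ⟨p, hp, rfl⟩; exact prime_one_tmul (hs p hp)) _ hdvd
  obtain ⟨T, hT⟩ : ∃ T : A, t.prod = j T := by
    classical
    have : ∀ z ∈ t, ∃ a, j a = z := fun z hz => by
      obtain ⟨a, -, ha⟩ := Multiset.mem_map.1 (Multiset.mem_of_le ht hz)
      exact ⟨a, ha⟩
    clear htq ht
    induction t using Multiset.induction with
    | empty => exact ⟨1, by simp⟩
    | cons z t ih =>
      obtain ⟨T, hT⟩ := ih fun y hy => this y (Multiset.mem_cons_of_mem hy)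
      obtain ⟨a, ha⟩ := this z (Multiset.mem_cons_self z t)
      exact ⟨a * T, by rw [Multiset.prod_cons, hT, ← ha, map_mul]⟩
  obtain ⟨w, hw⟩ := htq.symm
  obtain ⟨χ, hwχ⟩ := exists_eq_tmul_one_of_isUnit hunits w.isUnit
  have hδq : δ q = χ ⊗ₜ[k] T := by
    rw [← hw, hT, hwχ]
    show ((1 : B) ⊗ₜ[k] T) * (χ ⊗ₜ[k] (1 : A)) = _
    rw [Algebra.TensorProduct.tmul_mul_tmul, _root_.one_mul, _root_.mul_one]
  have hqT : q = CoalgebraStruct.counit (R := k) χ • T := by
    conv_lhs => rw [← hεδ q, hδq]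
    simp [ε, Algebra.smul_def, Algebra.ofId_apply]
  have hε0 : CoalgebraStruct.counit (R := k) χ ≠ 0 := fun h => (hs q hq).ne_zero (by rw [hqT, h, zero_smul])
  obtain ⟨a, ha⟩ : ∃ a : k, a * CoalgebraStruct.counit (R := k) χ = 1 := ⟨_, inv_mul_cancel₀ hε0⟩
  let χ' : B := a • χ
  have hcoq : c.coact q = q ⊗ₜ[k] χ' := by
    apply (TensorProduct.comm k A B).injective
    rw [TensorProduct.comm_tmul]
    show δ q = _
    rw [hδq, show χ' = a • χ from rfl, TensorProduct.smul_tmul, hqT, smul_smul, ha, one_smul]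
  have hχu : IsUnit χ' := by
    obtain ⟨w', hw'⟩ := exists_eq_tmul_one_of_isUnit hunits w⁻¹.isUnit
    have h2 : (χ * w') ⊗ₜ[k] (1 : A) = (1 : B) ⊗ₜ[k] (1 : A) := by
      have h := w.mul_inv
      rw [hwχ, hw', Algebra.TensorProduct.tmul_mul_tmul, _root_.mul_one] at h
      exact h
    have h3 : χ * w' = 1 := Algebra.TensorProduct.includeLeft_injective (R := k) (A := B) (B := A) (S := k)
      (algebraMap k A).injective h2
    rw [show χ' = algebraMap k B a * χ from Algebra.smul_def a χ]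
    exact ((IsUnit.mk0 a (left_ne_zero_of_mul_eq_one ha)).map (algebraMap k B)).mul (.of_mul_eq_one w' h3)
  obtain ⟨π, hπ⟩ : ∃ π : A →ₗ[k] k, π q = 1 := by
    obtain ⟨g, hg⟩ := Module.Projective.exists_dual_ne_zero k (hs q hq).ne_zero
    exact ⟨(g q)⁻¹ • g, by simp [hg]⟩
  have hgl : IsGroupLikeElem k χ' := by
    letI := c
    refine ⟨?_, ?_⟩
    · have h2 := LinearMap.congr_fun c.counit_comp q
      simp only [LinearMap.coe_comp, Function.comp_apply, hcoq, LinearMap.lTensor_tmul] at h2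
      have := congrArg (fun z => TensorProduct.lid k k (π.rTensor k z)) h2
      simpa [hπ] using this
    · have h2 := CoactBr.comod_coassoc_apply (k := k) (A := B) q
      rw [hcoq, LinearMap.rTensor_tmul, hcoq, TensorProduct.assoc_tmul, LinearMap.lTensor_tmul] at h2
      have := congrArg (fun z => TensorProduct.lid k _ (π.rTensor _ z)) h2
      simpa [hπ] using this.symm
  have hone : χ' = 1 := eq_one_of_groupLike (eG := e') hχ hgl hχu
  rw [hmem]
  show TensorProduct.comm k A B (c.coact q) = _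
  rw [hcoq, hone, TensorProduct.comm_tmul]

end

end Groth.Agent.H8Props.CharFree
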