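import Groth.Agent.H17.ConsPropModels
import Mathlib

/-!
# Combining two finite type models of an affine morphism
-/

set_option autoImplicit false
set_option linter.style.haveILetI false
set_option backward.isDefEq.respectTransparency false
set_option backward.defeqAttrib.useBackward true
universe u

open CategoryTheory Limits AlgebraicGeometry Opposite

namespace Groth.Agent.H8Props.CombineModels

open H7Lim.FPDescent H17.ConsProp

variable (R : Type u) [CommRing R]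

/-- A map from the limit to an affine scheme of finite type over `ℤ` factors through a stage. -/
theorem exists_factor {S₁ : Scheme.{u}} [IsAffine S₁] (hS₁ : Algebra.FiniteType ℤ Γ(S₁, ⊤))
    (t : (subringCone R).pt ⟶ S₁) :
    ∃ (i : (Finset R)ᵒᵖ) (ρ : ((subringFunctor R).op ⋙ Scheme.Spec).obj i ⟶ S₁),
      (subringCone R).π.app i ≫ ρ = t := by
  classical
  obtain ⟨φ, hφ⟩ := Spec.map_surjective (t ≫ S₁.isoSpec.hom : Spec (CommRingCat.of R) ⟶ Spec Γ(S₁, ⊤))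
  obtain ⟨s, hs⟩ := hS₁.out
  let T : Finset R := s.image φ.hom
  have hT : ∀ x, φ.hom x ∈ Algebra.adjoin ℤ (T : Set R) := fun x => by
    have hx : x ∈ Algebra.adjoin ℤ (s : Set Γ(S₁, ⊤)) := hs.symm ▸ Algebra.mem_top
    have h : φ.hom.toIntAlgHom x ∈ (Algebra.adjoin ℤ (s : Set Γ(S₁, ⊤))).map φ.hom.toIntAlgHom :=
      Subalgebra.mem_map.mpr ⟨x, hx, rfl⟩
    rw [AlgHom.map_adjoin] at h
    rw [Finset.coe_image]
    exact h
  refine ⟨op T, Spec.map (CommRingCat.ofHom (φ.hom.codRestrict (Algebra.adjoin ℤ (T : Set R)) hT)) ≫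
    S₁.isoSpec.inv, ?_⟩
  have e : Spec.map ((subringCocone R).ι.app T) ≫
      Spec.map (CommRingCat.ofHom (φ.hom.codRestrict (Algebra.adjoin ℤ (T : Set R)) hT)) = Spec.map φ := by
    rw [← Spec.map_comp]
    rfl
  show Spec.map ((subringCocone R).ι.app T) ≫ _ ≫ S₁.isoSpec.inv = t
  rw [← Category.assoc, e, hφ, Category.assoc, Iso.hom_inv_id, Category.comp_id]

/-- A model pulled back to a stage. -/
theorem exists_model_of_factor {A : Type u} [CommRing A] {X S : Scheme.{u}} (σ : S ≅ (subringCone A).pt)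
    (f : X ⟶ S) (i : (Finset A)ᵒᵖ) {Xk Sk : Scheme.{u}} [IsAffine Xk] [IsAffine Sk] (fk : Xk ⟶ Sk)
    [LocallyOfFiniteType fk] (gk : S ⟶ Sk) (gk' : X ⟶ Xk) (H : IsPullback gk' f fk gk)
    (hSk : Algebra.FiniteType ℤ Γ(Sk, ⊤)) (rk : ((subringFunctor A).op ⋙ Scheme.Spec).obj i ⟶ Sk)
    (hrk : (subringCone A).π.app i ≫ rk = σ.inv ≫ gk) :
    ∃ (M : Model (subringCone A) (f ≫ σ.hom) i) (q : M.P ⟶ Xk), IsAffine M.P ∧ IsPullback q M.p fk rk := by
  haveI : IsNoetherianRing Γ(Sk, ⊤) := Algebra.FiniteType.isNoetherianRing ℤ _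
  haveI : IsLocallyNoetherian Sk := isLocallyNoetherian_of_isOpenImmersion Sk.isoSpec.hom
  haveI : LocallyOfFinitePresentation fk := inferInstance
  haveI : IsAffine (((subringFunctor A).op ⋙ Scheme.Spec).obj i) := inferInstanceAs (IsAffine (Spec _))
  have H' : IsPullback gk' (f ≫ σ.hom) fk (σ.inv ≫ gk) :=
    H.of_iso (Iso.refl _) (Iso.refl _) σ (Iso.refl _) (by simp) (by simp) (by simp) (by simp)
  refine ⟨{ P := pullback fk rk
            p := pullback.snd _ _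
            lfp := MorphismProperty.pullback_snd _ _ inferInstance
            qc := inferInstance
            qs := inferInstance
            g := pullback.lift gk' ((f ≫ σ.hom) ≫ (subringCone A).π.app i)
              (by rw [Category.assoc, hrk]; exact H'.w)
            hpb := ?_ }, pullback.fst _ _, (inferInstance : IsAffine (pullback fk rk)), IsPullback.of_hasPullback _ _⟩
  refine IsPullback.of_right (h₁₂ := pullback.fst fk rk) (h₂₂ := rk) (v₁₃ := fk) ?_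
    (pullback.lift_snd _ _ _) (IsPullback.of_hasPullback _ _)
  rw [pullback.lift_fst, hrk]
  exact H'

theorem combine (P Q : MorphismProperty Scheme.{u}) [P.IsStableUnderBaseChange] [Q.IsStableUnderBaseChange]
    {X S : Scheme.{u}} (f : X ⟶ S) [IsAffine X] [IsAffine S]
    {X₁ S₁ X₂ S₂ : Scheme.{u}} [IsAffine X₁] [IsAffine S₁] [IsAffine X₂] [IsAffine S₂]
    (f₁ : X₁ ⟶ S₁) (g₁ : S ⟶ S₁) (g₁' : X ⟶ X₁) (h₁ : IsPullback g₁' f f₁ g₁)
    (f₂ : X₂ ⟶ S₂) (g₂ : S ⟶ S₂) (g₂' : X ⟶ X₂) (h₂ : IsPullback g₂' f f₂ g₂)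
    (hS₁ : Algebra.FiniteType ℤ Γ(S₁, ⊤)) (hS₂ : Algebra.FiniteType ℤ Γ(S₂, ⊤))
    [LocallyOfFiniteType f₁] [LocallyOfFiniteType f₂] (hP : P f₁) (hQ : Q f₂) :
    ∃ (X₀ S₀ : Scheme.{u}) (f₀ : X₀ ⟶ S₀) (g : S ⟶ S₀) (g' : X ⟶ X₀), IsAffine X₀ ∧ IsAffine S₀ ∧ IsPullback g' f f₀ g ∧
      Algebra.FiniteType ℤ Γ(S₀, ⊤) ∧ LocallyOfFiniteType f₀ ∧ P f₀ ∧ Q f₀ := by
  classical
  let A : Type u := Γ(S, ⊤)
  let D := (subringFunctor A).op ⋙ Scheme.Spec
  let c := subringCone A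
  have hc : IsLimit c := isLimitSubringCone A
  let σ : S ≅ c.pt := S.isoSpec
  obtain ⟨i₁, ρ₁, hρ₁⟩ := exists_factor A hS₁ (σ.inv ≫ g₁)
  obtain ⟨i₂, ρ₂, hρ₂⟩ := exists_factor A hS₂ (σ.inv ≫ g₂)
  let i : (Finset A)ᵒᵖ := IsCofiltered.min i₁ i₂
  let r₁ : D.obj i ⟶ S₁ := D.map (IsCofiltered.minToLeft i₁ i₂) ≫ ρ₁
  let r₂ : D.obj i ⟶ S₂ := D.map (IsCofiltered.minToRight i₁ i₂) ≫ ρ₂
  haveI : ∀ j, IsAffine (D.obj j) := fun j => inferInstanceAs (IsAffine (Spec _))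
  let h : X ⟶ c.pt := f ≫ σ.hom
  have hw₁ : c.π.app i ≫ r₁ = σ.inv ≫ g₁ := by rw [← hρ₁, ← Category.assoc, c.w]
  have hw₂ : c.π.app i ≫ r₂ = σ.inv ≫ g₂ := by rw [← hρ₂, ← Category.assoc, c.w]
  obtain ⟨M, q₁, hMa, hM⟩ := exists_model_of_factor σ f i f₁ g₁ g₁' h₁ hS₁ r₁ hw₁
  obtain ⟨N, q₂, hNa, hN⟩ := exists_model_of_factor σ f i f₂ g₂ g₂' h₂ hS₂ r₂ hw₂
  obtain ⟨j, φ, ⟨F⟩⟩ := exists_hom hc M N (𝟙 X) (Category.id_comp _)
  obtain ⟨k, ψ, hk⟩ := exists_isIso hc F (Category.id_comp _)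
  let M' := (M.shift φ).shift ψ
  let N' := (N.shift φ).shift ψ
  let G := F.shift ψ (Category.id_comp _)
  haveI : IsIso G.o := hk
  have hM₁ : P M.p := MorphismProperty.of_isPullback hM hP
  have hM' : P M'.p := MorphismProperty.pullback_snd _ _ (MorphismProperty.pullback_snd _ _ hM₁)
  have hN₁ : Q N.p := MorphismProperty.of_isPullback hN hQ
  have hN' : Q N'.p := MorphismProperty.pullback_snd _ _ (MorphismProperty.pullback_snd _ _ hN₁)
  have hQM : Q M'.p := by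
    have e : G.o ≫ N'.p = M'.p := G.w_p
    rw [← e]
    exact (MorphismProperty.cancel_left_of_respectsIso Q G.o N'.p).mpr hN'
  haveI : IsAffine (M.shift φ).P := inferInstanceAs (IsAffine (pullback M.p (D.map φ)))
  haveI : IsAffine M'.P := inferInstanceAs (IsAffine (pullback (M.shift φ).p (D.map ψ)))
  haveI : IsNoetherian (D.obj k) := inferInstanceAs (IsNoetherian (((subringFunctor A).op ⋙ Scheme.Spec).obj k))
  refine ⟨M'.P, D.obj k, M'.p, σ.hom ≫ c.π.app k, M'.g, inferInstance, inferInstance, ?_, ?_, inferInstance,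
    hM', hQM⟩
  · exact M'.hpb.of_iso (Iso.refl _) (Iso.refl _) σ.symm (Iso.refl _) (by simp) (by simp) (by simp) (by simp; rfl)
  · have hft : Algebra.FiniteType ℤ ↥(Algebra.adjoin ℤ ((unop k : Finset A) : Set A)) :=
      (Algebra.adjoin ℤ ((unop k : Finset A) : Set A)).fg_iff_finiteType.1 ⟨unop k, rfl⟩
    exact Algebra.FiniteType.equiv hft
      (Scheme.ΓSpecIso (CommRingCat.of ↥(Algebra.adjoin ℤ ((unop k : Finset A) : Set A)))).symm.commRingCatIsoToRingEquiv.toIntAlgEquiv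

end Groth.Agent.H8Props.CombineModels
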