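import Mathlib.RingTheory.Ideal.KrullsHeightTheorem
import Mathlib.RingTheory.Spectrum.Prime.Jacobson
import Mathlib.RingTheory.Spectrum.Prime.Noetherian

/-!
# Complements of closed subsets inside the Jacobson radical are Jacobson
-/

set_option autoImplicit false
universe u

open TopologicalSpace Topology

namespace Groth.Agent.H8Props.PuncturedJacobson

/-- If all nonzero primes of a Noetherian domain contain `f ≠ 0`, they are maximal. -/
theorem isMaximal_of_forall_mem {A : Type u} [CommRing A] [IsDomain A] [IsNoetherianRing A] (f : A)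
    (hf : f ≠ 0) (h : ∀ P : Ideal A, P.IsPrime → P ≠ ⊥ → f ∈ P) (P : Ideal A) [hP : P.IsPrime]
    (hP0 : P ≠ ⊥) : P.IsMaximal := by
  obtain ⟨M, hM, hPM⟩ := Ideal.exists_le_maximal P hP.ne_top
  suffices P = M from this ▸ hM
  by_contra hne
  have hlt : P < M := lt_of_le_of_ne hPM hne
  -- every element of `M` lies in one of the finitely many minimal primes of `f`
  set F := (Ideal.span {f}).minimalPrimes
  have hFfin : F.Finite := Ideal.finite_minimalPrimes_of_isNoetherianRing A _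
  have hcov : (M : Set A) ⊆ ⋃ Q ∈ F, (Q : Set A) := by
    intro g hg
    by_cases hg0 : g = 0
    · obtain ⟨Q, hQ, -⟩ := Ideal.exists_minimalPrimes_le (I := Ideal.span {f}) (J := M)
        ((Ideal.span_singleton_le_iff_mem _).mpr (h M hM.isPrime (fun e => hP0 (le_bot_iff.mp (e ▸ hPM)))))
      exact Set.mem_iUnion₂.mpr ⟨Q, hQ, hg0 ▸ zero_mem Q⟩
    obtain ⟨Q, hQ, -⟩ := Ideal.exists_minimalPrimes_le (I := Ideal.span {g}) (J := M)
      ((Ideal.span_singleton_le_iff_mem _).mpr hg)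
    haveI := hQ.1.1
    have hgQ : g ∈ Q := hQ.1.2 (Ideal.mem_span_singleton_self g)
    have hQ0 : Q ≠ ⊥ := fun e => hg0 (by rw [e] at hgQ; exact hgQ)
    refine Set.mem_iUnion₂.mpr ⟨Q, ⟨⟨inferInstance,
      (Ideal.span_singleton_le_iff_mem _).mpr (h Q inferInstance hQ0)⟩, fun Q' hQ' hle => ?_⟩, hgQ⟩
    haveI := hQ'.1
    by_contra hnle
    have hQ'0 : Q' ≠ ⊥ := fun e => hf (by
      have := hQ'.2 (Ideal.mem_span_singleton_self f); rw [e] at this; exact this)
    have h1 : Q.height ≤ 1 := Ideal.height_le_one_of_isPrincipal_of_mem_minimalPrimes _ _ hQ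
    have h2 : Q'.height < Q.height :=
      Ideal.height_strict_mono_of_isPrime (lt_of_le_not_ge hle hnle)
    have h3 : (⊥ : Ideal A).height < Q'.height :=
      Ideal.height_strict_mono_of_isPrime (bot_lt_iff_ne_bot.mpr hQ'0)
    have h4 : Q'.height < 1 := h2.trans_le h1
    exact absurd h3 (by rw [ENat.lt_one_iff_eq_zero.mp h4]; simp)
  obtain ⟨Q, hQ, hMQ⟩ : ∃ Q ∈ F, M ≤ Q := by
    have := (Ideal.subset_union_prime_finite (I := M) hFfin (f := fun Q => Q) ⊥ ⊥
      (fun Q hQ _ _ => hQ.1.1)).mp hcov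
    exact this
  haveI := hQ.1.1
  have h1 : Q.height ≤ 1 := Ideal.height_le_one_of_isPrincipal_of_mem_minimalPrimes _ _ hQ
  have h2 : M.height ≤ 1 := (Ideal.height_mono hMQ).trans h1
  haveI := hM.isPrime
  have h3 : P.height < M.height := Ideal.height_strict_mono_of_isPrime hlt
  have h4 : (⊥ : Ideal A).height < P.height :=
    Ideal.height_strict_mono_of_isPrime (bot_lt_iff_ne_bot.mpr hP0)
  rw [ENat.lt_one_iff_eq_zero.mp (h3.trans_le h2)] at h4
  simp at h4

theorem jacobsonSpace_compl (R : Type u) [CommRing R] [IsNoetherianRing R] (I : Ideal R)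
    (hI : I ≤ (⊥ : Ideal R).jacobson) :
    JacobsonSpace ↥((PrimeSpectrum.zeroLocus (I : Set R))ᶜ) := by
  rw [jacobsonSpace_iff_locallyClosed]
  rintro Z ⟨⟨p, hpD⟩, hpZ⟩ ⟨U, C, hU, hC, rfl⟩
  obtain ⟨U', hU', rfl⟩ := isOpen_induced_iff.mp hU
  obtain ⟨_, ⟨h, rfl⟩, hph, hhU⟩ :=
    PrimeSpectrum.isTopologicalBasis_basic_opens.exists_subset_of_mem_open hpZ.1 hU'
  obtain ⟨a, haI, hap⟩ := Set.not_subset.mp (show ¬ (I : Set R) ⊆ p.asIdeal from hpD)
  let f := h * a
  have hfp : f ∉ p.asIdeal := fun hf => (p.2.mem_or_mem hf).elim hph hap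
  obtain ⟨q, hpq, hfq, hqmax⟩ : ∃ q : PrimeSpectrum R, p.asIdeal ≤ q.asIdeal ∧ f ∉ q.asIdeal ∧
      ∀ P : PrimeSpectrum R, q.asIdeal ≤ P.asIdeal → f ∉ P.asIdeal → P = q := by
    obtain ⟨M, ⟨hMp, hfM, hMP⟩, hmax⟩ := set_has_maximal_iff_noetherian.mpr inferInstance
      {P : Ideal R | P.IsPrime ∧ f ∉ P ∧ p.asIdeal ≤ P} ⟨p.asIdeal, p.2, hfp, le_rfl⟩
    refine ⟨⟨M, hMp⟩, hMP, hfM, fun P' hle hfP' => PrimeSpectrum.ext ?_⟩
    exact ((lt_or_eq_of_le hle).resolve_left (hmax _ ⟨P'.2, hfP', hMP.trans hle⟩)).symm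
  have hqD : q ∈ (PrimeSpectrum.zeroLocus (I : Set R))ᶜ :=
    fun hq => hfq (Ideal.mul_mem_left _ _ (hq haI))
  refine ⟨⟨q, hqD⟩, ⟨hhU (fun hq => hfq (Ideal.mul_mem_right _ _ hq)), ?_⟩, ?_⟩
  · exact (show (⟨p, hpD⟩ : ↥((PrimeSpectrum.zeroLocus (I : Set R))ᶜ)) ⤳ ⟨q, hqD⟩ from
      (subtype_specializes_iff _ _).mpr ((PrimeSpectrum.le_iff_specializes p q).mp hpq)).mem_closed hC hpZ.2
  · rw [mem_closedPoints_iff, ← closure_subset_iff_isClosed]
    rintro ⟨P, hPD⟩ hP
    have hle : q ≤ P := (PrimeSpectrum.le_iff_specializes q P).mpr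
      ((subtype_specializes_iff _ _).mp (specializes_iff_mem_closure.mpr hP))
    by_contra hne
    refine hPD ?_
    have hmax : P.asIdeal.IsMaximal := by
      haveI := q.2
      have hmapP : (P.asIdeal.map (Ideal.Quotient.mk q.asIdeal)).IsPrime :=
        Ideal.map_isPrime_of_surjective Ideal.Quotient.mk_surjective (by rw [Ideal.mk_ker]; exact hle)
      have hf0 : Ideal.Quotient.mk q.asIdeal f ≠ 0 := fun e => hfq (Ideal.Quotient.eq_zero_iff_mem.mp e)
      have hA : ∀ J : Ideal (R ⧸ q.asIdeal), J.IsPrime → J ≠ ⊥ → Ideal.Quotient.mk q.asIdeal f ∈ J := by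
        intro J hJ hJ0
        by_contra hnot
        have heq := hqmax ⟨J.comap (Ideal.Quotient.mk _), hJ.comap _⟩
          (fun x hx => by
            rw [Ideal.mem_comap, Ideal.Quotient.eq_zero_iff_mem.mpr hx]; exact zero_mem J) hnot
        refine hJ0 ?_
        rw [← Ideal.map_comap_of_surjective _ Ideal.Quotient.mk_surjective J,
          show J.comap (Ideal.Quotient.mk q.asIdeal) = q.asIdeal from congrArg PrimeSpectrum.asIdeal heq,
          Ideal.map_quotient_self]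
      have hne' : P.asIdeal.map (Ideal.Quotient.mk q.asIdeal) ≠ ⊥ := fun e => hne (by
        rw [Ideal.map_eq_bot_iff_le_ker, Ideal.mk_ker] at e
        exact Subtype.ext (PrimeSpectrum.ext (le_antisymm e hle)))
      have := isMaximal_of_forall_mem _ hf0 hA _ hne'
      have h2 := Ideal.comap_isMaximal_of_surjective (Ideal.Quotient.mk q.asIdeal)
        Ideal.Quotient.mk_surjective (K := P.asIdeal.map (Ideal.Quotient.mk q.asIdeal))
      rwa [Ideal.comap_map_of_surjective _ Ideal.Quotient.mk_surjective, ← RingHom.ker_eq_comap_bot,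
        Ideal.mk_ker, sup_eq_left.mpr hle] at h2
    intro x hx
    exact Ideal.mem_sInf.mp (hI hx) ⟨bot_le, hmax⟩

end Groth.Agent.H8Props.PuncturedJacobson
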