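import Groth.Agent.H8Props.FlatFibreConst
import Groth.Agent.H8Props.PuncturedJacobson

/-!
# Cutting down to a quasi-finite closed subscheme through a point
-/

set_option autoImplicit false
set_option linter.style.haveILetI false
universe u

open AlgebraicGeometry CategoryTheory CategoryTheory.Limits TopologicalSpace Topology

namespace Groth.Agent.H8Props.CurveThroughPoint

/-- In a locally Noetherian scheme every point of the closure of an open set is the specialization
of a point `z` of it having no proper specializations above the given point except itself. -/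
theorem exists_immediate_specialization {X : Scheme.{u}} [IsLocallyNoetherian X] (U : X.Opens)
    (x : X) (hx : x ∈ closure (U : Set X)) (hxU : x ∉ U) :
    ∃ z ∈ U, z ⤳ x ∧ ∀ y, z ⤳ y → y ⤳ x → y = z ∨ y = x := by
  obtain ⟨V, (hV : IsAffineOpen V), hxV, -⟩ := Opens.isBasis_iff_nbhd.mp X.isBasis_affineOpens
    (show x ∈ (⊤ : X.Opens) from trivial)
  obtain ⟨q, rfl⟩ : x ∈ Set.range hV.fromSpec := by rw [hV.range_fromSpec]; exact hxV
  haveI : IsNoetherianRing Γ(X, V) := IsLocallyNoetherian.component_noetherian ⟨V, hV⟩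
  haveI : NoetherianSpace (Spec Γ(X, V)) := inferInstanceAs (NoetherianSpace (PrimeSpectrum Γ(X, V)))
  let j : Spec Γ(X, V) ⟶ X := hV.fromSpec
  have hq : q ∈ closure (j ⁻¹' (U : Set X)) := by
    rw [← j.isOpenEmbedding.isOpenMap.preimage_closure_eq_closure_preimage j.continuous]; exact hx
  obtain ⟨p, hpU, hpq⟩ := FieldDim.exists_specializes_of_mem_closure (U.2.preimage j.continuous) hq
  let q' : PrimeSpectrum Γ(X, V) := q
  let p' : PrimeSpectrum Γ(X, V) := p
  obtain ⟨M, ⟨hMp, hMU, hMq⟩, hmax⟩ := set_has_maximal_iff_noetherian.mpr inferInstance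
    {P : Ideal Γ(X, V) | ∃ h : P.IsPrime, (⟨P, h⟩ : PrimeSpectrum Γ(X, V)) ∈ j ⁻¹' (U : Set X) ∧ P ≤ q'.asIdeal}
    ⟨p'.asIdeal, p'.2, hpU, (PrimeSpectrum.le_iff_specializes p' q').mpr hpq⟩
  let m : PrimeSpectrum Γ(X, V) := ⟨M, hMp⟩
  have hmq : (m : Spec Γ(X, V)) ⤳ q := (PrimeSpectrum.le_iff_specializes m q').mp hMq
  refine ⟨j m, hMU, hmq.map j.continuous, fun y hy hyx => ?_⟩
  obtain ⟨n, rfl⟩ : y ∈ Set.range j := by
    rw [hV.range_fromSpec]; exact hyx.mem_open V.2 hxV
  let n' : PrimeSpectrum Γ(X, V) := n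
  have hmn : M ≤ n'.asIdeal := (PrimeSpectrum.le_iff_specializes m n').mpr
    (j.isOpenEmbedding.isInducing.specializes_iff.mp hy)
  have hnq : n'.asIdeal ≤ q'.asIdeal := (PrimeSpectrum.le_iff_specializes n' q').mpr
    (j.isOpenEmbedding.isInducing.specializes_iff.mp hyx)
  rcases eq_or_lt_of_le hmn with h | h
  · exact Or.inl (congrArg j (show n' = m from PrimeSpectrum.ext h.symm))
  refine Or.inr (congrArg j (show n' = q' from PrimeSpectrum.ext ?_))
  by_contra hne
  have hlt : n'.asIdeal < q'.asIdeal := lt_of_le_of_ne hnq hne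
  -- `n'` lies between `m` and `q'`: contradiction with one-dimensionality of `A/M` localized
  haveI := hMp
  haveI := q'.2
  haveI := n'.2
  obtain ⟨_, ⟨b, rfl⟩, hmb, hbU⟩ := PrimeSpectrum.isTopologicalBasis_basic_opens.exists_subset_of_mem_open
    (show m ∈ j ⁻¹' (U : Set X) from hMU) (U.2.preimage j.continuous)
  let L := Localization.AtPrime q'.asIdeal
  let ψ := algebraMap Γ(X, V) L
  have hdisj : ∀ P : Ideal Γ(X, V), P ≤ q'.asIdeal → Disjoint (q'.asIdeal.primeCompl : Set Γ(X, V)) P :=
    fun P hP => Set.disjoint_left.mpr fun a ha haP => ha (hP haP)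
  haveI hMe : (Ideal.map ψ M).IsPrime :=
    IsLocalization.isPrime_of_isPrime_disjoint q'.asIdeal.primeCompl L M hMp (hdisj M hMq)
  have hcM : (Ideal.map ψ M).comap ψ = M :=
    IsLocalization.comap_map_of_isPrime_disjoint q'.asIdeal.primeCompl L hMp (hdisj M hMq)
  let π := Ideal.Quotient.mk (Ideal.map ψ M)
  have hb0 : π (ψ b) ≠ 0 := fun e => hmb (by
    have := Ideal.Quotient.eq_zero_iff_mem.mp e
    rw [← Ideal.mem_comap, hcM] at this; exact this)
  have hall : ∀ J : Ideal (L ⧸ Ideal.map ψ M), J.IsPrime → J ≠ ⊥ → π (ψ b) ∈ J := by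
    intro J hJ hJ0
    by_contra hnot
    let P := (J.comap π).comap ψ
    haveI : P.IsPrime := inferInstance
    have hMP : M ≤ P := fun a ha => by
      show π (ψ a) ∈ J
      rw [Ideal.Quotient.eq_zero_iff_mem.mpr (Ideal.mem_map_of_mem ψ ha)]; exact zero_mem J
    have hPq : P ≤ q'.asIdeal := fun a ha => by
      by_contra hnq'
      exact (hJ.comap π).ne_top (Ideal.eq_top_of_isUnit_mem _ ha
        (IsLocalization.map_units L (⟨a, hnq'⟩ : q'.asIdeal.primeCompl)))
    have hPM : P = M := ((lt_or_eq_of_le hMP).resolve_left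
      (hmax P ⟨inferInstance, hbU hnot, hPq⟩)).symm
    refine hJ0 ?_
    rw [← Ideal.map_comap_of_surjective π Ideal.Quotient.mk_surjective J,
      ← IsLocalization.map_comap q'.asIdeal.primeCompl L (J.comap π)]
    rw [show Ideal.under Γ(X, V) (J.comap π) = M from hPM]
    exact Ideal.map_quotient_self _
  have hne' : (n'.asIdeal.map ψ).map π ≠ ⊥ := fun e => by
    rw [Ideal.map_eq_bot_iff_le_ker, Ideal.mk_ker] at e
    have := Ideal.comap_mono (f := ψ) e
    rw [hcM] at this
    exact h.not_ge ((le_of_eq (IsLocalization.comap_map_of_isPrime_disjoint q'.asIdeal.primeCompl L n'.2 (hdisj _ hnq)).symm).trans this)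
  haveI hne2 : (n'.asIdeal.map ψ).IsPrime :=
    IsLocalization.isPrime_of_isPrime_disjoint q'.asIdeal.primeCompl L _ n'.2 (hdisj _ hnq)
  haveI : ((n'.asIdeal.map ψ).map π).IsPrime :=
    Ideal.map_isPrime_of_surjective Ideal.Quotient.mk_surjective (by rw [Ideal.mk_ker]; exact Ideal.map_mono hmn)
  have hmaxn := PuncturedJacobson.isMaximal_of_forall_mem _ hb0 hall _ hne'
  have h2 := Ideal.comap_isMaximal_of_surjective π Ideal.Quotient.mk_surjective
    (K := (n'.asIdeal.map ψ).map π)
  rw [Ideal.comap_map_of_surjective _ Ideal.Quotient.mk_surjective, ← RingHom.ker_eq_comap_bot,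
    Ideal.mk_ker, sup_eq_left.mpr (Ideal.map_mono hmn)] at h2
  have h3 : n'.asIdeal.map ψ = IsLocalRing.maximalIdeal L := IsLocalRing.eq_maximalIdeal h2
  refine hne (le_antisymm hnq ?_)
  rw [← IsLocalization.comap_map_of_isPrime_disjoint q'.asIdeal.primeCompl L n'.2 (hdisj _ hnq), h3]
  exact le_of_eq (IsLocalization.AtPrime.comap_maximalIdeal L q'.asIdeal).symm

/-- A point which is closed and maximal in a locally Noetherian space is isolated. -/
theorem isOpen_singleton {Z : Scheme.{u}} [IsLocallyNoetherian Z] (w : Z) (hcl : IsClosed ({w} : Set Z))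
    (hmax : ∀ y, y ⤳ w → y = w) : IsOpen ({w} : Set Z) := by
  have : w ∉ closure ({w}ᶜ : Set Z) := fun hmem => by
    obtain ⟨z, hz, hzw, -⟩ := exists_immediate_specialization (⟨{w}ᶜ, hcl.isOpen_compl⟩ : Z.Opens) w hmem
      (fun h => h rfl)
    exact hz (hmax z hzw)
  rw [← compl_compl ({w} : Set Z)]
  refine IsClosed.isOpen_compl (self := isClosed_of_closure_subset fun y hy => ?_)
  intro hyw
  exact this (hyw ▸ hy)

end Groth.Agent.H8Props.CurveThroughPoint
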