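import Groth.Agent.H8Props.DiagonalTorDim
import Groth.Agent.S1510
import Mathlib.AlgebraicGeometry.Noetherian

/-!
# Flat morphisms with perfect diagonal are smooth
-/

set_option autoImplicit false
set_option linter.style.haveILetI false
set_option backward.isDefEq.respectTransparency false

universe u

open CategoryTheory CategoryTheory.Limits AlgebraicGeometry TensorProduct

attribute [local instance] HasDerivedCategory.standard

namespace Groth.Agent.H8Props.DiagTor

open PseudoCoh

/-- A flat morphism, locally of finite presentation, with perfect diagonal is smooth. -/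
theorem smooth_of_perfect_diagonal {X Y : Scheme.{u}} (f : X ⟶ Y) [Flat f] [LocallyOfFinitePresentation f]
    (h : MoreMor.IsPerfectMor (pullback.diagonal f)) : Smooth f := by
  refine ⟨fun {V} hV {U} hU e => ?_⟩
  let R := Γ(Y, V)
  let B := Γ(X, U)
  letI : Algebra R B := (f.appLE V U e).hom.toAlgebra
  let μ : B ⊗[R] B →ₐ[R] B := Algebra.TensorProduct.lmul' R
  let sq := IsAffineOpen.SpecMap_appLE_fromSpec f hV hU e
  let j : Spec (CommRingCat.of (B ⊗[R] B)) ⟶ pullback f f :=
    (pullbackSpecIso R B B).inv ≫ pullback.map (Spec.map (CommRingCat.ofHom (algebraMap R B)))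
      (Spec.map (CommRingCat.ofHom (algebraMap R B))) f f hU.fromSpec hU.fromSpec hV.fromSpec sq sq
  haveI : IsOpenImmersion j := inferInstance
  let δ : Spec (CommRingCat.of B) ⟶ Spec (CommRingCat.of (B ⊗[R] B)) :=
    Spec.map (CommRingCat.ofHom μ.toRingHom)
  have hfac : δ ≫ j = hU.fromSpec ≫ pullback.diagonal f := by
    apply pullback.hom_ext
    · simp only [j, δ, Category.assoc, limit.lift_π, PullbackCone.mk_pt, PullbackCone.mk_π_app,
        pullbackSpecIso_inv_fst_assoc, pullback.diagonal_fst, Category.comp_id]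
      rw [← Spec.map_comp_assoc]
      refine Eq.trans ?_ (Category.id_comp _)
      congr 1
      rw [← Spec.map_id]
      congr 1
      ext x
      show μ (x ⊗ₜ 1) = x
      rw [Algebra.TensorProduct.lmul'_apply_tmul, mul_one]
    · simp only [j, δ, Category.assoc, limit.lift_π, PullbackCone.mk_pt, PullbackCone.mk_π_app,
        pullbackSpecIso_inv_snd_assoc, pullback.diagonal_snd, Category.comp_id]
      rw [← Spec.map_comp_assoc]
      refine Eq.trans ?_ (Category.id_comp _)
      congr 1
      rw [← Spec.map_id]
      congr 1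
      ext x
      show μ (1 ⊗ₜ x) = x
      rw [Algebra.TensorProduct.lmul'_apply_tmul, one_mul]
  have hδ : MoreMor.IsPerfectMor δ := by
    refine S1510.result δ j ?_
    rw [hfac]
    exact HasRingHomProperty.comp_of_isOpenImmersion @MoreMor.IsPerfectMor hU.fromSpec (pullback.diagonal f) h
  have hμ : PerfRing μ.toRingHom := (HasRingHomProperty.Spec_iff (P := @MoreMor.IsPerfectMor)).1 hδ
  letI : Algebra (B ⊗[R] B) B := μ.toRingHom.toAlgebra
  haveI : Module.Flat R B := HasRingHomProperty.appLE (P := @Flat) f ‹_› ⟨V, hV⟩ ⟨U, hU⟩ e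
  haveI : Algebra.FinitePresentation R B :=
    HasRingHomProperty.appLE (P := @LocallyOfFinitePresentation) f ‹_› ⟨V, hV⟩ ⟨U, hU⟩ e
  exact smooth_of_torDim (fun x y => Algebra.TensorProduct.lmul'_apply_tmul x y) hμ.2

end Groth.Agent.H8Props.DiagTor
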