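import Groth.Agent.H8Props.PseudoCoh.TorDim
import Groth.Agent.H05EGA4.RegularPD
import Groth.Agent.H05EGA4.Rk
import Groth.Agent.H24Cot.Regular
import Mathlib.RingTheory.Etale.Descent
import Mathlib.RingTheory.Smooth.Fiber
import Mathlib.RingTheory.Jacobson.Ring
import Groth.Agent.H8Props.FlatKernel

/-!
# A flat algebra with diagonal of finite tor dimension is smooth
-/

set_option autoImplicit false
set_option linter.style.haveILetI false
set_option backward.isDefEq.respectTransparency false

universe u

open CategoryTheory TensorProduct IsLocalRing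

namespace Groth.Agent.H8Props.DiagTor

open Groth.Agent.H8Props.PseudoCoh

theorem injective_baseChange_ker {B K E C : Type u} [CommRing B] [CommRing K] [CommRing E] [CommRing C]
    [Algebra B K] [Algebra B E] [Algebra K C] [Algebra E C] [Algebra B C] [IsScalarTower B K C]
    [IsScalarTower B E C] [Algebra.IsPushout B K E C] {F M : Type u} [AddCommGroup F] [Module E F] [Module B F]
    [IsScalarTower B E F] [AddCommGroup M] [Module E M] [Module B M] [IsScalarTower B E M] [Module.Flat B M]
    (f : F →ₗ[E] M) (hf : Function.Surjective f) :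
    Function.Injective ((LinearMap.ker f).subtype.baseChange C) := by
  have hinjB : Function.Injective (((LinearMap.ker f).subtype.restrictScalars B).lTensor K) := by
    refine LinearMap.lTensor_injective_of_exact_of_flat (M := LinearMap.ker f) (f.restrictScalars B) hf
      ((LinearMap.ker f).subtype.restrictScalars B) ?_ ?_ K
    · exact Subtype.val_injective
    · exact LinearMap.exact_subtype_ker_map f
  have hnat : ∀ z, Algebra.IsPushout.cancelBaseChange B K E C F
      ((LinearMap.ker f).subtype.baseChange C z) =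
      ((LinearMap.ker f).subtype.restrictScalars B).lTensor K
        (Algebra.IsPushout.cancelBaseChange B K E C (LinearMap.ker f) z) := fun z => by
    obtain ⟨w, rfl⟩ := (Algebra.IsPushout.cancelBaseChange B K E C (LinearMap.ker f)).symm.surjective z
    rw [LinearEquiv.apply_symm_apply]
    induction w using TensorProduct.induction_on with
    | zero => simp
    | add a b ha hb => rw [map_add, map_add, map_add, map_add, ha, hb]
    | tmul k m =>
      rw [Algebra.IsPushout.cancelBaseChange_symm_tmul B K E C (LinearMap.ker f) k m,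
        LinearMap.baseChange_tmul, LinearMap.lTensor_tmul,
        ← Algebra.IsPushout.cancelBaseChange_symm_tmul B K E C F k _, LinearEquiv.apply_symm_apply]
      rfl
  intro a b hab
  refine (Algebra.IsPushout.cancelBaseChange B K E C (LinearMap.ker f)).injective (hinjB ?_)
  rw [← hnat, ← hnat, hab]

/-- Base change of tor dimension along a tor independent base change. -/
theorem hasTorDimLE_pushout {B K E C : Type u} [CommRing B] [CommRing K] [CommRing E] [CommRing C]
    [Algebra B K] [Algebra B E] [Algebra K C] [Algebra E C] [Algebra B C] [IsScalarTower B K C]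
    [IsScalarTower B E C] [Algebra.IsPushout B K E C] [Module.Flat B E] :
    ∀ {n : ℕ} {M : Type u} [AddCommGroup M] [Module E M] [Module B M] [IsScalarTower B E M]
      [Module.Flat B M], DRing.HasTorDimLE E n M → DRing.HasTorDimLE C n (C ⊗[E] M)
  | 0, M, _, _, _, _, _, h => by
    haveI := hasTorDimLE_zero_iff.mp h
    exact hasTorDimLE_zero_iff.mpr inferInstance
  | n + 1, M, _, _, _, _, _, h => by
    let f := Finsupp.linearCombination E (id : M → M)
    have hf : Function.Surjective f := exists_free_surjective (A := E) M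
    haveI : Module.Flat B (M →₀ E) := Module.Flat.trans B E _
    haveI : Module.Flat B (LinearMap.ker f) :=
      H8Props.flat_of_exact (R := B) (P := LinearMap.ker f) (M := M →₀ E) (Q := M)
        ((LinearMap.ker f).subtype.restrictScalars B) (f.restrictScalars B)
        Subtype.val_injective (LinearMap.exact_subtype_ker_map f) hf
    have hinj : Function.Injective ((LinearMap.ker f).subtype.baseChange C) :=
      injective_baseChange_ker (B := B) (K := K) (C := C) f hf
    have hK : DRing.HasTorDimLE C n (C ⊗[E] LinearMap.ker f) :=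
      hasTorDimLE_pushout (B := B) (K := K) (M := LinearMap.ker f) ((hasTorDimLE_succ_iff f hf).mp h)
    exact (hasTorDimLE_succ_iff (f.baseChange C) (LinearMap.lTensor_surjective C hf)).mpr
      (hasTorDimLE_of_equiv (kerBaseChangeEquiv C f hf hinj) hK)

/-- Finite modules of finite tor dimension over a Noetherian local ring have finite projective
dimension. -/
theorem hasProjectiveDimensionLT_of_torDim {A : Type u} [CommRing A] [IsLocalRing A] [IsNoetherianRing A] :
    ∀ {n : ℕ} {M : Type u} [AddCommGroup M] [Module A M] [Module.Finite A M],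
      DRing.HasTorDimLE A n M → HasProjectiveDimensionLT (ModuleCat.of A M) (n + 1)
  | 0, M, _, _, _, h => by
    haveI := hasTorDimLE_zero_iff.mp h
    haveI : Module.Free A M := Module.free_of_flat_of_isLocalRing
    haveI : Projective (ModuleCat.of A M) := (IsProjective.iff_projective (R := A) M).1 inferInstance
    exact projective_iff_hasProjectiveDimensionLT_one.1 inferInstance
  | n + 1, M, _, _, _, h => by
    obtain ⟨r, f, hf⟩ := Module.Finite.exists_fin' A M
    exact ((LinearMap.shortExact_shortComplexKer hf).hasProjectiveDimensionLT_X₃_iff n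
      (ModuleCat.projective_of_categoryTheory_projective _)).2
      (hasProjectiveDimensionLT_of_torDim ((hasTorDimLE_succ_iff f hf).mp h))

/-- A maximal ideal whose residue field has finite tor dimension is a regular point. -/
theorem isRegular_of_torDim {C : Type u} [CommRing C] [IsNoetherianRing C] (m : Ideal C) [m.IsMaximal]
    {n : ℕ} (h : DRing.HasTorDimLE C n (C ⧸ m)) : IsRegularLocalRing (Localization.AtPrime m) := by
  let S := Localization.AtPrime m
  let e₁ : (C ⧸ m) ≃ₗ[C] ResidueField S :=
    LinearEquiv.ofBijective (IsScalarTower.toAlgHom C (C ⧸ m) m.ResidueField).toLinearMap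
      m.bijective_algebraMap_quotient_residueField
  have h1 : DRing.HasTorDimLE S n (ResidueField S) :=
    hasTorDimLE_of_equiv (IsLocalization.moduleLid m.primeCompl S (ResidueField S))
      (hasTorDimLE_baseChange (A := C) (B := S) (hasTorDimLE_of_equiv e₁ h))
  exact H05EGA4.isRegularLocalRing_of_residueField S n (hasProjectiveDimensionLT_of_torDim h1)

variable {A B : Type u} [CommRing A] [CommRing B] [Algebra A B] [Algebra (B ⊗[A] B) B]
  (hmul : ∀ x y : B, algebraMap (B ⊗[A] B) B (x ⊗ₜ[A] y) = x * y)

include hmul in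
/-- Rational points of the geometric fibres have finite tor dimension. -/
theorem hasTorDimLE_point [Module.Flat A B] {n : ℕ} (h : DRing.HasTorDimLE (B ⊗[A] B) n B)
    {K : Type u} [Field K] [Algebra A K] (χ' : K ⊗[A] B →ₐ[K] K) :
    DRing.HasTorDimLE (K ⊗[A] B) n ((K ⊗[A] B) ⧸ RingHom.ker χ') := by
  let χ : B →ₐ[A] K := (χ'.restrictScalars A).comp Algebra.TensorProduct.includeRight
  letI : Algebra B K := χ.toRingHom.toAlgebra
  haveI : IsScalarTower A B K := IsScalarTower.of_algebraMap_eq fun a => (χ.commutes a).symm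
  letI : Algebra (B ⊗[A] B) (K ⊗[B] (B ⊗[A] B)) := Algebra.TensorProduct.rightAlgebra
  haveI : IsScalarTower B (B ⊗[A] B) B := IsScalarTower.of_algebraMap_eq fun b => by
    show b = algebraMap (B ⊗[A] B) B (b ⊗ₜ 1)
    rw [hmul, mul_one]
  let C := K ⊗[B] (B ⊗[A] B)
  have hC : DRing.HasTorDimLE C n (C ⊗[B ⊗[A] B] B) :=
    hasTorDimLE_pushout (B := B) (K := K) h
  let e : C ≃ₐ[K] K ⊗[A] B := Algebra.TensorProduct.cancelBaseChange A B K K B
  let ε : C →ₐ[K] K := χ'.comp e.toAlgHom
  let F : C ⊗[B ⊗[A] B] B ≃ₗ[K] K :=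
    (Algebra.IsPushout.cancelBaseChange B K (B ⊗[A] B) C B).trans (AlgebraTensorModule.rid B K K)
  let g : C →ₗ[C] C ⊗[B ⊗[A] B] B :=
    { toFun := fun c => c ⊗ₜ (1 : B)
      map_add' := fun a b => TensorProduct.add_tmul a b 1
      map_smul' := fun a b => (TensorProduct.smul_tmul' a b (1 : B)).symm }
  have key : ∀ (t : B ⊗[A] B) (c : C),
      (algebraMap (B ⊗[A] B) C t * c) ⊗ₜ[B ⊗[A] B] (1 : B) = c ⊗ₜ algebraMap (B ⊗[A] B) B t := fun t c =>
    (congrArg (fun w : C => w ⊗ₜ[B ⊗[A] B] (1 : B)) (Algebra.smul_def t c).symm).trans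
      ((TensorProduct.smul_tmul t c (1 : B)).trans
        (congrArg (fun w : B => c ⊗ₜ[B ⊗[A] B] w) ((Algebra.smul_def t (1 : B)).trans (mul_one _))))
  have hg : Function.Surjective g := fun z => by
    induction z using TensorProduct.induction_on with
    | zero => exact ⟨0, map_zero g⟩
    | add a b ha hb =>
      obtain ⟨x, rfl⟩ := ha
      obtain ⟨y, rfl⟩ := hb
      exact ⟨x + y, map_add g x y⟩
    | tmul c b =>
      refine ⟨algebraMap (B ⊗[A] B) C (b ⊗ₜ[A] (1 : B)) * c, (key _ c).trans ?_⟩
      rw [hmul, mul_one]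
  have hFg : ∀ c, F (g c) = ε c := fun c => by
    induction c using TensorProduct.induction_on with
    | zero => rw [map_zero, map_zero, map_zero]
    | add a b ha hb => rw [map_add, map_add, map_add, ha, hb]
    | tmul k t =>
      induction t using TensorProduct.induction_on with
      | zero => rw [TensorProduct.tmul_zero, map_zero, map_zero, map_zero]
      | add a b ha hb => rw [TensorProduct.tmul_add, map_add, map_add, map_add, ha, hb]
      | tmul x y =>
        have e1 : (k ⊗ₜ[B] (x ⊗ₜ[A] y) : C) = algebraMap K C k * algebraMap (B ⊗[A] B) C (x ⊗ₜ y) := by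
          show _ = (k ⊗ₜ[B] (1 : B ⊗[A] B)) * ((1 : K) ⊗ₜ[B] (x ⊗ₜ[A] y))
          rw [Algebra.TensorProduct.tmul_mul_tmul, mul_one, one_mul]
        have e2 : g (k ⊗ₜ[B] (x ⊗ₜ[A] y)) = algebraMap K C k ⊗ₜ[B ⊗[A] B] (x * y) := by
          show (k ⊗ₜ[B] (x ⊗ₜ[A] y) : C) ⊗ₜ[B ⊗[A] B] (1 : B) = _
          rw [e1, mul_comm, key, hmul]
        rw [e2]
        show AlgebraTensorModule.rid B K K (Algebra.IsPushout.cancelBaseChange B K (B ⊗[A] B) C B
          (algebraMap K C k ⊗ₜ (x * y))) = χ' (e (k ⊗ₜ[B] (x ⊗ₜ[A] y)))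
        rw [← Algebra.IsPushout.cancelBaseChange_symm_tmul B K (B ⊗[A] B) C B k (x * y), LinearEquiv.apply_symm_apply,
          AlgebraTensorModule.rid_tmul, Algebra.TensorProduct.cancelBaseChange_tmul, Algebra.smul_def]
        show χ (x * y) * k = χ' ((x • k) ⊗ₜ[A] y)
        rw [show (x • k) ⊗ₜ[A] y = algebraMap K (K ⊗[A] B) (χ x * k) * ((1 : K) ⊗ₜ[A] y) from by
          rw [Algebra.TensorProduct.algebraMap_apply, Algebra.TensorProduct.tmul_mul_tmul, mul_one, one_mul]
          rfl,
          map_mul χ' _ _, AlgHom.commutes χ', map_mul χ x y]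
        exact mul_right_comm (χ x) (χ y) k
  have hker : LinearMap.ker g = RingHom.ker ε := by
    ext c
    rw [LinearMap.mem_ker, RingHom.mem_ker]
    exact ⟨fun h0 => by rw [← hFg, h0, map_zero], fun h0 => F.injective (by rw [hFg, h0, map_zero])⟩
  have h1 : DRing.HasTorDimLE C n (C ⧸ RingHom.ker ε) :=
    hasTorDimLE_of_equiv ((g.quotKerEquivOfSurjective hg).symm.trans (Submodule.quotEquivOfEq _ _ hker)) hC
  letI : Algebra C (K ⊗[A] B) := e.toRingEquiv.toRingHom.toAlgebra
  haveI : Module.Flat C (K ⊗[A] B) :=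
    RingHom.flat_algebraMap_iff.1 (RingHom.Flat.of_bijective e.bijective)
  refine hasTorDimLE_of_equiv ?_ (hasTorDimLE_baseChange (B := K ⊗[A] B) h1)
  refine (Algebra.TensorProduct.quotIdealMapEquivTensorQuot (K ⊗[A] B) (RingHom.ker ε)).toLinearEquiv.symm.trans
    (Submodule.quotEquivOfEq _ _ ?_)
  refine le_antisymm (Ideal.map_le_iff_le_comap.2 fun c hc => hc) fun z hz => ?_
  obtain ⟨c, rfl⟩ := e.surjective z
  exact Ideal.mem_map_of_mem (algebraMap C (K ⊗[A] B)) hz

include hmul in
/-- A flat finitely presented algebra with diagonal of finite tor dimension is smooth. -/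
theorem smooth_of_torDim [Algebra.FinitePresentation A B] [Module.Flat A B]
    (h : DRing.HasFiniteTorDim (B ⊗[A] B) B) : Algebra.Smooth A B := by
  obtain ⟨n, hn⟩ := h
  refine Algebra.Smooth.of_formallySmooth_fiber fun I _ => ?_
  let K := AlgebraicClosure I.ResidueField
  haveI : Algebra.FiniteType K (K ⊗[A] B) := inferInstance
  haveI : IsNoetherianRing (K ⊗[A] B) := Algebra.FiniteType.isNoetherianRing K (K ⊗[A] B)
  haveI : Algebra.FormallySmooth K (K ⊗[A] B) := by
    refine (H24Cot.formallySmooth_iff_regular K (K ⊗[A] B)).2 fun p _ => ?_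
    obtain ⟨m, hm, hpm⟩ := Ideal.exists_le_maximal p (Ideal.IsPrime.ne_top ‹_›)
    haveI := hm
    haveI : Module.Finite K ((K ⊗[A] B) ⧸ m) := @finite_of_finite_type_of_isJacobsonRing K ((K ⊗[A] B) ⧸ m) _ (Ideal.Quotient.field m) _ _ _
    let d : K ≃ₐ[K] ((K ⊗[A] B) ⧸ m) := AlgEquiv.ofBijective (Algebra.ofId K _)
      ⟨(algebraMap K ((K ⊗[A] B) ⧸ m)).injective, IsAlgClosed.algebraMap_bijective_of_isIntegral.2⟩
    let χ' : K ⊗[A] B →ₐ[K] K := d.symm.toAlgHom.comp (Ideal.Quotient.mkₐ K m)
    have hχ : RingHom.ker χ' = m := by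
      ext z
      rw [RingHom.mem_ker, ← Ideal.Quotient.eq_zero_iff_mem]
      exact ⟨fun h0 => d.symm.injective (h0.trans (map_zero _).symm), fun h0 =>
        (congrArg d.symm h0).trans (map_zero _)⟩
    haveI := isRegular_of_torDim m (hasTorDimLE_of_equiv (Submodule.quotEquivOfEq _ _ hχ)
      (hasTorDimLE_point hmul hn χ'))
    exact H05EGA4.isRegularLocalRing_of_le hpm
  haveI : Algebra.Smooth K (K ⊗[I.ResidueField] (I.ResidueField ⊗[A] B)) := by
    haveI : Algebra.Smooth K (K ⊗[A] B) :=
      ⟨inferInstance, Algebra.FinitePresentation.of_finiteType.1 inferInstance⟩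
    exact .of_equiv (Algebra.TensorProduct.cancelBaseChange A I.ResidueField K K B).symm
  haveI := Algebra.Smooth.of_smooth_tensorProduct_of_faithfullyFlat (R := I.ResidueField) (S := I.ResidueField ⊗[A] B) K
  exact inferInstanceAs (Algebra.FormallySmooth I.ResidueField (I.ResidueField ⊗[A] B))

end Groth.Agent.H8Props.DiagTor
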