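import Mathlib
import Groth.Agent.H28Top.Catenary

/-!
# Catenary Noetherian sober spaces have dimension functions locally (helper8)
-/

set_option autoImplicit false
universe u
open TopologicalSpace PtTop Groth.Agent

namespace Groth.Agent.H8Props.DimFunctionExists

variable {X : Type u} [TopologicalSpace X]

/-- Codimension as an integer. -/
noncomputable def c (A B : IrreducibleCloseds X) : ℤ := ((codim A (B : Set X)).toNat : ℤ)

lemma c_add (h : IsCatenarySpace X) {A B C : IrreducibleCloseds X} (h1 : A ≤ B) (h2 : B ≤ C) :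
    c A C = c A B + c B C := by
  obtain ⟨hfin, hadd⟩ := H28Top.isCatenarySpace_iff_additive.mp h
  unfold c
  rw [hadd A B C h1 h2, ENat.toNat_add (hfin A B h1) (hfin B C h2)]
  push_cast; rfl

lemma c_pos (h : IsCatenarySpace X) {A B : IrreducibleCloseds X} (hlt : A < B) : 0 < c A B := by
  obtain ⟨n, hn⟩ := ENat.ne_top_iff_exists.mp (h A B hlt.le).1
  unfold c
  rw [← hn, ENat.toNat_natCast]
  rcases Nat.eq_zero_or_pos n with rfl | hpos
  · obtain ⟨s, h1, h2, h3, -⟩ := H28Top.exists_series_of_codim hlt.le hn.symm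
    exfalso
    apply hlt.ne
    rw [← h1, ← h2]
    exact congrArg s.toFun (Fin.ext (by simp [h3]))
  · exact_mod_cast hpos

lemma c_covBy {A B : IrreducibleCloseds X} (hc : A ⋖ B) : c A B = 1 := by
  unfold c
  rw [H28Top.codim_eq_of_covBy hc]; rfl

variable [NoetherianSpace X] [QuasiSober X] [T0Space X]

theorem exists_dimensionFunction (hX : IsCatenarySpace X) (s : X) :
    ∃ U : Opens X, s ∈ U ∧ ∃ δ : U → ℤ, IsDimensionFunction δ := by
  classical
  have hdec : ∀ Z : Set X, IsClosed Z → ∃ S : Set (Set X), S.Finite ∧ (∀ t ∈ S, IsClosed t) ∧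
      (∀ t ∈ S, IsIrreducible t) ∧ Z = ⋃₀ S :=
    fun Z hZ ↦ NoetherianSpace.exists_finite_set_isClosed_irreducible hZ
  choose D hDfin hDcl hDirr hD using hdec
  let comps : Set (Set X) := irreducibleComponents X
  have hcfin : comps.Finite := NoetherianSpace.finite_irreducibleComponents
  have hccl : ∀ Z ∈ comps, IsClosed Z := fun Z hZ ↦ isClosed_of_mem_irreducibleComponents Z hZ
  let bad : Set (Set X) := {W | s ∉ W ∧ (W ∈ comps ∨ ∃ Z, ∃ hZ : Z ∈ comps, ∃ Z', ∃ hZ' : Z' ∈ comps,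
    W ∈ D (Z ∩ Z') ((hccl Z hZ).inter (hccl Z' hZ')))}
  have hbadfin : bad.Finite := by
    refine Set.Finite.subset (hcfin.union (hcfin.biUnion' fun Z hZ ↦ hcfin.biUnion' fun Z' hZ' ↦
      hDfin (Z ∩ Z') ((hccl Z hZ).inter (hccl Z' hZ')))) ?_
    rintro W ⟨-, hW | ⟨Z, hZ, Z', hZ', hW⟩⟩
    · exact .inl hW
    · exact .inr (Set.mem_iUnion₂.mpr ⟨Z, hZ, Set.mem_iUnion₂.mpr ⟨Z', hZ', hW⟩⟩)
  have hbadcl : IsClosed (⋃₀ bad) := by
    rw [Set.sUnion_eq_biUnion]
    refine hbadfin.isClosed_biUnion ?_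
    rintro W ⟨-, hW | ⟨Z, hZ, Z', hZ', hW⟩⟩
    · exact hccl W hW
    · exact hDcl _ _ W hW
  let U : Opens X := ⟨(⋃₀ bad)ᶜ, hbadcl.isOpen_compl⟩
  refine ⟨U, fun ⟨W, hW, hsW⟩ ↦ hW.1 hsW, ?_⟩
  -- components through points of `U`
  have hcomp : ∀ y : U, ∃ Z : IrreducibleCloseds X, (Z : Set X) ∈ comps ∧
      H28Top.pointClosure y.1 ≤ Z ∧ H28Top.pointClosure s ≤ Z := by
    intro y
    have hZ := irreducibleComponent_mem_irreducibleComponents y.1
    refine ⟨⟨irreducibleComponent y.1, isIrreducible_irreducibleComponent,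
      isClosed_irreducibleComponent⟩, hZ, ?_, ?_⟩
    · exact closure_minimal (Set.singleton_subset_iff.mpr mem_irreducibleComponent)
        isClosed_irreducibleComponent
    · refine closure_minimal (Set.singleton_subset_iff.mpr ?_) isClosed_irreducibleComponent
      by_contra hs
      exact y.2 ⟨_, ⟨hs, .inl hZ⟩, mem_irreducibleComponent⟩
  choose Z hZc hyZ hsZ using hcomp
  let ps := H28Top.pointClosure s
  refine ⟨fun y ↦ c ps (Z y) - c (H28Top.pointClosure y.1) (Z y), ?_⟩
  have hindep : ∀ (y : U) (A B : IrreducibleCloseds X), (A : Set X) ∈ comps → (B : Set X) ∈ comps →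
      H28Top.pointClosure y.1 ≤ A → H28Top.pointClosure y.1 ≤ B → ps ≤ A → ps ≤ B →
      c ps A - c (H28Top.pointClosure y.1) A = c ps B - c (H28Top.pointClosure y.1) B := by
    intro y A B hA hB hyA hyB hsA hsB
    have hy : y.1 ∈ (A : Set X) ∩ B :=
      ⟨hyA (subset_closure rfl), hyB (subset_closure rfl)⟩
    rw [hD _ ((hccl _ hA).inter (hccl _ hB))] at hy
    obtain ⟨W, hW, hyW⟩ := hy
    have hsW : s ∈ W := by
      by_contra hs
      exact y.2 ⟨W, ⟨hs, .inr ⟨_, hA, _, hB, hW⟩⟩, hyW⟩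
    let W' : IrreducibleCloseds X := ⟨W, hDirr _ _ W hW, hDcl _ _ W hW⟩
    have hWsub : W ⊆ (A : Set X) ∩ B := by
      rw [hD _ ((hccl _ hA).inter (hccl _ hB))]; exact Set.subset_sUnion_of_mem hW
    have h1 : W' ≤ A := fun z hz ↦ (hWsub hz).1
    have h2 : W' ≤ B := fun z hz ↦ (hWsub hz).2
    have h3 : H28Top.pointClosure y.1 ≤ W' :=
      closure_minimal (Set.singleton_subset_iff.mpr hyW) W'.isClosed
    have h4 : ps ≤ W' := closure_minimal (Set.singleton_subset_iff.mpr hsW) W'.isClosed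
    rw [c_add hX h4 h1, c_add hX h3 h1, c_add hX h4 h2, c_add hX h3 h2]
    ring
  have hdiff : ∀ x y : U, x ⤳ y →
      (c ps (Z x) - c (H28Top.pointClosure x.1) (Z x)) -
        (c ps (Z y) - c (H28Top.pointClosure y.1) (Z y)) =
        c (H28Top.pointClosure y.1) (H28Top.pointClosure x.1) := by
    intro x y hxy
    have hle : H28Top.pointClosure y.1 ≤ H28Top.pointClosure x.1 :=
      H28Top.pointClosure_le.mpr ((subtype_specializes_iff _ _).mp hxy)
    rw [hindep y (Z y) (Z x) (hZc y) (hZc x) (hyZ y) (hle.trans (hyZ x)) (hsZ y) (hsZ x),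
      c_add hX hle (hyZ x)]
    ring
  refine ⟨fun x y hxy hne ↦ ?_, fun x y hxy ↦ ?_⟩
  · have h1 := hdiff x y hxy
    have h2 : H28Top.pointClosure y.1 < H28Top.pointClosure x.1 :=
      (H28Top.pointClosure_le.mpr ((subtype_specializes_iff _ _).mp hxy)).lt_of_ne
        fun h ↦ hne (Subtype.ext (H28Top.pointClosure_injective h).symm)
    have h3 := c_pos hX h2
    show c ps (Z y) - _ < c ps (Z x) - _
    omega
  · obtain ⟨hxy, hne, hmid⟩ := hxy
    have h1 := hdiff x y hxy
    have hc : H28Top.pointClosure y.1 ⋖ H28Top.pointClosure x.1 := by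
      refine ⟨(H28Top.pointClosure_le.mpr ((subtype_specializes_iff _ _).mp hxy)).lt_of_ne
        fun h ↦ hne (Subtype.ext (H28Top.pointClosure_injective h).symm), fun C hC1 hC2 ↦ ?_⟩
      obtain ⟨z, rfl⟩ := H28Top.exists_point C
      have hzy : z ⤳ y.1 := H28Top.pointClosure_le.mp hC1.le
      have hzU : z ∈ U := hzy.mem_open U.2 y.2
      rcases hmid ⟨z, hzU⟩ ((subtype_specializes_iff _ _).mpr (H28Top.pointClosure_le.mp hC2.le))
        ((subtype_specializes_iff _ _).mpr hzy) with h | h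
      · exact hC2.ne (congrArg H28Top.pointClosure (congrArg Subtype.val h))
      · exact hC1.ne' (congrArg H28Top.pointClosure (congrArg Subtype.val h))
    rw [c_covBy hc] at h1
    show c ps (Z x) - _ = c ps (Z y) - _ + 1
    omega

end Groth.Agent.H8Props.DimFunctionExists
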