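import Groth.Agent.H8Props.LowTorRing
import Groth.Agent.H8Props.NilThickTor
import Groth.Agent.H8Props.RelPCRep
import Groth.Agent.H8Props.RelPCLocal
import Groth.Agent.H16Derived.KFlat.TildeStalk
import Mathlib.RingTheory.Localization.BaseChange
import Mathlib.RingTheory.Jacobson.Ideal

/-!
# Relative perfectness from a closed fibre over an ideal in the Jacobson radical
-/

set_option autoImplicit false
set_option linter.style.haveILetI false
set_option backward.isDefEq.respectTransparency false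
set_option maxHeartbeats 1000000

universe u

open CategoryTheory CategoryTheory.Limits AlgebraicGeometry TopologicalSpace TensorProduct

attribute [local instance] HasDerivedCategory.standard
attribute [local instance] Groth.Agent.H16Derived.KFlat.TildeStalk.algebra

namespace Groth.Agent.H8Props.JacTor

open H16Derived.KFlat H16Derived.KFlat.Stalk NilThick LowTor

variable {X S : Scheme.{u}} {f : X ⟶ S}

/-- Extension of scalars along a flat map respects isomorphisms in the derived category. -/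
noncomputable def extQIso {A B : Type u} [CommRing A] [CommRing B] (φ : A →+* B) (hφ : φ.Flat)
    {P Q : DRing.Cx A} (e : DRing.toD P ≅ DRing.toD Q) :
    DRing.toD (RingRelPC.extCx φ P) ≅ DRing.toD (RingRelPC.extCx φ Q) :=
  haveI : PreservesFiniteLimits (ModuleCat.extendScalars.{u, u, u} φ) :=
    ModuleCat.preservesFiniteLimits_extendScalars_of_flat hφ
  (ModuleCat.extendScalars.{u, u, u} φ).mapDerivedCategoryFactors.symm.app P ≪≫
    (ModuleCat.extendScalars.{u, u, u} φ).mapDerivedCategory.mapIso e ≪≫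
    (ModuleCat.extendScalars.{u, u, u} φ).mapDerivedCategoryFactors.app Q

/-- Stalks of tilde complexes. -/
noncomputable def tildeStalkIso {A : Type u} [CommRing A]
    [PreservesFiniteLimits (tilde.functor (CommRingCat.of A))] (x : Spec (CommRingCat.of A))
    (F : DRing.Cx A) :
    RingRelPC.extCx (TildeStalk.toRing (R := CommRingCat.of A) x) F ≅ (stalkCx x).obj (tfCx F) :=
  HomologicalComplex.Hom.isoOfComponents (fun i => (TildeStalk.stalkEquiv (R := CommRingCat.of A) (F.X i) x).toModuleIso)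
    fun i j _ => by
      refine ModuleCat.hom_ext (LinearMap.ext fun t => ?_)
      exact (TildeStalk.stalkLinMap_naturality (R := CommRingCat.of A) (F.X i) x (F.d i j) t).symm

/-- A finite free complex over the ring of an affine open computing the stalks of `P`. -/
structure Chart (f : X ⟶ S) (P : CochainComplex X.Modules ℤ) (U : X.Opens) where
  A : Type u
  [ring : CommRing A]
  [alg : Algebra Γ(S, ⊤) A]
  fp : Algebra.FinitePresentation Γ(S, ⊤) A
  F : DRing.Cx A
  c : ℤ
  above : DRing.VanishesAbove F c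
  free : DRing.TermwiseFiniteFree F
  prime : ∀ y ∈ U, PrimeSpectrum A
  toStalk : ∀ y ∈ U, A →+* X.presheaf.stalk y
  isLoc : ∀ (y : X) (hy : y ∈ U), letI := (toStalk y hy).toAlgebra
    IsLocalization.AtPrime (X.presheaf.stalk y) (prime y hy).asIdeal
  comm : ∀ (y : X) (hy : y ∈ U), (toStalk y hy).comp (algebraMap Γ(S, ⊤) A) =
    (f.stalkMap y).hom.comp (S.presheaf.germ ⊤ (f.base y) trivial).hom
  iso : ∀ (y : X) (hy : y ∈ U), Nonempty
    (DRing.toD (RingRelPC.extCx (toStalk y hy) F) ≅ DRing.toD ((stalkCx y).obj P))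
  mono : ∀ (y x : X) (hy : y ∈ U) (hx : x ∈ U), y ⤳ x → (prime y hy).asIdeal ≤ (prime x hx).asIdeal

attribute [instance] Chart.ring Chart.alg

theorem isQCohD_of_pc {E : DCoh.D X} (hpc : ∀ m : ℤ, DCoh.IsPseudoCoherentD m E) : DCoh.IsQCohD E :=
  fun i => RelPC.isQCoh_HD_of_pc (hpc (i - 1)) i (by omega)

/-- The stalks on an affine chart. -/
theorem nonempty_stalk_iso {A : Type u} [CommRing A]
    [PreservesFiniteLimits (tilde.functor (CommRingCat.of A))] (j₁ : Spec (CommRingCat.of A) ⟶ X)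
    [IsOpenImmersion j₁] (P : CochainComplex X.Modules ℤ) (F : DRing.Cx A)
    (e₁ : DCoh.toD _ ((pullCx j₁).obj P) ≅ DCoh.toD _ (tfCx F)) (p : Spec (CommRingCat.of A)) :
    Nonempty (DRing.toD (RingRelPC.extCx ((asIso (j₁.stalkMap p)).inv.hom.comp
      (TildeStalk.toRing (R := CommRingCat.of A) p)) F) ≅ DRing.toD ((stalkCx (j₁.base p)).obj P)) := by
  let τ := (asIso (j₁.stalkMap p)).inv.hom
  have hflat : τ.Flat :=
    RingHom.Flat.of_bijective (asIso (j₁.stalkMap p)).symm.commRingCatIsoToRingEquiv.bijective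
  have hid : τ.comp (j₁.stalkMap p).hom = RingHom.id _ :=
    congrArg CommRingCat.Hom.hom (asIso (j₁.stalkMap p)).hom_inv_id
  let Px := (stalkCx (j₁.base p)).obj P
  let eId : RingRelPC.extCx (τ.comp (j₁.stalkMap p).hom) Px ≅ Px :=
    eqToIso (by rw [hid]) ≪≫ (NatIso.mapHomologicalComplex
      (ModuleCat.extendScalarsId (X.presheaf.stalk (j₁.base p))) (ComplexShape.up ℤ)).app Px ≪≫
      (Functor.mapHomologicalComplexIdIso _ _).app Px
  let eW : DRing.toD (RingRelPC.extCx (TildeStalk.toRing (R := CommRingCat.of A) p) F) ≅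
      DRing.toD (RingRelPC.extCx (j₁.stalkMap p).hom Px) :=
    DerivedCategory.Q.mapIso (tildeStalkIso p F) ≪≫ (stalkQIso p e₁).symm ≪≫
      DerivedCategory.Q.mapIso (stalkPullIso j₁ P p).symm
  let eτ := extQIso τ hflat eW
  let e1 : RingRelPC.extCx (τ.comp (TildeStalk.toRing (R := CommRingCat.of A) p)) F ≅
      RingRelPC.extCx τ (RingRelPC.extCx (TildeStalk.toRing (R := CommRingCat.of A) p) F) :=
    H4DR.TorAmp.extCompIso _ τ F
  let e2 : RingRelPC.extCx τ (RingRelPC.extCx (j₁.stalkMap p).hom Px) ≅ Px :=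
    (H4DR.TorAmp.extCompIso _ τ Px).symm ≪≫ eId
  exact ⟨DerivedCategory.Q.mapIso e1 ≪≫ eτ ≪≫ DerivedCategory.Q.mapIso e2⟩

theorem exists_chart [IsAffine S] [LocallyOfFinitePresentation f] {E : DCoh.D X}
    (hpc : ∀ m : ℤ, DCoh.IsPseudoCoherentD m E) {P : CochainComplex X.Modules ℤ}
    (e : DCoh.toD X P ≅ E) {U : X.Opens} (hU : IsAffineOpen U) : Nonempty (Chart f P U) := by
  let A := Γ(X, U)
  let j₁ : Spec (CommRingCat.of A) ⟶ X := hU.fromSpec
  haveI : IsOpenImmersion j₁ := hU.isOpenImmersion_fromSpec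
  obtain ⟨M, ⟨eM⟩⟩ := RelPC.exists_rep hU (isQCohD_of_pc hpc)
  obtain ⟨F, c, hc, hF, ⟨eF⟩⟩ := H4DR.PCoh.pc'_iff.2 fun m => (pc_tilde_iff M m).1
    (isPseudoCoherentD_of_iso eM.symm (isPseudoCoherentD_rd j₁ (hpc m)))
  let e₁ : DCoh.toD _ ((pullCx j₁).obj P) ≅ DCoh.toD _ (tfCx F) :=
    DerivedCategory.Q.mapIso ((NatIso.mapHomologicalComplex
      (Scheme.Modules.restrictFunctorIsoPullback j₁).symm (ComplexShape.up ℤ)).app P) ≪≫
      ((rdQ j₁).app P).symm ≪≫ (rd j₁).mapIso e ≪≫ eM.symm ≪≫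
      (DCoh.tildeD (CommRingCat.of A)).mapIso eF.symm ≪≫ tildeDQ F
  let g : Spec (CommRingCat.of A) ⟶ S := j₁ ≫ f
  let α : Γ(S, ⊤) →+* A := (g.appTop ≫ (Scheme.ΓSpecIso (CommRingCat.of A)).hom).hom
  letI : Algebra Γ(S, ⊤) A := α.toAlgebra
  have hfp : Algebra.FinitePresentation Γ(S, ⊤) A := by
    have h1 : g.appTop.hom.FinitePresentation :=
      HasRingHomProperty.appTop (P := @LocallyOfFinitePresentation) g inferInstance
    exact RingHom.finitePresentation_respectsIso.1 _
      (Scheme.ΓSpecIso (CommRingCat.of A)).commRingCatIsoToRingEquiv h1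
  let pt : ∀ y ∈ U, Spec (CommRingCat.of A) := fun y hy =>
    (show ∃ p, j₁.base p = y from hU.range_fromSpec.ge hy).choose
  have hpt : ∀ y hy, j₁.base (pt y hy) = y := fun y hy =>
    (show ∃ p, j₁.base p = y from hU.range_fromSpec.ge hy).choose_spec
  let σ : ∀ p : Spec (CommRingCat.of A),
      X.presheaf.stalk (j₁.base p) ≅ (Spec (CommRingCat.of A)).presheaf.stalk p :=
    fun p => asIso (j₁.stalkMap p)
  let γ : ∀ p, A →+* X.presheaf.stalk (j₁.base p) := fun p =>
    (σ p).inv.hom.comp (TildeStalk.toRing (R := CommRingCat.of A) p)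
  have key : ∀ (y : X) (p : Spec (CommRingCat.of A)), j₁.base p = y →
      ∃ θ : A →+* X.presheaf.stalk y,
        (letI := θ.toAlgebra; IsLocalization.AtPrime (X.presheaf.stalk y) p.asIdeal) ∧
        θ.comp α = (f.stalkMap y).hom.comp (S.presheaf.germ ⊤ (f.base y) trivial).hom ∧
        Nonempty (DRing.toD (RingRelPC.extCx θ F) ≅ DRing.toD ((stalkCx y).obj P)) := by
    rintro _ p rfl
    refine ⟨γ p, ?_, ?_, ?_⟩
    · letI := (γ p).toAlgebra
      haveI : IsLocalization.AtPrime ((Spec (CommRingCat.of A)).presheaf.stalk p) p.asIdeal :=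
        StructureSheaf.IsLocalization.to_stalk (CommRingCat.of A) p
      exact IsLocalization.isLocalization_of_algEquiv p.asIdeal.primeCompl
        ({ (σ p).symm.commRingCatIsoToRingEquiv with commutes' := fun r => rfl } :
          (Spec (CommRingCat.of A)).presheaf.stalk p ≃ₐ[A] X.presheaf.stalk (j₁.base p))
    · have h : (σ p).hom.hom.comp ((γ p).comp α) =
          (σ p).hom.hom.comp ((f.stalkMap (j₁.base p)).hom.comp (S.presheaf.germ ⊤ _ trivial).hom) := by
        have h2 : (γ p).comp α = (σ p).inv.hom.comp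
            ((TildeStalk.toRing (R := CommRingCat.of A) p).comp α) := RingHom.comp_assoc _ _ _
        rw [h2, ← RingHom.comp_assoc, ← CommRingCat.hom_comp, (σ p).inv_hom_id]
        have h3 : g.appTop ≫ (Spec (CommRingCat.of A)).presheaf.germ ⊤ p trivial =
            (S.presheaf.germ ⊤ _ trivial ≫ f.stalkMap (j₁.base p)) ≫ (σ p).hom := by
          rw [Category.assoc, show (σ p).hom = j₁.stalkMap p from rfl, ← Scheme.Hom.stalkMap_comp]
          exact (g.germ_stalkMap ⊤ p trivial).symm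
        have h4 := congrArg CommRingCat.Hom.hom h3
        refine Eq.trans ?_ h4
        refine RingHom.ext fun r => ?_
        show (Spec (CommRingCat.of A)).presheaf.germ ⊤ p trivial
          ((Scheme.ΓSpecIso (CommRingCat.of A)).inv ((Scheme.ΓSpecIso (CommRingCat.of A)).hom (g.appTop r))) = _
        rw [← ConcreteCategory.comp_apply (Scheme.ΓSpecIso (CommRingCat.of A)).hom, Iso.hom_inv_id]
        rfl
      exact (RingHom.cancel_left (σ p).commRingCatIsoToRingEquiv.injective).1 h
    · exact nonempty_stalk_iso j₁ P F e₁ p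
  choose θ hθ₁ hθ₂ hθ₃ using fun y (hy : y ∈ U) => key y (pt y hy) (hpt y hy)
  exact ⟨{
    A := A
    fp := hfp
    F := F
    c := c
    above := hc
    free := hF
    prime := pt
    toStalk := θ
    isLoc := hθ₁
    comm := hθ₂
    iso := hθ₃
    mono := fun y x hy hx h => by
      rw [← hpt y hy, ← hpt x hx] at h
      exact (PrimeSpectrum.le_iff_specializes _ _).2
        ((j₁.isOpenEmbedding.isInducing.specializes_iff).1 h) }⟩

/-- Exactness of the fibre of any finite free model of the stalk. -/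
def FibreLow (f : X ⟶ S) (P : CochainComplex X.Modules ℤ) (d : ℤ) (x : X) : Prop :=
  ∀ (F : DRing.Cx (X.presheaf.stalk x)) (c : ℤ), DRing.VanishesAbove F c → DRing.TermwiseFiniteFree F →
    Nonempty (DRing.toD F ≅ DRing.toD ((stalkCx x).obj P)) → ∀ i, i < d →
      ((H4DR.TorAmp.tens (ModuleCat.of (S.presheaf.stalk (f.base x))
        (S.presheaf.stalk (f.base x) ⧸ IsLocalRing.maximalIdeal (S.presheaf.stalk (f.base x))))).obj
          (RingRelPC.resCx (f.stalkMap x).hom F)).ExactAt i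

theorem fibreLow_of_closed [Flat f] {X₀ S₀ : Scheme.{u}} {f₀ : X₀ ⟶ S₀} {i₀ : X₀ ⟶ X} {j : S₀ ⟶ S}
    (sq : IsPullback i₀ f₀ f j) [IsClosedImmersion j] {P : CochainComplex X.Modules ℤ} (hP : kflat X P)
    {d b : ℤ} (x₀ : X₀) {F₀ : CochainComplex X₀.Modules ℤ}
    (e₀ : DCoh.toD X₀ F₀ ≅ DCoh.toD X₀ ((pullCx i₀).obj P))
    (h : DerSch.HasTorAmplitudeAt f₀ d b F₀ x₀) : FibreLow f P d (i₀.base x₀) := by
  intro F c hc hF ⟨e⟩ i hi
  haveI : IsClosedImmersion i₀ := MorphismProperty.of_isPullback sq.flip inferInstance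
  let φ := (baseMap sq x₀).hom
  let a := (f.stalkMap (i₀.base x₀)).hom
  let ψ := (i₀.stalkMap x₀).hom
  let a₀ := (f₀.stalkMap x₀).hom
  have hc' : ψ.comp a = a₀.comp φ := congrArg CommRingCat.Hom.hom (baseMap_comp sq x₀)
  have hφ : Function.Surjective φ := by
    show Function.Surjective (baseMap sq x₀).hom
    rw [CommRingCat.hom_comp]
    exact (j.stalkMap_surjective _).comp (ConcreteCategory.bijective_of_isIso
      (S.presheaf.stalkCongr (.of_eq (base_eq sq x₀))).hom).2
  haveI : IsIso (bcNat hc') :=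
    haveI := isIso_bcNat hc' hφ (i₀.stalkMap_surjective x₀) (ker_stalkMap_eq sq x₀)
    NatIso.isIso_of_isIso_app _
  have hflat : DRing.TermwiseFlat F := fun k => haveI := (hF k).2; Module.Flat.of_free
  have hG : DRing.TermwiseFlat (RingRelPC.resCx a F) := flat_res_cx (Flat.stalkMap f _) hflat
  have hGK : H4DR.TorAmp.KF _ (RingRelPC.resCx a F) := H4DR.TorAmp.isKFlat_of_flat
    (fun k hk => (ModuleCat.restrictScalars.{u} a).map_isZero (hc k hk)) hG
  let ι : RingRelPC.extCx φ (RingRelPC.resCx a F) ≅ RingRelPC.resCx a₀ (RingRelPC.extCx ψ F) :=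
    (NatIso.mapHomologicalComplex (asIso (bcNat hc')) (ComplexShape.up ℤ)).app F
  haveI := H4DR.TorAmp.hasLBaseChange ψ
  let eψ : DRing.toD (RingRelPC.extCx ψ F) ≅ DRing.toD (RingRelPC.extCx ψ ((stalkCx _).obj P)) :=
    (H4DR.TorAmp.lbaseObj ψ F (H4DR.TorAmp.isKFlat_of_flat hc hflat)).symm ≪≫
      (DRing.LBaseChange ψ).mapIso e ≪≫ H4DR.TorAmp.lbaseObj ψ _ (kf_stalk hP _)
  have hta : DRing.HasTorAmplitudeIn _ d b (DRing.toD (RingRelPC.extCx φ (RingRelPC.resCx a F))) :=
    H4DR.TorAmp.ta_of_iso (resQIso a₀ (stalkQIso x₀ e₀ ≪≫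
      (DerivedCategory.Q.mapIso (stalkPullIso i₀ P x₀)).symm ≪≫ eψ.symm) ≪≫
      (DerivedCategory.Q.mapIso ι).symm) h
  refine H4DR.TorAmp.exactAt_tens_of_surjective hφ _ ?_ fun N =>
    H4DR.TorAmp.exactAt_tens_of_ta (H25DTen.isKFlat_extCx φ hGK) hta N (Or.inl hi)
  have hle : RingHom.ker φ ≤ IsLocalRing.maximalIdeal _ :=
    IsLocalRing.le_maximalIdeal (RingHom.ker_ne_top φ)
  refine eq_bot_iff.2 (Submodule.smul_le.2 fun r hr n _ => (Submodule.mem_bot _).2 ?_)
  obtain ⟨n, rfl⟩ := Ideal.Quotient.mk_surjective (show _ ⧸ _ from n)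
  show Ideal.Quotient.mk _ (r * n) = 0
  exact Ideal.Quotient.eq_zero_iff_mem.2 (Ideal.mul_mem_right _ _ (hle hr))

theorem low_germ_iff [IsAffine S] (s : S) {B : Type u} [CommRing B] (a : S.presheaf.stalk s →+* B)
    (F : DRing.Cx B) (d : ℤ) : Low a F d ↔ Low (a.comp (S.presheaf.germ ⊤ s trivial).hom) F d := by
  refine and_congr_right fun _ => ?_
  letI := TopCat.Presheaf.algebra_section_stalk S.presheaf (⟨s, trivial⟩ : (⊤ : S.Opens))
  haveI := (isAffineOpen_top S).isLocalization_stalk ⟨s, trivial⟩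
  let Q := H4DR.Hom.coker F d
  letI : Module (S.presheaf.stalk s) Q := Module.compHom _ a
  letI : Module Γ(S, ⊤) Q := Module.compHom _ (a.comp (S.presheaf.germ ⊤ s trivial).hom)
  haveI : IsScalarTower Γ(S, ⊤) (S.presheaf.stalk s) Q :=
    IsScalarTower.of_algebraMap_smul fun _ _ => rfl
  exact Module.flat_iff_of_isLocalization (S.presheaf.stalk s)
    ((isAffineOpen_top S).primeIdealOf ⟨s, trivial⟩).asIdeal.primeCompl Q

theorem low_iso {R B : Type u} [CommRing R] [CommRing B] {φ : R →+* B} {F G : DRing.Cx B} (e : F ≅ G)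
    {d : ℤ} (h : Low φ F d) : Low φ G d := by
  refine ⟨fun i hi => (h.1 i hi).of_iso e, ?_⟩
  haveI := h.2
  exact Module.Flat.of_linearEquiv (M := (ModuleCat.restrictScalars.{u} φ).obj (H4DR.Hom.coker F d))
    ((ModuleCat.restrictScalars.{u} φ).mapIso
      (((F.opcyclesIsCokernel (d - 1) d (by simp)).coconePointUniqueUpToIso
        (ModuleCat.cokernelIsColimit (F.d (d - 1) d))).symm ≪≫
      HomologicalComplex.opcyclesMapIso e d ≪≫
      (G.opcyclesIsCokernel (d - 1) d (by simp)).coconePointUniqueUpToIso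
        (ModuleCat.cokernelIsColimit (G.d (d - 1) d)))).toLinearEquiv.symm

theorem free_ext {A B : Type u} [CommRing A] [CommRing B] (γ : A →+* B) {F : DRing.Cx A}
    (hF : DRing.TermwiseFiniteFree F) : DRing.TermwiseFiniteFree (RingRelPC.extCx γ F) := fun i => by
  letI := γ.toAlgebra
  haveI := (hF i).1
  haveI := (hF i).2
  exact ⟨inferInstanceAs (Module.Finite B (B ⊗[A] F.X i)), inferInstanceAs (Module.Free B (B ⊗[A] F.X i))⟩

/-- The lower bound at a point of the closed fibre and all its generisations in the chart. -/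
theorem Chart.low [IsAffine S] [Flat f] {P : CochainComplex X.Modules ℤ} {U : X.Opens} (C : Chart f P U)
    {d : ℤ} {x : X} (hx : x ∈ U) (hfib : FibreLow f P d x) {y : X} (hy : y ∈ U) (hyx : y ⤳ x) :
    Low (f.stalkMap y).hom (RingRelPC.extCx (C.toStalk y hy) C.F) d := by
  let R := Γ(S, ⊤)
  let As := S.presheaf.stalk (f.base x)
  let B := X.presheaf.stalk x
  let a : As →+* B := (f.stalkMap x).hom
  let γ := C.toStalk x hx
  letI algB : Algebra C.A B := γ.toAlgebra
  haveI : IsLocalization.AtPrime B (C.prime x hx).asIdeal := C.isLoc x hx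
  letI := TopCat.Presheaf.algebra_section_stalk S.presheaf (⟨f.base x, trivial⟩ : (⊤ : S.Opens))
  haveI := (isAffineOpen_top S).isLocalization_stalk ⟨f.base x, trivial⟩
  let ps := ((isAffineOpen_top S).primeIdealOf ⟨f.base x, trivial⟩).asIdeal.primeCompl
  let T := Localization (Algebra.algebraMapSubmonoid C.A ps)
  letI : Algebra As T := localizationAlgebra ps C.A
  haveI : IsScalarTower R As T := isScalarTower_localizationAlgebra ps C.A
  haveI : Algebra.IsPushout R As C.A T := (Algebra.isPushout_of_isLocalization ps As C.A T).symm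
  haveI := C.fp
  haveI : Algebra.FinitePresentation As T :=
    Algebra.FinitePresentation.equiv (Algebra.IsPushout.equiv R As C.A T)
  have hle : Algebra.algebraMapSubmonoid C.A ps ≤ (C.prime x hx).asIdeal.primeCompl := by
    rintro _ ⟨s, hs, rfl⟩ hmem
    have h1 : IsUnit (a (algebraMap R As s)) := (IsLocalization.map_units As (⟨s, hs⟩ : ps)).map a
    rw [show a (algebraMap R As s) = γ (algebraMap R C.A s) from
      (RingHom.congr_fun (C.comm x hx) s).symm] at h1
    exact (IsLocalization.AtPrime.isUnit_to_map_iff B (C.prime x hx).asIdeal _).1 h1 hmem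
  let ν : T →+* B := IsLocalization.lift (M := Algebra.algebraMapSubmonoid C.A ps) (g := γ) fun z =>
    IsLocalization.map_units B (⟨z.1, hle z.2⟩ : (C.prime x hx).asIdeal.primeCompl)
  letI : Algebra T B := ν.toAlgebra
  haveI : IsScalarTower C.A T B := IsScalarTower.of_algebraMap_eq fun r => (IsLocalization.lift_eq _ r).symm
  haveI : IsLocalization ((C.prime x hx).asIdeal.primeCompl.map (algebraMap C.A T)) B :=
    IsLocalization.isLocalization_of_submonoid_le T B _ _ hle
  have hcomm : ν.comp (algebraMap As T) = a := IsLocalization.ringHom_ext ps (RingHom.ext fun r => by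
    show ν (algebraMap As T (algebraMap R As r)) = a (algebraMap R As r)
    rw [← IsScalarTower.algebraMap_apply, IsScalarTower.algebraMap_apply R C.A T]
    exact (IsLocalization.lift_eq _ _).trans (RingHom.congr_fun (C.comm x hx) r))
  have hFx : DRing.TermwiseFiniteFree (RingRelPC.extCx γ C.F) := free_ext γ C.free
  have hvx : DRing.VanishesAbove (RingRelPC.extCx γ C.F) C.c := fun i hi =>
    (ModuleCat.extendScalars.{u, u, u} γ).map_isZero (C.above i hi)
  have hlow : Low a (RingRelPC.extCx γ C.F) d :=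
    low_of_fibre ((C.prime x hx).asIdeal.primeCompl.map (algebraMap C.A T)) a hcomm
      (Flat.stalkMap f x) hFx d (hfib _ C.c hvx hFx (C.iso x hx))
  -- the generisation
  let B' := X.presheaf.stalk y
  let γ' := C.toStalk y hy
  letI : Algebra C.A B' := γ'.toAlgebra
  haveI : IsLocalization.AtPrime B' (C.prime y hy).asIdeal := C.isLoc y hy
  have hle' : (C.prime x hx).asIdeal.primeCompl ≤ (C.prime y hy).asIdeal.primeCompl :=
    fun z hz hz' => hz (C.mono y x hy hx hyx hz')
  let ψ : B →+* B' := IsLocalization.lift (M := (C.prime x hx).asIdeal.primeCompl) (g := γ') fun z =>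
    IsLocalization.map_units B' (⟨z.1, hle' z.2⟩ : (C.prime y hy).asIdeal.primeCompl)
  letI : Algebra B B' := ψ.toAlgebra
  haveI : IsScalarTower C.A B B' := IsScalarTower.of_algebraMap_eq fun r => (IsLocalization.lift_eq _ r).symm
  haveI : IsLocalization ((C.prime y hy).asIdeal.primeCompl.map (algebraMap C.A B)) B' :=
    IsLocalization.isLocalization_of_submonoid_le B B' _ _ hle'
  have hψ : ψ.Flat := RingHom.flat_algebraMap_iff.2
    (IsLocalization.flat B' ((C.prime y hy).asIdeal.primeCompl.map (algebraMap C.A B)))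
  have hψγ : ψ.comp γ = γ' := IsLocalization.lift_comp _
  have h1 := low_iso (H4DR.TorAmp.extCompIso γ ψ C.F).symm
    (low_extend ψ hψ ((low_germ_iff (f.base x) a _ d).1 hlow))
  rw [hψγ, show a.comp (S.presheaf.germ ⊤ (f.base x) trivial).hom = γ.comp (algebraMap R C.A) from
    (C.comm x hx).symm, ← RingHom.comp_assoc, hψγ, C.comm y hy] at h1
  exact (low_germ_iff (f.base y) _ _ d).2 h1

/-- Every point of a quasi-compact scheme specialises to a closed point. -/
theorem exists_closed_specialization [CompactSpace X] (y : X) :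
    ∃ x : X, IsClosed ({x} : Set X) ∧ y ⤳ x := by
  obtain ⟨x, hx, hxc⟩ := (isClosed_closure (s := ({y} : Set X))).exists_closed_singleton
    ⟨y, subset_closure rfl⟩
  exact ⟨x, hxc, specializes_iff_mem_closure.2 hx⟩

theorem closedPoints_le_range (R : Type u) [CommRing R] (I : Ideal R) (hI : I ≤ Ideal.jacobson ⊥)
    (f : X ⟶ Spec (CommRingCat.of R)) [IsProper f] {x : X} (hx : IsClosed ({x} : Set X)) :
    x ∈ Set.range (pullback.fst f (Spec.map (CommRingCat.ofHom (Ideal.Quotient.mk I)))) := by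
  have hcl : IsClosed ({f.base x} : Set (Spec (CommRingCat.of R))) := by
    simpa using f.isClosedMap _ hx
  have hmax : (f.base x).asIdeal.IsMaximal := (PrimeSpectrum.isClosed_singleton_iff_isMaximal _).1 hcl
  have hle : I ≤ (f.base x).asIdeal := hI.trans (sInf_le ⟨bot_le, hmax⟩)
  rw [Scheme.Pullback.range_fst]
  show f.base x ∈ Set.range (PrimeSpectrum.comap (Ideal.Quotient.mk I))
  rw [range_comap_of_surjective _ _ Ideal.Quotient.mk_surjective, Ideal.mk_ker]
  exact hle

/-- Relative perfectness from the closed fibre. -/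
theorem locFiniteTorAmplitudeD_of_closedFibre [IsAffine S] [CompactSpace X] [Flat f]
    [LocallyOfFinitePresentation f] {X₀ S₀ : Scheme.{u}} {f₀ : X₀ ⟶ S₀} {i₀ : X₀ ⟶ X} {j : S₀ ⟶ S}
    (sq : IsPullback i₀ f₀ f j) [IsClosedImmersion j] [DCoh.HasLpull i₀] [CompactSpace X₀]
    (hcl : ∀ x : X, IsClosed ({x} : Set X) → x ∈ Set.range i₀.base)
    {E : DCoh.D X} (hpc : ∀ m : ℤ, DCoh.IsPseudoCoherentD m E)
    {F₀ : CochainComplex X₀.Modules ℤ} (e₀ : DCoh.toD X₀ F₀ ≅ (DCoh.Lpull i₀).obj E)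
    (h₀ : DerSch.LocFiniteTorAmplitude f₀ F₀) : DerSch.LocFiniteTorAmplitudeD f E := by
  classical
  obtain ⟨P, hP, ⟨e⟩⟩ := exists_kflat_rep E
  have e₀' : DCoh.toD X₀ F₀ ≅ DCoh.toD X₀ ((pullCx i₀).obj P) :=
    e₀ ≪≫ (DCoh.Lpull i₀).mapIso e.symm ≪≫ lpullObjIso i₀ P hP
  choose V a b hxV hV using h₀
  obtain ⟨s, hs⟩ := isCompact_univ.elim_finite_subcover (fun x => (V x : Set X₀))
    (fun x => (V x).isOpen) fun x _ => Set.mem_iUnion.2 ⟨x, hxV x⟩
  obtain ⟨d, hd⟩ := (s.image a).bddBelow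
  have hfib : ∀ x₀ : X₀, FibreLow f P d (i₀.base x₀) := fun x₀ => by
    obtain ⟨z, hz, hzx⟩ := Set.mem_iUnion₂.1 (hs (Set.mem_univ x₀))
    exact fibreLow_of_closed sq hP x₀ e₀' (H4DR.TorAmp.ta_mono
      (hd (Finset.mem_coe.2 (Finset.mem_image_of_mem a hz))) le_rfl (hV z x₀ hzx))
  choose U hU hxU using fun x : X =>
    let ⟨U, hU, hxU, _⟩ := exists_isAffineOpen_mem_and_subset (x := x) (U := ⊤) trivial
    (⟨U, hU, hxU⟩ : ∃ U : X.Opens, IsAffineOpen U ∧ x ∈ U)
  obtain ⟨t, ht⟩ := isCompact_univ.elim_finite_subcover (fun x => (U x : Set X))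
    (fun x => (U x).isOpen) fun x _ => Set.mem_iUnion.2 ⟨x, hxU x⟩
  let C := fun x => (exists_chart (f := f) hpc e (hU x)).some
  obtain ⟨c, hc⟩ := (insert d (t.image fun x => (C x).c)).bddAbove
  intro F' hF'
  obtain ⟨eF'⟩ := hF'
  intro z
  refine ⟨⊤, d, c, trivial, fun y _ => ?_⟩
  obtain ⟨x, hxc, hyx⟩ := exists_closed_specialization y
  obtain ⟨x₀, rfl⟩ := hcl x hxc
  obtain ⟨k, hk, hxk⟩ := Set.mem_iUnion₂.1 (ht (Set.mem_univ (i₀.base x₀)))
  have hyk : y ∈ U k := hyx.mem_open (U k).isOpen hxk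
  have hlow := (C k).low hxk (hfib x₀) hyk hyx
  obtain ⟨ek⟩ := (C k).iso y hyk
  refine H4DR.TorAmp.ta_of_iso (resQIso (f.stalkMap y).hom (ek ≪≫ stalkQIso y (e ≪≫ eF'.symm))) ?_
  exact ta_of_low (Flat.stalkMap f y)
    (fun i => haveI := (free_ext ((C k).toStalk y hyk) (C k).free i).2; Module.Flat.of_free)
    (fun i hi => (ModuleCat.extendScalars.{u, u, u} _).map_isZero ((C k).above i hi)) hlow
    (hc (Finset.mem_insert_of_mem (Finset.mem_image_of_mem _ hk))) (hc (Finset.mem_insert_self _ _))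

end Groth.Agent.H8Props.JacTor
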