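import Groth.Agent.H8Props.NilThickTorRing
import Groth.Agent.H1CAlg.InjModMaxModel
import Groth.Agent.H06Mod.StalkBaseChange
import Groth.Agent.H4DR.TorAmp.Pair
import Mathlib.RingTheory.LocalRing.RingHom.Basic

/-!
# Lower bounds of tor amplitude over the base from the closed fibre
-/

set_option autoImplicit false
set_option linter.style.haveILetI false
set_option backward.isDefEq.respectTransparency false
set_option maxHeartbeats 1000000

universe u

open CategoryTheory CategoryTheory.Limits TensorProduct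

attribute [local instance] HasDerivedCategory.standard

namespace Groth.Agent.H8Props.LowTor

open H4DR H4DR.TorAmp NilThick

variable {R B : Type u} [CommRing R] [CommRing B]

/-- No cohomology below `d` and a cokernel in degree `d` flat over `R`. -/
def Low (φ : R →+* B) (F : DRing.Cx B) (d : ℤ) : Prop :=
  (∀ i, i < d → F.ExactAt i) ∧
    Module.Flat R ((ModuleCat.restrictScalars.{u} φ).obj (Hom.coker F d))

theorem flat_res {φ : R →+* B} (hφ : φ.Flat) (M : ModuleCat.{u} B) [Module.Flat B M] :
    Module.Flat R ((ModuleCat.restrictScalars.{u} φ).obj M) := by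
  letI := φ.toAlgebra
  haveI : Module.Flat R B := RingHom.flat_algebraMap_iff.1 hφ
  letI : Module R M := Module.compHom _ φ
  haveI : IsScalarTower R B M := IsScalarTower.of_algebraMap_smul fun _ _ => rfl
  exact Module.Flat.trans R B M

theorem flat_res_cx {φ : R →+* B} (hφ : φ.Flat) {F : DRing.Cx B} (hF : DRing.TermwiseFlat F) :
    DRing.TermwiseFlat (RingRelPC.resCx φ F) := fun i =>
  haveI := hF i
  flat_res hφ (F.X i)

/-- A lower bound gives finite tor amplitude. -/
theorem ta_of_low {φ : R →+* B} (hφ : φ.Flat) {F : DRing.Cx B} (hF : DRing.TermwiseFlat F) {c d : ℤ}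
    (hc : DRing.VanishesAbove F c) (h : Low φ F d) {c' : ℤ} (hc' : c ≤ c') (hd : d ≤ c') :
    DRing.HasTorAmplitudeIn R d c' (DRing.toD (RingRelPC.resCx φ F)) := by
  let Φ := ModuleCat.restrictScalars.{u} φ
  haveI : F.IsGE d := (CochainComplex.isGE_iff F d).2 h.1
  refine ⟨(Φ.mapHomologicalComplex (ComplexShape.up ℤ)).obj (F.truncGE d), fun i hi => ?_, fun i => ?_,
    ⟨(resQIso φ (asIso (DerivedCategory.Q.map (F.πTruncGE d)))).symm⟩⟩
  · refine Φ.map_isZero ?_
    rcases hi with hi | hi
    · exact (F.truncGE d).isZero_of_isStrictlyGE d i hi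
    · exact (hc i (by omega)).of_iso (F.truncGEXIso d i (by omega))
  · rcases lt_trichotomy d i with hi | rfl | hi
    · haveI : Module.Flat R (Φ.obj (F.X i)) := flat_res_cx hφ hF i
      exact Module.Flat.of_linearEquiv (M := Φ.obj (F.X i)) (Φ.mapIso (F.truncGEXIso d i hi)).toLinearEquiv
    · haveI : Module.Flat R (Φ.obj (Hom.coker F d)) := h.2
      exact Module.Flat.of_linearEquiv (M := Φ.obj (Hom.coker F d)) (Φ.mapIso (F.truncGEXIsoOpcycles d ≪≫
        IsColimit.coconePointUniqueUpToIso (F.opcyclesIsCokernel (d - 1) d (by simp))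
          (ModuleCat.cokernelIsColimit (F.d (d - 1) d)))).toLinearEquiv
    · haveI : Subsingleton (((Φ.mapHomologicalComplex (ComplexShape.up ℤ)).obj (F.truncGE d)).X i) :=
        ModuleCat.subsingleton_of_isZero
        (Φ.map_isZero ((F.truncGE d).isZero_of_isStrictlyGE d i hi))
      exact Module.Flat.of_linearEquiv (M := PUnit.{u + 1}) (LinearEquiv.ofSubsingleton PUnit.{u + 1} _).symm

/-- The lower bound localises. -/
theorem low_extend {B' : Type u} [CommRing B'] {φ : R →+* B} (ψ : B →+* B') (hψ : ψ.Flat)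
    {F : DRing.Cx B} {d : ℤ} (h : Low φ F d) : Low (ψ.comp φ) (RingRelPC.extCx ψ F) d := by
  haveI : PreservesFiniteLimits (ModuleCat.extendScalars.{u, u, u} ψ) :=
    ModuleCat.preservesFiniteLimits_extendScalars_of_flat hψ
  refine ⟨fun i hi => ?_, ?_⟩
  · have h1 := h.1 i hi
    rw [HomologicalComplex.exactAt_iff] at h1 ⊢
    exact h1.map (ModuleCat.extendScalars.{u, u, u} ψ)
  letI := φ.toAlgebra
  letI := ψ.toAlgebra
  letI : Algebra R B' := (ψ.comp φ).toAlgebra
  haveI : IsScalarTower R B B' := IsScalarTower.of_algebraMap_eq fun _ => rfl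
  haveI : Module.Flat B B' := RingHom.flat_algebraMap_iff.1 hψ
  let Q := Hom.coker F d
  letI : Module R Q := Module.compHom _ φ
  haveI : IsScalarTower R B Q := IsScalarTower.of_algebraMap_smul fun _ _ => rfl
  haveI : Module.Flat R Q := h.2
  haveI hT : Module.Flat R (B' ⊗[B] Q) := H06Mod.flat_tensor_of_flat (R := R) (S := B) (T := B') (N := Q)
  let E := ModuleCat.extendScalars.{u, u, u} ψ
  let F' := RingRelPC.extCx ψ F
  let e : Hom.coker F' d ≅ E.obj Q :=
    ((F'.opcyclesIsCokernel (d - 1) d (by simp)).coconePointUniqueUpToIso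
        (ModuleCat.cokernelIsColimit (F'.d (d - 1) d))).symm ≪≫
      ((F.sc d).mapOpcyclesIso E) ≪≫
      E.mapIso ((F.opcyclesIsCokernel (d - 1) d (by simp)).coconePointUniqueUpToIso
        (ModuleCat.cokernelIsColimit (F.d (d - 1) d)))
  letI : Module R (E.obj Q) := Module.compHom _ (ψ.comp φ)
  let l : B' ⊗[B] Q ≃ₗ[R] ((ModuleCat.restrictScalars.{u} (ψ.comp φ)).obj (E.obj Q)) :=
    { toFun := fun x => x
      invFun := fun x => x
      map_add' := fun _ _ => rfl
      left_inv := fun _ => rfl
      right_inv := fun _ => rfl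
      map_smul' := fun r x => by
        show r • x = (ψ (φ r) : B') • x
        exact (IsScalarTower.algebraMap_smul B' r x).symm }
  haveI : Module.Flat R ((ModuleCat.restrictScalars.{u} (ψ.comp φ)).obj (E.obj Q)) :=
    Module.Flat.of_linearEquiv l.symm
  exact Module.Flat.of_linearEquiv ((ModuleCat.restrictScalars.{u} (ψ.comp φ)).mapIso e).toLinearEquiv

/-- Exactness modulo the maximal ideal, on elements. -/
theorem exists_of_exactAt_tens {G : DRing.Cx R} (I : Ideal R) (i : ℤ)
    (h : ((tens (ModuleCat.of R (R ⧸ I))).obj G).ExactAt i) (p : G.X i)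
    (hp : (G.d i (i + 1)).hom p ∈ I • (⊤ : Submodule R (G.X (i + 1)))) :
    ∃ w : G.X (i - 1), p - (G.d (i - 1) i).hom w ∈ I • (⊤ : Submodule R (G.X i)) := by
  rw [HomologicalComplex.exactAt_iff' _ (i - 1) i (i + 1) (by simp) (by simp),
    ShortComplex.ShortExact.moduleCat_exact_iff_function_exact] at h
  let one : R ⧸ I := Ideal.Quotient.mk I 1
  have key : ∀ (j : ℤ) (x : G.X j), x ∈ I • (⊤ : Submodule R (G.X j)) ↔
      (x ⊗ₜ[R] one : (G.X j : Type u) ⊗[R] (R ⧸ I)) = 0 := fun j x => by
    rw [← (TensorProduct.tensorQuotEquivQuotSMul (G.X j) I).map_eq_zero_iff,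
      TensorProduct.tensorQuotEquivQuotSMul_tmul_mk, one_smul, Submodule.Quotient.mk_eq_zero]
  obtain ⟨(y : (G.X (i - 1) : Type u) ⊗[R] (R ⧸ I)), hy⟩ :=
    (h (p ⊗ₜ[R] one : (G.X i : Type u) ⊗[R] (R ⧸ I))).1 ((key (i + 1) _).1 hp)
  obtain ⟨w, rfl⟩ : ∃ w, w ⊗ₜ[R] one = y := by
    induction y using TensorProduct.induction_on with
    | zero => exact ⟨0, TensorProduct.zero_tmul _ _⟩
    | add a b _ _ =>
      obtain ⟨v, hv⟩ := Submodule.mkQ_surjective _ (TensorProduct.tensorQuotEquivQuotSMul _ I (a + b))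
      refine ⟨v, (TensorProduct.tensorQuotEquivQuotSMul _ I).injective ?_⟩
      rw [TensorProduct.tensorQuotEquivQuotSMul_tmul_mk, one_smul]
      exact hv
    | tmul v r =>
      obtain ⟨r, rfl⟩ := Ideal.Quotient.mk_surjective r
      refine ⟨r • v, (TensorProduct.tensorQuotEquivQuotSMul _ I).injective ?_⟩
      rw [TensorProduct.tensorQuotEquivQuotSMul_tmul_mk, TensorProduct.tensorQuotEquivQuotSMul_tmul_mk,
        one_smul]
  refine ⟨w, (key i _).2 ?_⟩
  rw [TensorProduct.sub_tmul, sub_eq_zero]
  exact hy.symm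

theorem smul_top_iff {A : Type u} [CommRing A] (a : A →+* B) (I : Ideal A) (M : ModuleCat.{u} B) (x : M) :
    (show (ModuleCat.restrictScalars.{u} a).obj M from x) ∈
      I • (⊤ : Submodule A ((ModuleCat.restrictScalars.{u} a).obj M)) ↔
        x ∈ I.map a • (⊤ : Submodule B M) := by
  letI := a.toAlgebra
  letI : Module A M := Module.compHom _ a
  haveI : IsScalarTower A B M := IsScalarTower.of_algebraMap_smul fun _ _ => rfl
  have e := Ideal.smul_restrictScalars I (⊤ : Submodule B M)
  rw [Submodule.restrictScalars_top] at e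
  exact (SetLike.ext_iff.1 e x).symm

/-- EGA IV 11.3.7 in every degree. -/
theorem low_of_fibre {A B S₀ : Type u} [CommRing A] [IsLocalRing A] [CommRing B] [IsLocalRing B]
    [CommRing S₀] [Algebra A S₀] [Algebra.FinitePresentation A S₀] [Algebra S₀ B] (Mon : Submonoid S₀)
    [IsLocalization Mon B] (a : A →+* B) [IsLocalHom a]
    (hcomm : (algebraMap S₀ B).comp (algebraMap A S₀) = a) (ha : a.Flat)
    {F : DRing.Cx B} (hF : DRing.TermwiseFiniteFree F) (d : ℤ)
    (h : ∀ i, i < d →
      ((tens (ModuleCat.of A (A ⧸ IsLocalRing.maximalIdeal A))).obj (RingRelPC.resCx a F)).ExactAt i) :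
    Low a F d := by
  letI : Algebra A B := a.toAlgebra
  haveI : IsScalarTower A S₀ B := IsScalarTower.of_algebraMap_eq fun r => (RingHom.congr_fun hcomm r).symm
  haveI : IsLocalHom (algebraMap A B) := ‹IsLocalHom a›
  let 𝔪 := IsLocalRing.maximalIdeal A
  have step : ∀ i, i ≤ d →
      (∀ z : F.X (i - 1), (F.d (i - 1) i).hom z = 0 → ∃ w : F.X (i - 2), (F.d (i - 2) (i - 1)).hom w = z) ∧
        Module.Flat A ((ModuleCat.restrictScalars.{u} a).obj (Hom.coker F i)) := by
    intro i hi
    let N := F.X i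
    let M := F.X (i - 1) ⧸ LinearMap.range (F.d (i - 2) (i - 1)).hom
    haveI := (hF i).1; haveI := (hF i).2; haveI := (hF (i - 1)).1; haveI := (hF (i - 1)).2
    haveI := (hF (i - 2)).1
    haveI : Module.FinitePresentation B (F.X (i - 1)) := Module.finitePresentation_of_projective B _
    letI : Module A N := Module.compHom _ a
    haveI : IsScalarTower A B N := IsScalarTower.of_algebraMap_smul fun _ _ => rfl
    letI : Module A M := Module.compHom _ a
    haveI : IsScalarTower A B M := IsScalarTower.of_algebraMap_smul fun _ _ => rfl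
    haveI : Module.Flat A N :=
      haveI : Module.Flat B (F.X i) := inferInstance
      flat_res ha (F.X i)
    haveI : Module.FinitePresentation B M := Module.finitePresentation_of_surjective
      (Submodule.mkQ _) (Submodule.mkQ_surjective _) (by
        rw [Submodule.ker_mkQ, LinearMap.range_eq_map]
        exact Module.Finite.fg_top.map _)
    haveI : Module.FinitePresentation B N := Module.finitePresentation_of_projective B (F.X i)
    let u : M →ₗ[B] N := (LinearMap.range (F.d (i - 2) (i - 1)).hom).liftQ (F.d (i - 1) i).hom (by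
      rintro _ ⟨w, rfl⟩
      exact congr($(F.d_comp_d (i - 2) (i - 1) i).hom w))
    have hu : ∀ x : M, u x ∈ 𝔪.map (algebraMap A B) • (⊤ : Submodule B N) →
        x ∈ 𝔪.map (algebraMap A B) • (⊤ : Submodule B M) := by
      intro x hx
      obtain ⟨p, rfl⟩ := Submodule.mkQ_surjective _ x
      have hx' : (F.d (i - 1) i).hom p ∈ 𝔪.map a • (⊤ : Submodule B (F.X i)) := hx
      obtain ⟨e1, e2⟩ : i - 1 + 1 = i ∧ i - 1 - 1 = i - 2 := ⟨by omega, by omega⟩
      obtain ⟨w, hw⟩ := exists_of_exactAt_tens (G := RingRelPC.resCx a F) 𝔪 (i - 1) (h (i - 1) (by omega))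
        (show (ModuleCat.restrictScalars.{u} a).obj (F.X (i - 1)) from p) (by
          refine (smul_top_iff a 𝔪 (F.X (i - 1 + 1)) ((F.d (i - 1) (i - 1 + 1)).hom p)).2 ?_
          rw [e1]; exact hx')
      have hw' := (smul_top_iff a 𝔪 (F.X (i - 1)) _).1 hw
      have h3 : (Submodule.mkQ (LinearMap.range (F.d (i - 2) (i - 1)).hom)) p =
          (Submodule.mkQ (LinearMap.range (F.d (i - 2) (i - 1)).hom))
            (p - (F.d (i - 1 - 1) (i - 1)).hom w) := by
        rw [map_sub, eq_comm, sub_eq_self, Submodule.mkQ_apply, Submodule.Quotient.mk_eq_zero]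
        revert w
        rw [e2]
        exact fun w _ _ => ⟨w, rfl⟩
      rw [h3]
      exact (Submodule.map_le_iff_le_comap.1 (le_of_eq_of_le (Submodule.map_smul'' _ _ _)
        (Submodule.smul_mono le_rfl le_top))) hw'
    obtain ⟨hinj, hflat⟩ := H1CAlg.InjModMax.injective_and_flat_coker (R := A) (S₀ := S₀) (S := B) Mon u hu
    refine ⟨fun z hz => ?_, ?_⟩
    · have : u (Submodule.Quotient.mk z) = 0 := hz
      rw [← map_zero u] at this
      exact (Submodule.Quotient.mk_eq_zero _).1 (hinj this)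
    · have hr : LinearMap.range u = LinearMap.range (F.d (i - 1) i).hom := Submodule.range_liftQ _ _ _
      let e : (N ⧸ LinearMap.range u) ≃ₗ[B] Hom.coker F i := Submodule.quotEquivOfEq _ _ hr
      exact Module.Flat.of_linearEquiv (R := A)
        (N := (ModuleCat.restrictScalars.{u} a).obj (Hom.coker F i))
        ({ e.toAddEquiv with map_smul' := fun r x => e.map_smul (a r) x } :
          (N ⧸ LinearMap.range u) ≃ₗ[A] ((ModuleCat.restrictScalars.{u} a).obj (Hom.coker F i))).symm
  refine ⟨fun i hi => ?_, (step d le_rfl).2⟩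
  rw [HomologicalComplex.exactAt_iff' _ (i - 1) i (i + 1) (by simp) (by simp),
    ShortComplex.moduleCat_exact_iff]
  intro z hz
  obtain ⟨e1, e2⟩ : i + 1 - 1 = i ∧ i + 1 - 2 = i - 1 := ⟨by omega, by omega⟩
  have key := (step (i + 1) (by omega)).1
  rw [e1, e2] at key
  exact key z hz

end Groth.Agent.H8Props.LowTor
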