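import Groth.Agent.H8Props.NilThickStalk
import Groth.Agent.H10Coh.AffineAmple
import Groth.Agent.H10Coh.Support
import Groth.Agent.H16Derived.KFlat.PerfFibre

/-!
# Pseudo-coherence along nilpotent thickenings
-/

set_option autoImplicit false
set_option linter.style.haveILetI false
set_option backward.isDefEq.respectTransparency false

universe u

open CategoryTheory CategoryTheory.Limits CategoryTheory.Pretriangulated AlgebraicGeometry TopologicalSpace

attribute [local instance] HasDerivedCategory.standard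

namespace Groth.Agent.H8Props.NilThick

open H16Derived.KFlat H16Derived.KFlat.Stalk H06Mod

variable {X : Scheme.{u}}

theorem exactAt_iff_isZero_HD (P : CochainComplex X.Modules ℤ) (i : ℤ) :
    P.ExactAt i ↔ IsZero (DCoh.HD (DCoh.toD X P) i) := by
  rw [HomologicalComplex.exactAt_iff_isZero_homology]
  exact ((DerivedCategory.homologyFunctorFactors X.Modules i).app P).isZero_iff.symm

theorem exactAt_restrict {U : Scheme.{u}} (j : U ⟶ X) [IsOpenImmersion j]
    {P : CochainComplex X.Modules ℤ} {i : ℤ} (h : P.ExactAt i) :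
    (((Scheme.Modules.restrictFunctor j).mapHomologicalComplex (ComplexShape.up ℤ)).obj P).ExactAt i := by
  rw [HomologicalComplex.exactAt_iff] at h ⊢
  exact h.map (Scheme.Modules.restrictFunctor j)

theorem isFinLocFree_cycles {E : CochainComplex X.Modules ℤ} (hE : DCoh.IsStrictlyPerfect E) (b : ℤ)
    (h : ∀ i, b < i → E.ExactAt i) : ∀ i, b ≤ i → FlatMod.IsFinLocFree (E.cycles i) := by
  obtain ⟨⟨lo, hi, hv⟩, hf⟩ := hE
  have key : ∀ n : ℕ, ∀ i, b ≤ i → hi + 1 ≤ i + n → FlatMod.IsFinLocFree (E.cycles i) := by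
    intro n
    induction n with
    | zero =>
      exact fun i _ hn => isFinLocFree_of_isZero
        (IsZero.of_mono (E.iCycles i) (hv i (Or.inr (by omega))))
    | succ n ih =>
      intro i hb hn
      have hz := ih (i + 1) (by omega) (by omega)
      haveI : Epi (E.toCycles i (i + 1)) := by
        refine Preadditive.epi_of_isZero_cokernel' _
          (E.homologyIsCokernel i (i + 1) (by simp)) ?_
        exact ((HomologicalComplex.exactAt_iff_isZero_homology _ _).1 (h (i + 1) (by omega)))
      exact Stalk.isFinLocFree_of_iso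
        ((kernelCompMono (E.toCycles i (i + 1)) (E.iCycles (i + 1))).symm ≪≫
          kernel.mapIso _ _ (Iso.refl _) (Iso.refl _) (by simp) ≪≫
          (kernelIsKernel (E.d i (i + 1))).conePointUniqueUpToIso (E.cyclesIsKernel i (i + 1) (by simp)))
        (H10Coh.Tw.isFinLocFree_kernel (E.toCycles i (i + 1)) (hf i) hz)
  exact fun i hb => key ((hi + 1 - i).toNat) i hb (by omega)

/-- The top cohomology of a pseudo-coherent complex is of finite type. -/
theorem isFT_homology_top {m b : ℤ} (hmb : m ≤ b) {Q : CochainComplex X.Modules ℤ}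
    (h : DCoh.IsPseudoCoherentD m (DCoh.toD X Q)) (hQ : ∀ i, b < i → Q.ExactAt i) :
    CohB1.IsFT (Q.homology b) := by
  refine isFT_of_local fun x => ?_
  obtain ⟨V, hx, E, α, hE, hα⟩ := (isPseudoCoherentD_iff _ _).1 h x
  refine ⟨_, V.ι, inferInstance, ⟨⟨x, hx⟩, rfl⟩, ?_⟩
  have hEx : ∀ i, b < i → E.ExactAt i := fun i hi => by
    rw [exactAt_iff_isZero_HD]
    haveI := hα.1 i (by omega)
    refine IsZero.of_iso ?_ (asIso ((DerivedCategory.homologyFunctor _ i).map α))
    exact IsZero.of_iso ((Scheme.Modules.restrictFunctor V.ι).map_isZero ((exactAt_iff_isZero_HD Q i).1 (hQ i hi)))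
      (homologyRdIso V.ι (DCoh.toD X Q) i)
  haveI : Epi ((DerivedCategory.homologyFunctor _ b).map α) := by
    rcases eq_or_lt_of_le hmb with rfl | hlt
    · exact hα.2
    · haveI := hα.1 b hlt; infer_instance
  exact isFT_of_epi ((E.homologyπ b ≫ (DerivedCategory.homologyFunctorFactors _ b).inv.app E ≫
      (DerivedCategory.homologyFunctor _ b).map α) ≫ (homologyRdIso V.ι (DCoh.toD X Q) b).hom ≫
      (Scheme.Modules.restrictFunctor V.ι).map ((DerivedCategory.homologyFunctorFactors X.Modules b).hom.app Q))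
    (H29Fitt.isFT_of_isFP _ (H8Props.FinLocFree.isFP_of_isFinLocFree _
      (isFinLocFree_cycles hE b hEx b le_rfl)))

/-- Generators of the cycles of a complex at a point, as sections. -/
theorem exists_sections_generate (P : CochainComplex X.Modules ℤ) (b : ℤ) (x : X)
    (h : Module.Finite (X.presheaf.stalk x) (((stalkCx x).obj P).homology b)) :
    ∃ (n : ℕ) (W : X.Opens) (hx : x ∈ W) (s : Fin n → Γ(P.X b, W)),
      (∀ k, (P.d b (b + 1)).app W (s k) = 0) ∧
      ∀ z : ((stalkCx x).obj P).X b, ((stalkCx x).obj P).d b (b + 1) z = 0 →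
        ∃ (c : Fin n → X.presheaf.stalk x) (w : ((stalkCx x).obj P).X (b - 1)),
          z = ∑ k, c k • (show ((stalkCx x).obj P).X b from (P.X b).presheaf.germ W x hx (s k)) +
            ((stalkCx x).obj P).d (b - 1) b w := by
  classical
  let K := (stalkCx x).obj P
  let S := K.sc' (b - 1) b (b + 1)
  haveI : Module.Finite (X.presheaf.stalk x) (K.sc b).homology := h
  haveI : Module.Finite (X.presheaf.stalk x) (LinearMap.ker S.g.hom ⧸ LinearMap.range S.moduleCatToCycles) :=
    Module.Finite.equiv ((K.isoSc' (b - 1) b (b + 1) (by simp) (by simp) |>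
      ShortComplex.homologyMapIso) ≪≫ S.moduleCatHomologyIso).toLinearEquiv
  obtain ⟨n, v, hv⟩ := Module.Finite.exists_fin (R := X.presheaf.stalk x)
    (M := LinearMap.ker S.g.hom ⧸ LinearMap.range S.moduleCatToCycles)
  choose a ha using fun k => Submodule.mkQ_surjective (LinearMap.range S.moduleCatToCycles) (v k)
  choose U hU t ht using fun k => (P.X b).presheaf.exists_germ_eq (x := x) (a k).1
  have hz : ∀ k, ∃ (V : X.Opens) (hV : V ≤ U k), x ∈ V ∧
      (P.d b (b + 1)).app V ((P.X b).presheaf.map (homOfLE hV).op (t k)) = 0 := fun k => by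
    have h0 : (P.X (b + 1)).presheaf.germ (U k) x (hU k) ((P.d b (b + 1)).app (U k) (t k)) =
        (P.X (b + 1)).presheaf.germ (U k) x (hU k) 0 := by
      rw [map_zero, ← DerSch.stalkFunctor_map_germ]
      exact (congrArg _ (ht k)).trans (a k).2
    obtain ⟨V, hxV, iV, iV', e⟩ := TopCat.Presheaf.germ_eq _ x (hU k) (hU k) _ _ h0
    refine ⟨V, iV.le, hxV, ?_⟩
    rw [map_zero] at e
    exact (NatTrans.naturality_apply ((Scheme.Modules.toPresheaf X).map (P.d b (b + 1)))
      (homOfLE iV.le).op (t k)).trans e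
  choose V hV hxV hVd using hz
  let W := Finset.univ.inf V
  have hxW : x ∈ W := H10Coh.finset_inf_mem _ V fun k _ => hxV k
  have hWV : ∀ k, W ≤ V k := fun k => Finset.inf_le (Finset.mem_univ k)
  refine ⟨n, W, hxW, fun k => (P.X b).presheaf.map (homOfLE ((hWV k).trans (hV k))).op (t k), fun k => ?_, ?_⟩
  · refine (NatTrans.naturality_apply ((Scheme.Modules.toPresheaf X).map (P.d b (b + 1)))
      (homOfLE ((hWV k).trans (hV k))).op (t k)).trans ?_
    have e2 := (NatTrans.naturality_apply ((Scheme.Modules.toPresheaf X).map (P.d b (b + 1)))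
      (homOfLE (hV k)).op (t k)).symm.trans (hVd k)
    exact (map_map_apply (P.X (b + 1)) (hV k) (hWV k) _).symm.trans ((congrArg _ e2).trans (map_zero _))
  · intro z hz
    let zz : LinearMap.ker S.g.hom := ⟨z, hz⟩
    have hmem : Submodule.Quotient.mk (p := LinearMap.range S.moduleCatToCycles) zz ∈
        Submodule.span (X.presheaf.stalk x) (Set.range v) := hv ▸ Submodule.mem_top
    obtain ⟨c, hc⟩ := (Submodule.mem_span_range_iff_exists_fun _).1 hmem
    have hd : zz - ∑ k, c k • a k ∈ LinearMap.range S.moduleCatToCycles := by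
      rw [← Submodule.Quotient.mk_eq_zero, Submodule.Quotient.mk_sub, ← Submodule.mkQ_apply _ (∑ k, c k • a k),
        map_sum, ← hc, sub_eq_zero]
      exact Finset.sum_congr rfl fun k _ => by rw [map_smul, ha]
    obtain ⟨w, hw⟩ := hd
    refine ⟨c, (show K.X (b - 1) from w), ?_⟩
    have h1 : (show K.X b from S.f w) = z - ∑ k, c k • (show K.X b from (a k).1) := by
      have := congrArg Subtype.val hw
      rw [AddSubgroupClass.coe_sub, AddSubmonoidClass.coe_finsetSum] at this
      simpa [zz] using this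
    show z = _ + (show K.X b from S.f w)
    rw [h1, Finset.sum_congr rfl fun k _ => congrArg (c k • ·) (show
      (show K.X b from (P.X b).presheaf.germ W x hxW
        ((P.X b).presheaf.map (homOfLE ((hWV k).trans (hV k))).op (t k))) = (a k).1 from
      (TopCat.Presheaf.germ_res_apply (P.X b).presheaf _ x hxW (t k)).trans (ht k))]
    abel

/-- A free complex in degree `b` with a cone which is exact in degree `b` at a point. -/
theorem exists_attach (P : CochainComplex X.Modules ℤ) (b : ℤ) (x : X)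
    (h : Module.Finite (X.presheaf.stalk x) (((stalkCx x).obj P).homology b)) :
    ∃ (W : X.Opens) (hx : x ∈ W) (L : (W : Scheme.{u}).Modules) (_ : FlatMod.IsFinLocFree L)
      (g : (HomologicalComplex.single (W : Scheme.{u}).Modules (ComplexShape.up ℤ) b).obj L ⟶
        (DCoh.restrictCx W).obj P),
      ((stalkCx (⟨x, hx⟩ : W)).obj (CochainComplex.mappingCone g)).ExactAt b := by
  classical
  obtain ⟨n, W, hx, s, hs0, hs⟩ := exists_sections_generate P b x h
  let y : W := ⟨x, hx⟩
  let F : (W : Scheme.{u}).Modules := (P.X b).restrict W.ι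
  have htop : W.ι ''ᵁ ⊤ = W := by rw [Scheme.Hom.image_top_eq_opensRange, Scheme.Opens.opensRange_ι]
  let σ : Fin n → Γ(F, ⊤) := fun k => (P.X b).presheaf.map (homOfLE htop.le).op (s k)
  let φ : FlatMod.freeMod (W : Scheme.{u}) n ⟶ F := Sigma.desc fun k => sectHom F (σ k)
  have hφ : φ ≫ ((DCoh.restrictCx W).obj P).d b (b + 1) = 0 := by
    refine Sigma.hom_ext _ _ fun k => ?_
    rw [comp_zero, ← Category.assoc, show Sigma.ι _ k ≫ φ = sectHom F (σ k) from Sigma.ι_desc _ _]
    refine unit_hom_ext _ _ ?_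
    show (P.d b (b + 1)).app (W.ι ''ᵁ ⊤) ((sectHom F (σ k)).app ⊤ (1 : Γ((W : Scheme.{u}), ⊤))) = 0
    refine (congrArg ((P.d b (b + 1)).app (W.ι ''ᵁ ⊤)) (sectHom_app_top F (σ k))).trans ?_
    refine (NatTrans.naturality_apply ((Scheme.Modules.toPresheaf X).map (P.d b (b + 1)))
      (homOfLE htop.le).op (s k)).trans ?_
    exact (congrArg _ (hs0 k)).trans (map_zero _)
  let g : (HomologicalComplex.single (W : Scheme.{u}).Modules (ComplexShape.up ℤ) b).obj
      (FlatMod.freeMod (W : Scheme.{u}) n) ⟶ (DCoh.restrictCx W).obj P :=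
    HomologicalComplex.mkHomFromSingle φ fun j hj => by
      obtain rfl : b + 1 = j := hj
      exact hφ
  refine ⟨W, hx, _, fun w => ⟨⊤, n, trivial,
    ⟨(Scheme.Modules.restrictFunctorIsoPullback _).app _ ≪≫ freeModPullbackIso _ n⟩⟩, g, ?_⟩
  let S := DerSch.stalkFunctor (W : Scheme.{u}) y
  refine HomologicalComplex.ExactAt.of_iso ?_
    (CochainComplex.mappingCone.mapHomologicalComplexIso g S).symm
  refine exactAt_mappingCone _ b (S.map_isZero (HomologicalComplex.isZero_single_obj_X _ _ _ _ (by omega)))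
    fun z hz => ?_
  let E := rsE W.ι
  have hz' : ((stalkCx x).obj P).d b (b + 1) (E (P.X b) y z) = 0 := by
    refine (rsE_map W.ι (P.d b (b + 1)) y z).symm.trans ?_
    exact (congrArg (E (P.X (b + 1)) y) hz).trans (map_zero _)
  obtain ⟨c, w, hcw⟩ := hs _ hz'
  let r : Fin n → (W : Scheme.{u}).presheaf.stalk y := fun k => (W.ι.stalkMap y).hom (c k)
  let u : (k : Fin n) → S.obj (FlatMod.freeMod (W : Scheme.{u}) n) := fun k =>
    S.map (Sigma.ι (fun _ : Fin n => Coh.structureModule (W : Scheme.{u})) k)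
      ((Coh.structureModule (W : Scheme.{u})).presheaf.germ ⊤ y trivial (1 : Γ((W : Scheme.{u}), ⊤)))
  let q := HomologicalComplex.singleObjXSelf (ComplexShape.up ℤ) b (FlatMod.freeMod (W : Scheme.{u}) n)
  refine ⟨S.map q.inv (∑ k, r k • u k), (E (P.X (b - 1)) y).symm w, ?_, ?_⟩
  · exact @Subsingleton.elim _ (ModuleCat.subsingleton_of_isZero
      (S.map_isZero (HomologicalComplex.isZero_single_obj_X _ _ _ _ (by omega)))) _ _
  · refine (E (P.X b) y).injective ?_
    rw [hcw, map_add]
    refine congrArg₂ (· + ·) ?_ ?_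
    · have hg : S.map (g.f b) (S.map q.inv (∑ k, r k • u k)) = S.map φ (∑ k, r k • u k) := by
        rw [← ConcreteCategory.comp_apply, ← Functor.map_comp]
        have : q.inv ≫ g.f b = φ := by
          rw [show g.f b = q.hom ≫ φ from HomologicalComplex.mkHomFromSingle_f _ _]
          exact Iso.inv_hom_id_assoc _ _
        rw [this]
        rfl
      refine Eq.trans ?_ (congrArg (E (P.X b) y) hg).symm
      rw [map_sum, map_sum]
      refine Finset.sum_congr rfl fun k _ => ?_
      rw [map_smul]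
      refine Eq.trans ?_ (rsE_smul W.ι (P.X b) y (c k) _).symm
      refine congrArg (c k • ·) ?_
      have h1 : S.map φ (u k) = F.presheaf.germ ⊤ y trivial (σ k) := by
        show S.map φ (S.map _ _) = _
        rw [← ConcreteCategory.comp_apply, ← Functor.map_comp, Sigma.ι_desc,
          DerSch.stalkFunctor_map_germ]
        exact congrArg _ (sectHom_app_top F (σ k))
      refine Eq.trans ?_ (congrArg (E (P.X b) y) h1).symm
      refine Eq.trans ?_ (rsE_germ W.ι (P.X b) y ⊤ trivial (σ k)).symm
      exact (TopCat.Presheaf.germ_res_apply (P.X b).presheaf (homOfLE htop.le) x ⟨y, trivial, rfl⟩ (s k)).symm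
    · refine Eq.trans ?_ (rsE_map W.ι (P.d (b - 1) b) y _).symm
      rw [AddEquiv.apply_symm_apply]
      rfl

/-- The pullback of a restriction. -/
noncomputable def pullRestrictIso {X Y : Scheme.{u}} (i : X ⟶ Y) (W : Y.Opens)
    (P : CochainComplex Y.Modules ℤ) :
    (pullCx (i ∣_ W)).obj ((DCoh.restrictCx W).obj P) ≅
      (DCoh.restrictCx (i ⁻¹ᵁ W)).obj ((pullCx i).obj P) :=
  (pullbackRestrictCxIso i W P).symm

theorem exists_opens_preimage {X Y : Scheme.{u}} {i : X ⟶ Y} (hi : Nil i) (V : X.Opens) :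
    ∃ W : Y.Opens, i ⁻¹ᵁ W = V := by
  haveI := hi.closed
  obtain ⟨W, hW, e⟩ := i.isClosedEmbedding.isInducing.isOpen_iff.1 V.2
  exact ⟨⟨W, hW⟩, Opens.ext e⟩

theorem isPseudoCoherentD_restrict {m : ℤ} {P : CochainComplex X.Modules ℤ}
    (h : DCoh.IsPseudoCoherentD m (DCoh.toD X P)) (W : X.Opens) :
    DCoh.IsPseudoCoherentD m (DCoh.toD (W : Scheme.{u}) ((DCoh.restrictCx W).obj P)) :=
  isPseudoCoherentD_of_iso ((rdQ W.ι).app P) (isPseudoCoherentD_rd W.ι h)

/-- Induction on the length. -/
theorem pc_of_pullback (m : ℤ) : ∀ (k : ℕ) {X Y : Scheme.{u}} (i : X ⟶ Y) (_ : Nil i)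
    (P : CochainComplex Y.Modules ℤ) (_ : kflat Y P) (_ : ∀ j, m - 1 + k < j → P.ExactAt j)
    (_ : DCoh.IsPseudoCoherentD m (DCoh.toD X ((pullCx i).obj P))),
    DCoh.IsPseudoCoherentD m (DCoh.toD Y P)
  | 0, X, Y, i, _, P, _, hex, _ => by
    haveI : DerivedCategory.IsLE (DCoh.toD Y P) (m - 1) := (DerivedCategory.isLE_iff _ _).2 fun j hj =>
      (exactAt_iff_isZero_HD P j).1 (hex j (by omega))
    exact isPseudoCoherentD_of_isLE (m - 1) m (by omega)
  | k + 1, X, Y, i, hi, P, hP, hex, hpc => by
    let b := m + (k : ℤ)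
    let Q := (pullCx i).obj P
    have hQ : ∀ j, b < j → Q.ExactAt j := fun j hj => (exactAt_iff_stalks Q j).2 fun x =>
      exactAt_stalk_pull i hP b x (fun l hl => (exactAt_iff_stalks P l).1 (hex l (by omega)) _) j hj
    have hft : CohB1.IsFT (Q.homology b) := isFT_homology_top (by omega) hpc hQ
    refine isPseudoCoherentD_of_rd fun y => ?_
    obtain ⟨x, rfl⟩ := hi.surj y
    obtain ⟨W, hxW, L, hL, g, hg⟩ :=
      exists_attach P b (i.base x) (hi.finite_stalk_homology hP b hQ hft x)
    let i₁ := i ∣_ W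
    let E := (HomologicalComplex.single (W : Scheme.{u}).Modules (ComplexShape.up ℤ) b).obj L
    have hE : DCoh.IsStrictlyPerfect E :=
      ⟨⟨b, b, fun l hl => HomologicalComplex.isZero_single_obj_X _ _ _ _ (by omega)⟩, fun l => by
        by_cases hl : l = b
        · subst hl
          exact Stalk.isFinLocFree_of_iso (HomologicalComplex.singleObjXSelf (ComplexShape.up ℤ) _ L).symm hL
        · exact isFinLocFree_of_isZero (HomologicalComplex.isZero_single_obj_X _ _ _ _ hl)⟩
    let C := CochainComplex.mappingCone g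
    have hC : kflat (W : Scheme.{u}) C :=
      (kflat_of_isStrictlyPerfect hE).mappingCone g (kflat_restrict W hP)
    have hi₁ : Nil i₁ := hi.restrict W
    let x₁ : (i ⁻¹ᵁ W : X.Opens) := ⟨x, hxW⟩
    let QC := (pullCx i₁).obj C
    have hQCpc : DCoh.IsPseudoCoherentD m (DCoh.toD _ QC) := by
      refine isPseudoCoherentD_of_iso (DerivedCategory.Q.mapIso
        (CochainComplex.mappingCone.mapHomologicalComplexIso g (Scheme.Modules.pullback i₁)).symm) ?_
      exact isPseudoCoherentD_obj₃ (DerivedCategory.mappingCone_triangle_distinguished _)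
        (isPseudoCoherentD_of_isPerfect (isPerfect_toD (isStrictlyPerfect_pullback i₁ hE)) _)
        (isPseudoCoherentD_of_iso (DerivedCategory.Q.mapIso (pullRestrictIso i W P).symm)
          (isPseudoCoherentD_restrict hpc (i ⁻¹ᵁ W)))
    have hCex : ∀ j, b < j → C.ExactAt j := fun j hj => by
      rw [exactAt_iff_stalks]
      intro w
      refine HomologicalComplex.ExactAt.of_iso ?_
        (CochainComplex.mappingCone.mapHomologicalComplexIso g (DerSch.stalkFunctor _ w)).symm
      refine exactAt_mappingCone _ j ((DerSch.stalkFunctor _ w).map_isZero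
        (HomologicalComplex.isZero_single_obj_X _ _ _ _ (by omega))) fun z hz => ?_
      have h1 := (exactAt_iff_stalks _ j).1 (exactAt_restrict W.ι (hex j (by omega))) w
      rw [HomologicalComplex.exactAt_iff' _ (j - 1) j (j + 1) (by simp) (by simp),
        ShortComplex.moduleCat_exact_iff] at h1
      obtain ⟨v, hv⟩ := h1 z hz
      exact ⟨0, v, map_zero _, by rw [map_zero, zero_add]; exact hv.symm⟩
    have hQCex : ∀ j, b < j → QC.ExactAt j := fun j hj => (exactAt_iff_stalks QC j).2 fun w =>
      exactAt_stalk_pull i₁ hC b w (fun l hl => (exactAt_iff_stalks C l).1 (hCex l hl) _) j hj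
    have hx0 : Subsingleton ((QC.homology b).presheaf.stalk x₁) := by
      have h1 := exactAt_stalk_pull i₁ hC (b - 1) x₁ (fun l hl => by
        rcases eq_or_lt_of_le (show b ≤ l by omega) with rfl | hl'
        · have ex : i₁.base x₁ = (⟨i.base x, hxW⟩ : W) :=
            Subtype.ext (congr($(morphismRestrict_ι i W).base x₁))
          rw [ex]
          exact hg
        · exact (exactAt_iff_stalks C l).1 (hCex l hl') _) b (by omega)
      rw [HomologicalComplex.exactAt_iff_isZero_homology] at h1
      exact ModuleCat.subsingleton_of_isZero (h1.of_iso (stalkHomologyIso QC b x₁).symm)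
    obtain ⟨V, hxV, hV⟩ :=
      H10Coh.exists_nhd_isZero _ (isFT_homology_top (by omega) hQCpc hQCex) x₁ hx0
    obtain ⟨W', hW'⟩ := exists_opens_preimage hi₁ V
    have hxW' : i₁.base x₁ ∈ W' := by
      show x₁ ∈ i₁ ⁻¹ᵁ W'
      rw [hW']; exact hxV
    let C' := (DCoh.restrictCx W').obj C
    have hC' : kflat (W' : Scheme.{u}) C' := kflat_restrict W' hC
    have hC'pc : DCoh.IsPseudoCoherentD m (DCoh.toD (W' : Scheme.{u}) C') := by
      refine pc_of_pullback m k (i₁ ∣_ W') (hi₁.restrict W') C' hC' ?_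
        (isPseudoCoherentD_of_iso (DerivedCategory.Q.mapIso (pullRestrictIso i₁ W' C).symm)
          (isPseudoCoherentD_restrict hQCpc (i₁ ⁻¹ᵁ W')))
      refine (hi₁.restrict W').exactAt_of_pull hC' (m - 1 + k) fun j hj => ?_
      refine HomologicalComplex.ExactAt.of_iso ?_ (pullRestrictIso i₁ W' C).symm
      rcases eq_or_lt_of_le (show b ≤ j by omega) with rfl | hj'
      · rw [HomologicalComplex.exactAt_iff_isZero_homology]
        rw [hW']
        exact hV.of_iso ((QC.sc _).mapHomologyIso (Scheme.Modules.restrictFunctor V.ι))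
      · exact exactAt_restrict _ (hQCex j hj')
    -- `P` is pseudo-coherent near the point
    let W'' := W.ι ''ᵁ W'
    have hxW'' : i.base x ∈ W'' := ⟨_, hxW', congr($(morphismRestrict_ι i W).base x₁)⟩
    let j₀ := W'.ι ≫ W.ι
    have hP' : DCoh.IsPseudoCoherentD m (DCoh.toD (W' : Scheme.{u})
        ((DCoh.restrictCx W').obj ((DCoh.restrictCx W).obj P))) := by
      let g' := (DCoh.restrictCx W').map g
      have hcone : DCoh.IsPseudoCoherentD m (DCoh.toD _ (CochainComplex.mappingCone g')) :=
        isPseudoCoherentD_of_iso (DerivedCategory.Q.mapIso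
          (CochainComplex.mappingCone.mapHomologicalComplexIso g (Scheme.Modules.restrictFunctor W'.ι))) hC'pc
      exact isPseudoCoherentD_obj₃ (inv_rot_of_distTriang _
          (DerivedCategory.mappingCone_triangle_distinguished g'))
        (isPseudoCoherentD_shift hcone (-1) (m + 1) (by omega))
        (isPseudoCoherentD_of_isPerfect (isPerfect_toD (isStrictlyPerfect_rd W'.ι hE)) _)
    refine ⟨j₀.opensRange, ⟨⟨_, hxW'⟩, congr($(morphismRestrict_ι i W).base x₁)⟩, ?_⟩
    have e : DerivedCategory.Q.obj ((DCoh.restrictCx W').obj ((DCoh.restrictCx W).obj P)) ≅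
        (rd j₀).obj (DCoh.toD Y P) :=
      DerivedCategory.Q.mapIso ((NatIso.mapHomologicalComplex
        (Scheme.Modules.restrictFunctorComp W'.ι W.ι).symm (ComplexShape.up ℤ)).app P) ≪≫
        ((rdQ j₀).app P).symm
    exact isPseudoCoherentD_of_iso
      (rdComp j₀.isoOpensRange.inv j₀ j₀.opensRange.ι j₀.isoOpensRange_inv_comp _).symm
      (isPseudoCoherentD_rd j₀.isoOpensRange.inv (isPseudoCoherentD_of_iso e hP'))

/-- Pseudo-coherence is detected along a nilpotent surjective closed immersion. -/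
theorem isPseudoCoherentD_of_pullback {X Y : Scheme.{u}} (i : X ⟶ Y) (hi : Nil i)
    [DCoh.HasLpull i] (K : DCoh.D Y) (m : ℤ)
    (h : DCoh.IsPseudoCoherentD m ((DCoh.Lpull i).obj K)) : DCoh.IsPseudoCoherentD m K := by
  obtain ⟨P, hP, ⟨e⟩⟩ := exists_kflat_rep K
  have hQ : DCoh.IsPseudoCoherentD m (DCoh.toD X ((pullCx i).obj P)) :=
    isPseudoCoherentD_of_iso ((DCoh.Lpull i).mapIso e.symm ≪≫ lpullObjIso i P hP) h
  refine isPseudoCoherentD_of_iso e (isPseudoCoherentD_of_rd fun y => ?_)
  obtain ⟨x, rfl⟩ := hi.surj y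
  obtain ⟨V, hxV, hV⟩ := (isPseudoCoherentD_iff m _).1 hQ x
  obtain ⟨b, hb⟩ := hV.exists_isLE
  obtain ⟨W, rfl⟩ := exists_opens_preimage hi V
  refine ⟨W, hxV, isPseudoCoherentD_of_iso ((rdQ W.ι).app P).symm ?_⟩
  refine pc_of_pullback m (b + 1 - m).toNat (i ∣_ W) (hi.restrict W) _ (kflat_restrict W hP) ?_
    (isPseudoCoherentD_of_iso (DerivedCategory.Q.mapIso (pullRestrictIso i W P).symm)
      (isPseudoCoherentD_restrict hQ (i ⁻¹ᵁ W)))
  refine (hi.restrict W).exactAt_of_pull (kflat_restrict W hP) _ fun j hj => ?_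
  refine HomologicalComplex.ExactAt.of_iso ?_ (pullRestrictIso i W P).symm
  rw [exactAt_iff_isZero_HD]
  exact (DerivedCategory.isZero_of_isLE
    ((rd (i ⁻¹ᵁ W).ι).obj (DCoh.toD X ((pullCx i).obj P))) b j (by omega)).of_iso
    ((DerivedCategory.homologyFunctor _ j).mapIso ((rdQ (i ⁻¹ᵁ W).ι).app ((pullCx i).obj P)).symm)

end Groth.Agent.H8Props.NilThick
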