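import Groth.Agent.H4DR.TorAmp.NilpotentPC
import Groth.Agent.H4DR.TorAmp.Exists
import Groth.Agent.H8Props.RingRelPCDescend

/-!
# K-flat complexes and nilpotent surjections of rings: top cohomology
-/

set_option autoImplicit false
set_option linter.style.haveILetI false
set_option backward.isDefEq.respectTransparency false

universe u

open CategoryTheory CategoryTheory.Limits

attribute [local instance] HasDerivedCategory.standard

namespace Groth.Agent.H8Props.NilThick

open H4DR H4DR.TorAmp

variable {R R' : Type u} [CommRing R] [CommRing R'] {φ : R' →+* R}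

/-- A representative with projective terms of a K-flat complex without cohomology above `b`, and its base
change. -/
theorem exists_projRep_ext (φ : R' →+* R) {P : DRing.Cx R'} (hP : KF R' P) (b : ℤ)
    (h : ∀ i, b < i → P.ExactAt i) :
    ∃ P₁ : DRing.Cx R', IsProjRep P₁ b ∧ Nonempty (DRing.toD P₁ ≅ DRing.toD P) ∧
      Nonempty (DRing.toD (RingRelPC.extCx φ P₁) ≅ DRing.toD (RingRelPC.extCx φ P)) := by
  haveI := hasLBaseChange φ
  obtain ⟨P₁, hP₁, ⟨e⟩⟩ := exists_projRep (c := b) fun i hi => (subsingleton_HD_toD_iff P i).2 (h i hi)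
  exact ⟨P₁, hP₁, ⟨e⟩, ⟨(lbaseObj φ P₁ (isKFlat_of_flat hP₁.above hP₁.flat)).symm ≪≫
    (DRing.LBaseChange φ).mapIso e ≪≫ lbaseObj φ P hP⟩⟩

theorem exactAt_congr {P Q : DRing.Cx R} (e : DRing.toD P ≅ DRing.toD Q) (i : ℤ) :
    P.ExactAt i ↔ Q.ExactAt i := by
  rw [← subsingleton_HD_toD_iff, ← subsingleton_HD_toD_iff]
  exact ⟨fun h => (PCoh.hEquiv i e.symm).injective.subsingleton,
    fun h => (PCoh.hEquiv i e).injective.subsingleton⟩

/-- Extension of scalars preserves vanishing above a degree. -/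
theorem exactAt_extCx (φ : R' →+* R) {P : DRing.Cx R'} (hP : KF R' P) (b : ℤ)
    (h : ∀ i, b < i → P.ExactAt i) (i : ℤ) (hi : b < i) : (RingRelPC.extCx φ P).ExactAt i := by
  obtain ⟨P₁, hP₁, -, ⟨e⟩⟩ := exists_projRep_ext φ hP b h
  exact (exactAt_congr e i).1 ((HomologicalComplex.exactAt_iff _ _).2
    (ShortComplex.exact_of_isZero_X₂ _
      ((ModuleCat.extendScalars.{u, u, u} φ).map_isZero (hP₁.above i hi))))

/-- Vanishing above a degree is detected along a nilpotent surjection. -/
theorem exactAt_of_extCx (hφ : Function.Surjective φ) (hnil : IsNilpotent (RingHom.ker φ))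
    {P : DRing.Cx R'} (hP : KF R' P) (b : ℤ) (h : ∀ i, b < i → (RingRelPC.extCx φ P).ExactAt i)
    (i : ℤ) (hi : b < i) : P.ExactAt i := by
  haveI := hasLBaseChange φ
  obtain ⟨P', hP', hflat, ⟨e⟩⟩ := exists_kflatRep (DRing.toD P)
  let eQ : DRing.toD (RingRelPC.extCx φ P') ≅ DRing.toD (RingRelPC.extCx φ P) :=
    (lbaseObj φ P' hP').symm ≪≫ (DRing.LBaseChange φ).mapIso e ≪≫ lbaseObj φ P hP
  have hQ : KF R (RingRelPC.extCx φ P') := H25DTen.isKFlat_extCx φ hP'
  obtain ⟨n, hn⟩ := hnil
  refine (exactAt_congr e i).1 (exactAt_of_exactAt_tens_unit ?_)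
  refine exactAt_tens_of_pow hflat (RingHom.ker φ) i (fun M hM => ?_) n _ (by
    rw [hn, Submodule.zero_eq_bot, Submodule.bot_smul])
  refine exactAt_tens_of_surjective hφ M hM ?_
  intro N
  obtain ⟨P₁, hP₁, ⟨e₁⟩⟩ := exists_projRep (c := b) fun j hj =>
    (subsingleton_HD_toD_iff _ j).2 ((exactAt_congr eQ j).2 (h j hj))
  obtain ⟨f, hf, -⟩ := exists_qis hP₁ e₁
  have := quasiIso_tens f (isKFlat_of_flat hP₁.above hP₁.flat) hQ N
  haveI := this.quasiIsoAt i
  exact (exactAt_iff_of_quasiIsoAt ((tens N).map f) i).1 ((HomologicalComplex.exactAt_iff _ _).2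
    (ShortComplex.exact_of_isZero_X₂ _ ((MonoidalCategory.tensorRight N).map_isZero (hP₁.above i hi))))

/-- The top cohomology is finite if its reduction is. -/
theorem finite_homology_top (hφ : Function.Surjective φ) (hnil : IsNilpotent (RingHom.ker φ))
    {P : DRing.Cx R'} (hP : KF R' P) (b : ℤ) (h : ∀ i, b < i → (RingRelPC.extCx φ P).ExactAt i)
    (hf : Module.Finite R ((RingRelPC.extCx φ P).homology b)) : Module.Finite R' (P.homology b) := by
  obtain ⟨P₁, hP₁, ⟨e⟩, ⟨e'⟩⟩ := exists_projRep_ext φ hP b (exactAt_of_extCx hφ hnil hP b h)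
  let F := fun (S : Type u) [CommRing S] => DerivedCategory.homologyFunctorFactors (ModuleCat.{u} S) b
  have hz : ∀ i, b < i → IsZero ((RingRelPC.extCx φ P₁).X i) := fun i hi =>
    (ModuleCat.extendScalars.{u, u, u} φ).map_isZero (hP₁.above i hi)
  haveI : Module.Finite R ((HomologicalComplex.homologyFunctor (ModuleCat.{u} R) (ComplexShape.up ℤ) b).obj
      (RingRelPC.extCx φ P)) := hf
  haveI : Module.Finite R (Hom.coker (RingRelPC.extCx φ P₁) b) :=
    Module.Finite.equiv ((((F R).app (RingRelPC.extCx φ P)).symm ≪≫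
      (DerivedCategory.homologyFunctor _ b).mapIso e'.symm ≪≫ (F R).app _ ≪≫
      Hom.homologyTopIso b (hz _ (lt_add_one _))).toLinearEquiv)
  haveI : Module.Finite R' (Hom.coker P₁ b) :=
    finite_of_extend_finite hφ hnil _ (finite_extend_coker b ‹_›)
  exact Module.Finite.equiv (((Hom.homologyTopIso b (hP₁.above _ (lt_add_one _))).symm ≪≫
    ((F R').app P₁).symm ≪≫ (DerivedCategory.homologyFunctor _ b).mapIso e ≪≫
    (F R').app P).toLinearEquiv)

/-- Exactness of a mapping cone in a degree `i` where cycles come from the source up to boundaries. -/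
theorem exactAt_mappingCone {E P : DRing.Cx R} (g : E ⟶ P) (i : ℤ) (hE : IsZero (E.X (i + 1)))
    (h : ∀ z : P.X i, P.d i (i + 1) z = 0 → ∃ (e : E.X i) (w : P.X (i - 1)),
      E.d i (i + 1) e = 0 ∧ z = g.f i e + P.d (i - 1) i w) :
    (CochainComplex.mappingCone g).ExactAt i := by
  open CochainComplex.mappingCone in
  rw [HomologicalComplex.exactAt_iff' _ (i - 1) i (i + 1) (by simp) (by simp),
    ShortComplex.moduleCat_exact_iff]
  intro c hc
  let p : P.X i := (CochainComplex.mappingCone.snd g).v i i (add_zero i) c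
  have hc0 : c = (CochainComplex.mappingCone.inr g).f i p := by
    have hid := congr($(CochainComplex.mappingCone.id_X g i (i + 1) rfl).hom c)
    refine hid.symm.trans ?_
    haveI := ModuleCat.subsingleton_of_isZero hE
    show (CochainComplex.mappingCone.inl g).v (i + 1) i (by omega)
        ((CochainComplex.mappingCone.fst g).1.v i (i + 1) rfl c) + _ = _
    rw [Subsingleton.elim ((CochainComplex.mappingCone.fst g).1.v i (i + 1) rfl c) 0, map_zero, zero_add]
    rfl
  have hp : P.d i (i + 1) p = 0 := by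
    have h1 := congr($((CochainComplex.mappingCone.inr g).comm i (i + 1)).hom p)
    have h2 : (CochainComplex.mappingCone.inr g).f (i + 1) (P.d i (i + 1) p) = 0 := by
      refine h1.symm.trans ?_
      show (CochainComplex.mappingCone g).d i (i + 1) ((CochainComplex.mappingCone.inr g).f i p) = 0
      rw [← hc0]
      exact hc
    have h3 := congr($(CochainComplex.mappingCone.inr_f_snd_v g (i + 1)).hom (P.d i (i + 1) p))
    refine h3.symm.trans ?_
    show ((CochainComplex.mappingCone.snd g).v (i + 1) (i + 1) (add_zero _)).hom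
      ((CochainComplex.mappingCone.inr g).f (i + 1) (P.d i (i + 1) p)) = 0
    rw [h2, map_zero]
  obtain ⟨e, w, he, hz⟩ := h p hp
  refine ⟨(CochainComplex.mappingCone.inl g).v i (i - 1) (by omega) e +
    (CochainComplex.mappingCone.inr g).f (i - 1) w, ?_⟩
  show (CochainComplex.mappingCone g).d (i - 1) i (_ + _) = c
  have h1 := congr($(CochainComplex.mappingCone.inl_v_d g i (i - 1) (i + 1) (by omega) (by omega)).hom e)
  have h2 := congr($((CochainComplex.mappingCone.inr g).comm (i - 1) i).hom w)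
  rw [map_add, hc0, hz, map_add]
  refine congrArg₂ (· + ·) ?_ h2
  refine h1.trans ?_
  show (CochainComplex.mappingCone.inr g).f i (g.f i e) -
    (CochainComplex.mappingCone.inl g).v (i + 1) i (by omega) (E.d i (i + 1) e) = _
  rw [he, map_zero, sub_zero]

end Groth.Agent.H8Props.NilThick
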