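import Groth.Agent.H8Props.NoEmbeddedS1
import Groth.Agent.H06EGA12.ConstrLoci
import Groth.Agent.H06EGA9.FibreMap
import Groth.Agent.H29Fitt.PullbackQCoh
import Groth.Agent.H29Fitt.FP
import Groth.Agent.H17.Fibre

/-!
# The locus of fibres without embedded associated points is locally constructible
-/

set_option autoImplicit false
set_option linter.style.haveILetI false
universe u

open CategoryTheory AlgebraicGeometry Topology

namespace Groth.Agent.H8Props.NoEmbeddedS1

open Groth.Agent

theorem isLocallyConstructible_noEmbedded {X S : Scheme.{u}} (f : X ⟶ S)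
    [LocallyOfFinitePresentation f] [QuasiCompact f]
    (F : X.Modules) (hQ : Coh.IsQCoh F) (hF : CohB1.IsFP F) :
    IsLocallyConstructible
      {s : S | AssSch.NoEmbedded ((Scheme.Modules.pullback (f.fiberι s)).obj F)} := by
  have hE := H06EGA12.isLocallyConstructible_onFibre f F hF
    (H06EGA12.semilinearInvariant_hasSk 1) (H06EGA12.affineOpenDim_hasSk 1)
  convert H06EGA9.isLocallyConstructible_setOf_fibre_subset f hE using 1
  ext s
  haveI := H17.isLocallyNoetherian_fiber f s
  have hP := H06EGA9.isFP_pullback (f.fiberι s) hF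
  rw [Set.mem_setOf_eq, noEmbedded_iff _ (H29Fitt.isQCoh_pullback _ F hQ)
    (fun z => H06Mod.finite_stalk _ (H29Fitt.isFT_of_isFP _ hP) z)]
  constructor
  · intro h x hx
    obtain ⟨z, hz⟩ : x ∈ Set.range (f.fiberι s) := (f.range_fiberι s).symm ▸ hx
    exact (H06EGA12.onFibre_iff_asFiber
      (Φ := fun A _ _ M _ _ => LocCoh.HasSk 1 A M) f F z x hz).1 (h z)
  · intro h z
    exact (H06EGA12.onFibre_iff_asFiber
      (Φ := fun A _ _ M _ _ => LocCoh.HasSk 1 A M) f F z _ rfl).2
      (h ((f.range_fiberι s).subset (Set.mem_range_self z)))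

end Groth.Agent.H8Props.NoEmbeddedS1
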