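import Groth.Agent.H17.AssPts
import Groth.Agent.H1CAlg.Associated
import Groth.Agent.H06Mod.StalkFinite

/-!
# No embedded associated points iff `(S_1)` at every stalk
-/

set_option autoImplicit false
set_option linter.style.haveILetI false
universe u

open CategoryTheory AlgebraicGeometry TopologicalSpace Opposite LocCoh

namespace Groth.Agent.H8Props.NoEmbeddedS1

open Groth.Agent H17.AssPts

variable {X : Scheme.{u}}

/-- The germ of a power of `a`, with `a` a unit at the point, kills nothing. -/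
theorem germ_eq_zero_of_pow (F : X.Modules) {U : X.Opens} {y : X} (hy : y ∈ U) {a : Γ(X, U)}
    (ha : y ∈ X.basicOpen a) {n : ℕ} {s : Γ(F, U)} (h : F.presheaf.germ U y hy (a ^ n • s) = 0) :
    F.presheaf.germ U y hy s = 0 := by
  rw [germ_smul', map_pow] at h
  exact (((isUnit_germ_iff hy a).2 ha).pow n).smul_eq_zero.1 h

theorem noEmbedded_of_hasSk_one [IsLocallyNoetherian X] (F : X.Modules) (hF : Coh.IsQCoh F)
    (hfin : ∀ x, Module.Finite (X.presheaf.stalk x) (F.presheaf.stalk x))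
    (h : ∀ x, HasSk 1 (X.presheaf.stalk x) (F.presheaf.stalk x)) : AssSch.NoEmbedded F := by
  intro x hx y hy hyx
  by_contra hne
  haveI := hfin x
  have hmin := H1CAlg.hasSk_one_iff.1 (h x) _ hx
  have hnot : ¬ x ⤳ y := fun hxy => hne (hxy.antisymm hyx).eq
  obtain ⟨U, hU, hxU, -⟩ := exists_isAffineOpen_mem_and_subset (U := (⊤ : X.Opens)) (x := x) trivial
  have hyU : y ∈ U := hyx.mem_open U.2 hxU
  obtain ⟨a, hay, hax⟩ : ∃ a : Γ(X, U), y ∈ X.basicOpen a ∧ x ∉ X.basicOpen a := by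
    obtain ⟨O, hO, hxO, hyO⟩ : ∃ O : Set X, IsOpen O ∧ y ∈ O ∧ x ∉ O := by
      simpa only [specializes_iff_forall_open, not_forall, exists_prop] using hnot
    obtain ⟨a, ha, hya⟩ := hU.exists_basicOpen_le (V := ⟨O, hO⟩) ⟨y, hxO⟩ hyU
    exact ⟨a, hya, fun hxa => hyO (ha hxa)⟩
  set A := X.presheaf.stalk x
  have hrad : X.presheaf.germ U x hxU a ∈ (Module.annihilator A (F.presheaf.stalk x)).radical := by
    rw [Ideal.radical_eq_sInf, Ideal.mem_sInf]
    rintro J ⟨hJ, hJp⟩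
    have hJm : J = IsLocalRing.maximalIdeal A :=
      le_antisymm (IsLocalRing.le_maximalIdeal hJp.ne_top)
        (hmin.2 ⟨hJp, hJ⟩ (IsLocalRing.le_maximalIdeal hJp.ne_top))
    rw [hJm, IsLocalRing.mem_maximalIdeal, mem_nonunits_iff, isUnit_germ_iff hxU]
    exact hax
  obtain ⟨n, hn⟩ := hrad
  rw [Module.mem_annihilator] at hn
  haveI := nontrivial_stalk_of_ass F hy
  obtain ⟨m, hm⟩ := exists_ne (0 : F.presheaf.stalk y)
  obtain ⟨t, s, ht, hts⟩ := exists_smul_germ_eq F hF hU hyU m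
  have h0 : F.presheaf.germ U x hxU (a ^ n • s) = 0 := by
    rw [germ_smul', map_pow]
    exact hn _
  obtain ⟨t', ht', hts'⟩ := exists_smul_eq_zero_of_germ F hF hU hxU h0
  have h1 := germ_eq_zero_of_pow F hyU hay
    (germ_eq_zero_of_smul F hyU (hyx.mem_open (X.basicOpen t').2 ht') hts')
  rw [h1] at hts
  exact hm (((isUnit_germ_iff hyU t).2 ht).smul_eq_zero.1 hts)

theorem hasSk_one_of_noEmbedded [IsLocallyNoetherian X] (F : X.Modules) (hF : Coh.IsQCoh F)
    (hfin : ∀ x, Module.Finite (X.presheaf.stalk x) (F.presheaf.stalk x)) (h : AssSch.NoEmbedded F)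
    (x : X) : HasSk 1 (X.presheaf.stalk x) (F.presheaf.stalk x) := by
  haveI := hfin x
  rw [H1CAlg.hasSk_one_iff]
  intro p hp
  haveI := hp.isPrime
  have hpsupp : (⟨p, hp.isPrime⟩ : PrimeSpectrum _) ∈ Module.support _ (F.presheaf.stalk x) :=
    H4Depth.mem_support_of_mem_associatedPrimes hp
  rw [Module.support_eq_zeroLocus, PrimeSpectrum.mem_zeroLocus] at hpsupp
  refine ⟨⟨hp.isPrime, hpsupp⟩, fun q ⟨hq, hqann⟩ hqp => ?_⟩
  haveI := hq
  obtain ⟨U, hU, hxU, -⟩ := exists_isAffineOpen_mem_and_subset (U := (⊤ : X.Opens)) (x := x) trivial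
  letI := TopCat.Presheaf.algebra_section_stalk X.presheaf (⟨x, hxU⟩ : U)
  let P₀ := (hU.primeIdealOf ⟨x, hxU⟩).asIdeal
  haveI : IsLocalization P₀.primeCompl (X.presheaf.stalk x) := hU.isLocalization_stalk ⟨x, hxU⟩
  -- the point of `q`, in the support
  have key : ∀ (q : Ideal (X.presheaf.stalk x)), q.IsPrime → ∃ (z : X) (hz : z ∈ U), z ⤳ x ∧
      (hU.primeIdealOf ⟨z, hz⟩).asIdeal = q.comap (algebraMap Γ(X, U) (X.presheaf.stalk x)) := by
    intro q hq'
    obtain ⟨⟨z, hzU⟩, hz⟩ := H29Blow.exists_primeIdealOf_eq hU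
      ⟨q.comap (algebraMap Γ(X, U) (X.presheaf.stalk x)), inferInstance⟩
    refine ⟨z, hzU, (H29Blow.primeIdealOf_le_iff hU ⟨z, hzU⟩ ⟨x, hxU⟩).1 ?_,
      congrArg PrimeSpectrum.asIdeal hz⟩
    rw [show (hU.primeIdealOf ⟨z, hzU⟩).asIdeal = _ from congrArg PrimeSpectrum.asIdeal hz]
    intro a ha
    by_contra hP
    exact Ideal.IsPrime.ne_top hq' (Ideal.eq_top_of_isUnit_mem _ ha
      (IsLocalization.map_units (X.presheaf.stalk x) (⟨a, hP⟩ : P₀.primeCompl)))
  obtain ⟨z, hzU, hzx, hzP⟩ := key p hp.isPrime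
  obtain ⟨w, hwU, hwx, hwQ⟩ := key q hq
  -- `z` is associated
  have hzass : z ∈ AssSch.Ass F := by
    obtain ⟨-, m, hm⟩ := isAssociatedPrime_iff.mp hp
    obtain ⟨t, s, ht, hts⟩ := exists_smul_germ_eq F hF hU hxU m
    have hu := (isUnit_germ_iff hxU t).2 ht
    have hmemp : ∀ a : (X.presheaf.stalk x), a ∈ p ↔ a • F.presheaf.germ U x hxU s = 0 := fun a => by
      rw [hm, Submodule.mem_colon_singleton, Submodule.mem_bot, ← hts, smul_comm]
      exact hu.smul_eq_zero.symm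
    refine (H29Blow.isAssPoint_iff_isWeakAssPoint F z).2
      (isWeakAssPoint_of_minimal F hF hU hzU s ⟨⟨by infer_instance, ?_⟩, ?_⟩).1
    · intro a ha
      rw [LinearMap.mem_ker, LinearMap.toSpanSingleton_apply] at ha
      rw [hzP, Ideal.mem_comap, hmemp]
      change X.presheaf.germ U x hxU a • _ = 0
      rw [← germ_smul', ha, map_zero]
    · rintro Q ⟨hQ, hJQ⟩ hQle a ha
      have ha' : algebraMap Γ(X, U) (X.presheaf.stalk x) a ∈ p := by rw [hzP] at ha; exact ha
      rw [hmemp] at ha'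
      change X.presheaf.germ U x hxU a • _ = 0 at ha'
      rw [← germ_smul'] at ha'
      obtain ⟨t', ht', hts'⟩ := exists_smul_eq_zero_of_germ F hF hU hxU ha'
      have hta : t' * a ∈ Q := hJQ (by
        rw [LinearMap.mem_ker, LinearMap.toSpanSingleton_apply, mul_smul, hts'])
      refine (hQ.mem_or_mem hta).resolve_left fun ht'Q => ?_
      exact (mem_primeIdealOf hU hzU t').1 (hQle ht'Q) (hzx.mem_open (X.basicOpen t').2 ht')
  -- `w` is in the support
  have hwne : Nontrivial (F.presheaf.stalk w) := by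
    have hqsupp : (⟨q, hq⟩ : PrimeSpectrum (X.presheaf.stalk x)) ∈ Module.support (X.presheaf.stalk x) (F.presheaf.stalk x) := by
      rw [Module.support_eq_zeroLocus, PrimeSpectrum.mem_zeroLocus]
      exact hqann
    obtain ⟨m, hm⟩ := Module.mem_support_iff'.1 hqsupp
    obtain ⟨t, s, ht, hts⟩ := exists_smul_germ_eq F hF hU hxU m
    refine nontrivial_of_ne (F.presheaf.germ U w hwU s) 0 fun h0 => ?_
    obtain ⟨t', ht', hts'⟩ := exists_smul_eq_zero_of_germ F hF hU hwU h0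
    have hnq : ∀ b : Γ(X, U), w ∈ X.basicOpen b → algebraMap Γ(X, U) (X.presheaf.stalk x) b ∉ q := fun b hb hmem =>
      (mem_primeIdealOf hU hwU b).1 (hwQ.symm ▸ hmem) hb
    have htq : X.presheaf.germ U x hxU t ∉ q := fun hmem =>
      hq.ne_top (Ideal.eq_top_of_isUnit_mem _ hmem ((isUnit_germ_iff hxU t).2 ht))
    refine hm (algebraMap Γ(X, U) (X.presheaf.stalk x) t' * X.presheaf.germ U x hxU t)
      (fun hmem => (hq.mem_or_mem hmem).elim (hnq t' ht') htq) ?_
    rw [mul_smul, hts]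
    change X.presheaf.germ U x hxU t' • _ = 0
    rw [← germ_smul', hts', map_zero]
  obtain ⟨z', hz', hz'w⟩ := exists_ass_specializes F hF hwne
  have hwz : w ⤳ z := (H29Blow.primeIdealOf_le_iff hU ⟨w, hwU⟩ ⟨z, hzU⟩).1 (by
    rw [hwQ, hzP]; exact Ideal.comap_mono hqp)
  have := h z hzass z' hz' (hz'w.trans hwz)
  subst this
  obtain rfl : w = z := (hwz.antisymm hz'w).eq
  have : p.comap (algebraMap Γ(X, U) (X.presheaf.stalk x)) = q.comap (algebraMap Γ(X, U) (X.presheaf.stalk x)) := hzP.symm.trans hwQ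
  exact ((IsLocalization.map_comap P₀.primeCompl (X.presheaf.stalk x) p).symm.trans
    ((congrArg (Ideal.map (algebraMap Γ(X, U) (X.presheaf.stalk x))) this).trans
      (IsLocalization.map_comap P₀.primeCompl (X.presheaf.stalk x) q))).le

theorem noEmbedded_iff [IsLocallyNoetherian X] (F : X.Modules) (hF : Coh.IsQCoh F)
    (hfin : ∀ x, Module.Finite (X.presheaf.stalk x) (F.presheaf.stalk x)) :
    AssSch.NoEmbedded F ↔ ∀ x, HasSk 1 (X.presheaf.stalk x) (F.presheaf.stalk x) :=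
  ⟨hasSk_one_of_noEmbedded F hF hfin, noEmbedded_of_hasSk_one F hF hfin⟩

end Groth.Agent.H8Props.NoEmbeddedS1
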