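import Groth.Agent.H8Props.PushClosedBasic

/-!
# Pseudo-coherence along closed immersions with pseudo-coherent structure sheaf
-/

set_option autoImplicit false
set_option linter.style.haveILetI false
set_option backward.isDefEq.respectTransparency false

universe u

open CategoryTheory CategoryTheory.Limits AlgebraicGeometry Pretriangulated

attribute [local instance] HasDerivedCategory.standard

namespace Groth.Agent.H8Props.PushPC

open H16Derived.KFlat.Stalk

variable {X Z : Scheme.{u}}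

/-- The middle term of a short exact sequence of pseudo-coherent modules. -/
theorem pc_middle {S : ShortComplex X.Modules} (hS : S.ShortExact) {m : ℤ}
    (h₁ : DCoh.IsPseudoCoherentD m (DCoh.inD X S.X₁))
    (h₃ : DCoh.IsPseudoCoherentD m (DCoh.inD X S.X₃)) :
    DCoh.IsPseudoCoherentD m (DCoh.inD X S.X₂) :=
  isPseudoCoherentD_obj₃ (inv_rot_of_distTriang _ hS.singleTriangle_distinguished)
    (isPseudoCoherentD_shift h₃ (-1) (m + 1) (by omega)) h₁

/-- The middle term of a triangle. -/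
theorem pc_obj₂ {T : Triangle (DCoh.D X)} (hT : T ∈ distTriang (DCoh.D X)) {m : ℤ}
    (h₁ : DCoh.IsPseudoCoherentD m T.obj₁) (h₃ : DCoh.IsPseudoCoherentD m T.obj₃) :
    DCoh.IsPseudoCoherentD m T.obj₂ :=
  isPseudoCoherentD_obj₃ (inv_rot_of_distTriang _ hT)
    (isPseudoCoherentD_shift h₃ (-1) (m + 1) (by omega)) h₁

/-- The direct image of a free module of finite rank. -/
theorem pc_push_freeMod (i : Z ⟶ X) [IsClosedImmersion i] (m : ℤ)
    (h : DCoh.IsPseudoCoherentD m
      (DCoh.inD X ((Scheme.Modules.pushforward i).obj (Coh.structureModule Z)))) (n : ℕ) :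
    DCoh.IsPseudoCoherentD m (DCoh.inD X ((Scheme.Modules.pushforward i).obj (FlatMod.freeMod Z n))) := by
  induction n with
  | zero =>
    refine isPseudoCoherentD_of_isPerfect (isPerfect_inD (isFinLocFree_of_isZero ?_)) m
    exact (Scheme.Modules.pushforward i).map_isZero
      ((IsZero.iff_id_eq_zero _).2 (Sigma.hom_ext _ _ fun j => j.elim0))
  | succ n ih =>
    let A := ∐ fun _ : Fin n => Coh.structureModule Z
    let B := ∐ fun _ : Fin (n + 1) => Coh.structureModule Z
    let ι : A ⟶ B := Sigma.desc fun b => Sigma.ι (fun _ : Fin (n + 1) => Coh.structureModule Z) b.succ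
    let π : B ⟶ Coh.structureModule Z := Sigma.desc fun o => Fin.cases (𝟙 _) (fun _ => 0) o
    have w : ι ≫ π = 0 := Sigma.hom_ext _ _ fun b => by simp [ι, π]
    let S := ShortComplex.mk ι π w
    have sp : S.Splitting :=
      { r := Sigma.desc fun o => Fin.cases 0 (fun b => Sigma.ι (fun _ : Fin n => Coh.structureModule Z) b) o
        s := Sigma.ι (fun _ : Fin (n + 1) => Coh.structureModule Z) 0
        f_r := Sigma.hom_ext _ _ fun b => by simp [S, ι]; exact (Category.comp_id _).symm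
        s_g := by simp [S, π]
        id := Sigma.hom_ext _ _ fun o => by
          cases o using Fin.cases <;>
            simp [S, ι, π, Preadditive.comp_add] <;> exact (Category.comp_id _).symm }
    exact pc_middle (sp.map (Scheme.Modules.pushforward i)).shortExact ih h

/-- Away from the closed subscheme everything is pseudo-coherent. -/
theorem exists_pc_of_notMem (i : Z ⟶ X) [IsClosedImmersion i] (K : DCoh.D Z) (m : ℤ) {x : X}
    (hx : x ∉ Set.range i) :
    ∃ V : X.Opens, x ∈ V ∧ DCoh.IsPseudoCoherentD m ((rd V.ι).obj ((pushD i).obj K)) := by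
  let W : X.Opens := ⟨(Set.range i)ᶜ, i.isClosedEmbedding.isClosed_range.isOpen_compl⟩
  refine ⟨W, hx, isPseudoCoherentD_of_iso (rdPushD i W _).symm ?_⟩
  haveI : ((rd (i ⁻¹ᵁ W).ι).obj K).IsLE (m - 1) := (DerivedCategory.isLE_iff _ _).2 fun j _ =>
    isZero_of_isZero_restrict fun z => (z.2 ⟨z.1, rfl⟩).elim
  haveI := isLE_pushD (i ∣_ W) ((rd (i ⁻¹ᵁ W).ι).obj K) (m - 1)
  exact isPseudoCoherentD_of_isLE (m - 1) m (by omega)

/-- The direct image of a finite locally free module. -/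
theorem pc_push_finLocFree (i : Z ⟶ X) [IsClosedImmersion i] (h : PCStr i) {L : Z.Modules}
    (hL : FlatMod.IsFinLocFree L) (m : ℤ) :
    DCoh.IsPseudoCoherentD m ((pushD i).obj (DCoh.inD Z L)) := by
  refine isPseudoCoherentD_of_rd fun x => ?_
  by_cases hx : x ∈ Set.range i
  · obtain ⟨z, rfl⟩ := hx
    obtain ⟨V, n, hz, ⟨e⟩⟩ := hL z
    obtain ⟨W, hW, hWV⟩ := i.isEmbedding.isInducing.isOpen_iff.1 V.2
    have hle : i ⁻¹ᵁ (⟨W, hW⟩ : X.Opens) ≤ V := fun a ha => hWV.le ha
    refine ⟨⟨W, hW⟩, hWV.ge hz, isPseudoCoherentD_of_iso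
      ((rdPushD i ⟨W, hW⟩ _) ≪≫ (pushD (i ∣_ ⟨W, hW⟩)).mapIso (rdInD _ L)).symm ?_⟩
    refine isPseudoCoherentD_of_iso (pushDInD _ _).symm ?_
    obtain ⟨n', ⟨e'⟩⟩ := FreeNear.mono hle
      (show FreeNear L V from ⟨n, ⟨(Scheme.Modules.restrictFunctorIsoPullback V.ι).symm.app L ≪≫ e⟩⟩)
    exact isPseudoCoherentD_of_iso ((DerivedCategory.singleFunctor _ 0).mapIso
      ((Scheme.Modules.pushforward (i ∣_ ⟨W, hW⟩)).mapIso
        (((Scheme.Modules.restrictFunctorIsoPullback (i ⁻¹ᵁ (⟨W, hW⟩ : X.Opens)).ι).app L ≪≫ e').symm)))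
      (pc_push_freeMod _ m (h.restrict _ m) n')
  · exact exists_pc_of_notMem i _ m hx

theorem isStrictlyPerfect_singleAt {M : X.Modules} (h : FlatMod.IsFinLocFree M) (n : ℤ) :
    DCoh.IsStrictlyPerfect ((CochainComplex.singleFunctor X.Modules n).obj M) := by
  refine ⟨⟨n, n, fun i hi => HomologicalComplex.isZero_single_obj_X _ _ _ _ (by omega)⟩, fun i => ?_⟩
  by_cases hi : i = n
  · subst hi
    exact isFinLocFree_of_iso (HomologicalComplex.singleObjXSelf (ComplexShape.up ℤ) i M).symm h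
  · exact isFinLocFree_of_isZero (HomologicalComplex.isZero_single_obj_X _ _ _ _ hi)

/-- A surjection onto the top cohomology is locally realised by a map from a module placed in that
degree. -/
theorem exists_top_map (K : DCoh.D X) (n : ℤ) [K.IsLE n] {L : X.Modules}
    (hL : FlatMod.IsFinLocFree L) (p : L ⟶ DCoh.HD K n) [Epi p] (x : X) :
    ∃ V : X.Opens, x ∈ V ∧
      ∃ β : (DCoh.inD (V : Scheme.{u}) (L.restrict V.ι))⟦-n⟧ ⟶ (rd V.ι).obj K, Approx n β := by
  obtain ⟨A, B, hA, hB, f, g, w, hT⟩ :=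
    (DerivedCategory.TStructure.t).exists_triangle K (n - 1) n (by omega)
  haveI : DerivedCategory.IsLE A (n - 1) := ⟨hA⟩
  haveI : DerivedCategory.IsGE B n := ⟨hB⟩
  let H := DerivedCategory.homologyFunctor X.Modules
  have hg : Approx (n - 1) g := (approx_iff (rot_of_distTriang _ hT) (n - 1)).2
    ((DerivedCategory.TStructure.t).isLE_shift A (n - 1) 1 (n - 1 - 1))
  haveI : DerivedCategory.IsLE B n := (DerivedCategory.isLE_iff _ _).2 fun i hi => by
    haveI := hg.1 i (by omega)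
    exact (DerivedCategory.isZero_of_isLE K n i hi).of_iso (asIso ((H i).map g)).symm
  obtain ⟨N, ⟨eN⟩⟩ := B.exists_iso_singleFunctor_obj_of_isGE_of_isLE n
  haveI := hg.1 n (by omega)
  let eH : DCoh.HD K n ≅ N := asIso ((H n).map g) ≪≫ (H n).mapIso eN ≪≫ hdSingle N n
  let φ : L ⟶ N := p ≫ eH.hom
  haveI : Epi φ := epi_comp _ _
  let S := DerivedCategory.Q.objPreimage K
  let b : DerivedCategory.Q.obj S ⟶ (DerivedCategory.singleFunctor X.Modules n).obj N :=
    (DerivedCategory.Q.objObjPreimageIso K).hom ≫ g ≫ eN.hom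
  have hb : Approx (n - 1) b :=
    (Approx.of_isIso _ _).comp (hg.comp (Approx.of_isIso _ _))
  let P := (CochainComplex.singleFunctor X.Modules n).obj L
  let γ : DerivedCategory.Q.obj P ⟶ (DerivedCategory.singleFunctor X.Modules n).obj N :=
    (DerivedCategory.singleFunctorIsoCompQ X.Modules n).inv.app L ≫
      (DerivedCategory.singleFunctor X.Modules n).map φ
  have hγ : Approx n γ := by
    refine (Approx.of_isIso _ _).comp ⟨fun i hi => isIso_of_source_target_iso_zero _
      (DerivedCategory.isZero_of_isLE _ n i hi).isoZero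
      (DerivedCategory.isZero_of_isLE _ n i hi).isoZero, ?_⟩
    let e := Functor.isoWhiskerRight (DerivedCategory.singleFunctorIsoCompQ X.Modules n)
        (DerivedCategory.homologyFunctor _ n) ≪≫ Functor.associator _ _ _ ≪≫
      Functor.isoWhiskerLeft (CochainComplex.singleFunctor _ n)
        (DerivedCategory.homologyFunctorFactors _ n) ≪≫
      HomologicalComplex.homologyFunctorSingleIso X.Modules (ComplexShape.up ℤ) n
    exact ((MorphismProperty.epimorphisms _).arrow_mk_iso_iff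
      (Arrow.isoMk (e.app L) (e.app N) (e.hom.naturality φ).symm)).2 (inferInstanceAs (Epi φ))
  obtain ⟨V, β, hx, hβ⟩ := exists_lift (isStrictlyPerfect_singleAt hL n) n
    (fun i hi => HomologicalComplex.isZero_single_obj_X _ _ _ _ (by omega)) b
    (hb.mono (by omega)) γ x
  refine ⟨V, hx, ?_⟩
  haveI : DerivedCategory.IsLE ((rd V.ι).obj K) n := isLE_rd V.ι K n
  let u := (rdQ V.ι).inv.app S ≫ (rd V.ι).map b
  have hu : Approx (n - 1) u := (Approx.of_isIso _ _).comp (hb.map_rd V.ι)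
  have hc : Approx n (DerivedCategory.Q.map β ≫ u) := by
    have e : DerivedCategory.Q.map β ≫ u = (rdQ V.ι).inv.app P ≫ (rd V.ι).map γ := by
      rw [← cancel_epi ((rdQ V.ι).hom.app P)]
      simpa [u] using hβ
    rw [e]
    exact (Approx.of_isIso _ _).comp (hγ.map_rd V.ι)
  let e₁ : (DCoh.inD (V : Scheme.{u}) (L.restrict V.ι))⟦-n⟧ ≅
      DerivedCategory.Q.obj ((DCoh.restrictCx V).obj P) :=
    singleShiftIso _ n ≪≫ (DerivedCategory.singleFunctorIsoCompQ _ n).app _ ≪≫
      DerivedCategory.Q.mapIso ((HomologicalComplex.singleMapHomologicalComplex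
        (Scheme.Modules.restrictFunctor V.ι) (ComplexShape.up ℤ) n).app L).symm
  let e₂ : DerivedCategory.Q.obj ((DCoh.restrictCx V).obj S) ≅ (rd V.ι).obj K :=
    (rdQ V.ι).symm.app S ≪≫ (rd V.ι).mapIso (DerivedCategory.Q.objObjPreimageIso K)
  refine ⟨e₁.hom ≫ DerivedCategory.Q.map β ≫ e₂.hom,
    (Approx.of_isIso _ _).comp (Approx.comp ?_ (Approx.of_isIso _ _))⟩
  let G := DerivedCategory.homologyFunctor (V : Scheme.{u}).Modules
  refine ⟨fun i hi => isIso_of_source_target_iso_zero _ ?_ ?_, ?_⟩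
  · exact ((DerivedCategory.isZero_of_isLE _ n i hi).of_iso
      ((G i).mapIso ((DerivedCategory.singleFunctorIsoCompQ _ n).app _ ≪≫
      DerivedCategory.Q.mapIso ((HomologicalComplex.singleMapHomologicalComplex
        (Scheme.Modules.restrictFunctor V.ι) (ComplexShape.up ℤ) n).app L).symm)).symm).isoZero
  · exact ((DerivedCategory.isZero_of_isLE _ n i hi).of_iso ((G i).mapIso e₂)).isoZero
  · haveI := hu.1 n (by omega)
    haveI := hc.2
    have e : (G n).map (DerivedCategory.Q.map β) =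
        (G n).map (DerivedCategory.Q.map β ≫ u) ≫ inv ((G n).map u) := by
      rw [Functor.map_comp, Category.assoc, IsIso.hom_inv_id, Category.comp_id]
    rw [e]
    exact epi_comp _ _

/-- The same near every point. -/
theorem exists_top_map' (E : DCoh.D Z) (n : ℤ) [E.IsLE n] (z : Z)
    (h : ∃ (V : Z.Opens) (L : (V : Scheme.{u}).Modules) (p : L ⟶ (DCoh.HD E n).restrict V.ι),
      z ∈ V ∧ FlatMod.IsFinLocFree L ∧ Epi p) :
    ∃ (V : Z.Opens) (L : (V : Scheme.{u}).Modules)
      (β : (DCoh.inD (V : Scheme.{u}) L)⟦-n⟧ ⟶ (rd V.ι).obj E),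
      z ∈ V ∧ FlatMod.IsFinLocFree L ∧ Approx n β := by
  obtain ⟨V, L, p, hz, hL, hp⟩ := h
  haveI := hp
  haveI : DerivedCategory.IsLE ((rd V.ι).obj E) n := isLE_rd V.ι E n
  obtain ⟨V', hz', β, hβ⟩ := exists_top_map ((rd V.ι).obj E) n hL
    (p ≫ (homologyRdIso V.ι E n).inv) ⟨z, hz⟩
  let j := V'.ι ≫ V.ι
  let k := j.isoOpensRange.inv
  refine ⟨j.opensRange, (L.restrict V'.ι).restrict k,
    (shiftFunctor _ (-n)).map (rdInD k _).inv ≫ (((rd k).commShiftIso (-n)).app _).inv ≫
      (rd k).map (β ≫ (rdComp V'.ι V.ι j rfl E).inv) ≫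
      (rdComp k j j.opensRange.ι j.isoOpensRange_inv_comp E).inv, ⟨⟨⟨z, hz⟩, hz'⟩, rfl⟩, ?_, ?_⟩
  · exact isFinLocFree_of_iso ((Scheme.Modules.restrictFunctorIsoPullback k).symm.app _)
      (isFinLocFree_pullback k (isFinLocFree_of_iso
        ((Scheme.Modules.restrictFunctorIsoPullback V'.ι).symm.app _) (isFinLocFree_pullback V'.ι hL)))
  · exact (Approx.of_isIso _ _).comp ((Approx.of_isIso _ _).comp
      (((hβ.comp (Approx.of_isIso _ _)).map_rd k).comp (Approx.of_isIso _ _)))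

/-- A finite type direct image gives local generators. -/
theorem exists_epi_of_isFT_push (i : Z ⟶ X) [IsClosedImmersion i] {M : Z.Modules}
    (h : CohB1.IsFT ((Scheme.Modules.pushforward i).obj M)) (z : Z) :
    ∃ (V : Z.Opens) (L : (V : Scheme.{u}).Modules) (p : L ⟶ M.restrict V.ι),
      z ∈ V ∧ FlatMod.IsFinLocFree L ∧ Epi p := by
  obtain ⟨W, L, p, hz, hL, hp⟩ := exists_epi_finLocFree h (i z)
  haveI := hp
  let a := Scheme.Modules.pullbackPushforwardAdjunction (i ∣_ W)
  let q : L ⟶ (Scheme.Modules.pushforward (i ∣_ W)).obj (M.restrict (i ⁻¹ᵁ W).ι) :=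
    p ≫ ((pushRestrictNatIso i W).app M).hom
  haveI : IsIso (a.counit.app (M.restrict (i ⁻¹ᵁ W).ι)) :=
    H16Derived.ProjFormula.isIso_counit_of_isClosedImmersion (i ∣_ W) _
  haveI : Epi q := epi_comp _ _
  refine ⟨i ⁻¹ᵁ W, (Scheme.Modules.pullback (i ∣_ W)).obj L, (a.homEquiv _ _).symm q, hz,
    isFinLocFree_pullback _ hL, ?_⟩
  rw [Adjunction.homEquiv_counit]
  haveI := (Scheme.Modules.pullbackPushforwardAdjunction (i ∣_ W)).isLeftAdjoint
  haveI : Epi ((Scheme.Modules.pullback (i ∣_ W)).map q) := inferInstance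
  exact epi_comp _ _

/-- Pseudo-coherence along a closed immersion, for objects bounded above. -/
theorem pc_iff_of_isLE (m : ℤ) (k : ℕ) :
    ∀ {Z X : Scheme.{u}} (i : Z ⟶ X) [IsClosedImmersion i], PCStr i → ∀ (E : DCoh.D Z),
      E.IsLE (m - 1 + k) →
        (DCoh.IsPseudoCoherentD m E ↔ DCoh.IsPseudoCoherentD m ((pushD i).obj E)) := by
  induction k with
  | zero =>
    intro Z X i _ _ E hE
    haveI := hE
    haveI := isLE_pushD i E (m - 1 + ((0 : ℕ) : ℤ))
    exact ⟨fun _ => isPseudoCoherentD_of_isLE (m - 1 + ((0 : ℕ) : ℤ)) m (by omega),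
      fun _ => isPseudoCoherentD_of_isLE (m - 1 + ((0 : ℕ) : ℤ)) m (by omega)⟩
  | succ k ih =>
    intro Z X i _ hi E hE
    obtain ⟨n, hn⟩ : ∃ n : ℤ, n = m + k := ⟨_, rfl⟩
    haveI : E.IsLE n := by
      have e : m - 1 + ((k + 1 : ℕ) : ℤ) = n := by omega
      rwa [e] at hE
    haveI := isLE_pushD i E n
    -- local generators of the top cohomology, from either side
    have gen : DCoh.IsPseudoCoherentD m E ∨ DCoh.IsPseudoCoherentD m ((pushD i).obj E) → ∀ z : Z,
        ∃ (V : Z.Opens) (L : (V : Scheme.{u}).Modules) (p : L ⟶ (DCoh.HD E n).restrict V.ι),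
          z ∈ V ∧ FlatMod.IsFinLocFree L ∧ Epi p := fun h z => by
      rcases h with h | h
      · exact exists_epi_finLocFree (isFT_HD_of_pc (isPseudoCoherentD_mono h (by omega : m ≤ n))
          fun j hj => DerivedCategory.isZero_of_isLE E n j hj) z
      · refine exists_epi_of_isFT_push i (isFT_of_epi (hdPushD i E n).hom ?_) z
        exact isFT_HD_of_pc (isPseudoCoherentD_mono h (by omega : m ≤ n))
          fun j hj => DerivedCategory.isZero_of_isLE _ n j hj
    -- the statement near a point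
    have step : (∀ z : Z, ∃ (V : Z.Opens) (L : (V : Scheme.{u}).Modules) (p : L ⟶ (DCoh.HD E n).restrict V.ι),
          z ∈ V ∧ FlatMod.IsFinLocFree L ∧ Epi p) →
        ∀ z : Z, ∃ W : X.Opens, i z ∈ W ∧
          (DCoh.IsPseudoCoherentD m ((rd (i ⁻¹ᵁ W).ι).obj E) ↔
            DCoh.IsPseudoCoherentD m ((rd W.ι).obj ((pushD i).obj E))) := fun hg z => by
      obtain ⟨V, L, β, hz, hL, hβ⟩ := exists_top_map' E n z (hg z)
      obtain ⟨W, hW, hWV⟩ := i.isEmbedding.isInducing.isOpen_iff.1 V.2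
      obtain rfl : i ⁻¹ᵁ (⟨W, hW⟩ : X.Opens) = V := TopologicalSpace.Opens.ext hWV
      refine ⟨⟨W, hW⟩, hz, ?_⟩
      obtain ⟨C, g₁, g₂, hT⟩ := distinguished_cocone_triangle β
      have hC : DerivedCategory.IsLE C (m - 1 + (k : ℤ)) := by
        have := (approx_iff hT n).1 hβ
        rwa [show m - 1 + (k : ℤ) = n - 1 by omega]
      have h' := hi.restrict (⟨W, hW⟩ : X.Opens)
      have iC := ih (i ∣_ ⟨W, hW⟩) h' C hC
      have hL₁ : ∀ l, DCoh.IsPseudoCoherentD l ((DCoh.inD _ L)⟦-n⟧) := fun l =>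
        isPseudoCoherentD_shift (isPseudoCoherentD_of_isPerfect (isPerfect_inD hL) (-n + l)) (-n) l rfl
      let P := pushD (i ∣_ (⟨W, hW⟩ : X.Opens))
      have hL₂ : ∀ l, DCoh.IsPseudoCoherentD l (P.obj ((DCoh.inD _ L)⟦-n⟧)) := fun l =>
        isPseudoCoherentD_of_iso ((P.commShiftIso (-n)).app _).symm
          (isPseudoCoherentD_shift (pc_push_finLocFree _ h' hL (-n + l)) (-n) l rfl)
      have hT' := P.map_distinguished _ hT
      constructor
      · intro h
        exact isPseudoCoherentD_of_iso (rdPushD i ⟨W, hW⟩ E).symm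
          (pc_obj₂ hT' (hL₂ m) (iC.1 (isPseudoCoherentD_obj₃ hT (hL₁ (m + 1)) h)))
      · intro h
        exact pc_obj₂ hT (hL₁ m) (iC.2 (isPseudoCoherentD_obj₃ hT' (hL₂ (m + 1))
          (isPseudoCoherentD_of_iso (rdPushD i ⟨W, hW⟩ E) h)))
    constructor
    · intro h
      refine isPseudoCoherentD_of_rd fun x => ?_
      by_cases hx : x ∈ Set.range i
      · obtain ⟨z, rfl⟩ := hx
        obtain ⟨W, hz, e⟩ := step (gen (.inl h)) z
        exact ⟨W, hz, e.1 (isPseudoCoherentD_rd _ h)⟩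
      · exact exists_pc_of_notMem i E m hx
    · intro h
      refine isPseudoCoherentD_of_rd fun z => ?_
      obtain ⟨W, hz, e⟩ := step (gen (.inr h)) z
      exact ⟨i ⁻¹ᵁ W, hz, e.2 (isPseudoCoherentD_rd _ h)⟩

/-- Pseudo-coherence can be tested after direct image along a closed immersion with pseudo-coherent
structure sheaf. -/
theorem pc_pushD_iff (i : Z ⟶ X) [IsClosedImmersion i] (hi : PCStr i) (E : DCoh.D Z) (m : ℤ) :
    DCoh.IsPseudoCoherentD m E ↔ DCoh.IsPseudoCoherentD m ((pushD i).obj E) := by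
  have key : ∀ (W : X.Opens) (n : ℤ), DerivedCategory.IsLE ((rd (i ⁻¹ᵁ W).ι).obj E) n →
      (DCoh.IsPseudoCoherentD m ((rd (i ⁻¹ᵁ W).ι).obj E) ↔
        DCoh.IsPseudoCoherentD m ((rd W.ι).obj ((pushD i).obj E))) := fun W n hn => by
    haveI := hn
    refine (pc_iff_of_isLE m (n - (m - 1)).toNat (i ∣_ W) (hi.restrict W) _
      ((DerivedCategory.isLE_iff _ _).2 fun j hj =>
        DerivedCategory.isZero_of_isLE _ n j (by omega))).trans ?_
    exact ⟨isPseudoCoherentD_of_iso (rdPushD i W E).symm, isPseudoCoherentD_of_iso (rdPushD i W E)⟩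
  constructor
  · intro h
    refine isPseudoCoherentD_of_rd fun x => ?_
    by_cases hx : x ∈ Set.range i
    · obtain ⟨z, rfl⟩ := hx
      obtain ⟨V, hz, hV⟩ := (isPseudoCoherentD_iff _ _).1 h z
      obtain ⟨n, hn⟩ := hV.exists_isLE
      obtain ⟨W, hW, hWV⟩ := i.isEmbedding.isInducing.isOpen_iff.1 V.2
      obtain rfl : i ⁻¹ᵁ (⟨W, hW⟩ : X.Opens) = V := TopologicalSpace.Opens.ext hWV
      exact ⟨⟨W, hW⟩, hz, (key _ n hn).1 (isPseudoCoherentD_rd _ h)⟩
    · exact exists_pc_of_notMem i E m hx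
  · intro h
    refine isPseudoCoherentD_of_rd fun z => ?_
    obtain ⟨W, hz, hV⟩ := (isPseudoCoherentD_iff _ _).1 h (i z)
    obtain ⟨n, hn⟩ := hV.exists_isLE
    haveI := hn
    haveI : ((pushD (i ∣_ W)).obj ((rd (i ⁻¹ᵁ W).ι).obj E)).IsLE n :=
      (DerivedCategory.TStructure.t).isLE_of_iso (rdPushD i W E) n
    exact ⟨i ⁻¹ᵁ W, hz, (key W n (isLE_of_isLE_pushD (i ∣_ W) _ n)).2 (isPseudoCoherentD_rd _ h)⟩

end Groth.Agent.H8Props.PushPC
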