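import Groth.Agent.H28Top.Spectral
import Groth.Agent.H29Blow.PointsOfAffine
import Mathlib.AlgebraicGeometry.ZariskisMainTheorem
import Mathlib.AlgebraicGeometry.Morphisms.QuasiFinite
import Mathlib.AlgebraicGeometry.Morphisms.FinitePresentation
import Mathlib.AlgebraicGeometry.Noetherian
import Mathlib.AlgebraicGeometry.Morphisms.UnderlyingMap
import Mathlib.RingTheory.Finiteness.Ideal

/-!
# Quasi-finite finitely presented slices through closed points of fibres
-/

set_option autoImplicit false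
set_option linter.style.haveILetI false
universe u

open AlgebraicGeometry CategoryTheory CategoryTheory.Limits TopologicalSpace

namespace Groth.Agent.H8Props.QFSlice

variable {X S : Scheme.{u}}

theorem noetherianSpace_fiber (g : X ⟶ S) [LocallyOfFiniteType g] [IsAffine X] [IsAffine S] (s : S) :
    NoetherianSpace (g.fiber s) := by
  haveI : LocallyOfFiniteType (g.fiberToSpecResidueField s) :=
    MorphismProperty.pullback_snd _ _ inferInstance
  haveI : IsLocallyNoetherian (g.fiber s) :=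
    LocallyOfFiniteType.isLocallyNoetherian (g.fiberToSpecResidueField s)
  haveI : IsNoetherian (g.fiber s) := ⟨⟩
  infer_instance

/-- Finitely many functions cut out a closed point of a fibre inside the fibre. -/
theorem exists_finset_cutting (f : X ⟶ S) [LocallyOfFiniteType f] {V : S.Opens} (hV : IsAffineOpen V)
    {U : X.Opens} (hU : IsAffineOpen U) (e : U ≤ f ⁻¹ᵁ V) (x : U)
    (hx : ∀ y : X, f y = f x.1 → x.1 ⤳ y → y = x.1) :
    ∃ T : Finset Γ(X, U), (T : Set Γ(X, U)) ⊆ (hU.primeIdealOf x).asIdeal ∧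
      ∀ y : U, f y.1 = f x.1 → (∀ b ∈ T, y.1 ∉ X.basicOpen b) → y = x := by
  classical
  let g := f.resLE V U e
  haveI : IsAffine U.toScheme := hU
  haveI : IsAffine V.toScheme := hV
  have hg : g ≫ V.ι = U.ι ≫ f := Scheme.Hom.resLE_comp_ι f e
  have hgy : ∀ y : U, g y = g x ↔ f y.1 = f x.1 := fun y => by
    rw [← V.ι.isOpenEmbedding.injective.eq_iff, ← Scheme.Hom.comp_apply, ← Scheme.Hom.comp_apply, hg]
    rfl
  haveI := noetherianSpace_fiber g (g x)
  let Z : Set (g.fiber (g x)) := {g.asFiber x}ᶜ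
  let D : (hU.primeIdealOf x).asIdeal → Set (g.fiber (g x)) :=
    fun b => {z | (g.fiberι (g x) z).1 ∈ X.basicOpen (b : Γ(X, U))}
  have hD : ∀ b, IsOpen (D b) := fun b =>
    (X.basicOpen (b : Γ(X, U))).2.preimage (continuous_subtype_val.comp (g.fiberι (g x)).continuous)
  have hcov : Z ⊆ ⋃ b, D b := by
    intro z hz
    by_contra hn
    simp only [Set.mem_iUnion, not_exists] at hn
    let y := g.fiberι (g x) z
    have hy : f y.1 = f x.1 := (hgy y).mp ((g.range_fiberι (g x)).subset ⟨z, rfl⟩)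
    have hle : (hU.primeIdealOf x).asIdeal ≤ (hU.primeIdealOf y).asIdeal := fun b hb => by
      rw [H29Blow.mem_primeIdealOf_iff]
      exact fun hu => hn ⟨b, hb⟩ ((X.mem_basicOpen b y.1 y.2).mpr hu)
    have hsp : x.1 ⤳ y.1 := by
      have := ((PrimeSpectrum.le_iff_specializes _ _).mp hle).map hU.fromSpec.continuous
      rwa [hU.fromSpec_primeIdealOf, hU.fromSpec_primeIdealOf] at this
    refine hz ((g.fiberι (g x)).isEmbedding.injective ?_)
    rw [Scheme.Hom.fiberι_asFiber]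
    exact Subtype.ext (hx _ hy hsp)
  obtain ⟨T, hT⟩ := (NoetherianSpace.isCompact Z).elim_finite_subcover D hD hcov
  refine ⟨T.image (↑), ?_, fun y hy hyT => ?_⟩
  · intro b hb
    obtain ⟨c, -, rfl⟩ := Finset.mem_image.mp hb
    exact c.2
  by_contra hne
  obtain ⟨z, hz⟩ : y ∈ Set.range (g.fiberι (g x)) := by
    rw [g.range_fiberι]; exact (hgy y).mpr hy
  obtain ⟨b, hb, hzb⟩ := Set.mem_iUnion₂.mp (hT (show z ∈ Z from fun h => hne (by
    rw [← hz, Set.mem_singleton_iff.mp h, Scheme.Hom.fiberι_asFiber])))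
  refine hyT b (Finset.mem_image_of_mem _ hb) ?_
  have : (g.fiberι (g x) z).1 ∈ X.basicOpen (b : Γ(X, U)) := hzb
  rwa [hz] at this

/-- A quasi-finite finitely presented affine slice through a closed point of a fibre. -/
theorem exists_slice (f : X ⟶ S) [LocallyOfFinitePresentation f] {V : S.Opens} (hV : IsAffineOpen V)
    (x : X) (hxV : f x ∈ V) (hx : ∀ y : X, f y = f x → x ⤳ y → y = x) :
    ∃ (W : Scheme.{u}) (h : W ⟶ X), IsAffine W ∧ LocallyOfFinitePresentation (h ≫ f) ∧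
      LocallyQuasiFinite (h ≫ f) ∧ x ∈ Set.range h ∧ Set.range (h ≫ f) ⊆ V := by
  classical
  obtain ⟨_, ⟨U, hU, rfl⟩, hxU, hUle⟩ :=
    X.isBasis_affineOpens.exists_subset_of_mem_open (show x ∈ (f ⁻¹ᵁ V : Set X) from hxV) (f ⁻¹ᵁ V).2
  obtain ⟨T, hTp, hT⟩ := exists_finset_cutting f hV hU hUle ⟨x, hxU⟩ hx
  let J : Ideal Γ(X, U) := Ideal.span (T : Set Γ(X, U))
  let π := CommRingCat.ofHom (Ideal.Quotient.mk J)
  let h₀ : Spec (.of (Γ(X, U) ⧸ J)) ⟶ X := Spec.map π ≫ hU.fromSpec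
  have hh : h₀ ≫ f = Spec.map (f.appLE V U hUle ≫ π) ≫ hV.fromSpec := by
    rw [Category.assoc, ← IsAffineOpen.SpecMap_appLE_fromSpec f hV hU hUle, Spec.map_comp_assoc]
  haveI := hV.isOpenImmersion_fromSpec
  haveI : LocallyOfFinitePresentation (h₀ ≫ f) := by
    rw [hh]
    haveI : LocallyOfFinitePresentation (Spec.map (f.appLE V U hUle ≫ π)) :=
      (HasRingHomProperty.Spec_iff (P := @LocallyOfFinitePresentation)).mpr
        (RingHom.FinitePresentation.comp
          (RingHom.FinitePresentation.of_surjective _ Ideal.Quotient.mk_surjective (by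
            show (RingHom.ker (Ideal.Quotient.mk J)).FG
            rw [Ideal.mk_ker]; exact ⟨T, rfl⟩))
          (HasRingHomProperty.appLE @LocallyOfFinitePresentation f ‹_› ⟨V, hV⟩ ⟨U, hU⟩ hUle))
    infer_instance
  have hJ : J ≤ (hU.primeIdealOf ⟨x, hxU⟩).asIdeal := Ideal.span_le.mpr hTp
  obtain ⟨w, hw⟩ : (hU.primeIdealOf ⟨x, hxU⟩) ∈ Set.range (PrimeSpectrum.comap (Ideal.Quotient.mk J)) := by
    rw [range_comap_of_surjective _ _ Ideal.Quotient.mk_surjective, Ideal.mk_ker]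
    exact hJ
  have hwx : h₀ w = x := by
    show hU.fromSpec (PrimeSpectrum.comap (Ideal.Quotient.mk J) w) = x
    rw [hw, hU.fromSpec_primeIdealOf]
  have hinj : Function.Injective h₀ := by
    haveI := hU.isOpenImmersion_fromSpec
    exact hU.fromSpec.isOpenEmbedding.injective.comp
      (PrimeSpectrum.comap_injective_of_surjective _ Ideal.Quotient.mk_surjective)
  have huniq : ∀ w', (h₀ ≫ f) w' = (h₀ ≫ f) w → w' = w := by
    intro w' hw'
    have hmem : h₀ w' ∈ U := hU.range_fromSpec.subset ⟨_, rfl⟩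
    refine hinj ?_
    rw [hwx]
    refine congrArg Subtype.val (hT ⟨h₀ w', hmem⟩ ?_ fun b hb hb' => ?_)
    · show (h₀ ≫ f) w' = f x
      rw [hw', Scheme.Hom.comp_apply, hwx]
    · have h1 : b ∈ (PrimeSpectrum.comap (Ideal.Quotient.mk J) w').asIdeal := by
        show Ideal.Quotient.mk J b ∈ w'.asIdeal
        rw [Ideal.Quotient.eq_zero_iff_mem.mpr (Ideal.subset_span hb)]
        exact zero_mem _
      haveI := hU.isOpenImmersion_fromSpec
      have h2 : hU.primeIdealOf ⟨h₀ w', hmem⟩ = PrimeSpectrum.comap (Ideal.Quotient.mk J) w' :=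
        hU.fromSpec.isOpenEmbedding.injective (hU.fromSpec_primeIdealOf _)
      rw [← h2, H29Blow.mem_primeIdealOf_iff] at h1
      exact h1 ((X.mem_basicOpen b _ hmem).mp hb')
  have hqf : (h₀ ≫ f).QuasiFiniteAt w := by
    refine Scheme.Hom.quasiFiniteAt_iff_isOpen_singleton_asFiber.mpr ?_
    rw [Set.eq_univ_of_forall (s := {(h₀ ≫ f).asFiber w}) fun z =>
      ((h₀ ≫ f).fiberι _).isEmbedding.injective (by
        rw [Scheme.Hom.fiberι_asFiber]
        exact huniq _ (((h₀ ≫ f).range_fiberι _).subset ⟨z, rfl⟩))]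
    exact isOpen_univ
  obtain ⟨_, ⟨W, hW, rfl⟩, hwW, hWle⟩ := (Spec (.of (Γ(X, U) ⧸ J))).isBasis_affineOpens.exists_subset_of_mem_open
    (u := ((h₀ ≫ f).quasiFiniteLocus : Set _)) hqf (h₀ ≫ f).quasiFiniteLocus.2
  let W₁ : (Spec (CommRingCat.of (Γ(X, U) ⧸ J))).Opens := W
  refine ⟨W₁.toScheme, W₁.ι ≫ h₀, hW, ?_, ?_, ⟨⟨w, hwW⟩, hwx⟩, ?_⟩
  · rw [Category.assoc]; infer_instance
  · rw [Category.assoc]
    refine ((W₁.ι ≫ h₀ ≫ f).quasiFiniteLocus_eq_top_iff).mp (top_unique fun z _ => ?_)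
    rw [Scheme.Hom.quasiFiniteLocus_comp]
    exact hWle z.2
  · rintro _ ⟨z, rfl⟩
    rw [Category.assoc, hh, Scheme.Hom.comp_apply, Scheme.Hom.comp_apply]
    exact hV.range_fromSpec.subset ⟨_, rfl⟩

/-- Every point of the image has a closed point of its fibre above it. -/
theorem exists_closed_in_fibre (f : X ⟶ S) [LocallyOfFiniteType f] (O : X.Opens) {s : S} {x₀ : X}
    (h₀ : f x₀ = s) (hO : x₀ ∈ O) :
    ∃ x : X, x ∈ O ∧ f x = s ∧ ∀ y : X, f y = f x → x ⤳ y → y = x := by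
  subst h₀
  let s := f x₀
  obtain ⟨z, hzO, hz⟩ := nonempty_inter_closedPoints (X := f.fiber s) (Z := f.fiberι s ⁻¹' O)
    ⟨f.asFiber x₀, by simpa [s] using hO⟩ (O.2.preimage (f.fiberι s).continuous).isLocallyClosed
  have hzs : f (f.fiberι s z) = s := (f.range_fiberι s).subset ⟨z, rfl⟩
  refine ⟨f.fiberι s z, hzO, hzs, fun y hy hsp => ?_⟩
  obtain ⟨z', rfl⟩ : y ∈ Set.range (f.fiberι s) := by
    rw [f.range_fiberι]
    show f y = s
    rw [hy, hzs]
  have hz' : z ⤳ z' := (f.fiberι s).isEmbedding.isInducing.specializes_iff.mp hsp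
  rw [Set.mem_singleton_iff.mp (hz'.mem_closed (mem_closedPoints_iff.mp hz) rfl)]

/-- Slices whose images cover `S`, finitely many if `S` is quasi-compact. -/
theorem exists_cover {P : MorphismProperty Scheme.{u}} [IsZariskiLocalAtSource P] (f : X ⟶ S)
    (hsl : ∀ (V : S.Opens) (_ : IsAffineOpen V) (s : S), s ∈ V → ∃ (W : Scheme.{u}) (h : W ⟶ X),
      IsAffine W ∧ LocallyOfFinitePresentation (h ≫ f) ∧ s ∈ Set.range (h ≫ f) ∧
        Set.range (h ≫ f) ⊆ V ∧ P (h ≫ f)) :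
    ∃ (S' : Scheme.{u}) (h : S' ⟶ X), LocallyOfFinitePresentation (h ≫ f) ∧ Surjective (h ≫ f) ∧
      P (h ≫ f) ∧ (CompactSpace S → IsAffine S') := by
  classical
  let 𝒜 := {p : S.affineOpens × S // p.2 ∈ p.1.1}
  choose W h hW hfp hmem hrange hP using fun p : 𝒜 => hsl p.1.1.1 p.1.1.2 p.1.2 p.2
  have key : ∀ {ι : Type u} (i : ι → 𝒜), (∀ s : S, ∃ a, s ∈ Set.range (h (i a) ≫ f)) →
      ∃ (S' : Scheme.{u}) (h : S' ⟶ X), LocallyOfFinitePresentation (h ≫ f) ∧ Surjective (h ≫ f) ∧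
        P (h ≫ f) ∧ (Finite ι → IsAffine S') := by
    intro ι i hcov
    have e : Sigma.desc (fun a => h (i a)) ≫ f = Sigma.desc (fun a => h (i a) ≫ f) :=
      Sigma.hom_ext _ _ fun a => by simp
    refine ⟨∐ fun a => W (i a), Sigma.desc fun a => h (i a), ?_, ?_, ?_, fun _ => ?_⟩
    · rw [e]; exact IsZariskiLocalAtSource.sigmaDesc fun a => hfp (i a)
    · refine ⟨fun s => ?_⟩
      obtain ⟨a, z, hz⟩ := hcov s
      refine ⟨Sigma.ι (fun a => W (i a)) a z, ?_⟩
      rw [← Scheme.Hom.comp_apply, Sigma.ι_desc_assoc]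
      exact hz
    · rw [e]; exact IsZariskiLocalAtSource.sigmaDesc fun a => hP (i a)
    · haveI : ∀ a, IsAffine (W (i a)) := fun a => hW (i a)
      infer_instance
  by_cases hc : CompactSpace S
  swap
  · obtain ⟨S', h', h₁, h₂, h₃, -⟩ := key (fun p : 𝒜 => p) fun s => by
      obtain ⟨_, ⟨V, hV, rfl⟩, hsV, -⟩ :=
        S.isBasis_affineOpens.exists_subset_of_mem_open (Set.mem_univ s) isOpen_univ
      exact ⟨⟨(⟨V, hV⟩, s), hsV⟩, hmem _⟩
    exact ⟨S', h', h₁, h₂, h₃, fun h => absurd h hc⟩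
  have hV : ∀ V : S.affineOpens, ∃ t : Finset 𝒜, ∀ s ∈ V.1, ∃ p ∈ t, s ∈ Set.range (h p ≫ f) := by
    intro V
    haveI : IsAffine V.1.toScheme := V.2
    let 𝒱 := {s : S // s ∈ V.1}
    let q : 𝒱 → 𝒜 := fun s => ⟨(V, s.1), s.2⟩
    have hq : ∀ s, ∃ k : W (q s) ⟶ V.1.toScheme, k ≫ V.1.ι = h (q s) ≫ f := fun s =>
      ⟨IsOpenImmersion.lift V.1.ι (h (q s) ≫ f) (by rw [Scheme.Opens.range_ι]; exact hrange (q s)),
        IsOpenImmersion.lift_fac _ _ _⟩
    choose k hk using hq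
    have hcons : ∀ s, Topology.IsConstructible (Set.range (k s)) := fun s => by
      haveI := hW (q s)
      haveI : LocallyOfFinitePresentation (k s) := by
        haveI : LocallyOfFinitePresentation (k s ≫ V.1.ι) := (hk s).symm ▸ hfp (q s)
        exact MorphismProperty.of_postcomp (W := @LocallyOfFinitePresentation.{u})
          (W' := @IsOpenImmersion.{u}) _ V.1.ι (inferInstanceAs (IsOpenImmersion V.1.ι)) (by assumption)
      rw [← Set.image_univ]
      exact (k s).isConstructible_image Topology.IsConstructible.univ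
    have hcov : (Set.univ : Set V.1.toScheme) ⊆ ⋃ s : 𝒱, Set.range (k s) := fun v _ => by
      obtain ⟨z, hz⟩ := hmem (q ⟨V.1.ι v, V.1.opensRange_ι.le ⟨v, rfl⟩⟩)
      refine Set.mem_iUnion.mpr ⟨⟨V.1.ι v, V.1.opensRange_ι.le ⟨v, rfl⟩⟩, z, ?_⟩
      refine V.1.ι.isOpenEmbedding.injective ?_
      rw [← Scheme.Hom.comp_apply, hk]
      exact hz
    obtain ⟨t, ht⟩ := @IsCompact.elim_finite_subcover V.1.toScheme (constructibleTopology _) _ _
      (@CompactSpace.isCompact_univ _ (constructibleTopology _) (H28Top.compactSpace_constr _))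
      (fun s : 𝒱 => Set.range (k s)) (fun s => H28Top.isOpen_constr_of_isConstructible (hcons s)) hcov
    refine ⟨t.image q, fun s hs => ?_⟩
    obtain ⟨s', hs', z, hz⟩ := Set.mem_iUnion₂.mp (ht (Set.mem_univ (⟨s, hs⟩ : V.1.toScheme)))
    refine ⟨q s', Finset.mem_image_of_mem _ hs', z, ?_⟩
    rw [← hk, Scheme.Hom.comp_apply, hz]
    rfl
  choose tV htV using hV
  obtain ⟨A, hA⟩ := isCompact_univ.elim_finite_subcover (fun V : S.affineOpens => (V.1 : Set S))
    (fun V => V.1.2) (fun s _ => by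
      obtain ⟨_, ⟨V, hV, rfl⟩, hsV, -⟩ :=
        S.isBasis_affineOpens.exists_subset_of_mem_open (Set.mem_univ s) isOpen_univ
      exact Set.mem_iUnion.mpr ⟨⟨V, hV⟩, hsV⟩)
  obtain ⟨S', h', h₁, h₂, h₃, h₄⟩ := key (fun p : {p // p ∈ A.biUnion tV} => p.1) fun s => by
    obtain ⟨V, hV, hsV⟩ := Set.mem_iUnion₂.mp (hA (Set.mem_univ s))
    obtain ⟨p, hp, hsp⟩ := htV V s hsV
    exact ⟨⟨p, Finset.mem_biUnion.mpr ⟨V, hV, hp⟩⟩, hsp⟩
  exact ⟨S', h', h₁, h₂, h₃, fun _ => h₄ inferInstance⟩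

end Groth.Agent.H8Props.QFSlice
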