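import Groth.Agent.H8Props.RelGCI

/-!
# Noetherian approximation of standard syntomic morphisms
-/

set_option autoImplicit false
set_option linter.style.haveILetI false
set_option backward.isDefEq.respectTransparency false
set_option backward.defeqAttrib.useBackward true
universe u

open CategoryTheory Limits AlgebraicGeometry MvPolynomial

namespace Groth.Agent.H8Props.RelGCI

theorem isPullback_model {R A R₀ : Type u} [CommRing R] [CommRing A] [CommRing R₀] [Algebra R A]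
    [Algebra R₀ R] [Algebra R₀ A] [IsScalarTower R₀ R A] {n : ℕ}
    (φ : MvPolynomial (Fin n) R →ₐ[R] A) (hφ : Function.Surjective φ)
    (N : Ideal (MvPolynomial (Fin n) R₀))
    (hN : RingHom.ker φ ≤ N.map (MvPolynomial.map (algebraMap R₀ R)))
    (hN' : N.map (MvPolynomial.map (algebraMap R₀ R)) ≤ RingHom.ker φ) :
    ∃ ψ : MvPolynomial (Fin n) R₀ ⧸ N →+* A,
      IsPullback (Spec.map (CommRingCat.ofHom ψ)) (Spec.map (CommRingCat.ofHom (algebraMap R A)))
        (Spec.map (CommRingCat.ofHom (algebraMap R₀ (MvPolynomial (Fin n) R₀ ⧸ N))))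
        (Spec.map (CommRingCat.ofHom (algebraMap R₀ R))) := by
  let ψ : MvPolynomial (Fin n) R₀ ⧸ N →+* A :=
    Ideal.Quotient.lift N (φ.toRingHom.comp (MvPolynomial.map (algebraMap R₀ R)))
      fun x hx => RingHom.mem_ker.mp (hN' (Ideal.mem_map_of_mem _ hx))
  refine ⟨ψ, ?_⟩
  letI : Algebra (MvPolynomial (Fin n) R₀ ⧸ N) A := ψ.toAlgebra
  haveI : IsScalarTower R₀ (MvPolynomial (Fin n) R₀ ⧸ N) A :=
    IsScalarTower.of_algebraMap_eq (R := R₀) (S := MvPolynomial (Fin n) R₀ ⧸ N) (A := A) fun a => by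
      show algebraMap R₀ A a = φ (MvPolynomial.map (algebraMap R₀ R) (MvPolynomial.C a))
      rw [MvPolynomial.map_C, ← MvPolynomial.algebraMap_eq, AlgHom.commutes, ← IsScalarTower.algebraMap_apply]
  haveI := FibreCriterion.isPushout_model φ hφ N hN (fun _ => rfl)
  exact (isPullback_SpecMap_of_isPushout _ _ _ _
    (CommRingCat.isPushout_of_isPushout R₀ R (MvPolynomial (Fin n) R₀ ⧸ N) A)).flip

theorem isPullback_map {R₀ R : Type u} [CommRing R₀] [CommRing R] [Algebra R₀ R] {n c : ℕ}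
    (F₀ : Fin c → MvPolynomial (Fin n) R₀) (F : Fin c → MvPolynomial (Fin n) R)
    (h : ∀ i, MvPolynomial.map (algebraMap R₀ R) (F₀ i) = F i) :
    ∃ ψ : Synt.RelGCIRing R₀ n c F₀ →+* Synt.RelGCIRing R n c F,
      IsPullback (Spec.map (CommRingCat.ofHom ψ))
        (Spec.map (CommRingCat.ofHom (algebraMap R (Synt.RelGCIRing R n c F))))
        (Spec.map (CommRingCat.ofHom (algebraMap R₀ (Synt.RelGCIRing R₀ n c F₀))))
        (Spec.map (CommRingCat.ofHom (algebraMap R₀ R))) := by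
  obtain rfl : (fun i => MvPolynomial.map (algebraMap R₀ R) (F₀ i)) = F := funext h
  have hker : RingHom.ker (Ideal.Quotient.mkₐ R
      (Ideal.span (Set.range fun i => MvPolynomial.map (algebraMap R₀ R) (F₀ i)))).toRingHom =
      (Ideal.span (Set.range F₀)).map (MvPolynomial.map (algebraMap R₀ R)) := by
    rw [show RingHom.ker (Ideal.Quotient.mkₐ R _).toRingHom = _ from Ideal.mk_ker, Ideal.map_span,
      ← Set.range_comp]
    rfl
  exact isPullback_model (Ideal.Quotient.mkₐ R _) Ideal.Quotient.mk_surjective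
    (Ideal.span (Set.range F₀)) hker.le hker.ge

theorem isPullback_transport {X S A B A₀ B₀ : Scheme.{u}} {f : X ⟶ S} {p : A ⟶ B} {p₀ : A₀ ⟶ B₀}
    {u : A ⟶ A₀} {v : B ⟶ B₀} (h : IsPullback u p p₀ v) (e₁ : X ≅ A) (e₂ : S ≅ B)
    (he : e₁.hom ≫ p = f ≫ e₂.hom) : IsPullback (e₁.hom ≫ u) f p₀ (e₂.hom ≫ v) :=
  h.of_iso' e₁ (Iso.refl _) e₂ (Iso.refl _) (by simp) (by simpa using he) (by simp) (by simp)

theorem finiteType_gamma_spec (A : Type u) [CommRing A] [Algebra ℤ A] [Algebra.FiniteType ℤ A] :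
    Algebra.FiniteType ℤ Γ(Spec (CommRingCat.of A), ⊤) :=
  Algebra.FiniteType.of_surjective
    ({ (Scheme.ΓSpecIso (CommRingCat.of A)).symm.commRingCatIsoToRingEquiv.toRingHom with
       commutes' := fun r => by simp } : A →ₐ[ℤ] Γ(Spec (CommRingCat.of A), ⊤))
    ((Scheme.ΓSpecIso (CommRingCat.of A)).symm.commRingCatIsoToRingEquiv.surjective)

theorem spec_std (A : Type u) [CommRing A] {n c : ℕ} (G : Fin c → MvPolynomial (Fin n) A)
    (hG : Synt.IsRelGCI A n c G) :
    LocallyOfFiniteType (Spec.map (CommRingCat.ofHom (algebraMap A (Synt.RelGCIRing A n c G)))) ∧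
      Synt.IsStandardSyntomic (Spec.map (CommRingCat.ofHom (algebraMap A (Synt.RelGCIRing A n c G)))) := by
  haveI : Algebra.FinitePresentation A (Synt.RelGCIRing A n c G) :=
    Algebra.FinitePresentation.quotient (Submodule.fg_span (Set.finite_range G))
  exact ⟨(HasRingHomProperty.Spec_iff (P := @LocallyOfFiniteType)).mpr
      (RingHom.finiteType_algebraMap.mpr inferInstance),
    A, inferInstance, n, c, G, hG, Iso.refl _, Iso.refl _, by simp⟩

theorem standardSyntomic_approx {X S : Scheme.{u}} (f : X ⟶ S) (hf : Synt.IsStandardSyntomic f) :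
    ∃ (X₀ S₀ : Scheme.{u}) (f₀ : X₀ ⟶ S₀) (g : S ⟶ S₀) (g' : X ⟶ X₀), IsAffine X₀ ∧ IsAffine S₀ ∧
      IsPullback g' f f₀ g ∧ Algebra.FiniteType ℤ Γ(S₀, ⊤) ∧ LocallyOfFiniteType f₀ ∧
      Synt.IsStandardSyntomic f₀ := by
  obtain ⟨R, _, n, c, F, hF, e₁, e₂, he⟩ := hf
  obtain ⟨R₀, F₀, hR₀, hmap, hF₀⟩ := exists_stage F hF
  obtain ⟨ψ, hψ⟩ := isPullback_map F₀ F hmap
  haveI := hR₀
  exact ⟨_, _, _, _, _, inferInstance, inferInstance, isPullback_transport hψ e₁ e₂ he,
    finiteType_gamma_spec R₀, (spec_std R₀ F₀ hF₀).1, (spec_std R₀ F₀ hF₀).2⟩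

end Groth.Agent.H8Props.RelGCI
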