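import Groth.Agent.H8Props.SpecClosedPC
import Groth.Prelude.Def_DerSch2

/-!
# Relative pseudo-coherence: charts
-/

set_option autoImplicit false
set_option linter.style.haveILetI false
set_option backward.isDefEq.respectTransparency false

universe u

open CategoryTheory CategoryTheory.Limits AlgebraicGeometry Pretriangulated

attribute [local instance] HasDerivedCategory.standard

namespace Groth.Agent.H8Props.RelPC

open H16Derived.KFlat.Stalk PushPC

variable {X Y Z : Scheme.{u}}

/-- Direct image along a composition of closed immersions. -/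
noncomputable def pushDComp (f : X ⟶ Y) (g : Y ⟶ Z) (h : X ⟶ Z) [IsClosedImmersion f] [IsClosedImmersion g]
    [IsClosedImmersion h] (e : f ≫ g = h) (K : DCoh.D X) :
    (pushD h).obj K ≅ (pushD g).obj ((pushD f).obj K) :=
  (pushD h).mapIso (DerivedCategory.Q.objObjPreimageIso K).symm ≪≫ pushDQ h _ ≪≫
    DerivedCategory.Q.mapIso ((NatIso.mapHomologicalComplex
      (Scheme.Modules.pushforwardCongr e.symm ≪≫ (Scheme.Modules.pushforwardComp f g).symm)
      (ComplexShape.up ℤ)).app (DerivedCategory.Q.objPreimage K)) ≪≫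
    (pushDQ g (((Scheme.Modules.pushforward f).mapHomologicalComplex _).obj
      (DerivedCategory.Q.objPreimage K))).symm ≪≫
    (pushD g).mapIso ((pushDQ f _).symm ≪≫
      (pushD f).mapIso (DerivedCategory.Q.objObjPreimageIso K))

/-- Charts of affine opens are closed immersions. -/
theorem isClosedImmersion_chartImm {U : X.Opens} (hU : IsAffineOpen U) {R : Type u} [CommRing R]
    {n : ℕ} (φ : MvPolynomial (Fin n) R →+* Γ(X, U)) (hφ : Function.Surjective φ) :
    IsClosedImmersion (DerSch.chartImm U φ) := by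
  haveI : IsIso U.toSpecΓ := by
    rw [← hU.isoSpec_hom]
    infer_instance
  haveI : IsClosedImmersion (Spec.map (CommRingCat.ofHom φ)) :=
    IsClosedImmersion.spec_of_surjective _ hφ
  unfold DerSch.chartImm
  infer_instance

/-- The chart test, through the direct image on derived categories. -/
theorem chartPC_iff {U : X.Opens} {V : Y.Opens} {n : ℕ}
    (φ : MvPolynomial (Fin n) Γ(Y, V) →+* Γ(X, U)) [IsClosedImmersion (DerSch.chartImm U φ)]
    (m : ℤ) (K : DCoh.D X) :
    DerSch.ChartPC m K U V φ ↔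
      DCoh.IsPseudoCoherentD m ((pushD (DerSch.chartImm U φ)).obj ((rd U.ι).obj K)) := by
  let i := DerSch.chartImm U φ
  have e : ∀ G : CochainComplex X.Modules ℤ,
      (pushD i).obj ((rd U.ι).obj (DCoh.toD X G)) ≅
        DCoh.toD _ ((DerSch.pushCx i).obj ((DCoh.restrictCx U).obj G)) := fun G =>
    (pushD i).mapIso ((rdQ U.ι).app G) ≪≫ pushDQ i _
  constructor
  · intro h
    exact isPseudoCoherentD_of_iso ((e _).symm ≪≫
      ((rd U.ι) ⋙ pushD i).mapIso (DerivedCategory.Q.objObjPreimageIso K))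
      (h (DerivedCategory.Q.objPreimage K) ⟨DerivedCategory.Q.objObjPreimageIso K⟩)
  · exact fun h G hG => isPseudoCoherentD_of_iso
      (((rd U.ι) ⋙ pushD i).mapIso hG.some.symm ≪≫ e G) h

/-- Composing a chart with a surjection having finite free syzygies. -/
theorem chartPC_comp_iff {U : X.Opens} (hU : IsAffineOpen U) {V : Y.Opens} {n k : ℕ}
    (φ : MvPolynomial (Fin n) Γ(Y, V) →+* Γ(X, U)) (hφ : Function.Surjective φ)
    (s : MvPolynomial (Fin k) Γ(Y, V) →+* MvPolynomial (Fin n) Γ(Y, V))
    (hs : Function.Surjective s) (hs' : PseudoCoh.RFP s) (m : ℤ) (K : DCoh.D X) :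
    DerSch.ChartPC m K U V (φ.comp s) ↔ DerSch.ChartPC m K U V φ := by
  haveI := isClosedImmersion_chartImm hU φ hφ
  haveI := isClosedImmersion_chartImm hU (φ.comp s) (hφ.comp hs)
  haveI : IsClosedImmersion (Spec.map (CommRingCat.ofHom s)) :=
    IsClosedImmersion.spec_of_surjective _ hs
  have e : DerSch.chartImm U φ ≫ Spec.map (CommRingCat.ofHom s) = DerSch.chartImm U (φ.comp s) := by
    simp only [DerSch.chartImm, Category.assoc, ← Spec.map_comp]
    rfl
  rw [chartPC_iff, chartPC_iff]
  refine Iff.trans ?_ (pc_pushD_iff _ (pcStr_specMap s hs hs') _ m).symm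
  exact ⟨isPseudoCoherentD_of_iso (pushDComp _ _ _ e _),
    isPseudoCoherentD_of_iso (pushDComp _ _ _ e _).symm⟩

/-- Substituting for a block of variables has finite free syzygies. -/
theorem exists_retraction {R : Type u} [CommRing R] {N n k : ℕ} (e : Fin N ≃ Fin k ⊕ Fin n)
    (p : Fin k → MvPolynomial (Fin n) R) :
    ∃ s : MvPolynomial (Fin N) R →+* MvPolynomial (Fin n) R, Function.Surjective s ∧
      PseudoCoh.RFP s ∧ (∀ a, s (MvPolynomial.C a) = MvPolynomial.C a) ∧
      ∀ i, s (MvPolynomial.X i) = Sum.elim p MvPolynomial.X (e i) := by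
  let d := MvPolynomial.renameEquiv R (Equiv.ulift.{u} (α := Fin n))
  let e' : Fin N ≃ ULift.{u} (Fin k) ⊕ ULift.{u} (Fin n) :=
    e.trans (Equiv.sumCongr Equiv.ulift.symm Equiv.ulift.symm)
  let c := MvPolynomial.renameEquiv R e'
  let r : MvPolynomial (ULift.{u} (Fin k) ⊕ ULift.{u} (Fin n)) R →ₐ[R] MvPolynomial (ULift.{u} (Fin n)) R :=
    MvPolynomial.aeval (Sum.elim (fun j => d.symm (p j.down)) MvPolynomial.X)
  have hr : Function.Surjective r := fun y => ⟨MvPolynomial.rename Sum.inr y, by
    simp only [r, MvPolynomial.aeval_rename, Sum.elim_comp_inr, MvPolynomial.aeval_X_left,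
      AlgHom.coe_id, id_eq]⟩
  refine ⟨(d.toAlgHom.toRingHom.comp r.toRingHom).comp c.toAlgHom.toRingHom,
    d.surjective.comp (hr.comp c.surjective),
    (PseudoCoh.rfp_of_bijective _ c.bijective).comp
      ((PseudoCoh.rfp_retract _).comp (PseudoCoh.rfp_of_bijective _ d.bijective)),
    fun a => ?_, fun i => ?_⟩
  · show d (r (c (MvPolynomial.C a))) = MvPolynomial.C a
    rw [← MvPolynomial.algebraMap_eq, ← MvPolynomial.algebraMap_eq, c.commutes, r.commutes, d.commutes]
  · show d (r (c (MvPolynomial.X i))) = _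
    have hc : c (MvPolynomial.X i) = MvPolynomial.X (e' i) := MvPolynomial.rename_X _ _
    rw [hc]
    simp only [r, MvPolynomial.aeval_X]
    rcases h : e i with j | j
    · rw [show e' i = Sum.inl (ULift.up j) by simp only [e', Equiv.trans_apply, h]; rfl, Sum.elim_inl,
        AlgEquiv.apply_symm_apply, Sum.elim_inl]
    · rw [show e' i = Sum.inr (ULift.up j) by simp only [e', Equiv.trans_apply, h]; rfl, Sum.elim_inr,
        Sum.elim_inr]
      exact MvPolynomial.rename_X _ _

/-- Two ring maps comparing charts. -/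
theorem exists_comparison {R A : Type u} [CommRing R] [CommRing A] {n k : ℕ}
    (φ : MvPolynomial (Fin n) R →+* A) (hφ : Function.Surjective φ)
    (ψ : MvPolynomial (Fin k) R →+* A) (hψ : Function.Surjective ψ)
    (hC : φ.comp MvPolynomial.C = ψ.comp MvPolynomial.C) :
    ∃ (s : MvPolynomial (Fin (n + k)) R →+* MvPolynomial (Fin n) R)
      (t : MvPolynomial (Fin (n + k)) R →+* MvPolynomial (Fin k) R),
      (Function.Surjective s ∧ PseudoCoh.RFP s) ∧ (Function.Surjective t ∧ PseudoCoh.RFP t) ∧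
        φ.comp s = ψ.comp t := by
  choose p hp using fun j => hφ (ψ (MvPolynomial.X j))
  choose q hq using fun i => hψ (φ (MvPolynomial.X i))
  obtain ⟨s, hs, hs', hsC, hsX⟩ :=
    exists_retraction (finSumFinEquiv.symm.trans (Equiv.sumComm (Fin n) (Fin k))) p
  obtain ⟨t, ht, ht', htC, htX⟩ := exists_retraction (finSumFinEquiv (m := n) (n := k)).symm q
  refine ⟨s, t, ⟨hs, hs'⟩, ⟨ht, ht'⟩, MvPolynomial.ringHom_ext (fun a => ?_) fun i => ?_⟩
  · simpa [hsC, htC] using congr($hC a)
  · induction i using Fin.addCases <;> simp [hsX, htX, hp, hq]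

/-- The chart test does not depend on the chart. -/
theorem chartPC_congr_chart {U : X.Opens} (hU : IsAffineOpen U) {V : Y.Opens} {n k : ℕ}
    (φ : MvPolynomial (Fin n) Γ(Y, V) →+* Γ(X, U)) (hφ : Function.Surjective φ)
    (ψ : MvPolynomial (Fin k) Γ(Y, V) →+* Γ(X, U)) (hψ : Function.Surjective ψ)
    (hC : φ.comp MvPolynomial.C = ψ.comp MvPolynomial.C) (m : ℤ) (K : DCoh.D X)
    (h : DerSch.ChartPC m K U V φ) : DerSch.ChartPC m K U V ψ := by
  obtain ⟨s, t, ⟨hs, hs'⟩, ⟨ht, ht'⟩, hst⟩ := exists_comparison φ hφ ψ hψ hC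
  have h' := (chartPC_comp_iff hU φ hφ s hs hs' m K).2 h
  rw [hst] at h'
  exact (chartPC_comp_iff hU ψ hψ t ht ht' m K).1 h'

end Groth.Agent.H8Props.RelPC
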