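import Groth.Agent.H8Props.PseudoCoh.RingMap
import Mathlib.RingTheory.Localization.Away.AdjoinRoot
import Mathlib.RingTheory.MvPolynomial.Localization

/-!
# Presentations of basic localisations of polynomial rings
-/

set_option autoImplicit false
set_option linter.style.haveILetI false

universe u

namespace Groth.Agent.H8Props.RelPC

open PseudoCoh

/-- A basic localisation of a polynomial ring in `n` variables is a quotient of the one in `n + 1`
variables with finite free syzygies. -/
theorem exists_presentation_away {R : Type u} [CommRing R] {n : ℕ} (h : MvPolynomial (Fin n) R)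
    (S : Type u) [CommRing S] [Algebra (MvPolynomial (Fin n) R) S] [IsLocalization.Away h S] :
    ∃ s : MvPolynomial (Fin (n + 1)) R →+* S, Function.Surjective s ∧ RFP s ∧
      s.comp MvPolynomial.C = (algebraMap (MvPolynomial (Fin n) R) S).comp MvPolynomial.C := by
  let P := MvPolynomial (Fin n) R
  let p : Polynomial P := Polynomial.C h * Polynomial.X - 1
  have hp : p ∈ nonZeroDivisors (Polynomial P) := by
    nontriviality (MvPolynomial (Fin n) R)
    have h0 : p.coeff 0 = -1 := by simp [p]
    refine Polynomial.mem_nonZeroDivisors_of_trailingCoeff ?_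
    rw [Polynomial.trailingCoeff, Polynomial.natTrailingDegree_eq_zero.mpr (Or.inr (by simp [h0])), h0]
    exact isUnit_one.neg.mem_nonZeroDivisors
  have h1 : RFP (AdjoinRoot.mk p) :=
    rfp_of_span_singleton _ AdjoinRoot.mk_surjective p hp (Ideal.mk_ker)
  let e : AdjoinRoot p ≃ₐ[P] S :=
    (Localization.awayEquivAdjoin h).symm.trans (IsLocalization.algEquiv (Submonoid.powers h) _ _)
  let c := MvPolynomial.finSuccEquiv R n
  refine ⟨(e.toAlgHom.toRingHom.comp (AdjoinRoot.mk p)).comp c.toAlgHom.toRingHom,
    (e.surjective.comp AdjoinRoot.mk_surjective).comp c.surjective,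
    (rfp_of_bijective _ c.bijective).comp (h1.comp (rfp_of_bijective _ e.bijective)), ?_⟩
  refine RingHom.ext fun a => ?_
  show e (AdjoinRoot.mk p (c (MvPolynomial.C a))) = algebraMap P S (MvPolynomial.C a)
  rw [show c (MvPolynomial.C a) = Polynomial.C (MvPolynomial.C a) by simp [c, MvPolynomial.finSuccEquiv_apply],
    ← e.commutes]
  rfl

end Groth.Agent.H8Props.RelPC
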