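import Groth.Agent.H8Props.RelPCTransfer

/-!
# Relative pseudo-coherence and composition with flat morphisms of finite presentation
-/

set_option autoImplicit false
set_option linter.style.haveILetI false
set_option backward.isDefEq.respectTransparency false

universe u

open CategoryTheory CategoryTheory.Limits AlgebraicGeometry Pretriangulated
open scoped TensorProduct

attribute [local instance] HasDerivedCategory.standard

namespace Groth.Agent.H8Props.RelPC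

open H16Derived.KFlat.Stalk PushPC

/-- Adding variables to a surjection with finite free syzygies. -/
theorem rfp_map {P B : Type u} [CommRing P] [CommRing B] (φ : P →+* B) (h : PseudoCoh.RFP φ) (σ : Type) :
    PseudoCoh.RFP (MvPolynomial.map (σ := σ) φ) := by
  letI := φ.toAlgebra
  letI : Algebra (MvPolynomial σ P) (MvPolynomial σ B) := (MvPolynomial.map φ).toAlgebra
  intro k
  refine ((h k).baseChange (MvPolynomial σ P)).of_equiv (LinearEquiv.ofBijective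
    ({ toFun := fun z => MvPolynomial.algebraTensorAlgEquiv P B (TensorProduct.comm P _ _ z)
       map_add' := fun a b => by simp
       map_smul' := fun q z => ?_ } : MvPolynomial σ P ⊗[P] B →ₗ[MvPolynomial σ P] MvPolynomial σ B)
    ((MvPolynomial.algebraTensorAlgEquiv P B).bijective.comp (TensorProduct.comm P _ _).bijective))
  induction z using TensorProduct.induction_on with
  | zero => simp
  | add x y hx hy => simp only [smul_add, map_add, hx, hy]
  | tmul r b =>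
    simp only [TensorProduct.smul_tmul', TensorProduct.comm_tmul, RingHom.id_apply]
    rw [smul_eq_mul, Algebra.smul_def,
      MvPolynomial.algebraTensorAlgEquiv_tmul, MvPolynomial.algebraTensorAlgEquiv_tmul, map_mul, mul_smul_comm]
    rfl

variable {X T S : Scheme.{u}}

/-- Charts over the middle scheme give charts over the base with the same test. -/
theorem exists_chart_trans (a : X ⟶ T) (b : T ⟶ S) [Flat b] [LocallyOfFinitePresentation b]
    {U : X.Opens} (hU : IsAffineOpen U) {W : T.Opens} (hW : IsAffineOpen W) {V : S.Opens}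
    (hV : IsAffineOpen V) (e₁ : U ≤ a ⁻¹ᵁ W) (e₂ : W ≤ b ⁻¹ᵁ V) (e : U ≤ (a ≫ b) ⁻¹ᵁ V) {n : ℕ}
    (ψ : MvPolynomial (Fin n) Γ(T, W) →+* Γ(X, U)) (hψ : DerSch.IsChart a U W e₁ ψ) :
    ∃ (k : ℕ) (χ : MvPolynomial (Fin k) Γ(S, V) →+* Γ(X, U)), DerSch.IsChart (a ≫ b) U V e χ ∧
      ∀ (m : ℤ) (K : DCoh.D X), DerSch.ChartPC m K U V χ ↔ DerSch.ChartPC m K U W ψ := by
  obtain ⟨k, φ, hφ⟩ := exists_isChart b W V e₂ (b.finiteType_appLE hV hW e₂)
  have hr : PseudoCoh.RFP φ := by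
    letI := (b.appLE V W e₂).hom.toAlgebra
    let ψ' : MvPolynomial (Fin k) Γ(S, V) →ₐ[Γ(S, V)] Γ(T, W) :=
      { φ with commutes' := fun x => congr($(hφ.2) x) }
    let d := MvPolynomial.renameEquiv Γ(S, V) (Equiv.ulift.{u} (α := Fin k))
    exact PseudoCoh.RFP.of_comp (PseudoCoh.rfp_of_bijective _ d.bijective)
      (PseudoCoh.rfp_of_isPseudoCoherentHom (PseudoCoh.isPseudoCoherentMor_of_flat b W V hW hV e₂)
        (ψ'.comp d.toAlgHom) (hφ.1.comp d.surjective))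
  let c := (MvPolynomial.renameEquiv Γ(S, V) (finSumFinEquiv (m := n) (n := k)).symm).trans
    (MvPolynomial.sumAlgEquiv Γ(S, V) (Fin n) (Fin k))
  let s : MvPolynomial (Fin (n + k)) Γ(S, V) →+* MvPolynomial (Fin n) Γ(T, W) :=
    (MvPolynomial.map φ).comp c.toAlgHom.toRingHom
  have hs : Function.Surjective s := (MvPolynomial.map_surjective φ hφ.1).comp c.surjective
  have hs' : PseudoCoh.RFP s :=
    (PseudoCoh.rfp_of_bijective _ c.bijective).comp (rfp_map φ hr (Fin n))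
  refine ⟨n + k, ψ.comp s, ⟨hψ.1.comp hs, RingHom.ext fun x => ?_⟩, fun m K => ?_⟩
  · show ψ (MvPolynomial.map φ (c (MvPolynomial.C x))) = _
    rw [← MvPolynomial.algebraMap_eq, c.commutes, MvPolynomial.algebraMap_apply, MvPolynomial.algebraMap_eq,
      MvPolynomial.map_C]
    refine (congr($(hψ.2) _)).trans ?_
    rw [show φ (MvPolynomial.C x) = b.appLE V W e₂ x from congr($(hφ.2) x)]
    exact congr($(Scheme.Hom.appLE_comp_appLE a b V W U e₂ e₁) x)
  · rw [← cpc_iff_chartPC hU (ψ.comp s) (hψ.1.comp hs), ← cpc_iff_chartPC hU ψ hψ.1,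
      cpc_comp_iff hU ψ hψ.1 s hs hs']

/-- Composing with a flat morphism locally of finite presentation. -/
theorem rel_comp_iff (a : X ⟶ T) (b : T ⟶ S) [LocallyOfFiniteType a] [Flat b]
    [LocallyOfFinitePresentation b] (m : ℤ) (E : DCoh.D X) :
    DerSch.IsPseudoCoherentRel (a ≫ b) m E ↔ DerSch.IsPseudoCoherentRel a m E := by
  constructor
  · intro h
    refine ⟨inferInstance, {W | ∃ V : S.affineOpens, (W : T.Opens) ≤ b ⁻¹ᵁ (V : S.Opens)},
      eq_top_iff.2 fun t _ => ?_, fun W hW => ⟨{U | (U : X.Opens) ≤ a ⁻¹ᵁ (W : T.Opens)},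
        le_antisymm (iSup₂_le fun U hU => hU) fun x hx => ?_, fun U _ e => ?_⟩⟩
    · obtain ⟨V, hV, htV, -⟩ := S.isBasis_affineOpens.exists_subset_of_mem_open (Set.mem_univ (b t)) isOpen_univ
      obtain ⟨V, hV', rfl⟩ := hV
      obtain ⟨W, hW, htW, hle⟩ := T.isBasis_affineOpens.exists_subset_of_mem_open htV (b ⁻¹ᵁ V).2
      obtain ⟨W, hW', rfl⟩ := hW
      exact TopologicalSpace.Opens.mem_iSup.2
        ⟨⟨W, hW'⟩, TopologicalSpace.Opens.mem_iSup.2 ⟨⟨⟨V, hV'⟩, hle⟩, htW⟩⟩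
    · obtain ⟨U, hU, hxU, hle⟩ := X.isBasis_affineOpens.exists_subset_of_mem_open hx (a ⁻¹ᵁ (W : T.Opens)).2
      obtain ⟨U, hU', rfl⟩ := hU
      exact TopologicalSpace.Opens.mem_iSup.2 ⟨⟨U, hU'⟩, TopologicalSpace.Opens.mem_iSup.2 ⟨hle, hxU⟩⟩
    · obtain ⟨V, hWV⟩ := hW
      have e' : (U : X.Opens) ≤ (a ≫ b) ⁻¹ᵁ (V : S.Opens) := fun x hx => hWV (e hx)
      obtain ⟨n, ψ, hψ⟩ := exists_isChart a U W e (a.finiteType_appLE W.2 U.2 e)
      obtain ⟨k, χ, hχ, hiff⟩ := exists_chart_trans a b U.2 W.2 V.2 e hWV e' ψ hψ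
      exact ⟨n, ψ, hψ, (hiff m E).1 (chartPC_of_rel h U.2 V.2 e' χ hχ)⟩
  · intro h
    refine ⟨inferInstance, Set.univ, eq_top_iff.2 fun y _ => ?_, fun V _ =>
      ⟨{U | ∃ W : T.affineOpens, (W : T.Opens) ≤ b ⁻¹ᵁ (V : S.Opens) ∧ (U : X.Opens) ≤ a ⁻¹ᵁ (W : T.Opens)},
        le_antisymm (iSup₂_le ?_) fun x hx => ?_, fun U hU e => ?_⟩⟩
    · obtain ⟨W, hW, hyW, -⟩ := S.isBasis_affineOpens.exists_subset_of_mem_open (Set.mem_univ y) isOpen_univ
      obtain ⟨W, hW', rfl⟩ := hW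
      exact TopologicalSpace.Opens.mem_iSup.2
        ⟨⟨W, hW'⟩, TopologicalSpace.Opens.mem_iSup.2 ⟨trivial, hyW⟩⟩
    · rintro U ⟨W, hWV, hUW⟩
      exact fun x hx => hWV (hUW hx)
    · obtain ⟨W, hW, hxW, hle⟩ :=
        T.isBasis_affineOpens.exists_subset_of_mem_open (show a x ∈ b ⁻¹ᵁ (V : S.Opens) from hx) (b ⁻¹ᵁ (V : S.Opens)).2
      obtain ⟨W, hW', rfl⟩ := hW
      obtain ⟨U, hU, hxU, hle'⟩ := X.isBasis_affineOpens.exists_subset_of_mem_open hxW (a ⁻¹ᵁ W).2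
      obtain ⟨U, hU', rfl⟩ := hU
      exact TopologicalSpace.Opens.mem_iSup.2
        ⟨⟨U, hU'⟩, TopologicalSpace.Opens.mem_iSup.2 ⟨⟨⟨W, hW'⟩, hle, hle'⟩, hxU⟩⟩
    · obtain ⟨W, hWV, hUW⟩ := hU
      obtain ⟨n, ψ, hψ⟩ := exists_isChart a U W hUW (a.finiteType_appLE W.2 U.2 hUW)
      obtain ⟨k, χ, hχ, hiff⟩ := exists_chart_trans a b U.2 W.2 V.2 hUW hWV e ψ hψ
      exact ⟨k, χ, hχ, (hiff m E).2 (chartPC_of_rel h U.2 W.2 hUW ψ hψ)⟩

end Groth.Agent.H8Props.RelPC
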