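import Groth.Agent.S6940
import Groth.Agent.H26Dual2.PolyTower
import Groth.Agent.H8Props.RelPC
import Groth.Agent.H4DR.PCoh.Modules
import Groth.Prelude.Def_DerCA
import Mathlib.RingTheory.AdjoinRoot

/-!
# Relative pseudo-coherence of complexes of modules
-/

set_option autoImplicit false
set_option linter.style.haveILetI false

universe u

open CategoryTheory CategoryTheory.Limits

attribute [local instance] HasDerivedCategory.standard

namespace Groth.Agent.H8Props.RingRelPC

open PseudoCoh

variable {P Q A B C : Type u} [CommRing P] [CommRing Q] [CommRing A] [CommRing B] [CommRing C]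

/-- Pseudo-coherence after restriction along `ψ`. -/
abbrev Via (ψ : P →+* A) (m : ℤ) (K : Dual.D A) : Prop :=
  DRing.IsPseudoCoherent P m ((DRing.restrictD ψ).obj K)

theorem pc_res_iff (s : P →+* Q) (hs : RFP s) (K : Dual.D Q) (m : ℤ) :
    DRing.IsPseudoCoherent Q m K ↔ Via s m K := by
  letI := s.toAlgebra
  exact (S6940.result (PseudoCoh.isPseudoCoherentModule'_iff.2 hs) K m).1

theorem via_comp (f : P →+* Q) (g : Q →+* A) (m : ℤ) (K : Dual.D A) :
    Via (g.comp f) m K ↔ Via f m ((DRing.restrictD g).obj K) :=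
  ⟨H4DR.PCoh.pc_of_iso ((H26Dual2.tdComp f g).app K),
    H4DR.PCoh.pc_of_iso ((H26Dual2.tdComp f g).app K).symm⟩

theorem via_comp_iff (s : P →+* Q) (hs : RFP s) (ψ : Q →+* A) (m : ℤ) (K : Dual.D A) :
    Via ψ m K ↔ Via (ψ.comp s) m K :=
  (pc_res_iff s hs _ m).trans (via_comp s ψ m K).symm

theorem via_congr {ψ ψ' : P →+* A} (h : ψ = ψ') (m : ℤ) (K : Dual.D A) :
    Via ψ m K ↔ Via ψ' m K := by rw [h]

theorem via_id_iff (ψ : P →+* A) (hψ : RFP ψ) (m : ℤ) (K : Dual.D A) :
    Via ψ m K ↔ DRing.IsPseudoCoherent A m K :=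
  (pc_res_iff ψ hψ K m).symm

/-- One integral variable. -/
theorem via_polynomial_integral (φ : Polynomial P →+* B)
    (hy : (φ.comp Polynomial.C).IsIntegralElem (φ Polynomial.X)) (m : ℤ) (K : Dual.D B) :
    Via φ m K ↔ Via (φ.comp Polynomial.C) m K := by
  obtain ⟨f, hf, hfy⟩ := hy
  let ψ : AdjoinRoot f →+* B := AdjoinRoot.lift (φ.comp Polynomial.C) (φ Polynomial.X) hfy
  have hmk : RFP (AdjoinRoot.mk f) := rfp_of_span_singleton _ AdjoinRoot.mk_surjective f
    hf.mem_nonZeroDivisors (Ideal.ext fun x => by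
      rw [RingHom.mem_ker, AdjoinRoot.mk_eq_zero, Ideal.mem_span_singleton])
  have hof : RFP (AdjoinRoot.of f) := by
    haveI := hf.free_adjoinRoot
    haveI := hf.finite_adjoinRoot
    have h : RFP (algebraMap P (AdjoinRoot f)) :=
      rfp_algebraMap.2 (fpInf_of_finite_projective (AdjoinRoot f))
    exact h
  have e₁ : ψ.comp (AdjoinRoot.mk f) = φ := Polynomial.ringHom_ext
    (fun a => by simp [ψ]) (by simp [ψ])
  have e₂ : ψ.comp (AdjoinRoot.of f) = φ.comp Polynomial.C := RingHom.ext fun a => by simp [ψ]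
  rw [via_congr e₁.symm, ← via_comp_iff _ hmk, via_comp_iff _ hof, via_congr e₂]

/-- Finitely many integral variables. -/
theorem via_mvPolynomial_integral : ∀ (k : ℕ) (φ : MvPolynomial (Fin k) P →+* B)
    (_ : ∀ j, (φ.comp MvPolynomial.C).IsIntegralElem (φ (MvPolynomial.X j))) (m : ℤ) (K : Dual.D B),
    Via φ m K ↔ Via (φ.comp MvPolynomial.C) m K
  | 0, φ, _, m, K => via_comp_iff _ (rfp_of_bijective _ ⟨MvPolynomial.C_injective _ _,
      MvPolynomial.C_surjective _⟩) φ m K
  | k + 1, φ, hy, m, K => by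
    let e := (MvPolynomial.finSuccEquiv P k).toRingEquiv
    let χ : Polynomial (MvPolynomial (Fin k) P) →+* B := φ.comp e.symm.toRingHom
    have hC : (χ.comp Polynomial.C).comp MvPolynomial.C = φ.comp MvPolynomial.C :=
      RingHom.ext fun a => congrArg φ (e.injective (by simp [e, MvPolynomial.finSuccEquiv_apply]))
    have h0 : χ Polynomial.X = φ (MvPolynomial.X 0) :=
      congrArg φ (e.injective (by simp [e, MvPolynomial.finSuccEquiv_X_zero]))
    have hs : ∀ j, χ (Polynomial.C (MvPolynomial.X j)) = φ (MvPolynomial.X j.succ) := fun j =>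
      congrArg φ (e.injective (by simp [e, MvPolynomial.finSuccEquiv_X_succ]))
    rw [via_comp_iff e.symm.toRingHom (rfp_of_bijective _ e.symm.bijective) φ m K]
    change Via χ m K ↔ _
    rw [via_polynomial_integral χ ?_, via_mvPolynomial_integral k (χ.comp Polynomial.C) ?_, via_congr hC]
    · intro j
      rw [hC, RingHom.comp_apply, hs]
      exact hy j.succ
    · obtain ⟨g, hg, hgy⟩ := hy 0
      refine ⟨g.map MvPolynomial.C, hg.map _, ?_⟩
      rw [Polynomial.eval₂_map, hC, h0]
      exact hgy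

variable {R : Type u} [CommRing R] [Algebra R A] [Algebra R B]

/-- Two presentations give the same notion. -/
theorem via_congr_pres {n k : ℕ} (α : MvPolynomial (Fin n) R →ₐ[R] A) (hα : Function.Surjective α)
    (β : MvPolynomial (Fin k) R →ₐ[R] A) (hβ : Function.Surjective β) (m : ℤ) (K : Dual.D A) :
    Via (α : MvPolynomial (Fin n) R →+* A) m K ↔ Via (β : MvPolynomial (Fin k) R →+* A) m K := by
  obtain ⟨s, t, ⟨-, hs⟩, ⟨-, ht⟩, hst⟩ := RelPC.exists_comparison (α : MvPolynomial (Fin n) R →+* A) hα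
    (β : MvPolynomial (Fin k) R →+* A) hβ
    (RingHom.ext fun a => (α.commutes a).trans (β.commutes a).symm)
  rw [via_comp_iff s hs, via_congr hst, ← via_comp_iff t ht]

theorem relPC_iff_via {n : ℕ} (α : MvPolynomial (Fin n) R →ₐ[R] A) (hα : Function.Surjective α)
    (m : ℤ) (K : Dual.D A) :
    DerCA.IsRelPseudoCoherent R A m K ↔ Via (α : MvPolynomial (Fin n) R →+* A) m K :=
  ⟨fun ⟨_, β, hβ, h⟩ => (via_congr_pres β hβ α hα m K).1 h, fun h => ⟨n, α, hα, h⟩⟩

/-- A polynomial ring in two blocks of variables. -/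
noncomputable def blockEquiv (R : Type u) [CommRing R] (k n : ℕ) :
    MvPolynomial (Fin (k + n)) R ≃ₐ[R] MvPolynomial (Fin k) (MvPolynomial (Fin n) R) :=
  (MvPolynomial.renameEquiv R finSumFinEquiv.symm).trans (MvPolynomial.sumAlgEquiv R (Fin k) (Fin n))

theorem exists_pres (R A : Type u) [CommRing R] [CommRing A] [Algebra R A] [Algebra.FiniteType R A] :
    ∃ (n : ℕ) (α : MvPolynomial (Fin n) R →ₐ[R] A), Function.Surjective α :=
  Algebra.FiniteType.iff_quotient_mvPolynomial''.1 inferInstance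

/-- Stacked presentation. -/
theorem exists_block_pres [Algebra A B] [IsScalarTower R A B] {n k : ℕ}
    (α : MvPolynomial (Fin n) R →ₐ[R] A) (hα : Function.Surjective α)
    (β : MvPolynomial (Fin k) A →ₐ[A] B) (hβ : Function.Surjective β) :
    ∃ γ : MvPolynomial (Fin (k + n)) R →ₐ[R] B, Function.Surjective γ ∧
      (γ : MvPolynomial (Fin (k + n)) R →+* B).comp (blockEquiv R k n).symm.toAlgHom.toRingHom =
        (β : MvPolynomial (Fin k) A →+* B).comp (MvPolynomial.map (α : MvPolynomial (Fin n) R →+* A)) := by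
  let d := blockEquiv R k n
  let χ : MvPolynomial (Fin k) (MvPolynomial (Fin n) R) →+* B :=
    (β : MvPolynomial (Fin k) A →+* B).comp (MvPolynomial.map (α : MvPolynomial (Fin n) R →+* A))
  refine ⟨{ χ.comp d.toAlgHom.toRingHom with commutes' := fun a => ?_ },
    (hβ.comp (MvPolynomial.map_surjective _ hα)).comp d.surjective, ?_⟩
  · show χ (d (algebraMap R (MvPolynomial (Fin (k + n)) R) a)) = _
    rw [d.commutes]
    show β (MvPolynomial.map _ (MvPolynomial.C (algebraMap R (MvPolynomial (Fin n) R) a))) = _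
    rw [MvPolynomial.map_C]
    exact (β.commutes _).trans ((congrArg (algebraMap A B) (α.commutes a)).trans
      (IsScalarTower.algebraMap_apply R A B a).symm)
  · exact RingHom.ext fun x => congrArg χ (d.apply_symm_apply x)

/-- Finite algebras. -/
theorem relPC_finite_iff [Algebra A B] [IsScalarTower R A B] [Algebra.FiniteType R A]
    [Module.Finite A B] (m : ℤ) (K : Dual.D B) :
    DerCA.IsRelPseudoCoherent R B m K ↔
      DerCA.IsRelPseudoCoherent R A m ((DRing.restrictD (algebraMap A B)).obj K) := by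
  obtain ⟨n, α, hα⟩ := exists_pres R A
  obtain ⟨k, β, hβ⟩ := exists_pres A B
  obtain ⟨γ, hγ, hγe⟩ := exists_block_pres α hα β hβ
  rw [relPC_iff_via γ hγ, relPC_iff_via α hα,
    via_comp_iff (blockEquiv R k n).symm.toAlgHom.toRingHom
      (rfp_of_bijective _ (blockEquiv R k n).symm.bijective), via_congr hγe,
    via_mvPolynomial_integral k _ ?_, ← via_comp]
  · exact (via_congr (RingHom.ext fun a => by simp) m K)
  · intro j
    obtain ⟨f, hf, hfy⟩ := Algebra.IsIntegral.isIntegral (R := A) (β (MvPolynomial.X j))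
    obtain ⟨g, hg, -, hgm⟩ := Polynomial.lifts_and_natDegree_eq_and_monic
      ((Polynomial.map_surjective (α : MvPolynomial (Fin n) R →+* A) hα) f) hf
    refine ⟨g, hgm, ?_⟩
    have h2 : ((β : MvPolynomial (Fin k) A →+* B).comp (MvPolynomial.map (α : MvPolynomial (Fin n) R →+* A))).comp
        MvPolynomial.C = (algebraMap A B).comp (α : MvPolynomial (Fin n) R →+* A) :=
      RingHom.ext fun a => by simp
    rw [h2, RingHom.comp_apply, MvPolynomial.map_X, ← Polynomial.eval₂_map, hg]
    exact hfy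

/-- Pseudo-coherent algebras. -/
theorem relPC_comp_iff [Algebra A B] [IsScalarTower R A B] [Algebra.FiniteType R A]
    [Algebra.FiniteType A B]
    (hA : ∀ {n : ℕ} (α : MvPolynomial (Fin n) R →ₐ[R] A), Function.Surjective α → RFP α.toRingHom)
    (m : ℤ) (K : Dual.D B) :
    DerCA.IsRelPseudoCoherent A B m K ↔ DerCA.IsRelPseudoCoherent R B m K := by
  obtain ⟨n, α, hα⟩ := exists_pres R A
  obtain ⟨k, β, hβ⟩ := exists_pres A B
  obtain ⟨γ, hγ, hγe⟩ := exists_block_pres α hα β hβ
  let d := MvPolynomial.renameEquiv R (Equiv.ulift.{u} (α := Fin n))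
  have hr : RFP (MvPolynomial.map (σ := Fin k) (α : MvPolynomial (Fin n) R →+* A)) := by
    have h2 : RFP (α.comp d.toAlgHom).toRingHom :=
      RFP.comp (rfp_of_bijective _ d.bijective) (hA α hα)
    have h := rfp_map (τ := ULift.{u} (Fin k)) (α.comp d.toAlgHom) h2
    let d1 := (MvPolynomial.mapEquiv (Fin k) d.toRingEquiv.symm).trans
      (MvPolynomial.renameEquiv (MvPolynomial (ULift.{u} (Fin n)) R) (Equiv.ulift.{u} (α := Fin k)).symm).toRingEquiv
    let d2 := (MvPolynomial.renameEquiv A (Equiv.ulift.{u} (α := Fin k))).toRingEquiv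
    convert ((rfp_ringEquiv d1).comp h).comp (rfp_ringEquiv d2) using 1
    refine MvPolynomial.ringHom_ext (fun a => ?_) (fun i => by simp [d1, d2, d])
    simp [d1, d2, d, Function.comp_def]
    exact congrArg α (MvPolynomial.rename_id_apply a).symm
  refine (relPC_iff_via β hβ m K).trans (((via_comp_iff _ hr _ m K).trans ?_).trans
    (relPC_iff_via γ hγ m K).symm)
  rw [via_comp_iff (blockEquiv R k n).symm.toAlgHom.toRingHom
    (rfp_of_bijective _ (blockEquiv R k n).symm.bijective), via_congr hγe]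

theorem rfp_of_relPCModuleAll [Algebra.FiniteType R A]
    (h : DerCA.IsRelPseudoCoherentModuleAll R A A) {n : ℕ} (α : MvPolynomial (Fin n) R →ₐ[R] A)
    (hα : Function.Surjective α) : RFP α.toRingHom := by
  letI := α.toRingHom.toAlgebra
  refine PseudoCoh.isPseudoCoherentModule'_iff.1 (H4DR.PCoh.pc'_iff.2 fun m => ?_)
  let F := ModuleCat.restrictScalars.{u} α.toRingHom
  let e : F.obj (ModuleCat.of A A) ≅ ModuleCat.of (MvPolynomial (Fin n) R) A :=
    ({ AddEquiv.refl A with
        map_smul' := fun (r : MvPolynomial (Fin n) R) (x : A) =>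
          (rfl : (α r) • x = r • x) } :
      (F.obj (ModuleCat.of A A)) ≃ₗ[MvPolynomial (Fin n) R] A).toModuleIso
  exact H4DR.PCoh.pc_of_iso ((F.mapDerivedCategorySingleFunctor 0).app (ModuleCat.of A A) ≪≫
    (DerivedCategory.singleFunctor _ 0).mapIso e) ((relPC_iff_via α hα m _).1 (h m))

end Groth.Agent.H8Props.RingRelPC
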