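import Groth.Agent.H8Props.RelPCRing
import Groth.Agent.H8Props.RingRelPC
import Groth.Agent.H8Props.RpushAffine

/-!
# Relative pseudo-coherence and finite morphisms
-/

set_option autoImplicit false
set_option linter.style.haveILetI false
set_option backward.isDefEq.respectTransparency false

universe u

open CategoryTheory CategoryTheory.Limits AlgebraicGeometry Pretriangulated

attribute [local instance] HasDerivedCategory.standard

namespace Groth.Agent.H8Props.RelPC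

open H16Derived.KFlat.Stalk PushPC

variable {X Y S : Scheme.{u}}

/-- The chart test as relative pseudo-coherence of a complex of modules. -/
theorem chartPC_iff_relPC {U : X.Opens} (hU : IsAffineOpen U) {V : S.Opens}
    [PreservesFiniteLimits (tilde.functor (CommRingCat.of Γ(X, U)))] (p : X ⟶ S) (h : U ≤ p ⁻¹ᵁ V)
    {n : ℕ} (φ : MvPolynomial (Fin n) Γ(S, V) →+* Γ(X, U)) (hφ : DerSch.IsChart p U V h φ) (m : ℤ)
    (E : DCoh.D X) (M : Dual.D Γ(X, U))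
    (e : haveI := isClosedImmersion_toSpecΓ hU
      (DCoh.tildeD (CommRingCat.of Γ(X, U))).obj M ≅ (pushD U.toSpecΓ).obj ((rd U.ι).obj E)) :
    DerSch.ChartPC m E U V φ ↔
      letI := (p.appLE V U h).hom.toAlgebra
      DerCA.IsRelPseudoCoherent Γ(S, V) Γ(X, U) m M := by
  letI := (p.appLE V U h).hom.toAlgebra
  exact (chartPC_iff_ring hU φ hφ.1 m E M e).trans (RingRelPC.relPC_iff_via
    ({ φ with commutes' := fun a => congr($(hφ.2) a) } : MvPolynomial (Fin n) Γ(S, V) →ₐ[Γ(S, V)] Γ(X, U))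
    hφ.1 m M).symm

theorem exists_module {U : X.Opens} (hU : IsAffineOpen U) {E : DCoh.D X} (hE : DCoh.IsQCohD E) :
    haveI := isClosedImmersion_toSpecΓ hU
    ∃ M : Dual.D Γ(X, U),
      Nonempty ((DCoh.tildeD (CommRingCat.of Γ(X, U))).obj M ≅ (pushD U.toSpecΓ).obj ((rd U.ι).obj E)) := by
  haveI := isClosedImmersion_toSpecΓ hU
  haveI := H16Derived.QCohD.hasRpush U.toSpecΓ
  haveI : IsIso U.toSpecΓ := by
    rw [← hU.isoSpec_hom]
    infer_instance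
  obtain ⟨e⟩ := RpushAffine.nonempty_rpush_closed U.toSpecΓ ((rd U.ι).obj E)
  exact H16Derived.QCohD.exists_tildeD_iso (R := CommRingCat.of Γ(X, U))
    (H16Derived.QCohD.isQCohD_iso e
      (H16Derived.QCohD.isQCohD_rpush U.toSpecΓ (H16Derived.QCohD.isQCohD_rd U.ι hE)))

theorem nonempty_module_rpush (π : X ⟶ Y) [IsAffineHom π] [DCoh.HasRpush π] {W : Y.Opens}
    (hW : IsAffineOpen W) (E : DCoh.D X) (M : Dual.D Γ(X, π ⁻¹ᵁ W))
    (e : haveI := isClosedImmersion_toSpecΓ (hW.preimage π)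
      (DCoh.tildeD (CommRingCat.of Γ(X, π ⁻¹ᵁ W))).obj M ≅
        (pushD (π ⁻¹ᵁ W).toSpecΓ).obj ((rd (π ⁻¹ᵁ W).ι).obj E)) :
    haveI := isClosedImmersion_toSpecΓ hW
    Nonempty ((DCoh.tildeD (CommRingCat.of Γ(Y, W))).obj ((DRing.restrictD (π.app W).hom).obj M) ≅
      (pushD W.toSpecΓ).obj ((rd W.ι).obj ((DCoh.Rpush π).obj E))) := by
  let a := W.toSpecΓ
  let b := (π ⁻¹ᵁ W).toSpecΓ
  let g : Spec (CommRingCat.of Γ(X, π ⁻¹ᵁ W)) ⟶ Spec (CommRingCat.of Γ(Y, W)) :=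
    Spec.map (CommRingCat.ofHom (π.app W).hom)
  haveI : IsClosedImmersion a := isClosedImmersion_toSpecΓ hW
  haveI : IsClosedImmersion b := isClosedImmersion_toSpecΓ (hW.preimage π)
  haveI := H16Derived.QCohD.hasRpush (π ∣_ W)
  haveI := H16Derived.QCohD.hasRpush a
  haveI := H16Derived.QCohD.hasRpush b
  haveI := H16Derived.QCohD.hasRpush g
  haveI := H16Derived.QCohD.hasRpush ((π ∣_ W) ≫ a)
  haveI := H16Derived.QCohD.hasRpush (b ≫ g)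
  have hsq : b ≫ g = (π ∣_ W) ≫ a := Scheme.Opens.toSpecΓ_naturality π W
  obtain ⟨er⟩ := nonempty_restrictD_rpush_iso π W
  obtain ⟨e1⟩ := nonempty_rpushCompIso (π ∣_ W) a
  obtain ⟨e2⟩ := nonempty_rpushCompIso b g
  obtain ⟨e3⟩ := RpushAffine.nonempty_rpush_congr hsq
  obtain ⟨ea⟩ := RpushAffine.nonempty_rpush_closed a ((rd W.ι).obj ((DCoh.Rpush π).obj E))
  obtain ⟨eb⟩ := RpushAffine.nonempty_rpush_closed b ((rd (π ⁻¹ᵁ W).ι).obj E)
  obtain ⟨et⟩ := RpushAffine.nonempty_rpush_tilde (π.app W).hom M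
  exact ⟨et.symm ≪≫ (DCoh.Rpush g).mapIso (e ≪≫ eb.symm) ≪≫
    (e2 ≪≫ e3 ≪≫ e1.symm).app ((rd (π ⁻¹ᵁ W).ι).obj E) ≪≫
    (DCoh.Rpush a).mapIso (er.app E).symm ≪≫ ea⟩

theorem chartPC_rpush_iff (p : X ⟶ S) (q : Y ⟶ S) [LocallyOfFiniteType p] [LocallyOfFiniteType q]
    (π : X ⟶ Y) [IsFinite π] [DCoh.HasRpush π] (w : π ≫ q = p) (m : ℤ) {E : DCoh.D X}
    (hE : DCoh.IsQCohD E) {W : Y.Opens} (hW : IsAffineOpen W) {V : S.Opens} (hV : IsAffineOpen V)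
    (h : W ≤ q ⁻¹ᵁ V) (h' : π ⁻¹ᵁ W ≤ p ⁻¹ᵁ V)
    {n k : ℕ} (φ : MvPolynomial (Fin n) Γ(S, V) →+* Γ(Y, W)) (hφ : DerSch.IsChart q W V h φ)
    (γ : MvPolynomial (Fin k) Γ(S, V) →+* Γ(X, π ⁻¹ᵁ W))
    (hγ : DerSch.IsChart p (π ⁻¹ᵁ W) V h' γ) :
    DerSch.ChartPC m E (π ⁻¹ᵁ W) V γ ↔ DerSch.ChartPC m ((DCoh.Rpush π).obj E) W V φ := by
  haveI := isClosedImmersion_toSpecΓ hW
  haveI := isClosedImmersion_toSpecΓ (hW.preimage π)
  obtain ⟨M, ⟨e⟩⟩ := exists_module (hW.preimage π) hE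
  obtain ⟨e'⟩ := nonempty_module_rpush π hW E M e
  rw [chartPC_iff_relPC (hW.preimage π) p h' γ hγ m E M e,
    chartPC_iff_relPC hW q h φ hφ m _ _ e']
  letI := (p.appLE V (π ⁻¹ᵁ W) h').hom.toAlgebra
  letI := (q.appLE V W h).hom.toAlgebra
  letI := (π.app W).hom.toAlgebra
  haveI : IsScalarTower Γ(S, V) Γ(Y, W) Γ(X, π ⁻¹ᵁ W) := IsScalarTower.of_algebraMap_eq fun x => by
    subst w
    have := Scheme.Hom.appLE_comp_appLE π q V W (π ⁻¹ᵁ W) h le_rfl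
    rw [Scheme.Hom.appLE_eq_app] at this
    exact congr($(this.symm) x)
  haveI : Algebra.FiniteType Γ(S, V) Γ(Y, W) := q.finiteType_appLE hV hW h
  haveI : Module.Finite Γ(Y, W) Γ(X, π ⁻¹ᵁ W) := IsFinite.finite_app π W hW
  exact RingRelPC.relPC_finite_iff m M

theorem rel_rpush_finite_iff (p : X ⟶ S) (q : Y ⟶ S) [LocallyOfFiniteType p] [LocallyOfFiniteType q]
    (π : X ⟶ Y) [IsFinite π] [DCoh.HasRpush π] (w : π ≫ q = p) (m : ℤ) {E : DCoh.D X}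
    (hE : DCoh.IsQCohD E) :
    DerSch.IsPseudoCoherentRel p m E ↔ DerSch.IsPseudoCoherentRel q m ((DCoh.Rpush π).obj E) := by
  have hle : ∀ {W : Y.Opens} {V : S.Opens}, W ≤ q ⁻¹ᵁ V → π ⁻¹ᵁ W ≤ p ⁻¹ᵁ V := by
    subst w
    intro W V h x hx
    exact h hx
  constructor
  · intro h
    refine rel_of_charts q m _ fun W V e n φ hφ => ?_
    obtain ⟨k, γ, hγ⟩ := exists_isChart p (π ⁻¹ᵁ (W : Y.Opens)) V (hle e)
      (p.finiteType_appLE V.2 (W.2.preimage π) (hle e))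
    exact (chartPC_rpush_iff p q π w m hE W.2 V.2 e (hle e) φ hφ γ hγ).1
      (chartPC_of_rel h (W.2.preimage π) V.2 (hle e) γ hγ)
  · intro h
    refine ⟨‹_›, Set.univ, eq_top_iff.2 fun s _ => ?_, fun V _ => ?_⟩
    · obtain ⟨V, hV, hs, -⟩ :=
        S.isBasis_affineOpens.exists_subset_of_mem_open (Set.mem_univ s) isOpen_univ
      obtain ⟨V, hV', rfl⟩ := hV
      simp only [TopologicalSpace.Opens.mem_iSup]
      exact ⟨⟨V, hV'⟩, Set.mem_univ _, hs⟩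
    refine ⟨{U | ∃ W : Y.affineOpens, (W : Y.Opens) ≤ q ⁻¹ᵁ (V : S.Opens) ∧
      (U : X.Opens) = π ⁻¹ᵁ (W : Y.Opens)}, le_antisymm ?_ fun x hx => ?_, ?_⟩
    · refine iSup₂_le fun U hU => ?_
      obtain ⟨W, hW, hU⟩ := hU
      exact hU ▸ hle hW
    · have hx' : π x ∈ q ⁻¹ᵁ (V : S.Opens) := by subst w; exact hx
      obtain ⟨W, hW, hxW, hle'⟩ := Y.isBasis_affineOpens.exists_subset_of_mem_open hx'
        (q ⁻¹ᵁ (V : S.Opens)).2
      obtain ⟨W, hW', rfl⟩ := hW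
      simp only [TopologicalSpace.Opens.mem_iSup]
      exact ⟨⟨π ⁻¹ᵁ W, hW'.preimage π⟩, ⟨⟨W, hW'⟩, hle', rfl⟩, hxW⟩
    · rintro ⟨U, hU'⟩ ⟨W, hW, hU : U = π ⁻¹ᵁ (W : Y.Opens)⟩ e
      subst hU
      obtain ⟨n, φ, hφ⟩ := exists_isChart q (W : Y.Opens) V hW (q.finiteType_appLE V.2 W.2 hW)
      obtain ⟨k, γ, hγ⟩ := exists_isChart p (π ⁻¹ᵁ (W : Y.Opens)) V e
        (p.finiteType_appLE V.2 (W.2.preimage π) e)
      exact ⟨k, γ, hγ, (chartPC_rpush_iff p q π w m hE W.2 V.2 hW e φ hφ γ hγ).2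
        (chartPC_of_rel h W.2 V.2 hW φ hφ)⟩

end Groth.Agent.H8Props.RelPC
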