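import Groth.Agent.S1379
import Mathlib.RingTheory.RingHom.FinitePresentation
import Mathlib.AlgebraicGeometry.Morphisms.Etale
import Mathlib.AlgebraicGeometry.Morphisms.Finite
import Mathlib.AlgebraicGeometry.Morphisms.UnderlyingMap

/-!
# An fppf algebra is dominated étale locally by finite faithfully flat algebras
-/

set_option autoImplicit false
set_option linter.style.haveILetI false
set_option backward.isDefEq.respectTransparency false

universe u

open CategoryTheory CategoryTheory.Limits AlgebraicGeometry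

namespace Groth.Agent.H8Props.FppfNbhd

/-- Near every prime, a faithfully flat algebra of finite presentation is dominated, after an étale
extension, Zariski locally on a finite faithfully flat algebra. -/
theorem exists_etale_finite_nbhd (A B : Type u) [CommRing A] [CommRing B] [Algebra A B]
    [Algebra.FinitePresentation A B] [Module.FaithfullyFlat A B] (q : PrimeSpectrum A) :
    ∃ (A' C : CommRingCat.{u}) (φ : CommRingCat.of A ⟶ A') (ψ : A' ⟶ C),
      φ.hom.Etale ∧ ψ.hom.Finite ∧ ψ.hom.Flat ∧ ψ.hom.FinitePresentation ∧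
        Function.Surjective (PrimeSpectrum.comap ψ.hom) ∧ q ∈ Set.range (PrimeSpectrum.comap φ.hom) ∧
        ∀ v : PrimeSpectrum C, ∃ c : C, c ∉ v.asIdeal ∧ ∃ χ : B →+* Localization.Away c,
          χ.comp (algebraMap A B) = (algebraMap C (Localization.Away c)).comp (ψ.hom.comp φ.hom) := by
  let b : CommRingCat.of A ⟶ CommRingCat.of B := CommRingCat.ofHom (algebraMap A B)
  haveI : Flat (Spec.map b) := (HasRingHomProperty.Spec_iff (P := @Flat)).2
    (RingHom.flat_algebraMap_iff.2 inferInstance)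
  haveI : LocallyOfFinitePresentation (Spec.map b) := (HasRingHomProperty.Spec_iff (P := @LocallyOfFinitePresentation)).2
    (RingHom.finitePresentation_algebraMap.2 inferInstance)
  haveI : Surjective (Spec.map b) := ⟨PrimeSpectrum.comap_surjective_of_faithfullyFlat (A := A) (B := B)⟩
  obtain ⟨S', V, e, π, he, ⟨s, hs⟩, hπs, hπf, hπfl, hπp, hloc⟩ := S1379.result (Spec.map b) q
  haveI := he
  haveI := hπs
  haveI := hπf
  haveI := hπfl
  haveI := hπp
  obtain ⟨_, ⟨O, hO, rfl⟩, hsO, -⟩ :=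
    S'.isBasis_affineOpens.exists_subset_of_mem_open (Set.mem_univ s) isOpen_univ
  have hO' : IsAffineOpen (π ⁻¹ᵁ O) := hO.preimage π
  let φ : CommRingCat.of A ⟶ Γ(S', O) := Spec.preimage (hO.fromSpec ≫ e)
  have hφ : Spec.map φ = hO.fromSpec ≫ e := Spec.map_preimage _
  have hψ : Spec.map (π.app O) ≫ hO.fromSpec = hO'.fromSpec ≫ π := by
    rw [← IsAffineOpen.SpecMap_appLE_fromSpec π hO hO' le_rfl, Scheme.Hom.app_eq_appLE]
  refine ⟨Γ(S', O), Γ(V, π ⁻¹ᵁ O), φ, π.app O, ?_, IsFinite.finite_app π O hO, ?_, ?_, ?_, ?_, fun v => ?_⟩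
  · refine (HasRingHomProperty.Spec_iff (P := @Etale)).1 ?_
    rw [hφ]
    infer_instance
  · rw [Scheme.Hom.app_eq_appLE]
    exact HasRingHomProperty.appLE (P := @Flat) π inferInstance ⟨O, hO⟩ ⟨_, hO'⟩ le_rfl
  · rw [Scheme.Hom.app_eq_appLE]
    exact HasRingHomProperty.appLE (P := @LocallyOfFinitePresentation) π inferInstance ⟨O, hO⟩ ⟨_, hO'⟩ le_rfl
  · intro p
    obtain ⟨z, hz⟩ := π.surjective (hO.fromSpec p)
    have hzO : z ∈ π ⁻¹ᵁ O := by
      show π z ∈ O
      rw [hz]
      exact hO.range_fromSpec.le ⟨p, rfl⟩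
    obtain ⟨w, rfl⟩ := hO'.range_fromSpec.ge hzO
    refine ⟨w, hO.fromSpec.isOpenEmbedding.injective (Eq.trans ?_ hz)⟩
    exact congr($hψ w)
  · obtain ⟨w, hw⟩ := hO.range_fromSpec.ge hsO
    refine ⟨w, (Eq.trans ?_ hs)⟩
    rw [← hw]
    exact congr($hφ w)
  · obtain ⟨W, r, hvW, hr⟩ := hloc (hO'.fromSpec v)
    obtain ⟨c, hcW, hvc⟩ := hO'.exists_basicOpen_le (V := W)
      ⟨hO'.fromSpec v, hvW⟩ (hO'.range_fromSpec.le ⟨v, rfl⟩)
    refine ⟨c, ?_, ?_⟩
    · have hv : v ∈ hO'.fromSpec ⁻¹ᵁ V.basicOpen c := hvc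
      rwa [hO'.fromSpec_preimage_basicOpen] at hv
    haveI := hO'.isLocalization_basicOpen c
    have hD := hO'.basicOpen c
    let l : Spec Γ(V, V.basicOpen c) ⟶ W := IsOpenImmersion.lift W.ι hD.fromSpec
      (by rw [hD.range_fromSpec, Scheme.Opens.range_ι]; exact hcW)
    have hl : l ≫ W.ι = hD.fromSpec := IsOpenImmersion.lift_fac _ _ _
    let χ₀ : CommRingCat.of B ⟶ Γ(V, V.basicOpen c) := Spec.preimage (l ≫ r)
    have hle : V.basicOpen c ≤ π ⁻¹ᵁ O := V.basicOpen_le c
    have hχ : b ≫ χ₀ = φ ≫ π.app O ≫ V.presheaf.map (homOfLE hle).op := by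
      refine Spec.map_injective ?_
      have hres : Spec.map (V.presheaf.map (homOfLE hle).op) ≫ hO'.fromSpec = hD.fromSpec :=
        hO'.map_fromSpec hD _
      rw [Spec.map_comp, Spec.map_comp, Spec.map_comp, Spec.map_preimage, hφ, Category.assoc, hr,
        Category.assoc, ← Category.assoc (Spec.map (π.app O)), hψ, Category.assoc,
        ← Category.assoc (Spec.map (V.presheaf.map _)), hres, ← Category.assoc l, hl]
    let d := IsLocalization.algEquiv (Submonoid.powers c) Γ(V, V.basicOpen c) (Localization.Away c)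
    refine ⟨(d : Γ(V, V.basicOpen c) →+* Localization.Away c).comp χ₀.hom, RingHom.ext fun a => ?_⟩
    exact (congrArg d congr($(hχ).hom a)).trans (d.commutes _)

end Groth.Agent.H8Props.FppfNbhd
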