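import Groth.Agent.H8Props.RingRelPCFppf
import Groth.Agent.H8Props.RingFppfNbhd

/-!
# fppf descent of relative pseudo-coherence on the source
-/

set_option autoImplicit false
set_option linter.style.haveILetI false
set_option backward.isDefEq.respectTransparency false

universe u

open CategoryTheory CategoryTheory.Limits

attribute [local instance] HasDerivedCategory.standard

namespace Groth.Agent.H8Props.RingRelPC

open PseudoCoh

/-- Descent along a faithfully flat algebra of finite presentation. -/
theorem relPC_of_fppf {R A B : Type u} [CommRing R] [CommRing A] [CommRing B] [Algebra R A] [Algebra A B]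
    [Algebra R B] [IsScalarTower R A B] [Algebra.FiniteType R A] [Algebra.FinitePresentation A B]
    [Module.FaithfullyFlat A B] {P : DRing.Cx A} (hP : H4DR.TorAmp.KF A P) (m : ℤ)
    (h : DerCA.IsRelPseudoCoherent R B m (DRing.toD (extCx (algebraMap A B) P))) :
    DerCA.IsRelPseudoCoherent R A m (DRing.toD P) := by
  classical
  choose A' C φ ψ he hfin hflat hfp hsurj hq hloc using FppfNbhd.exists_etale_finite_nbhd A B
  have hopen : ∀ q, IsOpen (Set.range (PrimeSpectrum.comap (φ q).hom)) := fun q => by
    letI := (φ q).hom.toAlgebra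
    haveI : Algebra.Etale A (A' q) := he q
    exact (PrimeSpectrum.isOpenMap_comap_of_hasGoingDown_of_finitePresentation (R := A) (S := A' q)).isOpen_range
  obtain ⟨T, hT⟩ := isCompact_univ.elim_finite_subcover _ hopen fun q _ => Set.mem_iUnion.2 ⟨q, hq q⟩
  let σ := T.equivFin
  let q : Fin T.card → PrimeSpectrum A := fun j => (σ.symm j).1
  letI : ∀ j, Algebra A (A' (q j)) := fun j => (φ (q j)).hom.toAlgebra
  letI : ∀ j, Algebra (A' (q j)) (C (q j)) := fun j => (ψ (q j)).hom.toAlgebra
  letI : ∀ j, Algebra A (C (q j)) := fun j => ((ψ (q j)).hom.comp (φ (q j)).hom).toAlgebra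
  haveI : ∀ j, IsScalarTower A (A' (q j)) (C (q j)) := fun j => IsScalarTower.of_algebraMap_eq fun _ => rfl
  letI : ∀ j, Algebra R (A' (q j)) := fun j => ((φ (q j)).hom.comp (algebraMap R A)).toAlgebra
  letI : ∀ j, Algebra R (C (q j)) := fun j =>
    ((ψ (q j)).hom.comp ((φ (q j)).hom.comp (algebraMap R A))).toAlgebra
  haveI : ∀ j, IsScalarTower R A (A' (q j)) := fun j => IsScalarTower.of_algebraMap_eq fun _ => rfl
  haveI : ∀ j, IsScalarTower R (A' (q j)) (C (q j)) := fun j => IsScalarTower.of_algebraMap_eq fun _ => rfl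
  haveI : ∀ j, IsScalarTower R A (C (q j)) := fun j => IsScalarTower.of_algebraMap_eq fun _ => rfl
  haveI : ∀ j, Algebra.Etale A (A' (q j)) := fun j => he _
  haveI : ∀ j, Module.Finite (A' (q j)) (C (q j)) := fun j => hfin _
  haveI : ∀ j, Module.Flat (A' (q j)) (C (q j)) := fun j => hflat _
  haveI : ∀ j, Algebra.FinitePresentation (A' (q j)) (C (q j)) := fun j => hfp _
  haveI : ∀ j, Module.FinitePresentation (A' (q j)) (C (q j)) := fun j =>
    Module.FinitePresentation.of_finite_of_finitePresentation _ _
  haveI : ∀ j, Module.Projective (A' (q j)) (C (q j)) := fun j =>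
    Module.Flat.projective_of_finitePresentation
  haveI : ∀ j, Module.FaithfullyFlat (A' (q j)) (C (q j)) := fun j =>
    Module.FaithfullyFlat.of_comap_surjective (hsurj _)
  refine relPC_of_etale_finite (fun j => (A' (q j) : Type u)) (fun j => (C (q j) : Type u)) (fun p => ?_)
    hP m fun j => ?_
  · obtain ⟨k, hk, hp⟩ := Set.mem_iUnion₂.1 (hT (Set.mem_univ p))
    refine ⟨σ ⟨k, hk⟩, ?_⟩
    have hk' : q (σ ⟨k, hk⟩) = k := congrArg Subtype.val (σ.symm_apply_apply ⟨k, hk⟩)
    show p ∈ Set.range (PrimeSpectrum.comap (φ (q (σ ⟨k, hk⟩))).hom)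
    rw [hk']
    exact hp
  choose c hc χ hχ using hloc (q j)
  have hspan : Ideal.span (Set.range c) = ⊤ := by
    by_contra hne
    obtain ⟨M, hM, hle⟩ := Ideal.exists_le_maximal _ hne
    exact hc ⟨M, hM.isPrime⟩ (hle (Ideal.subset_span ⟨_, rfl⟩))
  obtain ⟨T', hT', hspan'⟩ := Submodule.mem_span_finite_of_mem_span ((Ideal.eq_top_iff_one _).1 hspan)
  let σ' := T'.equivFin
  choose v hv using fun i : Fin T'.card => hT' (σ'.symm i).2
  haveI : Algebra.FiniteType R (A' (q j)) :=
    Algebra.FiniteType.trans (‹_› : Algebra.FiniteType R A) inferInstance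
  haveI : Algebra.FiniteType R (C (q j)) :=
    Algebra.FiniteType.trans (inferInstance : Algebra.FiniteType R (A' (q j))) inferInstance
  refine relPC_of_away _ m (fun i => c (v i)) ?_ fun i => ?_
  · refine (Ideal.eq_top_iff_one _).2 (Ideal.span_mono ?_ hspan')
    intro a ha
    exact ⟨σ' ⟨a, ha⟩, (hv _).trans (congrArg Subtype.val (σ'.symm_apply_apply ⟨a, ha⟩))⟩
  let L := Localization.Away (c (v i))
  letI : Algebra B L := (χ (v i)).toAlgebra
  haveI : IsScalarTower A (C (q j)) L := inferInstance
  haveI : IsScalarTower A B L := IsScalarTower.of_algebraMap_eq fun a =>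
    (IsScalarTower.algebraMap_apply A (C (q j)) L a).trans congr($(hχ (v i)) a).symm
  haveI : IsScalarTower R B L := IsScalarTower.of_algebraMap_eq fun r => by
    show algebraMap R L r = χ (v i) (algebraMap R B r)
    rw [IsScalarTower.algebraMap_apply R A B, IsScalarTower.algebraMap_apply R (C (q j)) L]
    exact congr($(hχ (v i)) (algebraMap R A r)).symm
  haveI : Algebra.FinitePresentation (C (q j)) L := IsLocalization.Away.finitePresentation (c (v i))
  haveI : Module.Flat (C (q j)) L := IsLocalization.flat L (Submonoid.powers (c (v i)))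
  haveI : Algebra.FinitePresentation A (A' (q j)) := inferInstance
  haveI : Algebra.FinitePresentation A (C (q j)) := Algebra.FinitePresentation.trans A (A' (q j)) (C (q j))
  haveI : Algebra.FinitePresentation A L := Algebra.FinitePresentation.trans A (C (q j)) L
  haveI : Module.Flat A (C (q j)) := Module.Flat.trans A (A' (q j)) (C (q j))
  haveI : Module.Flat A L := Module.Flat.trans A (C (q j)) L
  haveI : Algebra.FiniteType R B :=
    Algebra.FiniteType.trans (‹_› : Algebra.FiniteType R A) inferInstance
  haveI : Algebra.FiniteType R L :=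
    Algebra.FiniteType.trans (‹_› : Algebra.FiniteType R A) inferInstance
  exact (relPC_extCx_trans (R := R) (algebraMap A (C (q j))) (algebraMap A L) rfl P m).2
    ((relPC_extCx_trans (R := R) (algebraMap A B) (algebraMap A L)
      (IsScalarTower.algebraMap_eq A B L).symm P m).1
      (relPC_ext (isPseudoCoherentHom_of_comp (isPseudoCoherentHom_of_flat A B) (isPseudoCoherentHom_of_flat A L))
        (H25DTen.isKFlat_extCx _ hP) h))

end Groth.Agent.H8Props.RingRelPC
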