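import Groth.Agent.H8Props.RelPCBaseChange
import Groth.Agent.H8Props.RingRelPCFppfDescend

/-!
# Relative pseudo-coherence is fppf local on the source
-/

set_option autoImplicit false
set_option linter.style.haveILetI false
set_option backward.isDefEq.respectTransparency false

universe u

open CategoryTheory CategoryTheory.Limits AlgebraicGeometry

attribute [local instance] HasDerivedCategory.standard

namespace Groth.Agent.H8Props.RelPC

open PseudoCoh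

variable {X S : Scheme.{u}} (p : X ⟶ S) [LocallyOfFiniteType p]

/-- Flat pullback of the source. -/
theorem rel_lpull_flat {Z : Scheme.{u}} (g : Z ⟶ X) [Flat g] [LocallyOfFinitePresentation g]
    [DCoh.HasLpull g] {m : ℤ} {E : DCoh.D X} (hq : DCoh.IsQCohD E)
    (hE : DerSch.IsPseudoCoherentRel p m E) :
    DerSch.IsPseudoCoherentRel (g ≫ p) m ((DCoh.Lpull g).obj E) := by
  refine rel_of_local_relPC (g ≫ p) m _ fun z => ?_
  obtain ⟨_, ⟨V, hV, rfl⟩, hzV, -⟩ :=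
    S.isBasis_affineOpens.exists_subset_of_mem_open (Set.mem_univ (p (g z))) isOpen_univ
  obtain ⟨_, ⟨U, hU, rfl⟩, hzU, eU⟩ :=
    X.isBasis_affineOpens.exists_subset_of_mem_open (show g z ∈ p ⁻¹ᵁ V from hzV) (p ⁻¹ᵁ V).2
  obtain ⟨_, ⟨W, hW, rfl⟩, hzW, eW⟩ :=
    Z.isBasis_affineOpens.exists_subset_of_mem_open (show z ∈ g ⁻¹ᵁ U from hzU) (g ⁻¹ᵁ U).2
  obtain ⟨P, hP, hM⟩ := exists_repCx (U := U) hU hq
  have eWV : W ≤ (g ≫ p) ⁻¹ᵁ V := fun w hw => eU (eW hw)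
  refine ⟨W, hW, V, hV, eWV, _, hzW, hM.lpull hP g hW eW, ?_⟩
  letI := (p.appLE V U eU).hom.toAlgebra
  letI : Algebra Γ(X, U) Γ(Z, W) := (g.appLE U W eW).hom.toAlgebra
  letI : Algebra Γ(S, V) Γ(Z, W) := ((g ≫ p).appLE V W eWV).hom.toAlgebra
  haveI : IsScalarTower Γ(S, V) Γ(X, U) Γ(Z, W) := IsScalarTower.of_algebraMap_eq fun a =>
    congr($((Scheme.Hom.appLE_comp_appLE g p V U W eU eW).symm).hom a)
  haveI : Algebra.FiniteType Γ(S, V) Γ(X, U) := p.finiteType_appLE hV hU eU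
  haveI : Module.Flat Γ(X, U) Γ(Z, W) :=
    HasRingHomProperty.appLE (P := @Flat) g inferInstance ⟨U, hU⟩ ⟨W, hW⟩ eW
  haveI : Algebra.FinitePresentation Γ(X, U) Γ(Z, W) :=
    HasRingHomProperty.appLE (P := @LocallyOfFinitePresentation) g inferInstance ⟨U, hU⟩ ⟨W, hW⟩ eW
  exact RingRelPC.relPC_ext (isPseudoCoherentHom_of_flat _ _) hP (hM.relPC_of_rel hE hV eU)

/-- Descent on one affine open of the source. -/
theorem relPC_of_source_cover {J : Type} [Finite J] (Xi : J → Scheme.{u}) (g : ∀ j, Xi j ⟶ X)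
    [∀ j, Flat (g j)] [∀ j, LocallyOfFinitePresentation (g j)] [∀ j, DCoh.HasLpull (g j)]
    {E : DCoh.D X} {m : ℤ} (hrel : ∀ j, DerSch.IsPseudoCoherentRel (g j ≫ p) m ((DCoh.Lpull (g j)).obj E))
    {U : X.Opens} (hU : IsAffineOpen U) {V : S.Opens} (hV : IsAffineOpen V) (eU : U ≤ p ⁻¹ᵁ V)
    (W : ∀ j, (Xi j).Opens) (hW : ∀ j, IsAffineOpen (W j)) (eW : ∀ j, W j ≤ g j ⁻¹ᵁ U)
    (hcov : ∀ x ∈ U, ∃ (j : J) (t : Xi j), t ∈ W j ∧ g j t = x)
    {P : DRing.Cx Γ(X, U)} (hP : H4DR.TorAmp.KF Γ(X, U) P) (hM : Rep hU E (DRing.toD P)) :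
    letI := (p.appLE V U eU).hom.toAlgebra
    DerCA.IsRelPseudoCoherent Γ(S, V) Γ(X, U) m (DRing.toD P) := by
  haveI := Fintype.ofFinite J
  letI := (p.appLE V U eU).hom.toAlgebra
  haveI : Algebra.FiniteType Γ(S, V) Γ(X, U) := p.finiteType_appLE hV hU eU
  have eWV : ∀ j, W j ≤ (g j ≫ p) ⁻¹ᵁ V := fun j w hw => eU (eW j hw)
  letI : ∀ j, Algebra Γ(X, U) Γ(Xi j, W j) := fun j => ((g j).appLE U (W j) (eW j)).hom.toAlgebra
  letI : ∀ j, Algebra Γ(S, V) Γ(Xi j, W j) := fun j => ((g j ≫ p).appLE V (W j) (eWV j)).hom.toAlgebra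
  haveI : ∀ j, IsScalarTower Γ(S, V) Γ(X, U) Γ(Xi j, W j) := fun j => IsScalarTower.of_algebraMap_eq fun a =>
    congr($((Scheme.Hom.appLE_comp_appLE (g j) p V U (W j) eU (eW j)).symm).hom a)
  haveI : ∀ j, Module.Flat Γ(X, U) Γ(Xi j, W j) := fun j =>
    HasRingHomProperty.appLE (P := @Flat) (g j) inferInstance ⟨U, hU⟩ ⟨W j, hW j⟩ (eW j)
  haveI : ∀ j, Algebra.FinitePresentation Γ(X, U) Γ(Xi j, W j) := fun j =>
    HasRingHomProperty.appLE (P := @LocallyOfFinitePresentation) (g j) inferInstance ⟨U, hU⟩ ⟨W j, hW j⟩ (eW j)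
  let B := ∀ j, Γ(Xi j, W j)
  haveI : Algebra.FinitePresentation Γ(X, U) B := inferInstance
  haveI : Algebra.FiniteType Γ(S, V) B :=
    Algebra.FiniteType.trans (‹_› : Algebra.FiniteType Γ(S, V) Γ(X, U)) inferInstance
  haveI : IsScalarTower Γ(S, V) Γ(X, U) B := IsScalarTower.of_algebraMap_eq fun a =>
    funext fun j => IsScalarTower.algebraMap_apply Γ(S, V) Γ(X, U) Γ(Xi j, W j) a
  haveI : Module.FaithfullyFlat Γ(X, U) B := by
    haveI : Module.Flat Γ(X, U) B :=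
      Module.Flat.of_linearEquiv (DirectSum.linearEquivFunOnFintype Γ(X, U) J fun j => Γ(Xi j, W j)).symm
    refine Module.FaithfullyFlat.of_comap_surjective fun x => ?_
    obtain ⟨j, t, ht, htx⟩ := hcov (hU.fromSpec x) (hU.range_fromSpec.le ⟨x, rfl⟩)
    obtain ⟨w, rfl⟩ := (hW j).range_fromSpec.ge ht
    refine ⟨PrimeSpectrum.comap (Pi.evalRingHom (fun j => Γ(Xi j, W j)) j) w, ?_⟩
    refine hU.fromSpec.isOpenEmbedding.injective (Eq.trans ?_ htx)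
    rw [← PrimeSpectrum.comap_comp_apply]
    exact congr($(IsAffineOpen.SpecMap_appLE_fromSpec (g j) hU (hW j) (eW j)) w)
  refine RingRelPC.relPC_of_fppf (B := B) hP m
    (RingRelPC.relPC_of_pi (fun j => (Γ(Xi j, W j) : Type u)) (fun j => ?_) hP)
  haveI : LocallyOfFiniteType (g j ≫ p) := (hrel j).1
  exact (hM.lpull hP (g j) (hW j) (eW j)).relPC_of_rel (hrel j) hV (eWV j)

/-- fppf descent on the source. -/
theorem rel_of_fppf_source {ι : Type u} (Xi : ι → Scheme.{u}) (g : ∀ i, Xi i ⟶ X) [∀ i, Flat (g i)]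
    [∀ i, LocallyOfFinitePresentation (g i)] (hcov : ∀ x : X, ∃ (i : ι) (y : Xi i), g i y = x)
    [∀ i, DCoh.HasLpull (g i)] {m : ℤ} {E : DCoh.D X} (hq : DCoh.IsQCohD E)
    (h : ∀ i, DerSch.IsPseudoCoherentRel (g i ≫ p) m ((DCoh.Lpull (g i)).obj E)) :
    DerSch.IsPseudoCoherentRel p m E := by
  refine rel_of_local_relPC p m E fun x => ?_
  obtain ⟨_, ⟨V, hV, rfl⟩, hxV, -⟩ :=
    S.isBasis_affineOpens.exists_subset_of_mem_open (Set.mem_univ (p x)) isOpen_univ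
  obtain ⟨_, ⟨U, hU, rfl⟩, hxU, eU⟩ :=
    X.isBasis_affineOpens.exists_subset_of_mem_open (show x ∈ p ⁻¹ᵁ V from hxV) (p ⁻¹ᵁ V).2
  obtain ⟨P, hP, hM⟩ := exists_repCx (U := U) hU hq
  obtain ⟨N, i, W, hW, hc⟩ := fin_cover_fppf Xi g hcov U hU
  exact ⟨U, hU, V, hV, eU, _, hxU, hM, relPC_of_source_cover p (fun j => Xi (i j)) (fun j => g (i j))
    (fun j => h (i j)) hU hV eU W (fun j => (hW j).1) (fun j => (hW j).2) hc hP hM⟩

end Groth.Agent.H8Props.RelPC
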