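import Groth.Agent.H8Props.RelPC
import Groth.Agent.H8Props.RelPCAway
import Groth.Agent.H8Props.PushRestrictSquare

/-!
# Localising charts
-/

set_option autoImplicit false
set_option linter.style.haveILetI false
set_option backward.isDefEq.respectTransparency false

universe u

open CategoryTheory CategoryTheory.Limits AlgebraicGeometry Pretriangulated

attribute [local instance] HasDerivedCategory.standard

namespace Groth.Agent.H8Props.RelPC

open H16Derived.KFlat.Stalk PushPC

variable {X Y : Scheme.{u}} {P S : Type u} [CommRing P] [CommRing S]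

/-- The morphism to an affine scheme defined by a ring map to the sections on an open. -/
noncomputable abbrev cimm (U : X.Opens) (φ : P →+* Γ(X, U)) :
    (U : Scheme.{u}) ⟶ Spec (CommRingCat.of P) :=
  U.toSpecΓ ≫ Spec.map (CommRingCat.ofHom φ)

/-- The pseudo-coherence test along a closed immersion into an affine scheme. -/
def CPC (m : ℤ) (K : DCoh.D X) (U : X.Opens) (φ : P →+* Γ(X, U)) : Prop :=
  ∀ _ : IsClosedImmersion (cimm U φ),
    DCoh.IsPseudoCoherentD m ((pushD (cimm U φ)).obj ((rd U.ι).obj K))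

theorem isClosedImmersion_cimm {U : X.Opens} (hU : IsAffineOpen U) (φ : P →+* Γ(X, U))
    (hφ : Function.Surjective φ) : IsClosedImmersion (cimm U φ) := by
  haveI : IsIso U.toSpecΓ := by
    rw [← hU.isoSpec_hom]
    infer_instance
  haveI : IsClosedImmersion (Spec.map (CommRingCat.ofHom φ)) :=
    IsClosedImmersion.spec_of_surjective _ hφ
  infer_instance

theorem cpc_iff_chartPC {U : X.Opens} (hU : IsAffineOpen U) {V : Y.Opens} {n : ℕ}
    (φ : MvPolynomial (Fin n) Γ(Y, V) →+* Γ(X, U)) (hφ : Function.Surjective φ) (m : ℤ) (K : DCoh.D X) :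
    CPC m K U φ ↔ DerSch.ChartPC m K U V φ := by
  haveI := isClosedImmersion_chartImm hU φ hφ
  rw [chartPC_iff]
  exact ⟨fun h => h (isClosedImmersion_chartImm hU φ hφ), fun h _ => h⟩

/-- Composing with a surjection having finite free syzygies. -/
theorem cpc_comp_iff {U : X.Opens} (hU : IsAffineOpen U) (φ : S →+* Γ(X, U)) (hφ : Function.Surjective φ)
    (s : P →+* S) (hs : Function.Surjective s) (hs' : PseudoCoh.RFP s) (m : ℤ) (K : DCoh.D X) :
    CPC m K U (φ.comp s) ↔ CPC m K U φ := by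
  haveI := isClosedImmersion_cimm hU φ hφ
  haveI := isClosedImmersion_cimm hU (φ.comp s) (hφ.comp hs)
  haveI : IsClosedImmersion (Spec.map (CommRingCat.ofHom s)) :=
    IsClosedImmersion.spec_of_surjective _ hs
  have e : cimm U φ ≫ Spec.map (CommRingCat.ofHom s) = cimm U (φ.comp s) := by
    simp only [Category.assoc, ← Spec.map_comp]
    rfl
  have key := pc_pushD_iff _ (pcStr_specMap s hs hs') ((pushD (cimm U φ)).obj ((rd U.ι).obj K)) m
  exact ⟨fun h _ => key.2 (isPseudoCoherentD_of_iso (pushDComp _ _ _ e _) (h inferInstance)),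
    fun h _ => isPseudoCoherentD_of_iso (pushDComp _ _ _ e _).symm (key.1 (h inferInstance))⟩

/-- Preimages of basic opens under `U ⟶ Spec Γ(X, U)`. -/
theorem toSpecΓ_preimage (U : X.Opens) (s : Γ(X, U)) :
    U.toSpecΓ ⁻¹ᵁ PrimeSpectrum.basicOpen s = U.ι ⁻¹ᵁ X.basicOpen s := by
  rw [Scheme.preimage_basicOpen, Scheme.Opens.toSpecΓ, Scheme.Hom.comp_preimage,
    SpecMap_preimage_basicOpen]
  refine (Scheme.toSpecΓ_preimage_basicOpen _ _).trans ?_
  refine (Scheme.basicOpen_res_eq _ _ (eqToHom (X := U.ι ⁻¹ᵁ U) (by simp)).op).symm.trans ?_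
  refine congrArg (fun t => (U : Scheme.{u}).basicOpen t) ?_
  rw [Scheme.Opens.ι_app_self, Scheme.Opens.topIso_inv]
  erw [← CommRingCat.comp_apply, ← Functor.map_comp]
  rfl

section Localize

variable [Algebra P S] (h : P) [IsLocalization.Away h S] {U U' : X.Opens} (φ : P →+* Γ(X, U))
  (φ' : S →+* Γ(X, U'))

theorem isPullback_cimm (hU' : U' = X.basicOpen (φ h))
    (hcomp : φ'.comp (algebraMap P S) =
      (X.presheaf.map (homOfLE (hU' ▸ X.basicOpen_le (φ h) : U' ≤ U)).op).hom.comp φ) :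
    IsPullback (cimm U' φ') (X.homOfLE (hU' ▸ X.basicOpen_le (φ h) : U' ≤ U))
      (Spec.map (CommRingCat.ofHom (algebraMap P S))) (cimm U φ) := by
  haveI := IsOpenImmersion.of_isLocalization (R := P) (S := S) h
  have hle : U' ≤ U := hU' ▸ X.basicOpen_le (φ h)
  have w : cimm U' φ' ≫ Spec.map (CommRingCat.ofHom (algebraMap P S)) = X.homOfLE hle ≫ cimm U φ := by
    rw [Category.assoc, ← Category.assoc (X.homOfLE hle), ← Scheme.Opens.toSpecΓ_SpecMap_presheaf_map U' U hle,
      Category.assoc, ← Spec.map_comp, ← Spec.map_comp]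
    exact congrArg (fun t => U'.toSpecΓ ≫ Spec.map t) (CommRingCat.hom_ext hcomp)
  refine IsOpenImmersion.isPullback _ _ _ _ w.symm ?_
  have hr : (Spec.map (CommRingCat.ofHom (algebraMap P S))).opensRange = PrimeSpectrum.basicOpen h :=
    TopologicalSpace.Opens.ext (PrimeSpectrum.localization_away_comap_range S h)
  rw [Scheme.opensRange_homOfLE, hr, Scheme.Hom.comp_preimage, SpecMap_preimage_basicOpen, hU']
  exact toSpecΓ_preimage U (φ h)

/-- Localisation preserves the test. -/
theorem cpc_localize (hφ : Function.Surjective φ) (hU : IsAffineOpen U) (hU' : U' = X.basicOpen (φ h))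
    (hcomp : φ'.comp (algebraMap P S) =
      (X.presheaf.map (homOfLE (hU' ▸ X.basicOpen_le (φ h) : U' ≤ U)).op).hom.comp φ)
    (m : ℤ) (K : DCoh.D X) (hK : CPC m K U φ) : CPC m K U' φ' := by
  intro _
  haveI := isClosedImmersion_cimm hU φ hφ
  haveI := IsOpenImmersion.of_isLocalization (R := P) (S := S) h
  have hle : U' ≤ U := hU' ▸ X.basicOpen_le (φ h)
  exact isPseudoCoherentD_of_iso
    (rdPushDSquare (isPullback_cimm h φ φ' hU' hcomp) _ ≪≫ (pushD (cimm U' φ')).mapIso
      (rdComp (X.homOfLE hle) U.ι U'.ι (X.homOfLE_ι hle) K).symm)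
    (isPseudoCoherentD_rd _ (hK inferInstance))

/-- The test near the basic open is the test on it. -/
theorem exists_hasApprox_of_cpc (hφ : Function.Surjective φ) (hU : IsAffineOpen U)
    (hU' : U' = X.basicOpen (φ h)) (hφ' : Function.Surjective φ')
    (hcomp : φ'.comp (algebraMap P S) =
      (X.presheaf.map (homOfLE (hU' ▸ X.basicOpen_le (φ h) : U' ≤ U)).op).hom.comp φ)
    (m : ℤ) (K : DCoh.D X) [IsClosedImmersion (cimm U φ)] (hK : CPC m K U' φ')
    (x : Spec (CommRingCat.of P)) (hx : x ∈ PrimeSpectrum.basicOpen h) :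
    ∃ (W : Scheme.{u}) (j : W ⟶ Spec (CommRingCat.of P)) (_ : IsOpenImmersion j),
      x ∈ j.opensRange ∧ HasApprox m j ((pushD (cimm U φ)).obj ((rd U.ι).obj K)) := by
  have hle : U' ≤ U := hU' ▸ X.basicOpen_le (φ h)
  haveI : IsClosedImmersion (cimm U' φ') := isClosedImmersion_cimm (hU' ▸ hU.basicOpen _) φ' hφ'
  haveI := IsOpenImmersion.of_isLocalization (R := P) (S := S) h
  let j := Spec.map (CommRingCat.ofHom (algebraMap P S))
  obtain ⟨u, hu⟩ : x ∈ Set.range j := (PrimeSpectrum.localization_away_comap_range S h).symm ▸ hx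
  have h1 : DCoh.IsPseudoCoherentD m ((rd j).obj ((pushD (cimm U φ)).obj ((rd U.ι).obj K))) :=
    isPseudoCoherentD_of_iso (rdPushDSquare (isPullback_cimm h φ φ' hU' hcomp) _ ≪≫
      (pushD (cimm U' φ')).mapIso (rdComp (X.homOfLE hle) U.ι U'.ι (X.homOfLE_ι hle) K).symm).symm
      (hK inferInstance)
  obtain ⟨W, huW, hW⟩ := (isPseudoCoherentD_iff _ _).1 h1 u
  exact ⟨_, W.ι ≫ j, inferInstance, ⟨⟨u, huW⟩, hu⟩, hW.of_rd⟩

end Localize

end Groth.Agent.H8Props.RelPC
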