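import Groth.Agent.H26Tor.BaseChange
import Groth.Prelude.Def_DRing2
import Mathlib.LinearAlgebra.TensorProduct.RightExactness

/-!
# Bounded above exact complexes of modules which are Tor independent of an algebra
-/

set_option autoImplicit false
set_option linter.style.haveILetI false
set_option backward.isDefEq.respectTransparency false

universe u

open CategoryTheory CategoryTheory.Limits MonoidalCategory TensorProduct

namespace Groth.Agent.H8Props.TorIndepCx

variable {R : Type u} [CommRing R] {M : ModuleCat.{u} R} (L : ProjectiveResolution M)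

/-- No higher `Tor` against `M`. -/
def Good (N : ModuleCat.{u} R) : Prop :=
  ∀ p : ℕ, IsZero (((H26Tor.leftRes L).obj N).homology (p + 1))

variable {L}

theorem good_kernel {S : ShortComplex (ModuleCat.{u} R)} (hS : S.ShortExact) (h₂ : Good L S.X₂)
    (h₃ : Good L S.X₃) : Good L S.X₁ ∧ Mono (M ◁ S.f) := by
  obtain ⟨w, hU⟩ := H26Tor.leftRes_shortExact L hS
  refine ⟨fun p => (hU.homology_exact₁ (p + 2) (p + 1) rfl).isZero_X₂ ((h₃ (p + 1)).eq_of_src _ _)
    ((h₂ p).eq_of_tgt _ _), ?_⟩
  haveI : Mono (HomologicalComplex.homologyMap ((H26Tor.leftRes L).map S.f) 0) :=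
    (hU.homology_exact₁ 1 0 rfl).mono_g ((h₃ 0).eq_of_src _ _)
  haveI := H26Tor.isIso_leftResZero L S.X₁
  haveI := H26Tor.isIso_leftResZero L S.X₂
  rw [show M ◁ S.f = inv (H26Tor.leftResZero L S.X₁) ≫
      HomologicalComplex.homologyMap ((H26Tor.leftRes L).map S.f) 0 ≫ H26Tor.leftResZero L S.X₂ by
    rw [H26Tor.leftResZero_naturality, IsIso.inv_hom_id_assoc]]
  infer_instance

theorem good_of_isZero {N : ModuleCat.{u} R} (h : IsZero N) : Good L N := fun p => by
  rw [← HomologicalComplex.exactAt_iff_isZero_homology, HomologicalComplex.exactAt_iff]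
  exact ShortComplex.exact_of_isZero_X₂ (((H26Tor.leftRes L).obj N).sc (p + 1))
    ((tensorLeft (L.complex.X (p + 1))).map_isZero h)

/-- An exact complex, bounded above, with good terms, stays exact after tensoring with `M`. -/
theorem exact_tensor (C : DRing.Cx R) (b : ℤ) (hb : DRing.VanishesAbove C b) (hex : ∀ i, C.ExactAt i)
    (hgood : ∀ i, Good L (C.X i)) (j i : ℤ) (hji : j + 1 = i) :
    Function.Exact ((C.d j i).hom.lTensor M) ((C.d i (i + 1)).hom.lTensor M) := by
  subst hji
  let Z : ∀ i : ℤ, Submodule R (C.X i) := fun i => LinearMap.ker (C.d i (i + 1)).hom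
  have hran : ∀ j k : ℤ, j + 1 = k → LinearMap.range (C.d j k).hom = Z k := fun j k hjk => by
    have h := ((C.exactAt_iff' j k (k + 1) (by simp; omega) (by simp)).1 (hex k)).moduleCat_range_eq_ker
    exact h
  let e : ∀ i : ℤ, C.X i →ₗ[R] Z (i + 1) := fun i =>
    (C.d i (i + 1)).hom.codRestrict _ fun x => (hran i (i + 1) rfl).le (LinearMap.mem_range_self _ x)
  have he : ∀ i, Function.Surjective (e i) := fun i z => by
    obtain ⟨x, hx⟩ := (hran i (i + 1) rfl).ge z.2
    exact ⟨x, Subtype.ext hx⟩
  have hexact : ∀ i, Function.Exact (Z i).subtype (e i) := fun i x => by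
    rw [Submodule.coe_subtype, Subtype.range_coe_subtype]
    exact ⟨fun h => congrArg Subtype.val h, fun h => Subtype.ext h⟩
  have key : ∀ (k : ℕ) (i : ℤ), b + 1 - i ≤ k →
      Good L (ModuleCat.of R (Z i)) ∧ Function.Injective ((Z i).subtype.lTensor M) := by
    intro k
    induction k with
    | zero =>
      intro i hi
      haveI := ModuleCat.subsingleton_of_isZero (hb i (by omega))
      exact ⟨good_of_isZero (ModuleCat.isZero_of_subsingleton _),
        fun x y _ => (Subsingleton.elim x y)⟩
    | succ k ih =>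
      intro i hi
      obtain ⟨h₃, -⟩ := ih (i + 1) (by omega)
      let S : ShortComplex (ModuleCat.{u} R) :=
        ShortComplex.moduleCatMk (Z i).subtype (e i) (LinearMap.ext fun x => Subtype.ext x.2)
      have hS : S.ShortExact :=
        { exact := (ShortComplex.ShortExact.moduleCat_exact_iff_function_exact S).2 (hexact i)
          mono_f := (ModuleCat.mono_iff_injective _).2 Subtype.val_injective
          epi_g := (ModuleCat.epi_iff_surjective _).2 (he i) }
      obtain ⟨h₁, h₂⟩ := good_kernel hS (hgood i) h₃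
      exact ⟨h₁, (ModuleCat.mono_iff_injective (M ◁ S.f)).1 h₂⟩
  intro x
  constructor
  · intro hx
    have h1 : (e (j + 1)).lTensor M x = 0 := by
      apply (key (b + 1 - (j + 1 + 1)).toNat (j + 1 + 1) (by omega)).2
      rw [map_zero, ← LinearMap.lTensor_comp_apply]
      exact hx
    obtain ⟨y, rfl⟩ := ((lTensor_exact M (hexact (j + 1)) (he (j + 1))) x).1 h1
    obtain ⟨z, rfl⟩ := LinearMap.lTensor_surjective M (he j) y
    exact ⟨z, by rw [← LinearMap.lTensor_comp_apply]; rfl⟩
  · rintro ⟨z, rfl⟩
    rw [← LinearMap.lTensor_comp_apply, ← ModuleCat.hom_comp, C.d_comp_d]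
    exact DFunLike.congr_fun (LinearMap.lTensor_zero M) z

/-- The same for extension of scalars. -/
theorem exactAt_extend {R' : Type u} [CommRing R'] [Algebra R R']
    (L : ProjectiveResolution (ModuleCat.of R R')) (C : DRing.Cx R) (b : ℤ)
    (hb : DRing.VanishesAbove C b) (hex : ∀ i, C.ExactAt i) (hgood : ∀ i, Good L (C.X i)) (i : ℤ) :
    (((ModuleCat.extendScalars.{u, u, u} (algebraMap R R')).mapHomologicalComplex
      (ComplexShape.up ℤ)).obj C).ExactAt i := by
  rw [HomologicalComplex.exactAt_iff' _ (i - 1) i (i + 1) (by simp) (by simp),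
    ShortComplex.ShortExact.moduleCat_exact_iff_function_exact]
  have hext : ∀ {U V : ModuleCat.{u} R} (h : U ⟶ V) (t : R' ⊗[R] U),
      (ModuleCat.extendScalars.{u, u, u} (algebraMap R R')).map h (H26Tor.extendEquiv U t) =
        H26Tor.extendEquiv V (h.hom.lTensor R' t) := fun h t => by
    induction t using TensorProduct.induction_on with
    | zero => simp only [map_zero]
    | add a b ha hb => simp only [map_add, ha, hb]
    | tmul s m => rfl
  have h0 := exact_tensor (L := L) C b hb hex hgood (i - 1) i (sub_add_cancel i 1)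
  intro x
  obtain ⟨y, rfl⟩ := (H26Tor.extendEquiv (A' := R') (C.X i)).surjective x
  show (ModuleCat.extendScalars.{u, u, u} (algebraMap R R')).map (C.d i (i + 1)) (H26Tor.extendEquiv _ y) = 0 ↔
    H26Tor.extendEquiv _ y ∈ Set.range ((ModuleCat.extendScalars.{u, u, u} (algebraMap R R')).map (C.d (i - 1) i))
  rw [hext, LinearEquiv.map_eq_zero_iff]
  refine (h0 y).trans ⟨fun ⟨z, hz⟩ => ⟨H26Tor.extendEquiv _ z, by rw [hext]; exact congrArg _ hz⟩, ?_⟩
  rintro ⟨z, hz⟩
  obtain ⟨z, rfl⟩ := (H26Tor.extendEquiv (A' := R') (C.X (i - 1))).surjective z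
  rw [hext] at hz
  exact ⟨z, (H26Tor.extendEquiv _).injective hz⟩

theorem exact_lTensor_of_flat {A : Type u} [CommRing A] [Algebra R A] {X Y Z : Type u}
    [AddCommGroup X] [Module R X] [AddCommGroup Y] [Module R Y] [AddCommGroup Z] [Module R Z]
    (f : X →ₗ[R] Y) (g : Y →ₗ[R] Z) (h : Function.Exact (f.lTensor A) (g.lTensor A))
    (N : Type u) [AddCommGroup N] [Module A N] [Module R N] [IsScalarTower R A N] [Module.Flat A N] :
    Function.Exact (f.lTensor N) (g.lTensor N) := by
  have hF := Module.Flat.lTensor_exact (R := A) N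
    (f := TensorProduct.AlgebraTensorModule.lTensor A A f)
    (g := TensorProduct.AlgebraTensorModule.lTensor A A g) h
  let c : ∀ (W : Type u) [AddCommGroup W] [Module R W], N ⊗[A] (A ⊗[R] W) ≃ₗ[A] N ⊗[R] W :=
    fun W _ _ => TensorProduct.AlgebraTensorModule.cancelBaseChange R A A N W
  have comm : ∀ {U V : Type u} [AddCommGroup U] [Module R U] [AddCommGroup V] [Module R V]
      (k : U →ₗ[R] V) (t : N ⊗[A] (A ⊗[R] U)),
      c V ((TensorProduct.AlgebraTensorModule.lTensor A A k).lTensor N t) = k.lTensor N (c U t) := by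
    intro U V _ _ _ _ k t
    induction t using TensorProduct.induction_on with
    | zero => simp only [map_zero]
    | add a b ha hb => simp only [map_add, ha, hb]
    | tmul n s =>
      induction s using TensorProduct.induction_on with
      | zero => simp only [TensorProduct.tmul_zero, map_zero]
      | add a b ha hb => simp only [TensorProduct.tmul_add, map_add, ha, hb]
      | tmul a w => simp [c]
  intro y
  obtain ⟨t, rfl⟩ := (c Y).surjective y
  rw [← comm, LinearEquiv.map_eq_zero_iff]
  refine (hF t).trans ⟨fun ⟨s, hs⟩ => ⟨c X s, by rw [← comm, hs]⟩, ?_⟩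
  rintro ⟨s, hs⟩
  obtain ⟨s, rfl⟩ := (c X).surjective s
  rw [← comm] at hs
  exact ⟨s, (c Y).injective hs⟩

theorem exact_comm_iff {N X Y Z : Type u} [AddCommGroup N] [Module R N]
    [AddCommGroup X] [Module R X] [AddCommGroup Y] [Module R Y] [AddCommGroup Z] [Module R Z]
    (f : X →ₗ[R] Y) (g : Y →ₗ[R] Z) :
    Function.Exact (f.rTensor N) (g.rTensor N) ↔ Function.Exact (f.lTensor N) (g.lTensor N) :=
  (Function.Exact.iff_of_ladder_linearEquiv (e₁ := TensorProduct.comm R X N)
    (e₂ := TensorProduct.comm R Y N) (e₃ := TensorProduct.comm R Z N)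
    (TensorProduct.ext' fun _ _ => rfl) (TensorProduct.ext' fun _ _ => rfl)).symm

variable {A : Type u} [CommRing A] [Algebra R A]

/-- A flat module over an algebra which is Tor independent of `M` is good. -/
theorem good_of_flat
    (hA : ∀ p : ℕ, 0 < p → Subsingleton (((Tor (ModuleCat.{u} R) p).obj (ModuleCat.of R A)).obj M))
    (N : ModuleCat.{u} A) [Module.Flat A N] :
    Good L ((ModuleCat.restrictScalars.{u} (algebraMap R A)).obj N) := fun p => by
  let N₀ : ModuleCat.{u} R := (ModuleCat.restrictScalars.{u} (algebraMap R A)).obj N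
  letI : Module R N := Module.compHom N (algebraMap R A)
  haveI : IsScalarTower R A N := .of_algebraMap_smul fun _ _ => rfl
  have h1 : ((((tensoringLeft (ModuleCat.{u} R)).obj (ModuleCat.of R A)).mapHomologicalComplex
      (ComplexShape.down ℕ)).obj L.complex).ExactAt (p + 1) := by
    haveI := hA (p + 1) (Nat.succ_pos p)
    rw [HomologicalComplex.exactAt_iff_isZero_homology]
    exact (ModuleCat.isZero_of_subsingleton (((Tor (ModuleCat.{u} R) (p + 1)).obj (ModuleCat.of R A)).obj M)).of_iso
      (L.isoLeftDerivedObj ((tensoringLeft (ModuleCat.{u} R)).obj (ModuleCat.of R A)) (p + 1)).symm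
  rw [HomologicalComplex.exactAt_iff' _ (p + 2) (p + 1) p (by simp) (by simp),
    ShortComplex.ShortExact.moduleCat_exact_iff_function_exact] at h1
  rw [← HomologicalComplex.exactAt_iff_isZero_homology,
    HomologicalComplex.exactAt_iff' _ (p + 2) (p + 1) p (by simp) (by simp),
    ShortComplex.ShortExact.moduleCat_exact_iff_function_exact]
  exact (exact_comm_iff (N := N₀) (L.complex.d (p + 2) (p + 1)).hom (L.complex.d (p + 1) p).hom).2
    (exact_lTensor_of_flat _ _ h1 N)

theorem good_biprod {N N' : ModuleCat.{u} R} (h : Good L N) (h' : Good L N') : Good L (N ⊞ N') :=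
  fun p => by
    let S : ShortComplex (ModuleCat.{u} R) := ShortComplex.mk (biprod.inl : N ⟶ N ⊞ N') biprod.snd (by simp)
    have hS : S.ShortExact :=
      ShortComplex.Splitting.shortExact
        { r := biprod.fst, s := biprod.inr, f_r := by simp [S], s_g := by simp [S],
          id := by simp [S] }
    obtain ⟨w, hU⟩ := H26Tor.leftRes_shortExact L hS
    exact (hU.homology_exact₂ (p + 1)).isZero_X₂ ((h p).eq_of_src _ _) ((h' p).eq_of_tgt _ _)

end Groth.Agent.H8Props.TorIndepCx
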