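import Groth.Agent.H8Props.RingRelPCExtend
import Groth.Agent.H8Props.TorIndepComplex
import Groth.Agent.S2137
import Groth.Agent.H4DR.TorAmp.Exists
import Groth.Agent.H1CAlg.Tor
import Mathlib.RingTheory.TensorProduct.MvPolynomial
import Mathlib.Algebra.Homology.HomotopyCategory.MappingCone

/-!
# Relative pseudo-coherence and Tor independent base change
-/

set_option autoImplicit false
set_option linter.style.haveILetI false
set_option backward.isDefEq.respectTransparency false

universe u

open CategoryTheory CategoryTheory.Limits TensorProduct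

attribute [local instance] HasDerivedCategory.standard

namespace Groth.Agent.H8Props.RingRelPC

open PseudoCoh

theorem good_of_iso' {R : Type u} [CommRing R] {M N N' : ModuleCat.{u} R} {L : ProjectiveResolution M}
    (e : N ≅ N') (h : TorIndepCx.Good L N) : TorIndepCx.Good L N' := fun p =>
  (h p).of_iso ((H26Tor.leftRes L ⋙ HomologicalComplex.homologyFunctor _ _ (p + 1)).mapIso e).symm

section

variable (R R' P P' A A' : Type u) [CommRing R] [CommRing R'] [CommRing P] [CommRing P'] [CommRing A]
  [CommRing A'] [Algebra R R'] [Algebra R P] [Algebra R A] [Algebra R P'] [Algebra P P'] [Algebra R' P']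
  [Algebra P A] [Algebra P A'] [Algebra A A'] [Algebra P' A'] [IsScalarTower R P P']
  [IsScalarTower R R' P'] [IsScalarTower R P A] [IsScalarTower P A A'] [IsScalarTower P P' A']
  [Algebra.IsPushout R R' P P'] [Algebra.IsPushout P P' A A'] [Module.Flat R P]
  [DRing.HasLBaseChange (algebraMap A A')]

theorem via_lbase_of_tor
    (htor : ∀ p : ℕ, 0 < p → Subsingleton (DRing.Tor R p A R')) (K : Dual.D A) (m : ℤ)
    (h : Via (algebraMap P A) m K) :
    Via (algebraMap P' A') m ((DRing.LBaseChange (algebraMap A A')).obj K) := by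
  let φ : P →+* P' := algebraMap P P'
  let res := ModuleCat.restrictScalars.{u} (algebraMap P A)
  obtain ⟨b, -, hb⟩ := H4DR.PCoh.exists_bound h
  obtain ⟨F, hF, ⟨eF⟩⟩ := H4DR.TorAmp.exists_projRep (K := K) (c := b) fun i hi => by
    haveI := hb i hi
    exact (hdRes (algebraMap P A) K i).toLinearEquiv.symm.injective.subsingleton
  let F₀ : DRing.Cx P := (res.mapHomologicalComplex (ComplexShape.up ℤ)).obj F
  have h₀ : DRing.IsPseudoCoherent P m (DRing.toD F₀) :=
    H4DR.PCoh.pc_of_iso ((DRing.restrictD (algebraMap P A)).mapIso eF.symm ≪≫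
      res.mapDerivedCategoryFactors.app F) h
  haveI := H4DR.TorAmp.hasLBaseChange φ
  obtain ⟨G, hG, ⟨eG⟩⟩ := H4DR.TorAmp.exists_projRep (K := DRing.toD F₀) (c := b) fun i hi => by
    haveI := hb i hi
    exact (H4DR.PCoh.hEquiv i ((DRing.restrictD (algebraMap P A)).mapIso eF.symm ≪≫
      res.mapDerivedCategoryFactors.app F)).symm.injective.subsingleton
  haveI := hG.isKProjective
  obtain ⟨f, hf⟩ := H16Derived.ProjLift.Q_map_surjective _ F₀ eG.hom
  haveI hfi : IsIso (DerivedCategory.Q.map f) := hf ▸ inferInstance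
  haveI : QuasiIso f := (DerivedCategory.isIso_Q_map_iff_quasiIso _ f).1 hfi
  let C := CochainComplex.mappingCone f
  have hC : ∀ i, C.ExactAt i := fun i =>
    ((H16Derived.AcyclicLES.quasiIso_iff_acyclic_mappingCone f).1 inferInstance i)
  let ψ := algebraMap R P
  let C₀ : DRing.Cx R := ((ModuleCat.restrictScalars.{u} ψ).mapHomologicalComplex (ComplexShape.up ℤ)).obj C
  let L := projectiveResolution (ModuleCat.of R R')
  have hCb : DRing.VanishesAbove C₀ b := fun i hi =>
    (ModuleCat.restrictScalars.{u} ψ).map_isZero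
      (HomologicalComplex.homotopyCofiber.isZero_X f i (res.map_isZero (hF.above i hi))
        fun j hij => hG.above j (by have : i + 1 = j := hij; omega))
  have hC₀ : ∀ i, C₀.ExactAt i := fun i => by
    have := hC i
    rw [HomologicalComplex.exactAt_iff] at this ⊢
    exact this.map (ModuleCat.restrictScalars.{u} ψ)
  have hgood : ∀ i, TorIndepCx.Good L (C₀.X i) := fun i => by
    haveI : Module.Flat P (G.X (i + 1)) := hG.flat _
    haveI : Module.Flat A (F.X i) := hF.flat _
    have g₁ : TorIndepCx.Good L ((ModuleCat.restrictScalars.{u} ψ).obj (G.X (i + 1))) :=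
      TorIndepCx.good_of_flat (fun p hp => by
        obtain ⟨k, rfl⟩ := Nat.exists_eq_succ_of_ne_zero hp.ne'
        exact ModuleCat.subsingleton_of_isZero
          (H1CAlg.isZero_Tor_of_flat (ModuleCat.of R P) (ModuleCat.of R R') k)) (G.X (i + 1))
    have g₂ : TorIndepCx.Good L ((ModuleCat.restrictScalars.{u} ψ).obj (F₀.X i)) := by
      have g : TorIndepCx.Good L ((ModuleCat.restrictScalars.{u} (algebraMap R A)).obj (F.X i)) :=
        TorIndepCx.good_of_flat htor (F.X i)
      exact good_of_iso' ((ModuleCat.restrictScalarsComp' ψ (algebraMap P A) (algebraMap R A)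
        (IsScalarTower.algebraMap_eq R P A)).app (F.X i)) g
    haveI := preservesBinaryBiproducts_of_preservesBiproducts (ModuleCat.restrictScalars.{u} ψ)
    exact good_of_iso' (((ModuleCat.restrictScalars.{u} ψ).mapIso
      (HomologicalComplex.homotopyCofiber.XIsoBiprod f i (i + 1) rfl) ≪≫
        (ModuleCat.restrictScalars.{u} ψ).mapBiprod _ _).symm) (TorIndepCx.good_biprod g₁ g₂)
  let E := ModuleCat.extendScalars.{u, u, u} φ
  have hEC : ∀ i, ((E.mapHomologicalComplex (ComplexShape.up ℤ)).obj C).ExactAt i := fun i => by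
    have h1 := (TorIndepCx.exactAt_extend L C₀ b hCb hC₀ hgood i).of_iso (bcCxIso R R' P P' C).symm
    rw [HomologicalComplex.exactAt_iff] at h1 ⊢
    exact (ShortComplex.exact_map_iff_of_faithful _ (ModuleCat.restrictScalars.{u} (algebraMap R' P'))).1 h1
  haveI : QuasiIso ((E.mapHomologicalComplex (ComplexShape.up ℤ)).map f) :=
    H16Derived.KFlat.quasiIso_map_of_cone E f fun _ i => hEC i
  have h₁ : DRing.IsPseudoCoherent P' m
      (DRing.toD ((E.mapHomologicalComplex (ComplexShape.up ℤ)).obj F₀)) := by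
    haveI : IsIso (DerivedCategory.Q.map ((E.mapHomologicalComplex (ComplexShape.up ℤ)).map f)) :=
      (DerivedCategory.isIso_Q_map_iff_quasiIso _ _).2 inferInstance
    refine H4DR.PCoh.pc_of_iso (asIso (DerivedCategory.Q.map ((E.mapHomologicalComplex (ComplexShape.up ℤ)).map f)))
      (H4DR.PCoh.pc_of_iso ((DRing.LBaseChange φ).mapIso eG.symm ≪≫
        H4DR.TorAmp.lbaseObj φ G (H4DR.TorAmp.isKFlat_of_flat hG.above hG.flat)) ?_)
    exact S2137.result φ _ m h₀
  exact H4DR.PCoh.pc_of_iso ((DRing.restrictD (algebraMap P' A')).mapIso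
    ((H4DR.TorAmp.lbaseObj (algebraMap A A') F (H4DR.TorAmp.isKFlat_of_flat hF.above hF.flat)).symm ≪≫
      (DRing.LBaseChange (algebraMap A A')).mapIso eF)) ((via_extend_iff P P' A A' F m).2 h₁)

end

variable {R A R' : Type u} [CommRing R] [CommRing A] [CommRing R'] [Algebra R A] [Algebra R R']

attribute [local instance] MvPolynomial.algebraMvPolynomial

theorem relPC_baseChange [Algebra.FiniteType R A]
    (htor : ∀ p : ℕ, 0 < p → Subsingleton (DRing.Tor R p A R'))
    [DRing.HasLBaseChange (Algebra.TensorProduct.includeRight : A →ₐ[R] R' ⊗[R] A).toRingHom]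
    (K : Dual.D A) (m : ℤ) (h : DerCA.IsRelPseudoCoherent R A m K) :
    DerCA.IsRelPseudoCoherent R' (R' ⊗[R] A) m
      ((DRing.LBaseChange (Algebra.TensorProduct.includeRight : A →ₐ[R] R' ⊗[R] A).toRingHom).obj K) := by
  obtain ⟨n, α, hα⟩ := exists_pres R A
  let P := MvPolynomial (Fin n) R
  let P' := MvPolynomial (Fin n) R'
  letI := Algebra.TensorProduct.rightAlgebra (R := R) (A := R') (B := A)
  letI : Algebra P A := α.toRingHom.toAlgebra
  haveI : IsScalarTower R P A := IsScalarTower.of_algebraMap_eq fun r => (α.commutes r).symm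
  let β : P' →ₐ[R'] R' ⊗[R] A := MvPolynomial.aeval fun i => (1 : R') ⊗ₜ α (MvPolynomial.X i)
  letI : Algebra P' (R' ⊗[R] A) := β.toRingHom.toAlgebra
  letI : Algebra P (R' ⊗[R] A) := ((algebraMap A (R' ⊗[R] A)).comp (algebraMap P A)).toAlgebra
  haveI : IsScalarTower P A (R' ⊗[R] A) := IsScalarTower.of_algebraMap_eq fun _ => rfl
  haveI : IsScalarTower R' P' (R' ⊗[R] A) := IsScalarTower.of_algebraMap_eq fun r => (β.commutes r).symm
  haveI : IsScalarTower P P' (R' ⊗[R] A) := IsScalarTower.of_algebraMap_eq' (MvPolynomial.ringHom_ext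
    (fun r => by
      simp [RingHom.algebraMap_toAlgebra, β, P, P', ← IsScalarTower.algebraMap_apply])
    (fun i => by simp [RingHom.algebraMap_toAlgebra, β, P, P']))
  haveI : IsScalarTower R A (R' ⊗[R] A) := IsScalarTower.of_algebraMap_eq fun r =>
    ((Algebra.TensorProduct.includeRight : A →ₐ[R] R' ⊗[R] A).commutes r).symm
  haveI : IsScalarTower R P (R' ⊗[R] A) := IsScalarTower.of_algebraMap_eq fun r => by
    rw [IsScalarTower.algebraMap_apply R A (R' ⊗[R] A), IsScalarTower.algebraMap_apply R P A]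
    rfl
  haveI : IsScalarTower R P' (R' ⊗[R] A) := IsScalarTower.of_algebraMap_eq fun r => by
    rw [IsScalarTower.algebraMap_apply R R' (R' ⊗[R] A),
      IsScalarTower.algebraMap_apply R' P' (R' ⊗[R] A), IsScalarTower.algebraMap_apply R R' P']
  haveI : Algebra.IsPushout R A R' (R' ⊗[R] A) := Algebra.IsPushout.symm inferInstance
  haveI : Algebra.IsPushout P A P' (R' ⊗[R] A) :=
    (Algebra.IsPushout.comp_iff (R := R) (S := P) (R' := R') (S' := P') (T := A)
      (T' := R' ⊗[R] A)).1 inferInstance
  haveI : Algebra.IsPushout P P' A (R' ⊗[R] A) := Algebra.IsPushout.symm inferInstance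
  have hβ : Function.Surjective β := fun z => by
    induction z using TensorProduct.induction_on with
    | zero => exact ⟨0, map_zero _⟩
    | add a b ha hb =>
      obtain ⟨x, rfl⟩ := ha
      obtain ⟨y, rfl⟩ := hb
      exact ⟨x + y, map_add _ _ _⟩
    | tmul r a =>
      obtain ⟨p, rfl⟩ := hα a
      refine ⟨MvPolynomial.C r * algebraMap P P' p, ?_⟩
      rw [map_mul, show β (algebraMap P P' p) = (1 : R') ⊗ₜ α p from
        (IsScalarTower.algebraMap_apply P P' (R' ⊗[R] A) p).symm]
      rw [show β (MvPolynomial.C r) = r ⊗ₜ (1 : A) from β.commutes r, Algebra.TensorProduct.tmul_mul_tmul,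
        mul_one, one_mul]
  haveI : DRing.HasLBaseChange (algebraMap A (R' ⊗[R] A)) :=
    ‹DRing.HasLBaseChange (Algebra.TensorProduct.includeRight : A →ₐ[R] R' ⊗[R] A).toRingHom›
  exact (relPC_iff_via β hβ m _).2
    (via_lbase_of_tor R R' P P' A (R' ⊗[R] A) htor K m ((relPC_iff_via α hα m K).1 h))

end Groth.Agent.H8Props.RingRelPC
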