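import Groth.Agent.H8Props.RingRelPC
import Groth.Agent.H4DR.PCoh.Attach

/-!
# Elementary properties of relative pseudo-coherence
-/

set_option autoImplicit false
set_option linter.style.haveILetI false

universe u

open CategoryTheory CategoryTheory.Limits Pretriangulated

attribute [local instance] HasDerivedCategory.standard

namespace Groth.Agent.H8Props.RingRelPC

variable {P A : Type u} [CommRing P] [CommRing A] (ψ : P →+* A)

/-- Cohomology commutes with restriction of scalars. -/
noncomputable def hdRes (K : Dual.D A) (i : ℤ) :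
    (DerivedCategory.homologyFunctor (ModuleCat.{u} P) i).obj ((DRing.restrictD ψ).obj K) ≅
      (ModuleCat.restrictScalars.{u} ψ).obj
        ((DerivedCategory.homologyFunctor (ModuleCat.{u} A) i).obj K) :=
  H4DR.PCoh.hMap (ModuleCat.restrictScalars.{u} ψ) i K

theorem subsingleton_hd_res {K : Dual.D A} {i : ℤ} (h : Subsingleton (Dual.HD A K i)) :
    Subsingleton (Dual.HD P ((DRing.restrictD ψ).obj K) i) :=
  H4DR.PCoh.subsingleton_map (ModuleCat.restrictScalars.{u} ψ) h

/-- Restriction of a module placed in degree zero. -/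
noncomputable def resInD (M : ModuleCat.{u} A) :
    (DRing.restrictD ψ).obj ((DerivedCategory.singleFunctor (ModuleCat.{u} A) 0).obj M) ≅
      (DerivedCategory.singleFunctor (ModuleCat.{u} P) 0).obj
        ((ModuleCat.restrictScalars.{u} ψ).obj M) :=
  ((ModuleCat.restrictScalars.{u} ψ).mapDerivedCategorySingleFunctor 0).app M

theorem via_inD_iff (M : ModuleCat.{u} A) (m : ℤ) :
    Via ψ m ((DerivedCategory.singleFunctor (ModuleCat.{u} A) 0).obj M) ↔
      DRing.IsPseudoCoherentModule P m ((ModuleCat.restrictScalars.{u} ψ).obj M) :=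
  ⟨H4DR.PCoh.pc_of_iso (resInD ψ M), H4DR.PCoh.pc_of_iso (resInD ψ M).symm⟩

theorem via_obj₃ {m : ℤ} {T : Triangle (Dual.D A)} (hT : T ∈ distTriang _) (h₁ : Via ψ (m + 1) T.obj₁)
    (h₂ : Via ψ m T.obj₂) : Via ψ m T.obj₃ :=
  H4DR.PCoh.pc_obj₃ ((DRing.restrictD ψ).mapTriangle.obj T)
    ((DRing.restrictD ψ).map_distinguished _ hT) h₁ h₂

theorem via_obj₂ {m : ℤ} {T : Triangle (Dual.D A)} (hT : T ∈ distTriang _) (h₁ : Via ψ m T.obj₁)
    (h₃ : Via ψ m T.obj₃) : Via ψ m T.obj₂ :=
  H4DR.PCoh.pc_obj₂ ((DRing.restrictD ψ).mapTriangle.obj T)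
    ((DRing.restrictD ψ).map_distinguished _ hT) h₁ h₃

theorem via_obj₁ {m : ℤ} {T : Triangle (Dual.D A)} (hT : T ∈ distTriang _) (h₂ : Via ψ (m + 1) T.obj₂)
    (h₃ : Via ψ m T.obj₃) : Via ψ (m + 1) T.obj₁ :=
  H4DR.PCoh.pc_obj₁ ((DRing.restrictD ψ).mapTriangle.obj T)
    ((DRing.restrictD ψ).map_distinguished _ hT) h₂ h₃

theorem via_of_retract {K X : Dual.D A} (i : K ⟶ X) (r : X ⟶ K) (h : i ≫ r = 𝟙 K) {m : ℤ}
    (hX : Via ψ m X) : Via ψ m K := by
  let F := DRing.restrictD ψ
  have hF : F.map i ≫ F.map r = 𝟙 (F.obj K) := by rw [← Functor.map_comp, h, F.map_id]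
  obtain ⟨b, -, hb⟩ := H4DR.PCoh.exists_bound hX
  refine H4DR.PCoh.pc_of_retract (b + 1 - m).toNat (F.map i) (F.map r) (hF ▸ inferInstance)
    (fun j hj => ?_) hX
  haveI := hb j (by omega)
  refine ⟨fun x y => ?_⟩
  have key : ∀ z, ((DerivedCategory.homologyFunctor (ModuleCat.{u} P) j).map (F.map r)).hom
      (((DerivedCategory.homologyFunctor (ModuleCat.{u} P) j).map (F.map i)).hom z) = z := fun z => by
    rw [← ModuleCat.comp_apply, ← Functor.map_comp, hF, CategoryTheory.Functor.map_id]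
    rfl
  rw [← key x, ← key y]
  exact congrArg _ (Subsingleton.elim _ _)

theorem finite_res_iff (hψ : Function.Surjective ψ) (M : ModuleCat.{u} A) :
    Module.Finite P ((ModuleCat.restrictScalars.{u} ψ).obj M) ↔ Module.Finite A M := by
  letI := ψ.toAlgebra
  letI : Module P M := Module.compHom M ψ
  haveI : IsScalarTower P A M := .of_algebraMap_smul fun _ _ => rfl
  haveI : Module.Finite P A := Module.Finite.of_surjective (Algebra.linearMap P A) hψ
  exact ⟨fun (h : Module.Finite P M) => Module.Finite.of_restrictScalars_finite P A M,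
    fun (_ : Module.Finite A M) => (Module.Finite.trans A M : Module.Finite P M)⟩

end Groth.Agent.H8Props.RingRelPC
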