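import Groth.Agent.H8Props.RingRelPCDescend
import Groth.Agent.H8Props.RingRelPCLocal
import Groth.Agent.H9Hens.EtaleQuotLift
import Mathlib.RingTheory.Spectrum.Prime.ChevalleyComplexity
import Mathlib.RingTheory.RingHom.Flat

/-!
# Étale descent of relative pseudo-coherence
-/

set_option autoImplicit false
set_option linter.style.haveILetI false
set_option backward.isDefEq.respectTransparency false

universe u

open CategoryTheory CategoryTheory.Limits TensorProduct

attribute [local instance] HasDerivedCategory.standard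

namespace Groth.Agent.H8Props.RingRelPC

open PseudoCoh

/-- A complex of modules killed by `k` vanishes after inverting `k`. -/
theorem pc_away_of_eq_zero {P A : Type u} [CommRing P] [CommRing A] [Algebra P A] (k : P)
    (hk : algebraMap P A k = 0) (K : DRing.Cx A) (m : ℤ) :
    DRing.IsPseudoCoherent (Localization.Away k) m (DRing.toD
      (extCx (algebraMap P (Localization.Away k)) (resCx (algebraMap P A) K))) := by
  refine H4DR.PCoh.pc_of_vanish fun i _ => ?_
  have hz : ∀ j, IsZero ((extCx (algebraMap P (Localization.Away k)) (resCx (algebraMap P A) K)).X j) := fun j => by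
    let N : ModuleCat.{u} P := (ModuleCat.restrictScalars.{u} (algebraMap P A)).obj (K.X j)
    haveI : Subsingleton (Localization.Away k ⊗[P] N) := by
      refine ⟨fun a b => ?_⟩
      have hz : ∀ z : Localization.Away k ⊗[P] N, z = 0 := fun z => by
        induction z using TensorProduct.induction_on with
        | zero => rfl
        | add a b ha hb => rw [ha, hb, add_zero]
        | tmul s x =>
          obtain ⟨u, hu⟩ := (IsLocalization.Away.algebraMap_isUnit (S := Localization.Away k) k).exists_left_inv
          have e : s = k • (s * u) := by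
            rw [Algebra.smul_def, mul_left_comm, mul_comm _ u, hu, mul_one]
          rw [e, TensorProduct.smul_tmul,
            show k • x = 0 from (congrArg (fun a : A => a • (x : K.X j)) hk).trans (zero_smul A _),
            TensorProduct.tmul_zero]
      rw [hz a, hz b]
    have hs : Subsingleton ((ModuleCat.extendScalars.{u, u, u} (algebraMap P (Localization.Away k))).obj N) :=
      (H26Tor.extendEquiv (A' := Localization.Away k) N).symm.injective.subsingleton
    exact @ModuleCat.isZero_of_subsingleton _ _ ((ModuleCat.extendScalars.{u, u, u} (algebraMap P (Localization.Away k))).obj N) hs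
  let W := extCx (algebraMap P (Localization.Away k)) (resCx (algebraMap P A) K)
  exact ModuleCat.subsingleton_of_isZero (IsZero.of_iso ((HomologicalComplex.exactAt_iff W i).2
    (ShortComplex.exact_of_isZero_X₂ (W.sc i) (hz i))).isZero_homology
    ((DerivedCategory.homologyFunctorFactors (ModuleCat.{u} (Localization.Away k)) i).app _))

/-- Étale algebras lift along surjections. -/
theorem exists_etale_lift {P A : Type u} [CommRing P] [CommRing A] [Algebra P A]
    (hs : Function.Surjective (algebraMap P A)) (A' : Type u) [CommRing A'] [Algebra A A']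
    [Algebra.Etale A A'] [Algebra P A'] [IsScalarTower P A A'] :
    ∃ (Q : Type u) (_ : CommRing Q) (_ : Algebra P Q) (_ : Algebra Q A') (_ : IsScalarTower P Q A'),
      Algebra.Etale P Q ∧ Algebra.IsPushout P Q A A' := by
  let I := RingHom.ker (algebraMap P A)
  let e : (P ⧸ I) ≃+* A := RingHom.quotientKerEquivOfSurjective hs
  letI : Algebra (P ⧸ I) A' := ((algebraMap A A').comp e.toRingHom).toAlgebra
  letI : Algebra (P ⧸ I) A := e.toRingHom.toAlgebra
  haveI : IsScalarTower (P ⧸ I) A A' := IsScalarTower.of_algebraMap_eq fun _ => rfl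
  haveI : IsScalarTower P (P ⧸ I) A' := IsScalarTower.of_algebraMap_eq fun x =>
    (IsScalarTower.algebraMap_apply P A A' x).trans rfl
  haveI : Algebra.Etale (P ⧸ I) A :=
    RingHom.etale_algebraMap.mp (RingHom.Etale.of_bijective e.bijective)
  haveI : Algebra.Etale (P ⧸ I) A' := Algebra.Etale.comp (P ⧸ I) A A'
  obtain ⟨Q, _, _, hQ, ⟨c⟩⟩ := H9Hens.exists_etale_lift_quotient P I A'
  letI : Algebra Q A' := ((c : (P ⧸ I) ⊗[P] Q →+* A').comp
    (Algebra.TensorProduct.includeRight : Q →ₐ[P] (P ⧸ I) ⊗[P] Q).toRingHom).toAlgebra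
  haveI : IsScalarTower P Q A' := IsScalarTower.of_algebraMap_eq fun x => by
    show _ = c ((1 : P ⧸ I) ⊗ₜ[P] algebraMap P Q x)
    rw [show ((1 : P ⧸ I) ⊗ₜ[P] algebraMap P Q x) = algebraMap (P ⧸ I) _ (Ideal.Quotient.mk I x) from
      ((Algebra.TensorProduct.includeRight : Q →ₐ[P] (P ⧸ I) ⊗[P] Q).commutes x).trans rfl, c.commutes]
    exact IsScalarTower.algebraMap_apply P (P ⧸ I) A' x
  refine ⟨Q, _, _, inferInstance, inferInstance, hQ, ?_⟩
  haveI : IsScalarTower P A A' := inferInstance
  haveI : Algebra.IsPushout P A Q A' := by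
    letI := Algebra.TensorProduct.rightAlgebra (R := P) (A := A) (B := Q)
    let σ : (P ⧸ I) ≃ₐ[P] A := AlgEquiv.ofRingEquiv (f := e) fun _ => rfl
    let Ψ : A ⊗[P] Q ≃ₐ[P] A' :=
      (Algebra.TensorProduct.congr σ.symm AlgEquiv.refl).trans (c.restrictScalars P)
    have hΨ : ∀ (a : A), Ψ (a ⊗ₜ[P] 1) = algebraMap A A' a := fun a => by
      show c (σ.symm a ⊗ₜ[P] (1 : Q)) = _
      refine (c.commutes (σ.symm a)).trans ?_
      show algebraMap A A' (e (σ.symm a)) = _
      exact congrArg _ (σ.apply_symm_apply a)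
    let Ψ' : A ⊗[P] Q ≃ₐ[A] A' := AlgEquiv.ofRingEquiv (f := Ψ.toRingEquiv) hΨ
    refine Algebra.IsPushout.of_equiv Ψ' (RingHom.ext fun q => ?_)
    show c (σ.symm 1 ⊗ₜ[P] q) = c ((1 : P ⧸ I) ⊗ₜ[P] q)
    rw [map_one]
  exact Algebra.IsPushout.symm inferInstance

/-- Descent along a faithfully flat étale algebra. -/
theorem relPC_of_etale {R A A' : Type u} [CommRing R] [CommRing A] [CommRing A'] [Algebra R A]
    [Algebra.FiniteType R A] [Algebra A A'] [Algebra R A'] [IsScalarTower R A A'] [Algebra.Etale A A']
    [Module.FaithfullyFlat A A'] (K : DRing.Cx A) (m : ℤ)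
    (h : DerCA.IsRelPseudoCoherent R A' m (DRing.toD (extCx (algebraMap A A') K))) :
    DerCA.IsRelPseudoCoherent R A m (DRing.toD K) := by
  classical
  obtain ⟨n, α, hα⟩ := exists_pres R A
  let P := MvPolynomial (Fin n) R
  letI : Algebra P A := α.toRingHom.toAlgebra
  letI : Algebra P A' := ((algebraMap A A').comp α.toRingHom).toAlgebra
  haveI : IsScalarTower P A A' := IsScalarTower.of_algebraMap_eq fun _ => rfl
  haveI : IsScalarTower R P A' := IsScalarTower.of_algebraMap_eq fun r => by
    show _ = algebraMap A A' (α (algebraMap R P r))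
    rw [α.commutes, ← IsScalarTower.algebraMap_apply]
  obtain ⟨Q, _, _, _, _, hQ, hpo⟩ := exists_etale_lift (P := P) hα A'
  haveI := hQ
  haveI := hpo
  letI : Algebra R Q := ((algebraMap P Q).comp (algebraMap R P)).toAlgebra
  haveI : IsScalarTower R P Q := IsScalarTower.of_algebraMap_eq fun _ => rfl
  haveI : IsScalarTower R Q A' := IsScalarTower.of_algebraMap_eq fun r => by
    rw [IsScalarTower.algebraMap_apply R P A', IsScalarTower.algebraMap_apply P Q A']
    rfl
  haveI : Module.Flat R Q := Module.Flat.trans R P Q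
  haveI : Algebra.FinitePresentation R Q := Algebra.FinitePresentation.trans R P Q
  have hsQ : Function.Surjective (algebraMap Q A') := fun z => by
    obtain ⟨t, rfl⟩ := (Algebra.IsPushout.equiv P Q A A').surjective z
    induction t using TensorProduct.induction_on with
    | zero => exact ⟨0, by rw [map_zero, map_zero]⟩
    | add a b ha hb =>
      obtain ⟨x, hx⟩ := ha
      obtain ⟨y, hy⟩ := hb
      exact ⟨x + y, by rw [map_add, map_add, hx, hy]⟩
    | tmul q a =>
      obtain ⟨p, rfl⟩ := hα a
      refine ⟨q * algebraMap P Q p, ?_⟩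
      rw [map_mul, ← IsScalarTower.algebraMap_apply, Algebra.IsPushout.equiv_tmul]
      rfl
  have h1 := (via_extend_iff P Q A A' K m).1
    ((relPC_iff_via_hom (PseudoCoh.isPseudoCoherentHom_of_flat R Q) (IsScalarTower.toAlgHom R Q A') hsQ m _).1 h)
  -- cover of `Spec P`
  let Z : Set (PrimeSpectrum P) := Set.range (PrimeSpectrum.comap (algebraMap P Q))
  have hop : IsOpen Z := (PrimeSpectrum.isOpenMap_comap_of_hasGoingDown_of_finitePresentation (R := P) (S := Q)).isOpen_range
  have hcov : Zᶜ ⊆ ⋃ k : RingHom.ker (algebraMap P A), (PrimeSpectrum.basicOpen (k : P) : Set (PrimeSpectrum P)) := by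
    intro p hp
    by_contra hne
    simp only [Set.mem_iUnion, not_exists] at hne
    refine hp ?_
    have hle : RingHom.ker (algebraMap P A) ≤ p.asIdeal := fun k hk => not_not.1 (hne ⟨k, hk⟩)
    obtain ⟨q, hq⟩ : p ∈ Set.range (PrimeSpectrum.comap (algebraMap P A)) := by
      rw [range_comap_of_surjective _ (algebraMap P A) hα]
      exact hle
    obtain ⟨q', hq'⟩ := PrimeSpectrum.comap_surjective_of_faithfullyFlat (A := A) (B := A') q
    refine ⟨PrimeSpectrum.comap (algebraMap Q A') q', ?_⟩
    rw [← hq, ← hq', ← PrimeSpectrum.comap_comp_apply, ← PrimeSpectrum.comap_comp_apply,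
      ← IsScalarTower.algebraMap_eq, ← IsScalarTower.algebraMap_eq]
  obtain ⟨T, hT⟩ := hop.isClosed_compl.isCompact.elim_finite_subcover _
    (fun k => (PrimeSpectrum.basicOpen _).2) hcov
  let σ := T.equivFin
  let Pj : Option (Fin T.card) → CommRingCat.{u} := fun j =>
    j.rec (motive := fun _ => CommRingCat.{u}) (CommRingCat.of Q)
      fun k => CommRingCat.of (Localization.Away ((σ.symm k).1.1))
  let φ : ∀ j, P →+* Pj j := fun j =>
    Option.rec (motive := fun j => P →+* Pj j) (algebraMap P Q)
      (fun k => algebraMap P (Localization.Away ((σ.symm k).1.1))) j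
  have hfl : ∀ j, (φ j).Flat := by
    rintro (_ | k)
    · exact RingHom.flat_algebraMap_iff.2 (inferInstance : Module.Flat P Q)
    · exact RingHom.flat_algebraMap_iff.2
        (IsLocalization.flat (Localization.Away ((σ.symm k).1.1)) (Submonoid.powers ((σ.symm k).1.1)))
  letI : ∀ j, Algebra P (Pj j) := fun j => (φ j).toAlgebra
  haveI : ∀ j, Module.Flat P (Pj j) := hfl
  refine (relPC_iff_via α hα m _).2 ?_
  refine H4DR.PCoh.pc_of_iso
    ((ModuleCat.restrictScalars.{u} (algebraMap P A)).mapDerivedCategoryFactors.app K).symm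
    (pc_of_family (fun j => (Pj j : Type u)) (fun p => ?_) _ m fun j => ?_)
  · by_cases hp : p ∈ Z
    · exact ⟨none, hp⟩
    · obtain ⟨k, hk, hkp⟩ := Set.mem_iUnion₂.1 (hT hp)
      refine ⟨some (σ ⟨k, hk⟩), ?_⟩
      have he : (σ.symm (σ ⟨k, hk⟩)).1 = k := congrArg Subtype.val (σ.symm_apply_apply ⟨k, hk⟩)
      exact (PrimeSpectrum.localization_away_comap_range (Localization.Away ((σ.symm (σ ⟨k, hk⟩)).1.1))
        ((σ.symm (σ ⟨k, hk⟩)).1.1)).ge (by rw [he]; exact hkp)
  · rcases j with _ | k
    · exact h1
    · exact pc_away_of_eq_zero _ (σ.symm k).1.2 K m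

end Groth.Agent.H8Props.RingRelPC
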