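import Groth.Agent.H8Props.RingRelPCBasic
import Groth.Agent.H4DR.PCoh.Extend
import Groth.Agent.H26Tor.BaseChange
import Mathlib.RingTheory.Localization.BaseChange
import Mathlib.RingTheory.Flat.Localization

/-!
# Relative pseudo-coherence and flat base change
-/

set_option autoImplicit false
set_option linter.style.haveILetI false
set_option backward.isDefEq.respectTransparency false

universe u

open CategoryTheory CategoryTheory.Limits TensorProduct

attribute [local instance] HasDerivedCategory.standard

namespace Groth.Agent.H8Props.RingRelPC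

open PseudoCoh

variable (P P' A A' : Type u) [CommRing P] [CommRing P'] [CommRing A] [CommRing A'] [Algebra P P']
  [Algebra P A] [Algebra P A'] [Algebra A A'] [Algebra P' A'] [IsScalarTower P A A']
  [IsScalarTower P P' A'] [Algebra.IsPushout P P' A A']

/-- `A' ⊗_A M = P' ⊗_P M`. -/
noncomputable def bcNatIso :
    ModuleCat.extendScalars.{u, u, u} (algebraMap A A') ⋙
        ModuleCat.restrictScalars.{u} (algebraMap P' A') ≅
      ModuleCat.restrictScalars.{u} (algebraMap P A) ⋙
        ModuleCat.extendScalars.{u, u, u} (algebraMap P P') :=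
  NatIso.ofComponents (fun M =>
    letI : Module P M := Module.compHom M (algebraMap P A)
    haveI : IsScalarTower P A M := .of_algebraMap_smul fun _ _ => rfl
    let X₁ : ModuleCat.{u} P' := (ModuleCat.restrictScalars.{u} (algebraMap P' A')).obj
      ((ModuleCat.extendScalars.{u, u, u} (algebraMap A A')).obj M)
    let N : ModuleCat.{u} P := (ModuleCat.restrictScalars.{u} (algebraMap P A)).obj M
    let e₁ : X₁ ≃ₗ[P'] A' ⊗[A] M :=
      { (H26Tor.extendEquiv (A' := A') M).symm.toAddEquiv with
        map_smul' := fun r x => by
          show (H26Tor.extendEquiv M).symm ((algebraMap P' A' r) • (x : (ModuleCat.extendScalars.{u, u, u} (algebraMap A A')).obj M)) =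
            r • (H26Tor.extendEquiv M).symm x
          rw [map_smul, algebraMap_smul] }
    let c : A' ⊗[A] M ≃ₗ[P'] P' ⊗[P] N := Algebra.IsPushout.cancelBaseChange P P' A A' M
    (e₁ ≪≫ₗ c ≪≫ₗ H26Tor.extendEquiv (A' := P') N).toModuleIso)
    (fun {M N} g => by
      letI : Module P M := Module.compHom M (algebraMap P A)
      haveI : IsScalarTower P A M := .of_algebraMap_smul fun _ _ => rfl
      letI : Module P N := Module.compHom N (algebraMap P A)
      haveI : IsScalarTower P A N := .of_algebraMap_smul fun _ _ => rfl
      let M₀ : ModuleCat.{u} P := (ModuleCat.restrictScalars.{u} (algebraMap P A)).obj M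
      let N₀ : ModuleCat.{u} P := (ModuleCat.restrictScalars.{u} (algebraMap P A)).obj N
      let g₀ : M₀ ⟶ N₀ := (ModuleCat.restrictScalars.{u} (algebraMap P A)).map g
      have hext : ∀ {R S : Type u} [CommRing R] [CommRing S] [Algebra R S] {U V : ModuleCat.{u} R}
          (h : U ⟶ V) (t : S ⊗[R] U),
          (ModuleCat.extendScalars.{u, u, u} (algebraMap R S)).map h (H26Tor.extendEquiv U t) =
            H26Tor.extendEquiv V (h.hom.lTensor S t) := fun h t => by
        induction t using TensorProduct.induction_on with
        | zero => simp only [map_zero]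
        | add a b ha hb => simp only [map_add, ha, hb]
        | tmul s m => rfl
      refine ModuleCat.hom_ext (LinearMap.ext fun x => ?_)
      obtain ⟨t, rfl⟩ := (H26Tor.extendEquiv (A' := A') M).surjective x
      obtain ⟨y, rfl⟩ := (Algebra.IsPushout.cancelBaseChange P P' A A' M).symm.surjective t
      show H26Tor.extendEquiv N₀ (Algebra.IsPushout.cancelBaseChange P P' A A' N
          ((H26Tor.extendEquiv N).symm ((ModuleCat.extendScalars.{u, u, u} (algebraMap A A')).map g
            (H26Tor.extendEquiv M ((Algebra.IsPushout.cancelBaseChange P P' A A' M).symm y))))) =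
        (ModuleCat.extendScalars.{u, u, u} (algebraMap P P')).map g₀ (H26Tor.extendEquiv M₀
          (Algebra.IsPushout.cancelBaseChange P P' A A' M
            ((H26Tor.extendEquiv M).symm (H26Tor.extendEquiv M
              ((Algebra.IsPushout.cancelBaseChange P P' A A' M).symm y)))))
      rw [hext, hext, LinearEquiv.symm_apply_apply, LinearEquiv.symm_apply_apply,
        LinearEquiv.apply_symm_apply]
      refine congrArg (H26Tor.extendEquiv N₀) ?_
      induction y using TensorProduct.induction_on with
      | zero => simp only [map_zero]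
      | add a b ha hb => simp only [map_add, ha, hb]
      | tmul s m =>
        rw [Algebra.IsPushout.cancelBaseChange_symm_tmul, LinearMap.lTensor_tmul,
          ← Algebra.IsPushout.cancelBaseChange_symm_tmul P P' A A' N s (g.hom m),
          LinearEquiv.apply_symm_apply]
        rfl)

/-- The same on complexes. -/
noncomputable def bcCxIso (K : DRing.Cx A) :
    ((ModuleCat.restrictScalars.{u} (algebraMap P' A')).mapHomologicalComplex (ComplexShape.up ℤ)).obj
        (((ModuleCat.extendScalars.{u, u, u} (algebraMap A A')).mapHomologicalComplex (ComplexShape.up ℤ)).obj K) ≅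
      ((ModuleCat.extendScalars.{u, u, u} (algebraMap P P')).mapHomologicalComplex (ComplexShape.up ℤ)).obj
        (((ModuleCat.restrictScalars.{u} (algebraMap P A)).mapHomologicalComplex (ComplexShape.up ℤ)).obj K) :=
  HomologicalComplex.Hom.isoOfComponents (fun i => (bcNatIso P P' A A').app (K.X i))
    fun i j _ => ((bcNatIso P P' A A').hom.naturality (K.d i j)).symm

theorem via_extend_iff (K : DRing.Cx A) (m : ℤ) :
    Via (algebraMap P' A') m (DRing.toD
        (((ModuleCat.extendScalars.{u, u, u} (algebraMap A A')).mapHomologicalComplex (ComplexShape.up ℤ)).obj K)) ↔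
      DRing.IsPseudoCoherent P' m (DRing.toD
        (((ModuleCat.extendScalars.{u, u, u} (algebraMap P P')).mapHomologicalComplex (ComplexShape.up ℤ)).obj
          (((ModuleCat.restrictScalars.{u} (algebraMap P A)).mapHomologicalComplex (ComplexShape.up ℤ)).obj K))) :=
  let e := (ModuleCat.restrictScalars.{u} (algebraMap P' A')).mapDerivedCategoryFactors.app
      (((ModuleCat.extendScalars.{u, u, u} (algebraMap A A')).mapHomologicalComplex (ComplexShape.up ℤ)).obj K) ≪≫
    DerivedCategory.Q.mapIso (bcCxIso P P' A A' K)
  ⟨H4DR.PCoh.pc_of_iso e, H4DR.PCoh.pc_of_iso e.symm⟩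

/-- Flat base change. -/
theorem via_extend [Module.Flat P P'] (K : DRing.Cx A) (m : ℤ)
    (h : Via (algebraMap P A) m (DRing.toD K)) :
    Via (algebraMap P' A') m (DRing.toD
      (((ModuleCat.extendScalars.{u, u, u} (algebraMap A A')).mapHomologicalComplex (ComplexShape.up ℤ)).obj K)) := by
  let F := ModuleCat.extendScalars.{u, u, u} (algebraMap P P')
  haveI : PreservesFiniteLimits F :=
    ModuleCat.preservesFiniteLimits_extendScalars_of_flat (RingHom.flat_algebraMap_iff.2 inferInstance)
  refine (via_extend_iff P P' A A' K m).2 (H4DR.PCoh.pc_of_iso (F.mapDerivedCategoryFactors.app _)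
    (H4DR.PCoh.pc_map F (H4DR.PCoh.hfree_extend (algebraMap P P')) ?_))
  exact H4DR.PCoh.pc_of_iso ((ModuleCat.restrictScalars.{u} (algebraMap P A)).mapDerivedCategoryFactors.app K) h

end Groth.Agent.H8Props.RingRelPC
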