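import Groth.Agent.H8Props.RingRelPCBaseChange
import Groth.Agent.H4DR.TorAmp.Derived

/-!
# Relative pseudo-coherence and base change along a pseudo-coherent algebra
-/

set_option autoImplicit false
set_option linter.style.haveILetI false
set_option backward.isDefEq.respectTransparency false

universe u

open CategoryTheory CategoryTheory.Limits MonoidalCategory TensorProduct

attribute [local instance] HasDerivedCategory.standard

namespace Groth.Agent.H8Props.RingRelPC

open PseudoCoh

section

variable {Q S : Type u} [CommRing Q] [CommRing S] (ψ : Q →+* S) (L : DRing.Cx S)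

/-- `N ⊗ L`. -/
noncomputable abbrev tensCx (N : ModuleCat.{u} S) : DRing.Cx S :=
  ((tensorLeft N).mapHomologicalComplex (ComplexShape.up ℤ)).obj L

theorem via_of_iso {m : ℤ} {K K' : Dual.D S} (e : K ≅ K') (h : Via ψ m K) : Via ψ m K' :=
  H4DR.PCoh.pc_of_iso ((DRing.restrictD ψ).mapIso e) h

theorem via_mono {m m' : ℤ} (hm : m ≤ m') {K : Dual.D S} (h : Via ψ m K) : Via ψ m' K :=
  H4DR.PCoh.pc_mono hm h

variable {ψ L}

theorem exists_tens_triangle (hL : DRing.TermwiseFlat L) {T : ShortComplex (ModuleCat.{u} S)}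
    (hT : T.ShortExact) :
    ∃ (a : DRing.toD (tensCx L T.X₁) ⟶ DRing.toD (tensCx L T.X₂))
      (b : DRing.toD (tensCx L T.X₂) ⟶ DRing.toD (tensCx L T.X₃)) (c : _),
      Pretriangulated.Triangle.mk a b c ∈ (Pretriangulated.distinguishedTriangles : Set (Pretriangulated.Triangle (Dual.D S))) := by
  let f := (NatTrans.mapHomologicalComplex ((tensoringLeft (ModuleCat.{u} S)).map T.f) (ComplexShape.up ℤ)).app L
  let g := (NatTrans.mapHomologicalComplex ((tensoringLeft (ModuleCat.{u} S)).map T.g) (ComplexShape.up ℤ)).app L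
  have w : f ≫ g = 0 := by
    ext i : 1
    show T.f ▷ L.X i ≫ T.g ▷ L.X i = 0
    rw [← comp_whiskerRight, T.zero, MonoidalPreadditive.zero_whiskerRight]
  have hS : (ShortComplex.mk f g w).ShortExact := by
    refine HomologicalComplex.shortExact_of_degreewise_shortExact _ fun i => ?_
    haveI : Module.Flat S (L.X i) := hL i
    refine { exact := ?_, mono_f := ?_, epi_g := ?_ }
    · exact Module.Flat.rTensor_shortComplex_exact (L.X i) T hT.exact
    · exact (ModuleCat.mono_iff_injective _).2
        (Module.Flat.rTensor_preserves_injective_linearMap _ ((ModuleCat.mono_iff_injective _).mp hT.mono_f))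
    · exact (ModuleCat.epi_iff_surjective _).2
        (LinearMap.rTensor_surjective _ ((ModuleCat.epi_iff_surjective _).mp hT.epi_g))
  exact ⟨_, _, _, DerivedCategory.triangleOfSES_distinguished hS⟩

theorem via_tens_of_subsingleton (N : ModuleCat.{u} S) [Subsingleton N] (m : ℤ) :
    Via ψ m (DRing.toD (tensCx L N)) := by
  refine H4DR.PCoh.pc_of_vanish fun i _ => subsingleton_hd_res ψ ?_
  have hs : Subsingleton ((tensCx L N).X i) := inferInstanceAs (Subsingleton (N ⊗[S] (L.X i)))
  exact (H4DR.TorAmp.subsingleton_HD_toD_iff _ i).2 ((HomologicalComplex.exactAt_iff _ _).2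
    (ShortComplex.exact_of_isZero_X₂ ((tensCx L N).sc i)
      (@ModuleCat.isZero_of_subsingleton _ _ ((tensCx L N).X i) hs)))

theorem via_tens_free (hL : DRing.TermwiseFlat L) {m : ℤ} (h : Via ψ m (DRing.toD L)) :
    ∀ n : ℕ, Via ψ m (DRing.toD (tensCx L (ModuleCat.of S (Fin n → S))))
  | 0 => via_tens_of_subsingleton (ModuleCat.of S (Fin 0 → S)) m
  | n + 1 => by
    let i : (Fin n → S) →ₗ[S] (Fin (n + 1) → S) :=
      { toFun := fun y => Fin.cons 0 y
        map_add' := fun y z => funext fun j => by
          induction j using Fin.cases <;> simp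
        map_smul' := fun c y => funext fun j => by
          induction j using Fin.cases <;> simp }
    let T : ShortComplex (ModuleCat.{u} S) := ShortComplex.moduleCatMk i (LinearMap.proj 0)
      (LinearMap.ext fun x => Fin.cons_zero (α := fun _ => S) 0 x)
    have hT : T.ShortExact :=
      { exact := by
          refine (ShortComplex.ShortExact.moduleCat_exact_iff_function_exact T).2 fun x => ?_
          refine ⟨fun hx => ⟨fun j => (x : Fin (n + 1) → S) j.succ, ?_⟩, ?_⟩
          · show (Fin.cons 0 fun j : Fin n => (x : Fin (n + 1) → S) j.succ : Fin (n + 1) → S) = x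
            funext j
            induction j using Fin.cases with
            | zero => exact (Fin.cons_zero _ _).trans (hx : (x : Fin (n + 1) → S) 0 = 0).symm
            | succ j => exact Fin.cons_succ _ _ _
          · rintro ⟨y, rfl⟩
            exact Fin.cons_zero (α := fun _ => S) 0 y
        mono_f := (ModuleCat.mono_iff_injective _).2 fun x y hxy =>
          (Fin.cons_injective2 (α := fun _ : Fin (n + 1) => S) hxy).2
        epi_g := (ModuleCat.epi_iff_surjective _).2 fun s => ⟨fun _ => s, rfl⟩ }
    obtain ⟨a, b, c, hd⟩ := exists_tens_triangle hL hT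
    refine via_obj₂ ψ hd (via_tens_free hL h n) (via_of_iso ψ (DerivedCategory.Q.mapIso
      ((NatIso.mapHomologicalComplex (leftUnitorNatIso (ModuleCat.{u} S)) (ComplexShape.up ℤ)).app L)).symm ?_)
    exact via_of_iso ψ (DerivedCategory.Q.mapIso
      ((Functor.mapHomologicalComplexIdIso (ModuleCat.{u} S) (ComplexShape.up ℤ)).app L).symm) h

/-- Tensoring with a module having enough finite free syzygies. -/
theorem via_tens (hL : DRing.TermwiseFlat L) {b : ℤ} (hb : DRing.VanishesAbove L b) :
    ∀ (k : ℕ) (N : ModuleCat.{u} S), FPk S k N → ∀ m : ℤ, b + 1 - m ≤ k → Via ψ m (DRing.toD L) →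
      Via ψ m (DRing.toD (tensCx L N))
  | 0, N, _, m, hm, _ => by
    refine H4DR.PCoh.pc_of_vanish fun i hi => subsingleton_hd_res ψ ?_
    exact (H4DR.TorAmp.subsingleton_HD_toD_iff _ i).2 ((HomologicalComplex.exactAt_iff _ _).2
      (ShortComplex.exact_of_isZero_X₂ ((tensCx L N).sc i) ((tensorLeft N).map_isZero (hb i (by omega)))))
  | k + 1, N, ⟨n, f, hf, hk⟩, m, hm, h => by
    let T : ShortComplex (ModuleCat.{u} S) :=
      ShortComplex.moduleCatMk (LinearMap.ker f).subtype f (LinearMap.ext fun x => x.2)
    have hT : T.ShortExact :=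
      { exact := (T.moduleCat_exact_iff_range_eq_ker).2 (Submodule.range_subtype _)
        mono_f := (ModuleCat.mono_iff_injective _).2 Subtype.val_injective
        epi_g := (ModuleCat.epi_iff_surjective _).2 hf }
    obtain ⟨a, b', c, hd⟩ := exists_tens_triangle hL hT
    exact via_obj₃ ψ hd (via_tens hL hb k T.X₁ hk (m + 1) (by omega) (via_mono ψ (by omega) h))
      (via_tens_free hL h n)

/-- Extension of scalars along an algebra with finite free syzygies. -/
theorem via_extend_rfp {T : Type u} [CommRing T] [Algebra S T] (hT : FPInf S T)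
    (hL : DRing.TermwiseFlat L) {b : ℤ} (hb : DRing.VanishesAbove L b) {m : ℤ}
    (h : Via ψ m (DRing.toD L)) :
    Via ((algebraMap S T).comp ψ) m (DRing.toD
      (((ModuleCat.extendScalars.{u, u, u} (algebraMap S T)).mapHomologicalComplex (ComplexShape.up ℤ)).obj L)) := by
  let E := ((ModuleCat.extendScalars.{u, u, u} (algebraMap S T)).mapHomologicalComplex (ComplexShape.up ℤ)).obj L
  refine (via_comp ψ (algebraMap S T) m (DRing.toD E)).2 ?_
  let e : tensCx L (ModuleCat.of S T) ≅
      ((ModuleCat.restrictScalars.{u} (algebraMap S T)).mapHomologicalComplex (ComplexShape.up ℤ)).obj E :=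
    HomologicalComplex.Hom.isoOfComponents (fun i => H26Tor.tensorExtendIso (L.X i))
      (fun i j _ => by
        ext z
        induction z using TensorProduct.induction_on with
        | zero => exact (map_zero _).trans (map_zero _).symm
        | tmul a x => rfl
        | add z w hz hw => exact (map_add _ z w).trans ((congrArg₂ (· + ·) hz hw).trans (map_add _ z w).symm))
  exact via_of_iso ψ (DerivedCategory.Q.mapIso e ≪≫
      ((ModuleCat.restrictScalars.{u} (algebraMap S T)).mapDerivedCategoryFactors.app E).symm)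
    (via_tens hL hb (b + 1 - m).toNat (ModuleCat.of S T) (hT _) m (by omega) h)

end

variable {R A B : Type u} [CommRing R] [CommRing A] [CommRing B] [Algebra R A] [Algebra A B] [Algebra R B]
  [IsScalarTower R A B]

attribute [local instance] MvPolynomial.algebraMvPolynomial

theorem relPC_lbase [Algebra.FiniteType R A] [Algebra.FiniteType A B]
    (hB : DerCA.IsRelPseudoCoherentModuleAll A B B)
    [DRing.HasLBaseChange (algebraMap A B)] (K : Dual.D A) (m : ℤ)
    (h : DerCA.IsRelPseudoCoherent R A m K) :
    DerCA.IsRelPseudoCoherent R B m ((DRing.LBaseChange (algebraMap A B)).obj K) := by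
  obtain ⟨n, α, hα⟩ := exists_pres R A
  obtain ⟨k, β, hβ⟩ := exists_pres A B
  obtain ⟨γ, hγ, hγe⟩ := exists_block_pres α hα β hβ
  let P := MvPolynomial (Fin n) R
  let Q := MvPolynomial (Fin k) P
  let S := MvPolynomial (Fin k) A
  letI : Algebra P A := α.toRingHom.toAlgebra
  letI : Algebra S B := β.toRingHom.toAlgebra
  haveI : IsScalarTower A S B := IsScalarTower.of_algebraMap_eq fun a => (β.commutes a).symm
  haveI : Module.Flat P Q := inferInstance
  have hK : Via (algebraMap P A) m K := (relPC_iff_via α hα m K).1 h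
  obtain ⟨b, -, hb⟩ := H4DR.PCoh.exists_bound hK
  obtain ⟨F, hF, ⟨eF⟩⟩ := H4DR.TorAmp.exists_projRep (K := K) (c := b) fun i hi => by
    haveI := hb i hi
    exact (hdRes (algebraMap P A) K i).toLinearEquiv.symm.injective.subsingleton
  let L : DRing.Cx S := ((ModuleCat.extendScalars.{u, u, u} (algebraMap A S)).mapHomologicalComplex
    (ComplexShape.up ℤ)).obj F
  have h1 : Via (algebraMap Q S) m (DRing.toD L) :=
    via_extend P Q A S F m (via_of_iso _ eF.symm hK)
  have hflat : DRing.TermwiseFlat L := fun i => by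
    haveI := hF.flat i
    exact Module.Flat.of_linearEquiv (H26Tor.extendEquiv (A' := S) (F.X i)).symm
  have hrfp : FPInf S B := rfp_of_relPCModuleAll hB β hβ
  have h2 := via_extend_rfp (ψ := algebraMap Q S) hrfp hflat
    (fun i hi => (ModuleCat.extendScalars.{u, u, u} (algebraMap A S)).map_isZero (hF.above i hi)) h1
  let eC : ((ModuleCat.extendScalars.{u, u, u} (algebraMap S B)).mapHomologicalComplex (ComplexShape.up ℤ)).obj L ≅
      ((ModuleCat.extendScalars.{u, u, u} (algebraMap A B)).mapHomologicalComplex (ComplexShape.up ℤ)).obj F :=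
    ((NatIso.mapHomologicalComplex (eqToIso (congrArg ModuleCat.extendScalars.{u, u, u}
        (IsScalarTower.algebraMap_eq A S B)) ≪≫
      ModuleCat.extendScalarsComp (algebraMap A S) (algebraMap S B)) (ComplexShape.up ℤ)).app F).symm
  refine (relPC_iff_via γ hγ m _).2 ?_
  rw [via_comp_iff (blockEquiv R k n).symm.toAlgHom.toRingHom
    (rfp_of_bijective _ (blockEquiv R k n).symm.bijective), via_congr hγe]
  exact via_of_iso _ (DerivedCategory.Q.mapIso eC ≪≫
    (H4DR.TorAmp.lbaseObj (algebraMap A B) F (H4DR.TorAmp.isKFlat_of_flat hF.above hF.flat)).symm ≪≫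
    (DRing.LBaseChange (algebraMap A B)).mapIso eF) h2

theorem relPC_tensor_flat [Algebra.FiniteType R A] [Algebra.FiniteType A B] [Module.Flat A B]
    (hB : DerCA.IsRelPseudoCoherentModuleAll A B B) (m : ℤ) (M : Type u) [AddCommGroup M] [Module A M]
    (h : DerCA.IsRelPseudoCoherentModule R A m M) :
    DerCA.IsRelPseudoCoherentModule R B m (B ⊗[A] M) := by
  haveI := H4DR.TorAmp.hasLBaseChange (algebraMap A B)
  haveI : PreservesFiniteLimits (ModuleCat.extendScalars.{u, u, u} (algebraMap A B)) :=
    ModuleCat.preservesFiniteLimits_extendScalars_of_flat (RingHom.flat_algebraMap_iff.2 inferInstance)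
  obtain ⟨P, hP, ⟨e⟩⟩ := H4DR.TorAmp.exists_projRep (K := Dual.inD A M) (c := 0)
    fun i hi => H4DR.PCoh.subsingleton_HD_inD (ModuleCat.of A M) i (by omega)
  let E := ModuleCat.extendScalars.{u, u, u} (algebraMap A B)
  haveI : Algebra.FiniteType R B := Algebra.FiniteType.trans (‹_› : Algebra.FiniteType R A) ‹Algebra.FiniteType A B›
  obtain ⟨n, γ, hγ⟩ := exists_pres R B
  have h1 := (relPC_iff_via γ hγ m _).1 (relPC_lbase hB _ m h)
  refine (relPC_iff_via γ hγ m _).2 (via_of_iso _ ?_ h1)
  exact (DRing.LBaseChange (algebraMap A B)).mapIso e.symm ≪≫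
    H4DR.TorAmp.lbaseObj (algebraMap A B) P (H4DR.TorAmp.isKFlat_of_flat hP.above hP.flat) ≪≫
    (E.mapDerivedCategoryFactors.app P).symm ≪≫ E.mapDerivedCategory.mapIso e ≪≫
    (E.mapDerivedCategorySingleFunctor 0).app (ModuleCat.of A M) ≪≫
    (DerivedCategory.singleFunctor _ 0).mapIso (H26Tor.extendEquiv (A' := B) (ModuleCat.of A M)).symm.toModuleIso

end Groth.Agent.H8Props.RingRelPC
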