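import Groth.Agent.H8Props.RingRelPCDescend
import Groth.Agent.H8Props.RingRelPC
import Groth.Agent.H8Props.RingRelPCTensor
import Mathlib.RingTheory.Flat.FaithfullyFlat.Basic

/-!
# Descent of relative pseudo-coherence along finite faithfully flat maps
-/

set_option autoImplicit false
set_option linter.style.haveILetI false
set_option backward.isDefEq.respectTransparency false

universe u

open CategoryTheory CategoryTheory.Limits TensorProduct

attribute [local instance] HasDerivedCategory.standard

namespace Groth.Agent.H8Props.RingRelPC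

open PseudoCoh

variable {R A B : Type u} [CommRing R] [CommRing A] [CommRing B] [Algebra R A] [Algebra R B] [Algebra A B]
  [IsScalarTower R A B]

omit [Algebra R A] [Algebra R B] [IsScalarTower R A B] in
/-- The unit of a faithfully flat projective algebra is split. -/
theorem exists_splitting [Module.Projective A B] [Module.FaithfullyFlat A B] :
    ∃ r : B →ₗ[A] A, r 1 = 1 := by
  let ev : (B →ₗ[A] A) →ₗ[A] A := LinearMap.applyₗ 1
  suffices h : LinearMap.range ev = ⊤ from LinearMap.range_eq_top.1 h 1
  by_contra h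
  obtain ⟨p, hp, hle⟩ := Ideal.exists_le_maximal (LinearMap.range ev) h
  obtain ⟨s, hs⟩ := (Module.projective_def (R := A) (P := B)).1 inferInstance
  have h1 : (1 : B) ∈ p • (⊤ : Submodule A B) := by
    rw [← hs 1, Finsupp.linearCombination_apply]
    exact Submodule.sum_mem _ fun c _ =>
      Submodule.smul_mem_smul (hle ⟨(Finsupp.lapply c).comp s, rfl⟩) Submodule.mem_top
  refine Module.FaithfullyFlat.submodule_ne_top (M := B) hp (eq_top_iff.2 fun b _ => ?_)
  rw [Ideal.smul_top_eq_map] at h1 ⊢
  exact (show b = b * 1 from (mul_one b).symm) ▸ Ideal.mul_mem_left _ b h1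

/-- Descent along a finite faithfully flat projective algebra. -/
theorem relPC_of_finite_split [Algebra.FiniteType R A] [Module.Finite A B] [Module.Projective A B]
    [Module.FaithfullyFlat A B] (K : DRing.Cx A) (m : ℤ)
    (h : DerCA.IsRelPseudoCoherent R B m (DRing.toD (extCx (algebraMap A B) K))) :
    DerCA.IsRelPseudoCoherent R A m (DRing.toD K) := by
  obtain ⟨n, α, hα⟩ := exists_pres R A
  have h1 := (relPC_iff_via α hα m _).1 ((relPC_finite_iff (R := R) (A := A) (B := B) m _).1 h)
  obtain ⟨r, hr⟩ := exists_splitting (A := A) (B := B)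
  let F := ModuleCat.extendScalars.{u, u, u} (algebraMap A B) ⋙ ModuleCat.restrictScalars.{u} (algebraMap A B)
  let η : 𝟭 (ModuleCat.{u} A) ⟶ F := (ModuleCat.extendRestrictScalarsAdj.{u, u, u} (algebraMap A B)).unit
  let e₀ : ∀ M : ModuleCat.{u} A, ((ModuleCat.restrictScalars.{u} (algebraMap A B)).obj
      ((ModuleCat.extendScalars.{u, u, u} (algebraMap A B)).obj M) : ModuleCat.{u} A) →ₗ[A] B ⊗[A] M := fun M =>
    { (H26Tor.extendEquiv (A' := B) M).symm.toAddEquiv.toAddMonoidHom with
      map_smul' := fun a x => by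
        show (H26Tor.extendEquiv M).symm ((algebraMap A B a) • (x : (ModuleCat.extendScalars.{u, u, u} (algebraMap A B)).obj M)) =
          a • (H26Tor.extendEquiv M).symm x
        rw [map_smul, algebraMap_smul] }
  let ρ : ∀ M : ModuleCat.{u} A, (ModuleCat.restrictScalars.{u} (algebraMap A B)).obj
      ((ModuleCat.extendScalars.{u, u, u} (algebraMap A B)).obj M) ⟶ M := fun M =>
    ConcreteCategory.ofHom (C := ModuleCat.{u} A) ((TensorProduct.lid A M).toLinearMap.comp ((r.rTensor M).comp (e₀ M)))
  have hρ : ∀ {M N : ModuleCat.{u} A} (g : M ⟶ N), F.map g ≫ ρ N = ρ M ≫ g := fun {M N} g => by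
    refine ModuleCat.hom_ext (LinearMap.ext fun t => ?_)
    obtain ⟨y, rfl⟩ := (H26Tor.extendEquiv (A' := B) M).surjective t
    show TensorProduct.lid A N (r.rTensor N ((H26Tor.extendEquiv (A' := B) N).symm
      ((ModuleCat.extendScalars.{u, u, u} (algebraMap A B)).map g (H26Tor.extendEquiv M y)))) =
      g (TensorProduct.lid A M (r.rTensor M ((H26Tor.extendEquiv (A' := B) M).symm (H26Tor.extendEquiv M y))))
    rw [LinearEquiv.symm_apply_apply]
    induction y using TensorProduct.induction_on with
    | zero => simp only [map_zero]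
    | add a b ha hb => simp only [map_add, ha, hb]
    | tmul s x =>
      rw [show (ModuleCat.extendScalars.{u, u, u} (algebraMap A B)).map g (H26Tor.extendEquiv M (s ⊗ₜ[A] x)) =
        H26Tor.extendEquiv N (s ⊗ₜ[A] g x) from rfl, LinearEquiv.symm_apply_apply]
      simp
  have hηρ : ∀ M : ModuleCat.{u} A, η.app M ≫ ρ M = 𝟙 M := fun M => by
    refine ModuleCat.hom_ext (LinearMap.ext fun x => ?_)
    show TensorProduct.lid A M (r.rTensor M ((H26Tor.extendEquiv (A' := B) M).symm
      (H26Tor.extendEquiv M ((1 : B) ⊗ₜ[A] (x : M))))) = x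
    rw [LinearEquiv.symm_apply_apply, LinearMap.rTensor_tmul, hr, TensorProduct.lid_tmul, one_smul]
  let W : DRing.Cx A := resCx (algebraMap A B) (extCx (algebraMap A B) K)
  let i : K ⟶ W :=
    { f := fun j => η.app (K.X j)
      comm' := fun j k _ => (η.naturality (K.d j k)).symm }
  let p : W ⟶ K :=
    { f := fun j => ρ (K.X j)
      comm' := fun j k _ => (hρ (K.d j k)).symm }
  have hip : i ≫ p = 𝟙 K := HomologicalComplex.hom_ext _ _ fun j => hηρ (K.X j)
  refine (relPC_iff_via α hα m _).2 (via_of_retract _ (DerivedCategory.Q.map i) (DerivedCategory.Q.map p)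
    (by rw [← Functor.map_comp, hip, CategoryTheory.Functor.map_id]) (RingRelPC.via_of_iso _ ?_ h1))
  exact (ModuleCat.restrictScalars.{u} (algebraMap A B)).mapDerivedCategoryFactors.app
    (extCx (algebraMap A B) K)

end Groth.Agent.H8Props.RingRelPC
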