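import Groth.Agent.H8Props.RingRelPCEtale
import Groth.Agent.H8Props.RingRelPCFinFlat
import Groth.Agent.H8Props.PseudoCoh.Morphism
import Groth.Agent.H25DTen.Base
import Mathlib.RingTheory.Etale.Pi

/-!
# Extension of relative pseudo-coherence and descent along étale families of finite flat covers
-/

set_option autoImplicit false
set_option linter.style.haveILetI false
set_option backward.isDefEq.respectTransparency false

universe u

open CategoryTheory CategoryTheory.Limits TensorProduct

attribute [local instance] HasDerivedCategory.standard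

namespace Groth.Agent.H8Props.RingRelPC

open PseudoCoh

variable {R A B : Type u} [CommRing R] [CommRing A] [CommRing B] [Algebra R A]

theorem relPC_of_iso [Algebra.FiniteType R A] {m : ℤ} {K K' : Dual.D A} (e : K ≅ K')
    (h : DerCA.IsRelPseudoCoherent R A m K) : DerCA.IsRelPseudoCoherent R A m K' := by
  obtain ⟨n, α, hα⟩ := exists_pres R A
  exact (relPC_iff_via α hα m _).2 (via_of_iso _ e ((relPC_iff_via α hα m _).1 h))

/-- A pseudo-coherent algebra is relatively pseudo-coherent as a module over itself. -/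
theorem relPCModuleAll_of_hom [Algebra A B] (h : MoreMor.IsPseudoCoherentHom A B) :
    DerCA.IsRelPseudoCoherentModuleAll A B B := fun m => by
  haveI := finiteType_of_isPseudoCoherentHom h
  obtain ⟨k, β, hβ⟩ := exists_pres A B
  letI := β.toRingHom.toAlgebra
  let F := ModuleCat.restrictScalars.{u} β.toRingHom
  let e : F.obj (ModuleCat.of B B) ≅ ModuleCat.of (MvPolynomial (Fin k) A) B :=
    ({ AddEquiv.refl B with
        map_smul' := fun (r : MvPolynomial (Fin k) A) (x : B) =>
          (rfl : (β r) • x = r • x) } :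
      (F.obj (ModuleCat.of B B)) ≃ₗ[MvPolynomial (Fin k) A] B).toModuleIso
  exact (relPC_iff_via β hβ m _).2 (H4DR.PCoh.pc_of_iso
    ((F.mapDerivedCategorySingleFunctor 0).app (ModuleCat.of B B) ≪≫
      (DerivedCategory.singleFunctor _ 0).mapIso e).symm
    (H4DR.PCoh.pc'_iff.1 (PseudoCoh.isPseudoCoherentModule'_iff.2 (rfp_pres h β hβ)) m))

variable [Algebra A B] [Algebra R B] [IsScalarTower R A B]

/-- Extension of scalars along a pseudo-coherent algebra. -/
theorem relPC_ext [Algebra.FiniteType R A] (hB : MoreMor.IsPseudoCoherentHom A B) {P : DRing.Cx A}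
    (hP : H4DR.TorAmp.KF A P) {m : ℤ} (h : DerCA.IsRelPseudoCoherent R A m (DRing.toD P)) :
    DerCA.IsRelPseudoCoherent R B m (DRing.toD (extCx (algebraMap A B) P)) := by
  haveI := finiteType_of_isPseudoCoherentHom hB
  haveI : Algebra.FiniteType R B := Algebra.FiniteType.trans (‹_› : Algebra.FiniteType R A) ‹Algebra.FiniteType A B›
  haveI := H4DR.TorAmp.hasLBaseChange (algebraMap A B)
  exact relPC_of_iso (H4DR.TorAmp.lbaseObj (algebraMap A B) P hP)
    (relPC_lbase (relPCModuleAll_of_hom hB) _ m h)

omit [Algebra R A] [IsScalarTower R A B] in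
/-- Extension of scalars in two steps. -/
theorem relPC_extCx_trans [Algebra.FiniteType R B] {C : Type u} [CommRing C] (f : C →+* A)
    (h : C →+* B) (e : (algebraMap A B).comp f = h) (K : DRing.Cx C) (m : ℤ) :
    DerCA.IsRelPseudoCoherent R B m (DRing.toD (extCx (algebraMap A B) (extCx f K))) ↔
      DerCA.IsRelPseudoCoherent R B m (DRing.toD (extCx h K)) := by
  subst e
  exact ⟨relPC_of_iso (DerivedCategory.Q.mapIso (H4DR.TorAmp.extCompIso f (algebraMap A B) K)).symm,
    relPC_of_iso (DerivedCategory.Q.mapIso (H4DR.TorAmp.extCompIso f (algebraMap A B) K))⟩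

section Pi

variable {J : Type} [Finite J] (Bj : J → Type u) [∀ j, CommRing (Bj j)] [∀ j, Algebra A (Bj j)]
  [∀ j, Algebra R (Bj j)] [∀ j, IsScalarTower R A (Bj j)] [Algebra.FiniteType R (∀ j, Bj j)]

omit [Algebra A B] [Algebra R B] [IsScalarTower R A B] in
set_option linter.unusedSectionVars false in
/-- Finite products. -/
theorem relPC_of_pi {P : DRing.Cx A} {m : ℤ}
    (h : ∀ j, DerCA.IsRelPseudoCoherent R (Bj j) m (DRing.toD (extCx (algebraMap A (Bj j)) P)))
    (hP : H4DR.TorAmp.KF A P) :
    DerCA.IsRelPseudoCoherent R (∀ j, Bj j) m (DRing.toD (extCx (algebraMap A (∀ j, Bj j)) P)) := by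
  classical
  haveI := Fintype.ofFinite J
  let Q := ∀ j, Bj j
  let σ := Fintype.equivFin J
  let t : Fin (Fintype.card J) → Q := fun k => Pi.single (σ.symm k) 1
  have ht : Ideal.span (Set.range t) = ⊤ := by
    rw [Ideal.eq_top_iff_one, show (1 : Q) = ∑ k, t k by
      rw [Equiv.sum_comp σ.symm (fun j => (Pi.single j 1 : Q))]
      exact (Finset.univ_sum_single (1 : Q)).symm]
    exact Ideal.sum_mem _ fun k _ => Ideal.subset_span ⟨k, rfl⟩
  refine relPC_of_away _ m t ht fun k => ?_
  let j := σ.symm k
  letI : Algebra Q (Bj j) := (Pi.evalRingHom Bj j).toAlgebra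
  haveI : IsLocalization.Away (t k) (Bj j) :=
    IsLocalization.away_of_isIdempotentElem
      (by show t k * t k = t k; simp only [t]; rw [← Pi.single_mul, mul_one])
      (RingHom.ker_evalRingHom _ _) fun x => ⟨Pi.single j x, Pi.single_eq_same j x⟩
  let e := (IsLocalization.algEquiv (Submonoid.powers (t k)) (Bj j) (Localization.Away (t k)))
  letI : Algebra (Bj j) (Localization.Away (t k)) := (e : Bj j →+* Localization.Away (t k)).toAlgebra
  haveI : IsScalarTower R (Bj j) (Localization.Away (t k)) := IsScalarTower.of_algebraMap_eq fun r => by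
    rw [IsScalarTower.algebraMap_apply R Q (Localization.Away (t k))]
    exact (e.commutes (algebraMap R Q r)).symm
  haveI : Module.Flat (Bj j) (Localization.Away (t k)) :=
    RingHom.flat_algebraMap_iff.1 (RingHom.Flat.of_bijective e.bijective)
  haveI : Algebra.FiniteType Q (Bj j) := IsLocalization.finiteType_of_monoid_fg (Submonoid.powers (t k)) (Bj j)
  haveI : IsScalarTower R Q (Bj j) := IsScalarTower.of_algebraMap_eq fun _ => rfl
  haveI : Algebra.FiniteType R (Bj j) :=
    Algebra.FiniteType.trans (inferInstance : Algebra.FiniteType R Q) ‹Algebra.FiniteType Q (Bj j)›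
  haveI : Algebra.FinitePresentation (Bj j) (Localization.Away (t k)) :=
    RingHom.finitePresentation_algebraMap.1 (RingHom.FinitePresentation.of_bijective e.bijective)
  haveI : Algebra.FiniteType R (Localization.Away (t k)) :=
    Algebra.FiniteType.trans (inferInstance : Algebra.FiniteType R Q) inferInstance
  refine (relPC_extCx_trans (R := R) (algebraMap A Q)
    ((e : Bj j →+* Localization.Away (t k)).comp (algebraMap A (Bj j))) ?_ P m).2 ?_
  · exact RingHom.ext fun a => (e.commutes (algebraMap A Q a)).symm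
  · exact (relPC_extCx_trans (R := R) (algebraMap A (Bj j))
      ((e : Bj j →+* Localization.Away (t k)).comp (algebraMap A (Bj j))) rfl P m).1
      (relPC_ext (isPseudoCoherentHom_of_flat _ _) (H25DTen.isKFlat_extCx _ hP) (h j))

end Pi

omit [Algebra A B] [Algebra R B] [IsScalarTower R A B] in
/-- Descent along an étale family of finite faithfully flat algebras. -/
theorem relPC_of_etale_finite [Algebra.FiniteType R A] {J : Type} [Finite J] (A' C : J → Type u)
    [∀ j, CommRing (A' j)] [∀ j, CommRing (C j)] [∀ j, Algebra A (A' j)] [∀ j, Algebra (A' j) (C j)]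
    [∀ j, Algebra A (C j)] [∀ j, IsScalarTower A (A' j) (C j)]
    [∀ j, Algebra R (A' j)] [∀ j, IsScalarTower R A (A' j)]
    [∀ j, Algebra R (C j)] [∀ j, IsScalarTower R (A' j) (C j)]
    [∀ j, Algebra.Etale A (A' j)] [∀ j, Module.Finite (A' j) (C j)] [∀ j, Module.Projective (A' j) (C j)]
    [∀ j, Module.FaithfullyFlat (A' j) (C j)]
    (hsurj : ∀ p : PrimeSpectrum A, ∃ j, p ∈ Set.range (PrimeSpectrum.comap (algebraMap A (A' j))))
    {P : DRing.Cx A} (hP : H4DR.TorAmp.KF A P) (m : ℤ)
    (h : ∀ j, DerCA.IsRelPseudoCoherent R (C j) m (DRing.toD (extCx (algebraMap A (C j)) P))) :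
    DerCA.IsRelPseudoCoherent R A m (DRing.toD P) := by
  haveI := Fintype.ofFinite J
  haveI : ∀ j, Algebra.FiniteType R (A' j) := fun j =>
    Algebra.FiniteType.trans (‹_› : Algebra.FiniteType R A) inferInstance
  haveI : ∀ j, Algebra.FiniteType R (C j) := fun j =>
    Algebra.FiniteType.trans (inferInstance : Algebra.FiniteType R (A' j)) inferInstance
  have h1 : ∀ j, DerCA.IsRelPseudoCoherent R (A' j) m (DRing.toD (extCx (algebraMap A (A' j)) P)) :=
    fun j => relPC_of_finite_split (B := C j) _ m ((relPC_extCx_trans (R := R) (algebraMap A (A' j))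
      (algebraMap A (C j)) (IsScalarTower.algebraMap_eq A (A' j) (C j)).symm P m).2 (h j))
  haveI : Algebra.FiniteType R (∀ j, A' j) :=
    Algebra.FiniteType.trans (‹_› : Algebra.FiniteType R A) (inferInstance : Algebra.FiniteType A (∀ j, A' j))
  haveI : Module.FaithfullyFlat A (∀ j, A' j) := by
    rw [← RingHom.faithfullyFlat_algebraMap_iff, RingHom.FaithfullyFlat.iff_flat_and_comap_surjective]
    refine ⟨RingHom.flat_algebraMap_iff.2 inferInstance, fun p => ?_⟩
    obtain ⟨j, q, hq⟩ := hsurj p
    refine ⟨PrimeSpectrum.comap (Pi.evalRingHom A' j) q, ?_⟩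
    rw [← hq, ← PrimeSpectrum.comap_comp_apply]
    rfl
  exact relPC_of_etale (A' := ∀ j, A' j) P m (relPC_of_pi A' h1 hP)

end Groth.Agent.H8Props.RingRelPC
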