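import Groth.Agent.H8Props.PushClosedPC
import Groth.Agent.H8Props.PseudoCoh.RingMap
import Groth.Agent.H16Derived.KFlat.PerfTilde
import Groth.Agent.H10Coh.TildeExact
import Groth.Agent.H10Coh.BaseChange
import Groth.Agent.H10Coh.SpecQCoh

/-!
# Closed immersions of affine schemes with pseudo-coherent structure sheaf
-/

set_option autoImplicit false
set_option linter.style.haveILetI false
set_option backward.isDefEq.respectTransparency false

universe u

open CategoryTheory CategoryTheory.Limits AlgebraicGeometry Pretriangulated

attribute [local instance] HasDerivedCategory.standard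

namespace Groth.Agent.H8Props.PushPC

open H16Derived.KFlat.Stalk

variable {A : Type u} [CommRing A]

instance : PreservesFiniteLimits (tilde.functor (CommRingCat.of A)) :=
  H10Coh.tilde_preservesFiniteLimits

/-- Modules with finite free syzygies give pseudo-coherent quasi-coherent sheaves. -/
theorem pc_tilde_of_fpk : ∀ (k : ℕ) (N : ModuleCat.{u} A), PseudoCoh.FPk A k N →
    DCoh.IsPseudoCoherentD (-(k : ℤ)) (DCoh.inD _ ((tf A).obj N))
  | 0, N, h => by
    haveI : Module.Finite A N := h
    have hc : Coh.IsCoh ((tf A).obj N) := H10Coh.isCoh_tilde (R := CommRingCat.of A) N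
    simpa using isPseudoCoherentD_inD_of_isFT hc.2
  | k + 1, N, ⟨n, f, hf, h⟩ => by
    let S : ShortComplex (ModuleCat.{u} A) :=
      ShortComplex.moduleCatMk (LinearMap.ker f).subtype f (LinearMap.ext fun x => x.2)
    have hS : S.ShortExact :=
      { exact := (S.moduleCat_exact_iff_range_eq_ker).2 (Submodule.range_subtype _)
        mono_f := (ModuleCat.mono_iff_injective _).2 Subtype.val_injective
        epi_g := (ModuleCat.epi_iff_surjective _).2 hf }
    haveI : Module.Finite A S.X₂ := inferInstanceAs (Module.Finite A (Fin n → A))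
    haveI : Module.Free A S.X₂ := inferInstanceAs (Module.Free A (Fin n → A))
    refine isPseudoCoherentD_obj₃ (hS.map_of_exact (tf A)).singleTriangle_distinguished ?_
      (isPseudoCoherentD_of_isPerfect (isPerfect_inD (isFinLocFree_tilde _)) _)
    have e : -((k + 1 : ℕ) : ℤ) + 1 = -(k : ℤ) := by omega
    rw [e]
    exact pc_tilde_of_fpk k _ h

/-- A surjection with finite free syzygies gives a closed immersion with pseudo-coherent structure
sheaf. -/
theorem pcStr_specMap {B : Type u} [CommRing B] (s : A →+* B) (hs : Function.Surjective s)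
    (h : PseudoCoh.RFP s) : PCStr (Spec.map (CommRingCat.ofHom s)) := fun m => by
  haveI : IsClosedImmersion (Spec.map (CommRingCat.ofHom s)) := IsClosedImmersion.spec_of_surjective _ hs
  let g := Spec.map (CommRingCat.ofHom s)
  let M := (Scheme.Modules.pushforward g).obj (Coh.structureModule (Spec (CommRingCat.of B)))
  haveI : (Coh.structureModule (Spec (CommRingCat.of B))).IsQuasicoherent :=
    H10Coh.isQuasicoherent_unit
  haveI : M.IsQuasicoherent := H10Coh.isQuasicoherent_pushforward_of_isAffineHom g _
  letI := s.toAlgebra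
  let N : ModuleCat.{u} A := (moduleSpecΓFunctor (R := CommRingCat.of A)).obj M
  let e : B ≃ₗ[A] N :=
    { toFun := fun b => (Scheme.ΓSpecIso (CommRingCat.of B)).inv b
      map_add' := fun a b => map_add _ a b
      map_smul' := fun a b => by
        show (Scheme.ΓSpecIso (CommRingCat.of B)).inv (s a * b) = _
        rw [map_mul]
        refine Eq.trans ?_ (Scheme.Modules.smul_Spec_def (M := M) (U := ⊤) a _).symm
        have e := congr($(Scheme.ΓSpecIso_inv_naturality (CommRingCat.ofHom s)) a)
        rw [Subsingleton.elim ((⊤ : (Spec (CommRingCat.of A)).Opens).leTop.op) (𝟙 _),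
          CategoryTheory.Functor.map_id]
        refine Eq.trans ?_ (rfl : _ = (g.appTop.hom ((Scheme.ΓSpecIso (CommRingCat.of A)).inv a)) *
          ((Scheme.ΓSpecIso (CommRingCat.of B)).inv b : Γ(Spec (CommRingCat.of B), ⊤))).symm
        exact congrArg (· * _) e
      invFun := fun x => (Scheme.ΓSpecIso (CommRingCat.of B)).hom x
      left_inv := fun b => congr($((Scheme.ΓSpecIso (CommRingCat.of B)).inv_hom_id) b)
      right_inv := fun x => congr($((Scheme.ΓSpecIso (CommRingCat.of B)).hom_inv_id) x) }
  have hN : ∀ k, PseudoCoh.FPk A k N := fun k => (h k).of_equiv e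
  refine isPseudoCoherentD_mono (m := -((-m).toNat : ℤ)) ?_ (by omega)
  exact isPseudoCoherentD_of_iso ((DerivedCategory.singleFunctor _ 0).mapIso
    (H10Coh.tildeIso (R := CommRingCat.of A) M)) (pc_tilde_of_fpk _ N (hN _))

end Groth.Agent.H8Props.PushPC
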