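import Groth.Agent.H8Props.SpecClosedPC
import Groth.Agent.H8Props.PushClosedBasic
import Groth.Agent.H16Derived.ProjFormula.ClosedImm
import Groth.Agent.H28Int.Dual
import Groth.Agent.H16Derived.KFlat.PerfSummand

/-!
# Pseudo-coherence of direct images of tensor products with quasi-coherent sheaves
-/

set_option autoImplicit false
set_option linter.style.haveILetI false
set_option backward.isDefEq.respectTransparency false

universe u

open CategoryTheory CategoryTheory.Limits AlgebraicGeometry Pretriangulated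

attribute [local instance] HasDerivedCategory.standard

namespace Groth.Agent.H8Props.TensorPC

open H16Derived.KFlat H16Derived.KFlat.Stalk PushPC H16Derived.ProjFormula

variable {C : Type u} [CommRing C]

/-- `Q ↦ Ñ ⊗ Q`. -/
noncomputable abbrev tens (N : ModuleCat.{u} C) (Q : CochainComplex (Spec (CommRingCat.of C)).Modules ℤ) :
    CochainComplex (Spec (CommRingCat.of C)).Modules ℤ :=
  (((DCoh.tensorBi (X := Spec (CommRingCat.of C))).obj ((tf C).obj N)).mapHomologicalComplex
    (ComplexShape.up ℤ)).obj Q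

variable {Q : CochainComplex (Spec (CommRingCat.of C)).Modules ℤ} (hQ : ∀ n, FlatMod.IsFlat (Q.X n))
  {T' : Scheme.{u}} (J : Spec (CommRingCat.of C) ⟶ T') [IsClosedImmersion J]

include hQ in
theorem exists_triangle {S : ShortComplex (ModuleCat.{u} C)} (hS : S.ShortExact) :
    ∃ (T : Triangle (DCoh.D T')) (_ : T ∈ distTriang (DCoh.D T')),
      T.obj₁ = (pushD J).obj (DerivedCategory.Q.obj (tens S.X₁ Q)) ∧
      T.obj₂ = (pushD J).obj (DerivedCategory.Q.obj (tens S.X₂ Q)) ∧
      T.obj₃ = (pushD J).obj (DerivedCategory.Q.obj (tens S.X₃ Q)) := by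
  let TB := DCoh.tensorBi (X := Spec (CommRingCat.of C))
  let S₁ := S.map (tf C)
  have hS₁ : S₁.ShortExact := hS.map_of_exact (tf C)
  have w : (NatTrans.mapHomologicalComplex (TB.map S₁.f) (ComplexShape.up ℤ)).app Q ≫
      (NatTrans.mapHomologicalComplex (TB.map S₁.g) (ComplexShape.up ℤ)).app Q = 0 := by
    refine HomologicalComplex.hom_ext _ _ fun n => ?_
    show (TB.map S₁.f).app (Q.X n) ≫ (TB.map S₁.g).app (Q.X n) = 0
    rw [← NatTrans.comp_app, ← Functor.map_comp, S₁.zero, Functor.map_zero]
    rfl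
  let Sc : ShortComplex (CochainComplex (Spec (CommRingCat.of C)).Modules ℤ) :=
    ShortComplex.mk _ _ w
  have hSc : Sc.ShortExact :=
    HomologicalComplex.shortExact_of_degreewise_shortExact _ fun n =>
      isFlatObj_of_isFlat (hQ n) S₁ hS₁
  exact ⟨_, (pushD J).map_distinguished _ (DerivedCategory.triangleOfSES_distinguished hSc), rfl, rfl, rfl⟩

variable {J}

/-- The one-dimensional free module gives back `Q`. -/
noncomputable def tensSelf : tens (ModuleCat.of C C) Q ≅ Q :=
  (NatIso.mapHomologicalComplex ((DCoh.tensorBi (X := Spec (CommRingCat.of C))).mapIso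
    (tildeSelf (R := CommRingCat.of C)) ≪≫ H28Int.tensorLeftUnitIso) (ComplexShape.up ℤ)).app Q ≪≫
    (Functor.mapHomologicalComplexIdIso (Spec (CommRingCat.of C)).Modules (ComplexShape.up ℤ)).app Q

include hQ in
theorem pc_free {m : ℤ} (h : DCoh.IsPseudoCoherentD m ((pushD J).obj (DerivedCategory.Q.obj Q))) :
    ∀ n : ℕ, DCoh.IsPseudoCoherentD m
      ((pushD J).obj (DerivedCategory.Q.obj (tens (ModuleCat.of C (Fin n → C)) Q)))
  | 0 => by
    haveI : Subsingleton (Fin 0 → C) := inferInstance
    have hz : IsZero (tens (ModuleCat.of C (Fin 0 → C)) Q) := by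
      refine (IsZero.iff_id_eq_zero _).2 (HomologicalComplex.hom_ext _ _ fun j => ?_)
      have h0 : IsZero ((tf C).obj (ModuleCat.of C (Fin 0 → C))) :=
        (tf C).map_isZero (ModuleCat.isZero_of_subsingleton _)
      exact (((DCoh.tensorBi (X := Spec (CommRingCat.of C))).map_isZero h0).obj (Q.X j)).eq_of_src _ _
    have hz' := (pushD J).map_isZero (DerivedCategory.Q.map_isZero hz)
    haveI : DerivedCategory.IsLE ((pushD J).obj (DerivedCategory.Q.obj (tens (ModuleCat.of C (Fin 0 → C)) Q))) (m - 1) := by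
      rw [DerivedCategory.isLE_iff]
      exact fun i _ => (DerivedCategory.homologyFunctor _ i).map_isZero hz'
    exact isPseudoCoherentD_of_isLE (m - 1) m (by omega)
  | n + 1 => by
    let S : ShortComplex (ModuleCat.{u} C) := ShortComplex.moduleCatMk
      ({ toFun := fun x => Fin.cons x 0
         map_add' := fun x y => by ext i; refine Fin.cases ?_ ?_ i <;> simp
         map_smul' := fun r x => by ext i; refine Fin.cases ?_ ?_ i <;> simp } : C →ₗ[C] (Fin (n + 1) → C))
      (LinearMap.funLeft C C (Fin.succ : Fin n → Fin (n + 1)))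
      (LinearMap.ext fun x => funext fun i => by simp [LinearMap.funLeft_apply])
    have hS : S.ShortExact :=
      { exact := (S.moduleCat_exact_iff).2 fun (y : Fin (n + 1) → C) hy => by
          refine ⟨y 0, ?_⟩
          funext i
          refine Fin.cases ?_ (fun j => ?_) i
          · rfl
          · exact (congrFun hy j).symm
        mono_f := (ModuleCat.mono_iff_injective _).2 fun a b hab => congrFun hab 0
        epi_g := (ModuleCat.epi_iff_surjective _).2 fun y => ⟨Fin.cons 0 y, funext fun i => rfl⟩ }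
    obtain ⟨T, hT, e₁, e₂, e₃⟩ := exists_triangle hQ J hS
    have h₁ : DCoh.IsPseudoCoherentD m T.obj₁ := by
      rw [e₁]
      exact isPseudoCoherentD_of_iso ((pushD J).mapIso (DerivedCategory.Q.mapIso tensSelf)).symm h
    have h₃ : DCoh.IsPseudoCoherentD m T.obj₃ := by rw [e₃]; exact pc_free h n
    have := PushPC.pc_obj₂ hT h₁ h₃
    rwa [e₂] at this

include hQ in
/-- Tensoring with a module having enough finite free syzygies. -/
theorem pc_tens {b : ℤ} [Q.IsStrictlyLE b] : ∀ (k : ℕ) (N : ModuleCat.{u} C), PseudoCoh.FPk C k N →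
    ∀ m : ℤ, b + 1 - m ≤ k → DCoh.IsPseudoCoherentD m ((pushD J).obj (DerivedCategory.Q.obj Q)) →
      DCoh.IsPseudoCoherentD m ((pushD J).obj (DerivedCategory.Q.obj (tens N Q)))
  | 0, N, _, m, hm, _ => by
    haveI : CochainComplex.IsStrictlyLE (tens N Q) b := (CochainComplex.isStrictlyLE_iff _ _).2 fun n hn =>
      ((DCoh.tensorBi (X := Spec (CommRingCat.of C))).obj ((tf C).obj N)).map_isZero
        (Q.isZero_of_isStrictlyLE b n hn)
    haveI := isLE_pushD J (DerivedCategory.Q.obj (tens N Q)) b
    exact isPseudoCoherentD_of_isLE b m (by omega)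
  | k + 1, N, ⟨n, f, hf, hk⟩, m, hm, h => by
    let S : ShortComplex (ModuleCat.{u} C) :=
      ShortComplex.moduleCatMk (LinearMap.ker f).subtype f (LinearMap.ext fun x => x.2)
    have hS : S.ShortExact :=
      { exact := (S.moduleCat_exact_iff_range_eq_ker).2 (Submodule.range_subtype _)
        mono_f := (ModuleCat.mono_iff_injective _).2 Subtype.val_injective
        epi_g := (ModuleCat.epi_iff_surjective _).2 hf }
    obtain ⟨T, hT, e₁, e₂, e₃⟩ := exists_triangle hQ J hS
    have h₁ : DCoh.IsPseudoCoherentD (m + 1) T.obj₁ := by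
      rw [e₁]
      exact pc_tens (b := b) k S.X₁ hk (m + 1) (by omega) (isPseudoCoherentD_mono (m' := m + 1) h (by omega))
    have h₂ : DCoh.IsPseudoCoherentD m T.obj₂ := by rw [e₂]; exact pc_free hQ h n
    have := isPseudoCoherentD_obj₃ hT h₁ h₂
    rwa [e₃] at this

variable {B : Type u} [CommRing B] (s : C →+* B) (hs : Function.Surjective s)

include hs in
/-- The module of a closed subscheme. -/
theorem exists_module_push (hr : PseudoCoh.RFP s) : ∃ N : ModuleCat.{u} C, PseudoCoh.FPInf C N ∧
    Nonempty ((tf C).obj N ≅ (Scheme.Modules.pushforward (Spec.map (CommRingCat.ofHom s))).obj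
      (Coh.structureModule (Spec (CommRingCat.of B)))) := by
  haveI : IsClosedImmersion (Spec.map (CommRingCat.ofHom s)) := IsClosedImmersion.spec_of_surjective _ hs
  let g := Spec.map (CommRingCat.ofHom s)
  let M := (Scheme.Modules.pushforward g).obj (Coh.structureModule (Spec (CommRingCat.of B)))
  haveI : (Coh.structureModule (Spec (CommRingCat.of B))).IsQuasicoherent :=
    H10Coh.isQuasicoherent_unit
  haveI : M.IsQuasicoherent := H10Coh.isQuasicoherent_pushforward_of_isAffineHom g _
  letI := s.toAlgebra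
  let N : ModuleCat.{u} C := (moduleSpecΓFunctor (R := CommRingCat.of C)).obj M
  let e : B ≃ₗ[C] N :=
    { toFun := fun b => (Scheme.ΓSpecIso (CommRingCat.of B)).inv b
      map_add' := fun a b => map_add _ a b
      map_smul' := fun a b => by
        show (Scheme.ΓSpecIso (CommRingCat.of B)).inv (s a * b) = _
        rw [map_mul]
        refine Eq.trans ?_ (Scheme.Modules.smul_Spec_def (M := M) (U := ⊤) a _).symm
        have e := congr($(Scheme.ΓSpecIso_inv_naturality (CommRingCat.ofHom s)) a)
        rw [Subsingleton.elim ((⊤ : (Spec (CommRingCat.of C)).Opens).leTop.op) (𝟙 _),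
          CategoryTheory.Functor.map_id]
        refine Eq.trans ?_ (rfl : _ = (g.appTop.hom ((Scheme.ΓSpecIso (CommRingCat.of C)).inv a)) *
          ((Scheme.ΓSpecIso (CommRingCat.of B)).inv b : Γ(Spec (CommRingCat.of B), ⊤))).symm
        exact congrArg (· * _) e
      invFun := fun x => (Scheme.ΓSpecIso (CommRingCat.of B)).hom x
      left_inv := fun b => congr($((Scheme.ΓSpecIso (CommRingCat.of B)).inv_hom_id) b)
      right_inv := fun x => congr($((Scheme.ΓSpecIso (CommRingCat.of B)).hom_inv_id) x) }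
  exact ⟨N, fun k => (hr k).of_equiv e, ⟨H10Coh.tildeIso (R := CommRingCat.of C) M⟩⟩

include hs in
omit [IsClosedImmersion J] in
/-- Derived restriction to a closed subscheme is a tensor product. -/
theorem nonempty_push_pull (Q : CochainComplex (Spec (CommRingCat.of C)).Modules ℤ) (N : ModuleCat.{u} C)
    (e : (tf C).obj N ≅ (Scheme.Modules.pushforward (Spec.map (CommRingCat.ofHom s))).obj
      (Coh.structureModule (Spec (CommRingCat.of B)))) :
    Nonempty ((pushCx (Spec.map (CommRingCat.ofHom s))).obj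
      ((pullCx (Spec.map (CommRingCat.ofHom s))).obj Q) ≅ tens N Q) := by
  haveI : IsClosedImmersion (Spec.map (CommRingCat.ofHom s)) := IsClosedImmersion.spec_of_surjective _ hs
  let g := Spec.map (CommRingCat.ofHom s)
  let W := Spec (CommRingCat.of B)
  let I : CochainComplex W.Modules ℤ :=
    (HomologicalComplex.single W.Modules (ComplexShape.up ℤ) 0).obj (Coh.structureModule W)
  have hI : ∀ p, p ≠ 0 → IsZero (I.X p) := fun p hp =>
    HomologicalComplex.isZero_single_obj_X (ComplexShape.up ℤ) 0 _ p hp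
  haveI := isIso_Ψ_of_isClosedImmersion g I Q
  let a : ((DCoh.tensorBi (X := W)).obj (I.X 0)) ≅ 𝟭 W.Modules :=
    (DCoh.tensorBi (X := W)).mapIso (HomologicalComplex.singleObjXSelf (ComplexShape.up ℤ) 0 _) ≪≫
      H28Int.tensorLeftUnitIso
  let b : ((pushCx g).obj I).X 0 ≅ (tf C).obj N :=
    (push g).mapIso (HomologicalComplex.singleObjXSelf (ComplexShape.up ℤ) 0 _) ≪≫ e.symm
  exact ⟨(pushCx g).mapIso
      (((Functor.mapHomologicalComplexIdIso W.Modules (ComplexShape.up ℤ)).app _).symm ≪≫
      (NatIso.mapHomologicalComplex a.symm (ComplexShape.up ℤ)).app _ ≪≫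
      singleLeftIso (DCoh.tensorBi (X := W)) I _ hI) ≪≫
    (asIso (Ψ g I Q)).symm ≪≫
    (singleLeftIso (DCoh.tensorBi (X := Spec (CommRingCat.of C))) ((pushCx g).obj I) Q
      (fun p hp => (push g).map_isZero (hI p hp))).symm ≪≫
    (NatIso.mapHomologicalComplex ((DCoh.tensorBi (X := Spec (CommRingCat.of C))).mapIso b)
      (ComplexShape.up ℤ)).app Q⟩

include hs in
/-- Derived restriction to a pseudo-coherent closed subscheme preserves pseudo-coherence of direct images. -/
theorem pc_pushD_lpull (hr : PseudoCoh.RFP s) {b : ℤ} (G : DCoh.D (Spec (CommRingCat.of C))) [G.IsLE b]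
    [IsClosedImmersion (Spec.map (CommRingCat.ofHom s))] [DCoh.HasLpull (Spec.map (CommRingCat.ofHom s))]
    {m : ℤ} (h : DCoh.IsPseudoCoherentD m ((pushD J).obj G)) :
    DCoh.IsPseudoCoherentD m ((pushD J).obj ((pushD (Spec.map (CommRingCat.ofHom s))).obj
      ((DCoh.Lpull (Spec.map (CommRingCat.ofHom s))).obj G))) := by
  obtain ⟨K, hK, ⟨e⟩⟩ := G.exists_iso_Q_obj_of_isLE b
  haveI := hK
  obtain ⟨Q, α, hQ₀, hflat, hα⟩ := exists_flat_resolution K b
  haveI := hQ₀
  haveI : IsIso (DerivedCategory.Q.map α) := isIso_Q_map α hα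
  let eG : DerivedCategory.Q.obj Q ≅ G := asIso (DerivedCategory.Q.map α) ≪≫ e.symm
  obtain ⟨N, hN, ⟨eN⟩⟩ := exists_module_push s hs hr
  obtain ⟨eT⟩ := nonempty_push_pull s hs Q N eN
  refine isPseudoCoherentD_of_iso ((pushD J).mapIso (DerivedCategory.Q.mapIso eT.symm ≪≫
    (pushDQ _ _).symm ≪≫ (pushD _).mapIso ((lpullObjIso _ Q (kflat_of_boundedAbove Q b
      (fun q hq => Q.isZero_of_isStrictlyLE b q hq) hflat)).symm ≪≫
      (DCoh.Lpull _).mapIso eG))) ?_
  exact pc_tens (b := b) hflat (b + 1 - m).toNat N (hN _) m (by omega)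
    (isPseudoCoherentD_of_iso ((pushD J).mapIso eG).symm h)

end Groth.Agent.H8Props.TensorPC
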