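import Mathlib

/-!
# The universal idempotent of a finite finitely presented algebra (helper8)
-/

set_option autoImplicit false
universe u
open TensorProduct

namespace Groth.Agent.H8Props.UnivIdem

variable {A B : Type u} [CommRing A] [CommRing B] [Algebra A B]

theorem exists_univ [Module.Finite A B] [Algebra.FinitePresentation A B] :
    ∃ (Au : Type u) (_ : CommRing Au) (_ : Algebra A Au) (eu : B ⊗[A] Au),
      Algebra.FinitePresentation A Au ∧ IsIdempotentElem eu ∧
      ∀ (A' : Type u) [CommRing A'] [Algebra A A'] (e : B ⊗[A] A'), IsIdempotentElem e →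
        ∃ φ : Au →ₐ[A] A', Algebra.TensorProduct.map (AlgHom.id A B) φ eu = e := by
  classical
  have : Module.FinitePresentation A B :=
    Module.FinitePresentation.of_finite_of_finitePresentation A B
  obtain ⟨n, π, hπ⟩ := Module.Finite.exists_fin' A B
  have hK : (LinearMap.ker π).FG := Module.FinitePresentation.fg_ker π hπ
  obtain ⟨m, r, hr⟩ := Submodule.fg_iff_exists_fin_generating_family.mp hK
  let b : Fin n → B := fun i ↦ π (Pi.single i 1)
  have hπb : ∀ v : Fin n → A, π v = ∑ i, v i • b i := fun v ↦ by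
    conv_lhs => rw [pi_eq_sum_univ' v]
    simp [b, map_sum]
  choose c hc using fun i l ↦ hπ (b i * b l)
  let P := MvPolynomial (Fin n ⊕ Fin m) A
  let x : Fin n → P := fun i ↦ .X (.inl i)
  let y : Fin m → P := fun j ↦ .X (.inr j)
  let rel : Fin n → P := fun k ↦
    ∑ i, ∑ l, c i l k • (x i * x l) - x k - ∑ j, r j k • y j
  let J : Ideal P := Ideal.span (Set.range rel)
  let q : P →ₐ[A] P ⧸ J := Ideal.Quotient.mkₐ A J
  have hq : ∀ k, q (rel k) = 0 := fun k ↦
    Ideal.Quotient.eq_zero_iff_mem.mpr (Ideal.subset_span ⟨k, rfl⟩)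
  -- the computation `e * e - e` for `e = ∑ bᵢ ⊗ aᵢ`
  have key : ∀ (A' : Type u) [CommRing A'] [Algebra A A'] (a : Fin n → A'),
      (∑ i, b i ⊗ₜ[A] a i) * (∑ i, b i ⊗ₜ[A] a i) - (∑ i, b i ⊗ₜ[A] a i) =
        ∑ k, b k ⊗ₜ[A] (∑ i, ∑ l, c i l k • (a i * a l) - a k) := by
    intro A' _ _ a
    have hbb : ∀ i l, b i * b l = ∑ k, c i l k • b k := fun i l ↦ by rw [← hπb, hc]
    simp_rw [Finset.sum_mul, Finset.mul_sum, Algebra.TensorProduct.tmul_mul_tmul, hbb, sum_tmul,
      tmul_sub, Finset.sum_sub_distrib, tmul_sum, smul_tmul]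
    congr 1
    conv_rhs => rw [Finset.sum_comm]
    refine Finset.sum_congr rfl fun i _ ↦ ?_
    rw [Finset.sum_comm]
  refine ⟨P ⧸ J, inferInstance, inferInstance, ∑ i, b i ⊗ₜ q (x i), ?_, ?_, ?_⟩
  · exact .quotient ⟨Finset.univ.image rel, by simp [J]⟩
  · rw [IsIdempotentElem, ← sub_eq_zero, key]
    have : ∀ k, ∑ i, ∑ l, c i l k • (q (x i) * q (x l)) - q (x k) = ∑ j, r j k • q (y j) := by
      intro k
      have h := hq k
      simp only [rel, map_sub, map_sum, map_smul, map_mul, sub_eq_zero] at h
      exact h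
    simp_rw [this, tmul_sum, ← smul_tmul]
    rw [Finset.sum_comm]
    refine Finset.sum_eq_zero fun j _ ↦ ?_
    rw [← sum_tmul, ← hπb, show π (r j) = 0 from
      hr.le (Submodule.subset_span ⟨j, rfl⟩), zero_tmul]
  · intro A' _ _ e he
    have hcomm : ∀ w, TensorProduct.comm A A' B (LinearMap.lTensor A' π w) =
        ∑ k, b k ⊗ₜ[A] TensorProduct.piScalarRight A A A' (Fin n) w k := fun w ↦ by
      induction w using TensorProduct.induction_on with
      | zero => simp
      | tmul a v => simp [hπb, sum_tmul, smul_tmul]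
      | add u v hu hv =>
        simp only [map_add, Pi.add_apply, tmul_add, Finset.sum_add_distrib]
        rw [hu, hv]
    obtain ⟨a, rfl⟩ : ∃ a : Fin n → A', ∑ i, b i ⊗ₜ[A] a i = e := by
      obtain ⟨w, hw⟩ := LinearMap.lTensor_surjective A' hπ ((TensorProduct.comm A A' B).symm e)
      refine ⟨TensorProduct.piScalarRight A A A' (Fin n) w, ?_⟩
      rw [← hcomm, hw, LinearEquiv.apply_symm_apply]
    have h0 := key A' a
    rw [he.eq, sub_self] at h0
    set v : Fin n → A' := fun k ↦ ∑ i, ∑ l, c i l k • (a i * a l) - a k with hv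
    let ρ : (Fin m → A) →ₗ[A] (Fin n → A) := Fintype.linearCombination A r
    have hρ : Function.Exact ρ π := by
      rw [LinearMap.exact_iff, Fintype.range_linearCombination, hr]
    set w : A' ⊗[A] (Fin n → A) := (TensorProduct.piScalarRight A A A' (Fin n)).symm v with hw
    have hw0 : LinearMap.lTensor A' π w = 0 := by
      apply (TensorProduct.comm A A' B).injective
      rw [map_zero, h0]
      rw [hcomm, hw, LinearEquiv.apply_symm_apply]
    obtain ⟨z, hz⟩ := (lTensor_exact A' hρ hπ w).mp hw0
    obtain ⟨y', rfl⟩ := (TensorProduct.piScalarRight A A A' (Fin m)).symm.surjective z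
    have hvy : ∀ k, v k = ∑ j, r j k • y' j := by
      intro k
      have h := congr_arg (fun t ↦ TensorProduct.piScalarRight A A A' (Fin n) t k) hz
      simp only [hw, LinearEquiv.apply_symm_apply] at h
      rw [← h]
      have : ∀ z, TensorProduct.piScalarRight A A A' (Fin n) (LinearMap.lTensor A' ρ z) k =
          ∑ j, r j k • TensorProduct.piScalarRight A A A' (Fin m) z j := fun z ↦ by
        induction z using TensorProduct.induction_on with
        | zero => simp
        | tmul a v =>
          simp [ρ, Fintype.linearCombination_apply, Finset.sum_smul, smul_smul, mul_comm]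
        | add u v hu hv =>
          simp only [map_add, Pi.add_apply, smul_add, Finset.sum_add_distrib]
          rw [hu, hv]
      rw [this, LinearEquiv.apply_symm_apply]
    let ψ : P →ₐ[A] A' := MvPolynomial.aeval (Sum.elim a y')
    have hψx : ∀ i, ψ (x i) = a i := fun i ↦ MvPolynomial.aeval_X _ _
    have hψy : ∀ j, ψ (y j) = y' j := fun j ↦ MvPolynomial.aeval_X _ _
    have hψ : ∀ k, ψ (rel k) = 0 := by
      intro k
      simp only [rel, map_sub, map_sum, map_smul, map_mul, hψx, hψy]
      rw [sub_eq_zero]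
      exact hvy k
    refine ⟨Ideal.Quotient.liftₐ J ψ fun p hp ↦ ?_, ?_⟩
    · exact (Ideal.span_le.mpr (by rintro _ ⟨k, rfl⟩; exact hψ k) : J ≤ RingHom.ker ψ.toRingHom) hp
    · simp only [map_sum, Algebra.TensorProduct.map_tmul, AlgHom.id_apply]
      refine Finset.sum_congr rfl fun i _ ↦ ?_
      congr 1
      show ψ (x i) = a i
      exact hψx i

end Groth.Agent.H8Props.UnivIdem
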